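import Mathlib

/-!
# Spreading out algebra maps from finitely presented algebras into localizations

If `S` is a finitely presented `R`-algebra, `T` an `R`-algebra, `L = M⁻¹T`, then every
`R`-algebra map `S → L` factors through `T_t` for some `t ∈ M`.
-/

namespace Groth.Agent.H11.FPLift

open MvPolynomial

variable {R S T L : Type*} [CommRing R] [CommRing S] [CommRing T] [CommRing L]
  [Algebra R S] [Algebra R T] [Algebra T L] [Algebra R L] [IsScalarTower R T L]

lemma isUnit_toAlgHom (M : Submonoid T) [IsLocalization M L] (t : T) (ht : t ∈ M) :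
    IsUnit (IsScalarTower.toAlgHom R T L t) := by
  rw [IsScalarTower.coe_toAlgHom']
  exact IsLocalization.map_units L ⟨t, ht⟩

/-- canonical map from `T_t` to `L = M⁻¹T` for `t ∈ M` -/
noncomputable def can (M : Submonoid T) [IsLocalization M L] (t : T) (ht : t ∈ M) :
    Localization.Away t →ₐ[R] L :=
  IsLocalization.Away.liftAlgHom (A := R) (S := Localization.Away t) t
    (f := IsScalarTower.toAlgHom R T L) (isUnit_toAlgHom M t ht)

@[simp]
lemma can_algebraMap (M : Submonoid T) [IsLocalization M L] (t : T) (ht : t ∈ M) (x : T) :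
    can (R := R) (L := L) M t ht (algebraMap T (Localization.Away t) x) = algebraMap T L x := by
  unfold can
  rw [IsLocalization.Away.liftAlgHom_apply, IsLocalization.Away.lift_eq]
  rfl

lemma can_eq_zero (M : Submonoid T) [IsLocalization M L] (t : T) (ht : t ∈ M)
    (z : Localization.Away t) (hz : can (R := R) (L := L) M t ht z = 0) :
    ∃ c ∈ M, algebraMap T (Localization.Away t) c * z = 0 := by
  obtain ⟨x, ⟨_, k, rfl⟩, rfl⟩ := IsLocalization.exists_mk'_eq (Submonoid.powers t) z
  have h1 : algebraMap T L x = 0 := by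
    have h2 : IsLocalization.mk' (Localization.Away t) x
        (⟨t ^ k, k, rfl⟩ : Submonoid.powers t) * algebraMap T (Localization.Away t) (t ^ k)
        = algebraMap T _ x := IsLocalization.mk'_spec _ _ _
    have h3 := congrArg (can (R := R) (L := L) M t ht) h2
    rw [map_mul, hz, zero_mul, can_algebraMap] at h3
    exact h3.symm
  obtain ⟨c, hc⟩ := (IsLocalization.map_eq_zero_iff M L x).mp h1
  refine ⟨c, c.2, ?_⟩
  rw [IsLocalization.mul_mk'_eq_mk'_of_mul, hc, IsLocalization.mk'_zero]

/-- transition map `T_b → T_{b*c}` -/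
noncomputable def trans (b c : T) : Localization.Away b →ₐ[R] Localization.Away (b * c) :=
  IsLocalization.Away.liftAlgHom (A := R) (S := Localization.Away b) b
    (f := IsScalarTower.toAlgHom R T (Localization.Away (b * c)))
    (by
      rw [IsScalarTower.coe_toAlgHom']
      exact IsLocalization.Away.isUnit_of_dvd (b * c) (dvd_mul_right _ _))

@[simp]
lemma trans_algebraMap (b c : T) (x : T) :
    trans (R := R) b c (algebraMap T (Localization.Away b) x)
      = algebraMap T (Localization.Away (b * c)) x := by
  unfold trans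
  rw [IsLocalization.Away.liftAlgHom_apply, IsLocalization.Away.lift_eq]
  rfl

lemma can_trans (M : Submonoid T) [IsLocalization M L] (b c : T) (hb : b ∈ M) (hc : c ∈ M)
    (z : Localization.Away b) :
    can (R := R) (L := L) M (b * c) (M.mul_mem hb hc) (trans (R := R) b c z)
      = can (R := R) (L := L) M b hb z := by
  obtain ⟨x, ⟨_, k, rfl⟩, rfl⟩ := IsLocalization.exists_mk'_eq (Submonoid.powers b) z
  have hu : IsUnit (algebraMap T L (b ^ k)) := by
    rw [map_pow]; exact (IsLocalization.map_units L ⟨b, hb⟩).pow k
  apply hu.mul_left_injective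
  simp only
  have h2 : IsLocalization.mk' (Localization.Away b) x
      (⟨b ^ k, k, rfl⟩ : Submonoid.powers b) * algebraMap T (Localization.Away b) (b ^ k)
      = algebraMap T _ x := IsLocalization.mk'_spec _ _ _
  have e1 := congrArg (can (R := R) (L := L) M b hb) h2
  have e2 := congrArg (fun w => can (R := R) (L := L) M (b * c) (M.mul_mem hb hc)
    (trans (R := R) b c w)) h2
  simp only [map_mul, can_algebraMap, trans_algebraMap] at e1 e2
  rw [e1, e2]

theorem exists_lift (M : Submonoid T) [IsLocalization M L] [Algebra.FinitePresentation R S]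
    (ψ : S →ₐ[R] L) :
    ∃ (t : T) (ht : t ∈ M) (ψ' : S →ₐ[R] Localization.Away t),
      ∀ s, can (R := R) (L := L) M t ht (ψ' s) = ψ s := by
  classical
  obtain ⟨n, f, hf, s, hs⟩ := Algebra.FinitePresentation.out (R := R) (A := S)
  obtain ⟨b, hb⟩ := IsLocalization.exist_integer_multiples_of_finite M
    (fun i : Fin n => ψ (f (X i)))
  choose y hy using hb
  let u : Submonoid.powers (b : T) := ⟨b, Submonoid.mem_powers _⟩
  let φ0 : MvPolynomial (Fin n) R →ₐ[R] Localization.Away (b : T) :=
    aeval (fun i => IsLocalization.mk' (Localization.Away (b : T)) (y i) u)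
  have hφ0 : ∀ g, can (R := R) (L := L) M b b.2 (φ0 g) = ψ (f g) := by
    have : (can (R := R) (L := L) M b b.2).comp φ0 = ψ.comp f := by
      apply MvPolynomial.algHom_ext
      intro i
      simp only [AlgHom.comp_apply, φ0, aeval_X]
      have hu : IsUnit (algebraMap T L (b : T)) := IsLocalization.map_units L b
      apply hu.mul_left_injective
      simp only
      have h2 : IsLocalization.mk' (Localization.Away (b : T)) (y i) u
          * algebraMap T (Localization.Away (b : T)) (b : T)
          = algebraMap T _ (y i) := IsLocalization.mk'_spec _ _ _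
      have e1 := congrArg (can (R := R) (L := L) M b b.2) h2
      simp only [map_mul, can_algebraMap] at e1
      rw [e1, hy i, Algebra.smul_def, mul_comm]
    intro g
    exact congrArg (fun h => h g) this
  have hc : ∀ g ∈ s, ∃ c ∈ M, algebraMap T (Localization.Away (b : T)) c * φ0 g = 0 := by
    intro g hg
    apply can_eq_zero (R := R) (L := L) M b b.2
    rw [hφ0]
    have : g ∈ RingHom.ker f.toRingHom := by rw [← hs]; exact Ideal.subset_span hg
    rw [RingHom.mem_ker] at this
    simpa using congrArg ψ this
  choose! c hcM hc0 using hc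
  let cc : T := ∏ g ∈ s, c g
  have hccM : cc ∈ M := M.prod_mem (fun g hg => hcM g hg)
  have hcc0 : ∀ g ∈ s, algebraMap T (Localization.Away (b : T)) cc * φ0 g = 0 := by
    intro g hg
    have : cc = (∏ g' ∈ s.erase g, c g') * c g := by
      rw [Finset.prod_erase_mul _ _ hg]
    rw [this, map_mul, mul_assoc, hc0 g hg, mul_zero]
  let φ1 : MvPolynomial (Fin n) R →ₐ[R] Localization.Away ((b : T) * cc) :=
    (trans (R := R) (b : T) cc).comp φ0
  have hker : RingHom.ker f.toRingHom ≤ RingHom.ker φ1.toRingHom := by
    rw [← hs, Ideal.span_le]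
    intro g hg
    rw [SetLike.mem_coe, RingHom.mem_ker]
    have h1 := congrArg (trans (R := R) (b : T) cc) (hcc0 g hg)
    rw [map_mul, trans_algebraMap, map_zero] at h1
    have hu : IsUnit (algebraMap T (Localization.Away ((b : T) * cc)) cc) :=
      IsLocalization.Away.isUnit_of_dvd ((b : T) * cc) (dvd_mul_left _ _)
    exact (hu.mul_right_eq_zero).mp h1
  refine ⟨(b : T) * cc, M.mul_mem b.2 hccM, AlgHom.liftOfSurjective f hf φ1 hker, ?_⟩
  intro x
  obtain ⟨g, rfl⟩ := hf x
  rw [AlgHom.liftOfSurjective_apply]
  simp only [φ1, AlgHom.comp_apply]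
  rw [can_trans (R := R) (L := L) M b cc b.2 hccM, hφ0]

end Groth.Agent.H11.FPLift
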