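import Mathlib
import Groth.Agent.H14.DimTrdeg
import Groth.Agent.H24.Catenary
import Groth.Agent.H24.LiftChains
import Groth.Agent.H24.DimChains
import Groth.Agent.H29.TopDim
import Groth.Prelude.Def_Flat

/-!
# Dimension theory of finite type algebras over a field: local dimension of the spectrum
-/

set_option autoImplicit false

namespace Groth.Agent.H11.FtDim

open Groth.Agent.H24 Groth.Agent.H54

universe u

section quot

variable {A : Type*} [CommRing A]

/-- The point of `Spec (A/I)` given by a prime containing `I`. -/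
noncomputable def mapMk (I : Ideal A) (P : PrimeSpectrum A) (h : I ≤ P.asIdeal) :
    PrimeSpectrum (A ⧸ I) :=
  ⟨P.asIdeal.map (Ideal.Quotient.mk I), map_mk_isPrime_of_le h⟩

theorem comap_mapMk (I : Ideal A) (P : PrimeSpectrum A) (h : I ≤ P.asIdeal) :
    PrimeSpectrum.comap (Ideal.Quotient.mk I) (mapMk I P h) = P :=
  PrimeSpectrum.ext (comap_map_mk_of_le h)

theorem le_comap_mk (I : Ideal A) (a : PrimeSpectrum (A ⧸ I)) :
    I ≤ (PrimeSpectrum.comap (Ideal.Quotient.mk I) a).asIdeal := by
  intro x hx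
  rw [PrimeSpectrum.comap_asIdeal, Ideal.mem_comap, Ideal.Quotient.eq_zero_iff_mem.mpr hx]
  exact a.asIdeal.zero_mem

theorem mapMk_comap (I : Ideal A) (a : PrimeSpectrum (A ⧸ I)) :
    mapMk I (PrimeSpectrum.comap (Ideal.Quotient.mk I) a) (le_comap_mk I a) = a := by
  apply PrimeSpectrum.comap_injective_of_surjective _ Ideal.Quotient.mk_surjective
  rw [comap_mapMk]

theorem mapMk_lt_mapMk (I : Ideal A) {P Q : PrimeSpectrum A} (hP : I ≤ P.asIdeal)
    (hQ : I ≤ Q.asIdeal) (h : P < Q) : mapMk I P hP < mapMk I Q hQ := by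
  refine lt_of_le_of_ne (Ideal.map_mono h.le) fun heq => h.ne ?_
  rw [← comap_mapMk I P hP, ← comap_mapMk I Q hQ, heq]

theorem coheight_mapMk (I : Ideal A) (P : PrimeSpectrum A) (h : I ≤ P.asIdeal) :
    Order.coheight (mapMk I P h) = Order.coheight P := by
  conv_rhs => rw [← comap_mapMk I P h]
  refine Order.coheight_eq_of_strictMono (PrimeSpectrum.comap (Ideal.Quotient.mk I))
    (strictMono_comap_mk I) ?_ (mapMk I P h)
  intro a b hab
  have hIb : I ≤ b.asIdeal := (le_comap_mk I a).trans hab.le
  refine ⟨mapMk I b hIb, ?_, comap_mapMk I b hIb⟩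
  have := mapMk_lt_mapMk I (le_comap_mk I a) hIb hab
  rwa [mapMk_comap] at this

theorem height_mapMk_le (I : Ideal A) (P : PrimeSpectrum A) (h : I ≤ P.asIdeal) :
    Order.height (mapMk I P h) ≤ Order.height P := by
  conv_rhs => rw [← comap_mapMk I P h]
  exact Order.height_le_height_apply_of_strictMono _ (strictMono_comap_mk I) _

/-- A chain of primes all containing `I` has length at most the height of the image of its last
member in `A/I`. -/
theorem length_le_height_mapMk (I : Ideal A) (c : LTSeries (PrimeSpectrum A))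
    (hI : I ≤ c.head.asIdeal) :
    (c.length : ℕ∞) ≤ Order.height (mapMk I c.last (hI.trans (c.head_le _))) := by
  let c' : LTSeries (PrimeSpectrum (A ⧸ I)) :=
    { length := c.length
      toFun := fun i => mapMk I (c i) (hI.trans (c.head_le i))
      step := fun i => mapMk_lt_mapMk I _ _ (c.step i) }
  exact Order.length_le_height_last (p := c')

end quot

section D1

/-- The dimension formula in a finite type domain over a field. -/
theorem height_add_coheight_eq (k D : Type u) [Field k] [CommRing D] [IsDomain D] [Algebra k D]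
    [Algebra.FiniteType k D] (P : PrimeSpectrum D) :
    ((Order.height P + Order.coheight P : ℕ∞) : WithBot ℕ∞) = ringKrullDim D := by
  haveI : IsNoetherianRing D := Algebra.FiniteType.isNoetherianRing k D
  have := wellFoundedGT_primeSpectrum (A := D)
  have := wellFoundedLT_primeSpectrum (A := D)
  apply le_antisymm
  · have : Nonempty (PrimeSpectrum D) := ⟨P⟩
    rw [ringKrullDim, Order.krullDim_eq_iSup_height_add_coheight_of_nonempty, WithBot.coe_le_coe]
    exact le_iSup (fun a : PrimeSpectrum D => Order.height a + Order.coheight a) P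
  obtain ⟨M, hM, hPM⟩ := Ideal.exists_le_maximal P.asIdeal P.2.ne_top
  let M' : PrimeSpectrum D := ⟨M, hM.isPrime⟩
  let B : PrimeSpectrum D := ⟨⊥, Ideal.isPrime_bot⟩
  have hBP : B ≤ P := (bot_le : (⊥ : Ideal D) ≤ P.asIdeal)
  have hPM' : P ≤ M' := hPM
  obtain ⟨t1, ht1h, ht1l⟩ := exists_satSeries_of_le hBP
  obtain ⟨t2, ht2h, ht2l⟩ := exists_satSeries_of_le hPM'
  let T : SatSeries (PrimeSpectrum D) := t1.smash t2 (by rw [ht1l, ht2h])
  have hTh : T.head = B := by
    simp only [T, RelSeries.head_smash, ht1h]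
  have hTl : T.last = M' := by
    simp only [T, RelSeries.last_smash, ht2l]
  have hTlen : T.length = t1.length + t2.length := by
    simp only [T, RelSeries.smash_length]
  have hlen := length_eq_ringKrullDim_of_saturated k T.toLT.length D T.toLT rfl
    (by rw [SatSeries.toLT_head, hTh]) (by rw [SatSeries.toLT_last, hTl]; exact hM) T.toLT_covBy
  have h2 : (t1.length : ℕ∞) ≤ Order.height P := by
    have := Order.length_le_height_last (p := t1.toLT)
    rwa [SatSeries.toLT_last, ht1l] at this
  have h3 : (t2.length : ℕ∞) ≤ Order.coheight P := by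
    have := Order.length_le_coheight_head (p := t2.toLT)
    rwa [SatSeries.toLT_head, ht2h] at this
  rw [← hlen, SatSeries.toLT_length, hTlen]
  have : ((t1.length + t2.length : ℕ) : WithBot ℕ∞) =
      (((t1.length : ℕ∞) + (t2.length : ℕ∞) : ℕ∞) : WithBot ℕ∞) := by
    push_cast; rfl
  rw [this, WithBot.coe_le_coe]
  gcongr

end D1

section opens

variable {S : Type*} [CommRing S]

open TopologicalSpace

theorem quasiSober_opens (U : Opens (PrimeSpectrum S)) :
    QuasiSober (U : Set (PrimeSpectrum S)) :=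
  U.isOpenEmbedding'.quasiSober

/-- A chain of primes inside an open subset bounds its dimension from below. -/
theorem le_dim_open (U : Opens (PrimeSpectrum S)) (p : LTSeries (PrimeSpectrum S))
    (h : ∀ i, p i ∈ U) :
    ((p.length : ℕ∞) : WithBot ℕ∞) ≤ topologicalKrullDim (U : Set (PrimeSpectrum S)) := by
  haveI := quasiSober_opens U
  refine natCast_le_topologicalKrullDim_of_chain (T := (U : Set (PrimeSpectrum S))) p.length
    (fun i => ⟨p i, h i⟩) fun i => ⟨?_, ?_⟩
  · exact (subtype_specializes_iff _ _).mpr ((PrimeSpectrum.le_iff_specializes _ _).mp (p.step i).le)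
  · intro heq
    exact (p.step i).ne (congrArg Subtype.val heq)

theorem spec_lt {T : Type*} [TopologicalSpace T] [T0Space T] (a b : T)
    (h : @LT.lt T (specializationOrder T).toPreorder.toLT a b) : b ⤳ a ∧ a ≠ b := by
  letI := specializationOrder T
  exact ⟨(lt_iff_le_and_ne.mp h).1, (lt_iff_le_and_ne.mp h).2⟩

/-- If all chains of primes inside an open subset have length at most `N`, the dimension of
the open subset is at most `N`. -/
theorem dim_open_le (U : Opens (PrimeSpectrum S)) (N : WithBot ℕ∞)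
    (h : ∀ p : LTSeries (PrimeSpectrum S), (∀ i, p i ∈ U) → ((p.length : ℕ∞) : WithBot ℕ∞) ≤ N) :
    topologicalKrullDim (U : Set (PrimeSpectrum S)) ≤ N := by
  haveI := quasiSober_opens U
  rw [topologicalKrullDim_eq_krullDim_specializationOrder]
  letI : PartialOrder (U : Set (PrimeSpectrum S)) := specializationOrder _
  unfold Order.krullDim
  refine iSup_le fun p => ?_
  let q : LTSeries (PrimeSpectrum S) :=
    { length := p.length
      toFun := fun i => (p (Fin.rev i)).1
      step := fun i => by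
        obtain ⟨hle', hne⟩ := spec_lt _ _ (p.step (Fin.rev i))
        change (p (Fin.rev i.castSucc)).1 < (p (Fin.rev i.succ)).1
        rw [Fin.rev_castSucc, Fin.rev_succ]
        have hle := (subtype_specializes_iff _ _).mp hle'
        refine lt_of_le_of_ne ((PrimeSpectrum.le_iff_specializes _ _).mpr hle) fun heq => ?_
        exact hne (Subtype.ext heq).symm }
  exact h q (fun i => (p (Fin.rev i)).2)

end opens

section good

variable {S : Type*} [CommRing S] [IsNoetherianRing S]

open TopologicalSpace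

/-- The open set of points lying only on irreducible components through `p`. -/
noncomputable def goodOpen (p : PrimeSpectrum S) : Opens (PrimeSpectrum S) :=
  ⟨(⋃ q ∈ {q ∈ minimalPrimes S | ¬ q ≤ p.asIdeal}, PrimeSpectrum.zeroLocus (q : Set S))ᶜ, by
    rw [isOpen_compl_iff]
    refine Set.Finite.isClosed_biUnion ?_ fun q _ => PrimeSpectrum.isClosed_zeroLocus _
    exact (minimalPrimes.finite_of_isNoetherianRing (R := S)).subset fun q hq => hq.1⟩

theorem mem_goodOpen (p P : PrimeSpectrum S) :
    P ∈ goodOpen p ↔ ∀ q ∈ minimalPrimes S, q ≤ P.asIdeal → q ≤ p.asIdeal := by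
  change P ∈ (⋃ q ∈ {q ∈ minimalPrimes S | ¬ q ≤ p.asIdeal},
    PrimeSpectrum.zeroLocus (q : Set S))ᶜ ↔ _
  simp only [Set.mem_compl_iff, Set.mem_iUnion, PrimeSpectrum.mem_zeroLocus, SetLike.coe_subset_coe,
    not_exists]
  constructor
  · intro h q hq hqP
    by_contra hqp
    exact h q ⟨hq, hqp⟩ hqP
  · intro h q hq hqP
    exact hq.2 (h q hq.1 hqP)

theorem self_mem_goodOpen (p : PrimeSpectrum S) : p ∈ goodOpen p :=
  (mem_goodOpen p p).mpr fun _ _ h => h

theorem dim_goodOpen_le (p : PrimeSpectrum S) (N : WithBot ℕ∞)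
    (hN : ∀ q ∈ minimalPrimes S, q ≤ p.asIdeal → ringKrullDim (S ⧸ q) ≤ N) :
    topologicalKrullDim (goodOpen p : Set (PrimeSpectrum S)) ≤ N := by
  apply dim_open_le
  intro c hc
  obtain ⟨q, hq, hqc⟩ := Ideal.exists_minimalPrimes_le (bot_le : (⊥ : Ideal S) ≤ c.head.asIdeal)
  have hqp : q ≤ p.asIdeal := (mem_goodOpen p c.head).mp (hc 0) q hq hqc
  refine le_trans ?_ (hN q hq hqp)
  haveI : q.IsPrime := hq.1.1
  rw [← coheight_eq_ringKrullDim_quotient ⟨q, inferInstance⟩, WithBot.coe_le_coe]
  exact Order.length_le_coheight (x := (⟨q, inferInstance⟩ : PrimeSpectrum S)) hqc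

end good

section main

variable {k S : Type u} [Field k] [CommRing S] [Algebra k S] [Algebra.FiniteType k S]

open TopologicalSpace

omit [Algebra.FiniteType k S] in
include k in
/-- In a finite type algebra over a field, a prime and an element outside it are separated by a
maximal ideal. -/
theorem exists_maximal_not_mem [Algebra.FiniteType k S] (q : Ideal S) [q.IsPrime] (f : S)
    (hf : f ∉ q) : ∃ M : Ideal S, M.IsMaximal ∧ q ≤ M ∧ f ∉ M := by
  haveI : IsJacobsonRing S := isJacobsonRing_of_finiteType (A := k) (B := S)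
  have h1 : q.jacobson = q := (isJacobsonRing_iff_prime_eq.mp inferInstance) q inferInstance
  rw [← h1, Ideal.jacobson, Submodule.mem_sInf] at hf
  push Not at hf
  obtain ⟨M, ⟨hqM, hM⟩, hfM⟩ := hf
  exact ⟨M, hM, hqM, hfM⟩

include k in
/-- In a finite type algebra over a field, a maximal ideal containing a minimal prime `q`
has image in `S/q` of height `dim S/q`. -/
theorem height_mapMk_maximal (q : Ideal S) [q.IsPrime] (M : PrimeSpectrum S)
    (hM : M.asIdeal.IsMaximal) (hqM : q ≤ M.asIdeal) :
    ((Order.height (mapMk q M hqM) : ℕ∞) : WithBot ℕ∞) = ringKrullDim (S ⧸ q) := by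
  haveI : (mapMk q M hqM).asIdeal.IsMaximal := by
    rcases Ideal.map_eq_top_or_isMaximal_of_surjective (Ideal.Quotient.mk q)
      Ideal.Quotient.mk_surjective hM with h | h
    · exact absurd h (mapMk q M hqM).2.ne_top
    · exact h
  rw [← Groth.Agent.H14.height_of_isMaximal_of_finiteType_domain k (S ⧸ q) (mapMk q M hqM).asIdeal,
    PrimeSpectrum.height_eq_orderHeight]

include k in
theorem dim_quotient_le_dim_open (U : Opens (PrimeSpectrum S)) (p : PrimeSpectrum S) (hp : p ∈ U)
    (q : Ideal S) [q.IsPrime] (hqp : q ≤ p.asIdeal) :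
    ringKrullDim (S ⧸ q) ≤ topologicalKrullDim (U : Set (PrimeSpectrum S)) := by
  haveI : IsNoetherianRing S := Algebra.FiniteType.isNoetherianRing k S
  obtain ⟨_, ⟨_, ⟨f, rfl⟩, rfl⟩, hpf, hfU⟩ :=
    PrimeSpectrum.isBasis_basic_opens.exists_subset_of_mem_open hp U.2
  have hfq : f ∉ q := fun h => hpf (hqp h)
  obtain ⟨M, hM, hqM, hfM⟩ := exists_maximal_not_mem (k := k) q f hfq
  let M' : PrimeSpectrum S := ⟨M, hM.isPrime⟩
  have hht := height_mapMk_maximal (k := k) q M' hM hqM
  haveI : (mapMk q M' hqM).asIdeal.FiniteHeight :=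
    ⟨Or.inr (Ideal.height_ne_top (mapMk q M' hqM).2.ne_top)⟩
  obtain ⟨l, hlast, hlen⟩ := (mapMk q M' hqM).asIdeal.exists_ltSeries_length_eq_height
  let c : LTSeries (PrimeSpectrum S) := l.map _ (strictMono_comap_mk q)
  have hc : ∀ i, c i ∈ U := by
    intro i
    apply hfU
    change f ∉ (c i).asIdeal
    intro hfi
    apply hfM
    have h1 : c i ≤ c.last := c.monotone (Fin.le_last i)
    have h2 : c.last = M' := by
      change PrimeSpectrum.comap (Ideal.Quotient.mk q) l.last = M'
      rw [hlast]
      exact comap_mapMk q M' hqM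
    rw [h2] at h1
    exact h1 hfi
  have h3 := le_dim_open U c hc
  rw [← hht]
  have h4 : (c.length : ℕ∞) = Order.height (mapMk q M' hqM) := by
    change (l.length : ℕ∞) = _
    rw [hlen, PrimeSpectrum.height_eq_orderHeight]
  rw [← h4]
  exact h3

include k in
theorem localDim_ge (p : PrimeSpectrum S) (q : Ideal S) [q.IsPrime] (hqp : q ≤ p.asIdeal) :
    ringKrullDim (S ⧸ q) ≤ FlatMor.localDim (PrimeSpectrum S) p :=
  le_iInf fun U => dim_quotient_le_dim_open (k := k) U.1 p U.2 q hqp

include k in
theorem localDim_le (p : PrimeSpectrum S) (N : WithBot ℕ∞)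
    (hN : ∀ q ∈ minimalPrimes S, q ≤ p.asIdeal → ringKrullDim (S ⧸ q) ≤ N) :
    FlatMor.localDim (PrimeSpectrum S) p ≤ N := by
  haveI : IsNoetherianRing S := Algebra.FiniteType.isNoetherianRing k S
  exact (Groth.Agent.H29.localDim_le_dim_of_mem p (goodOpen p) (self_mem_goodOpen p)).trans
    (dim_goodOpen_le p N hN)

include k in
theorem coheight_eq_trdeg (p : Ideal S) [p.IsPrime] (r : ℕ)
    (hr : Algebra.trdeg k p.ResidueField = r) :
    Order.coheight (⟨p, inferInstance⟩ : PrimeSpectrum S) = (r : ℕ∞) := by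
  obtain ⟨n, hn1, hn2, -⟩ := Groth.Agent.H14.ringKrullDim_eq_trdeg_of_finiteType_domain k (S ⧸ p)
  have h1 : Algebra.trdeg k (FractionRing (S ⧸ p)) = Algebra.trdeg k p.ResidueField :=
    ((FractionRing.algEquiv (S ⧸ p) p.ResidueField).restrictScalars k).trdeg_eq
  rw [h1, hr] at hn1
  have hnr : r = n := by exact_mod_cast hn1
  have h2 := coheight_eq_ringKrullDim_quotient (⟨p, inferInstance⟩ : PrimeSpectrum S)
  rw [hn2] at h2
  have h3 : ((Order.coheight (⟨p, inferInstance⟩ : PrimeSpectrum S) : ℕ∞) : WithBot ℕ∞) =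
      ((n : ℕ∞) : WithBot ℕ∞) := by rw [h2]; rfl
  rw [hnr]
  exact WithBot.coe_injective h3

include k in
/-- The local dimension of `Spec S` at `p` is `ht p + dim S/p`. -/
theorem localDim_eq_height_add_coheight (P : PrimeSpectrum S) :
    FlatMor.localDim (PrimeSpectrum S) P =
      ((Order.height P + Order.coheight P : ℕ∞) : WithBot ℕ∞) := by
  haveI : IsNoetherianRing S := Algebra.FiniteType.isNoetherianRing k S
  apply le_antisymm
  · apply localDim_le (k := k)
    intro q hq hqp
    haveI : q.IsPrime := hq.1.1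
    rw [← height_add_coheight_eq k (S ⧸ q) (mapMk q P hqp), WithBot.coe_le_coe, coheight_mapMk]
    gcongr
    exact height_mapMk_le q P hqp
  · haveI : P.asIdeal.FiniteHeight := ⟨Or.inr (Ideal.height_ne_top P.2.ne_top)⟩
    obtain ⟨c, hlast, hlen⟩ := P.asIdeal.exists_ltSeries_length_eq_height
    have hlast' : c.last = P := hlast
    obtain ⟨q, hq, hqc⟩ := Ideal.exists_minimalPrimes_le (bot_le : (⊥ : Ideal S) ≤ c.head.asIdeal)
    haveI : q.IsPrime := hq.1.1
    have hqp : q ≤ P.asIdeal := by
      rw [← hlast']; exact hqc.trans c.head_le_last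
    have h1 := length_le_height_mapMk q c hqc
    have h2 : ∀ (P' : PrimeSpectrum S) (h' : q ≤ P'.asIdeal), P' = P →
        Order.height (mapMk q P' h') = Order.height (mapMk q P hqp) := by
      rintro _ _ rfl; rfl
    rw [h2 _ _ hlast', hlen, PrimeSpectrum.height_eq_orderHeight] at h1
    refine le_trans ?_ (localDim_ge (k := k) P q hqp)
    rw [← height_add_coheight_eq k (S ⧸ q) (mapMk q P hqp), WithBot.coe_le_coe, coheight_mapMk]
    gcongr

include k in
theorem localDim_eq_dim_add_trdeg (p : Ideal S) [p.IsPrime] (r : ℕ)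
    (hr : Algebra.trdeg k p.ResidueField = r) :
    FlatMor.localDim (PrimeSpectrum S) ⟨p, inferInstance⟩ =
      ringKrullDim (Localization.AtPrime p) + (r : WithBot ℕ∞) := by
  rw [localDim_eq_height_add_coheight (k := k), coheight_eq_trdeg (k := k) p r hr,
    IsLocalization.AtPrime.ringKrullDim_eq_height p (Localization.AtPrime p),
    PrimeSpectrum.height_eq_orderHeight (⟨p, inferInstance⟩ : PrimeSpectrum S)]
  rfl

include k in
theorem localDim_eq_iInf_dim_maximal (p : Ideal S) [p.IsPrime] :
    FlatMor.localDim (PrimeSpectrum S) ⟨p, inferInstance⟩ =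
      ⨅ m : {m : Ideal S // m.IsMaximal ∧ p ≤ m},
        ringKrullDim (Localization.AtPrime (hp := m.2.1.isPrime') m.1) := by
  haveI : IsNoetherianRing S := Algebra.FiniteType.isNoetherianRing k S
  set P : PrimeSpectrum S := ⟨p, inferInstance⟩ with hP
  apply le_antisymm
  · refine le_iInf fun m => ?_
    haveI : m.1.IsPrime := m.2.1.isPrime'
    rw [IsLocalization.AtPrime.ringKrullDim_eq_height m.1 (Localization.AtPrime m.1)]
    apply localDim_le (k := k)
    intro q hq hqp
    haveI : q.IsPrime := hq.1.1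
    let M : PrimeSpectrum S := ⟨m.1, inferInstance⟩
    have hqM : q ≤ M.asIdeal := hqp.trans m.2.2
    rw [← height_mapMk_maximal (k := k) q M m.2.1 hqM, WithBot.coe_le_coe]
    change _ ≤ M.asIdeal.height
    rw [PrimeSpectrum.height_eq_orderHeight]
    exact height_mapMk_le q M hqM
  · obtain ⟨_, ⟨_, ⟨g, rfl⟩, rfl⟩, hpg, hgU⟩ :=
      PrimeSpectrum.isBasis_basic_opens.exists_subset_of_mem_open (self_mem_goodOpen P)
        (goodOpen P).2
    have hgp : g ∉ p := hpg
    obtain ⟨M, hM, hpM, hgM⟩ := exists_maximal_not_mem (k := k) p g hgp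
    refine le_trans (iInf_le _ ⟨M, hM, hpM⟩) ?_
    haveI : M.IsPrime := hM.isPrime
    let M' : PrimeSpectrum S := ⟨M, inferInstance⟩
    change ringKrullDim (Localization.AtPrime M) ≤ _
    rw [IsLocalization.AtPrime.ringKrullDim_eq_height M (Localization.AtPrime M)]
    haveI : M.FiniteHeight := ⟨Or.inr (Ideal.height_ne_top hM.ne_top)⟩
    obtain ⟨c, hlast, hlen⟩ := M.exists_ltSeries_length_eq_height
    have hlast' : c.last = M' := hlast
    obtain ⟨q, hq, hqc⟩ := Ideal.exists_minimalPrimes_le (bot_le : (⊥ : Ideal S) ≤ c.head.asIdeal)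
    haveI : q.IsPrime := hq.1.1
    have hqM : q ≤ M'.asIdeal := by
      rw [← hlast']; exact hqc.trans c.head_le_last
    have hMgood : M' ∈ goodOpen P := hgU hgM
    have hqp : q ≤ P.asIdeal := (mem_goodOpen P M').mp hMgood q hq hqM
    have h1 := length_le_height_mapMk q c hqc
    have h2 : ∀ (P' : PrimeSpectrum S) (h' : q ≤ P'.asIdeal), P' = M' →
        Order.height (mapMk q P' h') = Order.height (mapMk q M' hqM) := by
      rintro _ _ rfl; rfl
    rw [h2 _ _ hlast', hlen] at h1
    refine le_trans ?_ (localDim_ge (k := k) P q hqp)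
    rw [← height_mapMk_maximal (k := k) q M' hM hqM, WithBot.coe_le_coe]
    exact h1

end main

end Groth.Agent.H11.FtDim
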