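import Mathlib
import Groth.Agent.H11.FtDim
import Groth.Agent.H54.Dim

/-!
# Base change of local dimension along a field extension
-/

set_option autoImplicit false

namespace Groth.Agent.H11.FtDimBC

open TensorProduct Groth.Agent.H11.FtDim Groth.Agent.H24 Groth.Agent.H54

universe u

/-- A finite torsion-free module over a domain embeds into a finite free module. -/
theorem exists_injective_to_free (A : Type u) [CommRing A] [IsDomain A] (M : Type u)
    [AddCommGroup M] [Module A M] [Module.Finite A M] [NoZeroSMulDivisors A M] :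
    ∃ (r : ℕ) (j : M →ₗ[A] (Fin r → A)), Function.Injective j := by
  classical
  let F := FractionRing A
  let V := LocalizedModule (nonZeroDivisors A) M
  let i : M →ₗ[A] V := LocalizedModule.mkLinearMap (nonZeroDivisors A) M
  have hi : Function.Injective i := by
    rw [injective_iff_map_eq_zero]
    intro m hm
    obtain ⟨s, hs⟩ := (IsLocalizedModule.eq_zero_iff (nonZeroDivisors A) i).mp hm
    have h1 : (s : A) • m = 0 := hs
    rcases smul_eq_zero.mp h1 with h | h
    · exact absurd h (nonZeroDivisors.coe_ne_zero s)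
    · exact h
  let b : Module.Basis (Fin (Module.finrank F V)) F V := Module.finBasis F V
  obtain ⟨r, hr⟩ : ∃ r, r = Module.finrank F V := ⟨_, rfl⟩
  let c : M →ₗ[A] (Fin (Module.finrank F V) → F) :=
    ((b.equivFun : V ≃ₗ[F] (Fin (Module.finrank F V) → F)).restrictScalars A).toLinearMap ∘ₗ i
  have hc : Function.Injective c := b.equivFun.injective.comp hi
  obtain ⟨G, hG⟩ := (Module.Finite.fg_top : (⊤ : Submodule A M).FG)
  let T : Finset F := (G ×ˢ Finset.univ).image (fun p => c p.1 p.2)
  obtain ⟨d, hd⟩ := IsLocalization.exist_integer_multiples_of_finset (nonZeroDivisors A) T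
  let ι : (Fin (Module.finrank F V) → A) →ₗ[A] (Fin (Module.finrank F V) → F) :=
    (Algebra.linearMap A F).compLeft (Fin (Module.finrank F V))
  have hι : Function.Injective ι := by
    intro x y hxy
    funext j
    have := congrFun hxy j
    exact IsFractionRing.injective A F this
  have hmem : ∀ m, (d : A) • c m ∈ LinearMap.range ι := by
    intro m
    have hm : m ∈ Submodule.span A (G : Set M) := by rw [hG]; trivial
    induction hm using Submodule.span_induction with
    | mem x hx =>
      have hx' : ∀ j, IsLocalization.IsInteger A ((d : A) • c x j) := by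
        intro j
        have := hd (c x j) (Finset.mem_image.mpr ⟨(x, j), Finset.mem_product.mpr
          ⟨hx, Finset.mem_univ j⟩, rfl⟩)
        exact this
      choose a ha using hx'
      exact ⟨a, funext fun j => ha j⟩
    | zero => simp
    | add x y _ _ hx hy => rw [map_add, smul_add]; exact add_mem hx hy
    | smul a x _ hx => rw [map_smul, smul_comm]; exact Submodule.smul_mem _ a hx
  let ψ : M →ₗ[A] LinearMap.range ι := LinearMap.codRestrict _ ((d : A) • c) hmem
  have hψ : Function.Injective ψ := by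
    intro x y hxy
    have h1 : (d : A) • c x = (d : A) • c y := congrArg Subtype.val hxy
    have h2 : (d : A) • (c x - c y) = 0 := by rw [smul_sub, h1, sub_self]
    have h3 : c x - c y = 0 := by
      funext j
      have h4 := congrFun h2 j
      simp only [Pi.smul_apply, Pi.zero_apply, Pi.sub_apply] at h4 ⊢
      rcases smul_eq_zero.mp h4 with h | h
      · exact absurd h (nonZeroDivisors.coe_ne_zero d)
      · exact h
    exact hc (sub_eq_zero.mp h3)
  let e := LinearEquiv.ofInjective ι hι
  exact ⟨_, e.symm.toLinearMap ∘ₗ ψ, e.symm.injective.comp hψ⟩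

section core

/-- Base change along a flat domain `B'` of a finite injective extension `A → D` of domains:
nonzero elements of `B'` act injectively on `B' ⊗[A] D`. -/
theorem smul_eq_zero_of_ne_zero (A B' D : Type u) [CommRing A] [IsDomain A] [CommRing B']
    [IsDomain B'] [Algebra A B'] [Module.Flat A B'] [CommRing D] [IsDomain D] [Algebra A D]
    [Module.Finite A D] (hinj : Function.Injective (algebraMap A D))
    (b : B') (hb : b ≠ 0) (t : B' ⊗[A] D) (ht : b • t = 0) : t = 0 := by
  classical
  haveI : NoZeroSMulDivisors A D := ⟨fun {a d} h => by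
    rw [Algebra.smul_def] at h
    rcases mul_eq_zero.mp h with h | h
    · left; exact (injective_iff_map_eq_zero _).mp hinj a h
    · right; exact h⟩
  obtain ⟨r, j, hj⟩ := exists_injective_to_free A D
  let J : (B' ⊗[A] D) →ₗ[B'] (Fin r → B') :=
    (TensorProduct.piScalarRight A B' B' (Fin r)).toLinearMap ∘ₗ (j.baseChange B')
  have hJ : Function.Injective J := by
    change Function.Injective
      (⇑(TensorProduct.piScalarRight A B' B' (Fin r)) ∘ ⇑(j.baseChange B'))
    refine (LinearEquiv.injective _).comp ?_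
    rw [LinearMap.baseChange_eq_ltensor]
    exact Module.Flat.lTensor_preserves_injective_linearMap j hj
  apply hJ
  rw [map_zero]
  have h1 : b • J t = 0 := by rw [← map_smul, ht, map_zero]
  funext i
  have h2 := congrFun h1 i
  simp only [Pi.smul_apply, Pi.zero_apply, smul_eq_mul] at h2 ⊢
  rcases mul_eq_zero.mp h2 with h | h
  · exact absurd h hb
  · exact h

/-- Every irreducible component of `B' ⊗[A] D` has the dimension of `B'`. -/
theorem ringKrullDim_quotient_minimalPrime (A B' D : Type u) [CommRing A] [IsDomain A]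
    [CommRing B'] [IsDomain B'] [Algebra A B'] [Module.Flat A B'] [CommRing D] [IsDomain D]
    [Algebra A D] [Module.Finite A D] (hinj : Function.Injective (algebraMap A D))
    (Q : Ideal (B' ⊗[A] D)) (hQ : Q ∈ minimalPrimes (B' ⊗[A] D)) :
    ringKrullDim ((B' ⊗[A] D) ⧸ Q) = ringKrullDim B' := by
  haveI : Q.IsPrime := hQ.1.1
  let φ : B' →+* ((B' ⊗[A] D) ⧸ Q) := (Ideal.Quotient.mk Q).comp (algebraMap _ _)
  have hφinj : Function.Injective φ := by
    rw [injective_iff_map_eq_zero]
    intro a ha
    by_contra hne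
    have hmem : algebraMap B' (B' ⊗[A] D) a ∈ Q := Ideal.Quotient.eq_zero_iff_mem.mp ha
    have hnzd : algebraMap B' (B' ⊗[A] D) a ∈ nonZeroDivisors (B' ⊗[A] D) := by
      rw [mem_nonZeroDivisors_iff_right]
      intro t ht
      rw [mul_comm, ← Algebra.smul_def] at ht
      exact smul_eq_zero_of_ne_zero A B' D hinj a hne t ht
    exact Set.disjoint_left.mp (Ideal.disjoint_nonZeroDivisors_of_mem_minimalPrimes hQ) hmem hnzd
  have hφint : φ.IsIntegral := by
    refine RingHom.IsIntegral.trans _ _ ?_ (RingHom.isIntegral_of_surjective _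
      Ideal.Quotient.mk_surjective)
    exact algebraMap_isIntegral_iff.mpr inferInstance
  rw [← ringKrullDim_eq_of_ringHom_isIntegral_of_injective φ hφint hφinj]

end core

section transport

theorem dim_quotient_minimalPrime_of_ringEquiv {R₁ R₂ : Type*} [CommRing R₁] [CommRing R₂]
    (f : R₁ →+* R₂) (hf : Function.Bijective f) (d : WithBot ℕ∞)
    (h : ∀ Q ∈ minimalPrimes R₁, ringKrullDim (R₁ ⧸ Q) = d) :
    ∀ Q ∈ minimalPrimes R₂, ringKrullDim (R₂ ⧸ Q) = d := by
  intro Q hQ
  let e : R₁ ≃+* R₂ := RingEquiv.ofBijective f hf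
  have h1 : Q.comap (e : R₁ →+* R₂) ∈ minimalPrimes R₁ := by
    have := Ideal.minimalPrimes_comap_of_surjective (f := (e : R₁ →+* R₂)) e.surjective hQ
    have h0 : (⊥ : Ideal R₂).comap (e : R₁ →+* R₂) = ⊥ := by
      rw [← RingHom.ker_eq_comap_bot]
      exact (RingHom.injective_iff_ker_eq_bot _).mp e.injective
    rw [h0] at this
    exact this
  rw [← h _ h1]
  have hmap : Q = (Q.comap (e : R₁ →+* R₂)).map (e : R₁ →+* R₂) :=
    (Ideal.map_comap_of_surjective _ e.surjective Q).symm
  exact (ringKrullDim_eq_of_ringEquiv (Ideal.quotientEquiv _ _ e hmap)).symm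

end transport

section field

variable (k : Type u) [Field k] (K : Type u) [Field K] [Algebra k K]

instance isDomainB (s : ℕ) : IsDomain (MvPolynomial (Fin s) k ⊗[k] K) :=
  (((Algebra.TensorProduct.comm k (MvPolynomial (Fin s) k) K).toRingEquiv).trans
    (MvPolynomial.algebraTensorAlgEquiv k K).toRingEquiv).toMulEquiv.isDomain _

theorem dimB (s : ℕ) : ringKrullDim (MvPolynomial (Fin s) k ⊗[k] K) = (s : WithBot ℕ∞) := by
  rw [ringKrullDim_eq_of_ringEquiv
    (((Algebra.TensorProduct.comm k (MvPolynomial (Fin s) k) K).toRingEquiv).trans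
    (MvPolynomial.algebraTensorAlgEquiv k K).toRingEquiv), ringKrullDim_mvPolynomial_fin_field]

attribute [local instance] Algebra.TensorProduct.rightAlgebra in
/-- All irreducible components of `K ⊗[k] D`, for a finite type domain `D` over `k`, have the
dimension of `D`. -/
theorem ringKrullDim_tensor_quotient_minimalPrime (D : Type u) [CommRing D] [IsDomain D]
    [Algebra k D] [Algebra.FiniteType k D] (Q : Ideal (K ⊗[k] D))
    (hQ : Q ∈ minimalPrimes (K ⊗[k] D)) :
    ringKrullDim ((K ⊗[k] D) ⧸ Q) = ringKrullDim D := by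
  obtain ⟨s, g, hginj, hgfin⟩ := exists_finite_inj_algHom_of_fg k D
  letI : Algebra (MvPolynomial (Fin s) k) D := g.toRingHom.toAlgebra
  haveI : IsScalarTower k (MvPolynomial (Fin s) k) D :=
    IsScalarTower.of_algebraMap_eq' g.comp_algebraMap.symm
  haveI : Module.Finite (MvPolynomial (Fin s) k) D := hgfin
  have hinj : Function.Injective (algebraMap (MvPolynomial (Fin s) k) D) := hginj
  have hdimD : ringKrullDim D = (s : WithBot ℕ∞) := by
    rw [← ringKrullDim_eq_of_isIntegral_of_injective (R := MvPolynomial (Fin s) k) hinj,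
      ringKrullDim_mvPolynomial_fin_field]
  let e := (Algebra.IsPushout.cancelBaseChangeAlg k K (MvPolynomial (Fin s) k)
      (MvPolynomial (Fin s) k ⊗[k] K) D)
  rw [hdimD]
  refine dim_quotient_minimalPrime_of_ringEquiv e.toAlgHom.toRingHom e.bijective _
    (fun Q' hQ' => ?_) Q hQ
  rw [ringKrullDim_quotient_minimalPrime (MvPolynomial (Fin s) k) (MvPolynomial (Fin s) k ⊗[k] K) D
    hinj Q' hQ', dimB]

end field

section surj

variable {R R' : Type*} [CommRing R] [CommRing R']

theorem coheight_comap_of_surjective (f : R →+* R') (hf : Function.Surjective f)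
    (x : PrimeSpectrum R') :
    Order.coheight (PrimeSpectrum.comap f x) = Order.coheight x := by
  have hmono : StrictMono (PrimeSpectrum.comap f) := by
    intro a b hab
    refine lt_of_le_of_ne (Ideal.comap_mono hab.le) fun heq => hab.ne ?_
    exact PrimeSpectrum.comap_injective_of_surjective f hf heq
  refine (Order.coheight_eq_of_strictMono (PrimeSpectrum.comap f) hmono ?_ x).symm
  intro a b hab
  have hker : RingHom.ker f ≤ b.asIdeal := by
    refine le_trans ?_ hab.le
    intro y hy
    rw [PrimeSpectrum.comap_asIdeal, Ideal.mem_comap, (RingHom.mem_ker).mp hy]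
    exact a.asIdeal.zero_mem
  have hbprime : (b.asIdeal.map f).IsPrime := Ideal.map_isPrime_of_surjective hf hker
  have hb : PrimeSpectrum.comap f ⟨b.asIdeal.map f, hbprime⟩ = b := by
    apply PrimeSpectrum.ext
    change (b.asIdeal.map f).comap f = b.asIdeal
    rw [Ideal.comap_map_of_surjective f hf, ← RingHom.ker_eq_comap_bot, sup_eq_left.mpr hker]
  refine ⟨⟨b.asIdeal.map f, hbprime⟩, ?_, hb⟩
  have h2 : a ≤ ⟨b.asIdeal.map f, hbprime⟩ := by
    intro y hy
    obtain ⟨z, rfl⟩ := hf y
    exact Ideal.mem_map_of_mem _ (hab.le hy)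
  refine lt_of_le_of_ne h2 fun heq => ?_
  rw [← heq] at hb
  exact hab.ne hb

end surj

section main

variable (k : Type u) [Field k] (K : Type u) [Field K] [Algebra k K]
  (S : Type u) [CommRing S] [Algebra k S] [Algebra.FiniteType k S]

/-- For a prime `P` of `S` and a minimal prime `Q` over `P (K ⊗ S)`, `dim (K ⊗ S)/Q = dim S/P`. -/
theorem dim_quotient_of_mem_minimalPrimes_map (P : Ideal S) [P.IsPrime] (Q : Ideal (K ⊗[k] S))
    (hQ : Q ∈ (P.map (Algebra.TensorProduct.includeRight : S →ₐ[k] K ⊗[k] S)).minimalPrimes) :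
    ringKrullDim ((K ⊗[k] S) ⧸ Q) = ringKrullDim (S ⧸ P) := by
  haveI : Q.IsPrime := hQ.1.1
  let π : K ⊗[k] S →ₐ[k] K ⊗[k] (S ⧸ P) :=
    Algebra.TensorProduct.map (AlgHom.id k K) (Ideal.Quotient.mkₐ k P)
  have hπ : Function.Surjective π :=
    Algebra.TensorProduct.map_surjective _ _ Function.surjective_id
      (Ideal.Quotient.mkₐ_surjective k P)
  have hker : RingHom.ker π =
      P.map (Algebra.TensorProduct.includeRight : S →ₐ[k] K ⊗[k] S) := by
    have := Algebra.TensorProduct.lTensor_ker (A := K) (Ideal.Quotient.mkₐ k P)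
      (Ideal.Quotient.mkₐ_surjective k P)
    have hk : RingHom.ker (Ideal.Quotient.mkₐ k P) = P := by
      ext y
      rw [RingHom.mem_ker]
      exact Ideal.Quotient.eq_zero_iff_mem
    rw [hk] at this
    exact this
  rw [← hker] at hQ
  have hQ' : Q.map π.toRingHom ∈ minimalPrimes (K ⊗[k] (S ⧸ P)) := by
    have h1 := Ideal.minimalPrimes_map_of_surjective (f := π.toRingHom) hπ ⊥
    rw [Ideal.map_bot, bot_sup_eq] at h1
    change Q.map π.toRingHom ∈ (⊥ : Ideal (K ⊗[k] (S ⧸ P))).minimalPrimes
    rw [h1]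
    exact ⟨Q, hQ, rfl⟩
  haveI : (Q.map π.toRingHom).IsPrime := hQ'.1.1
  have hcomap : PrimeSpectrum.comap π.toRingHom ⟨Q.map π.toRingHom, inferInstance⟩ =
      (⟨Q, inferInstance⟩ : PrimeSpectrum (K ⊗[k] S)) := by
    apply PrimeSpectrum.ext
    change (Q.map π.toRingHom).comap π.toRingHom = Q
    rw [Ideal.comap_map_of_surjective π.toRingHom hπ, ← RingHom.ker_eq_comap_bot]
    exact sup_eq_left.mpr hQ.1.2
  rw [← ringKrullDim_tensor_quotient_minimalPrime k K (S ⧸ P) _ hQ',
    ← coheight_eq_ringKrullDim_quotient (⟨Q, inferInstance⟩ : PrimeSpectrum (K ⊗[k] S)),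
    ← coheight_eq_ringKrullDim_quotient
      (⟨Q.map π.toRingHom, inferInstance⟩ : PrimeSpectrum (K ⊗[k] (S ⧸ P))),
    ← hcomap, coheight_comap_of_surjective π.toRingHom hπ]

attribute [local instance] Algebra.TensorProduct.rightAlgebra in
omit [Algebra.FiniteType k S] in
theorem flat_right : Module.Flat S (K ⊗[k] S) := by
  let e : (S ⊗[k] K) ≃ₗ[S] (K ⊗[k] S) :=
    { (TensorProduct.comm k S K) with
      map_smul' := by
        intro s x
        induction x with
        | zero => simp
        | tmul a c =>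
          simp only [AddHom.toFun_eq_coe, LinearMap.coe_toAddHom, LinearEquiv.coe_coe,
            RingHom.id_apply, TensorProduct.smul_tmul', smul_eq_mul, TensorProduct.comm_tmul]
          rw [Algebra.smul_def]
          change c ⊗ₜ[k] (s * a) = ((1 : K) ⊗ₜ[k] s) * (c ⊗ₜ[k] a)
          rw [Algebra.TensorProduct.tmul_mul_tmul, one_mul]
        | add x y hx hy =>
          simp only [AddHom.toFun_eq_coe, LinearMap.coe_toAddHom, LinearEquiv.coe_coe,
            RingHom.id_apply] at hx hy ⊢
          rw [smul_add, map_add, hx, hy, map_add, smul_add] }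
  exact Module.Flat.of_linearEquiv e.symm

/-- The local dimension is invariant under base field extension. -/
theorem localDim_baseChange (q : Ideal S) [q.IsPrime] (qK : Ideal (K ⊗[k] S)) [qK.IsPrime]
    (hq : qK.comap (Algebra.TensorProduct.includeRight.toRingHom : S →+* K ⊗[k] S) = q) :
    FlatMor.localDim (PrimeSpectrum (K ⊗[k] S)) ⟨qK, inferInstance⟩ =
      FlatMor.localDim (PrimeSpectrum S) ⟨q, inferInstance⟩ := by
  letI : Algebra S (K ⊗[k] S) := Algebra.TensorProduct.rightAlgebra
  haveI : Module.Flat S (K ⊗[k] S) := flat_right k K S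
  have hmapeq : ∀ P : Ideal S, P.map (algebraMap S (K ⊗[k] S)) =
      P.map (Algebra.TensorProduct.includeRight : S →ₐ[k] K ⊗[k] S) := fun P => rfl
  apply le_antisymm
  · apply localDim_le (k := K)
    intro Q hQ hQq
    haveI : Q.IsPrime := hQ.1.1
    let P : Ideal S := Q.comap (algebraMap S (K ⊗[k] S))
    haveI : P.IsPrime := Ideal.comap_isPrime _ Q
    have hPq : P ≤ q := by
      rw [← hq]
      exact Ideal.comap_mono hQq
    have hPQ : P.map (algebraMap S (K ⊗[k] S)) ≤ Q := Ideal.map_comap_le
    have hQmin : Q ∈ (P.map (Algebra.TensorProduct.includeRight :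
        S →ₐ[k] K ⊗[k] S)).minimalPrimes := by
      rw [← hmapeq]
      exact ⟨⟨inferInstance, hPQ⟩, fun J hJ hJQ => hQ.2 ⟨hJ.1, bot_le⟩ hJQ⟩
    rw [dim_quotient_of_mem_minimalPrimes_map k K S P Q hQmin]
    exact localDim_ge (k := k) ⟨q, inferInstance⟩ P hPq
  · apply localDim_le (k := k)
    intro P hP hPq
    haveI : P.IsPrime := hP.1.1
    haveI : qK.LiesOver q := ⟨hq.symm⟩
    obtain ⟨Q₀, hQ₀le, hQ₀prime, hQ₀over⟩ :=
      Ideal.exists_ideal_le_liesOver_of_le (p := P) (q := q) qK hPq
    have hPQ₀ : P.map (algebraMap S (K ⊗[k] S)) ≤ Q₀ := by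
      rw [Ideal.map_le_iff_le_comap, ← Ideal.under_def, ← hQ₀over.over]
    obtain ⟨Q, hQ, hQQ₀⟩ := Ideal.exists_minimalPrimes_le hPQ₀
    haveI : Q.IsPrime := hQ.1.1
    rw [hmapeq] at hQ
    rw [← dim_quotient_of_mem_minimalPrimes_map k K S P Q hQ]
    exact localDim_ge (k := K) ⟨qK, inferInstance⟩ Q (hQQ₀.trans hQ₀le)

end main

end Groth.Agent.H11.FtDimBC
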