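import Mathlib

/-!
# Support of a localized module at a prime
-/

namespace Groth.Agent.H11.SuppLoc

universe u v

variable {R : Type u} [CommRing R] (M : Type v) [AddCommGroup M] [Module R M]

/-- If `q' ∈ Supp_{R_p}(M_p)` then its contraction to `R` lies in `Supp_R(M)`. -/
theorem comap_mem_support (p : Ideal R) [p.IsPrime]
    (q' : PrimeSpectrum (Localization.AtPrime p))
    (hq' : q' ∈ Module.support (Localization.AtPrime p) (LocalizedModule p.primeCompl M)) :
    PrimeSpectrum.comap (algebraMap R (Localization.AtPrime p)) q' ∈ Module.support R M := by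
  rw [Module.mem_support_iff'] at hq' ⊢
  obtain ⟨m', hm'⟩ := hq'
  induction m' using LocalizedModule.induction_on with
  | h m s =>
    refine ⟨m, fun r hr h0 => ?_⟩
    apply hm' (algebraMap R (Localization.AtPrime p) r)
    · exact hr
    · rw [algebraMap_smul, LocalizedModule.smul'_mk, h0, LocalizedModule.zero_mk]

/-- If `q ≤ p` lies in `Supp_R(M)` then `q R_p ∈ Supp_{R_p}(M_p)`. -/
theorem exists_mem_support_comap_eq (p : Ideal R) [p.IsPrime] (q : PrimeSpectrum R)
    (hqp : q.asIdeal ≤ p) (hq : q ∈ Module.support R M) :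
    ∃ q' : PrimeSpectrum (Localization.AtPrime p),
      q' ∈ Module.support (Localization.AtPrime p) (LocalizedModule p.primeCompl M) ∧
      PrimeSpectrum.comap (algebraMap R (Localization.AtPrime p)) q' = q := by
  have hdisj : Disjoint (p.primeCompl : Set R) (q.asIdeal : Set R) := by
    rw [Set.disjoint_left]
    intro x hx hxq
    exact hx (hqp hxq)
  have hprime : (q.asIdeal.map (algebraMap R (Localization.AtPrime p))).IsPrime :=
    IsLocalization.isPrime_of_isPrime_disjoint p.primeCompl _ _ q.2 hdisj
  have hcomap : (q.asIdeal.map (algebraMap R (Localization.AtPrime p))).comap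
      (algebraMap R (Localization.AtPrime p)) = q.asIdeal :=
    IsLocalization.under_map_of_isPrime_disjoint p.primeCompl _ q.2 hdisj
  refine ⟨⟨_, hprime⟩, ?_, PrimeSpectrum.ext hcomap⟩
  rw [Module.mem_support_iff'] at hq ⊢
  obtain ⟨m, hm⟩ := hq
  refine ⟨LocalizedModule.mk m 1, fun r' hr' h0 => ?_⟩
  obtain ⟨r, s, rfl⟩ := IsLocalization.exists_mk'_eq p.primeCompl r'
  apply hr'
  -- r ∈ q
  have hr : r ∈ q.asIdeal := by
    by_contra hrq
    have h1 : (algebraMap R (Localization.AtPrime p) r) • (LocalizedModule.mk m (1 : p.primeCompl))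
        = 0 := by
      have := congrArg (fun z => (algebraMap R (Localization.AtPrime p) (s : R)) • z) h0
      simp only [smul_zero, ← mul_smul, IsLocalization.mk'_spec'] at this
      exact this
    rw [algebraMap_smul, LocalizedModule.smul'_mk, ← LocalizedModule.zero_mk (1 : p.primeCompl),
      LocalizedModule.mk_eq] at h1
    obtain ⟨t, ht⟩ := h1
    rw [one_smul, one_smul, smul_zero, Submonoid.smul_def, ← mul_smul] at ht
    refine hm ((t : R) * r) ?_ ht
    intro hmem
    rcases q.2.mem_or_mem hmem with h | h
    · exact t.2 (hqp h)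
    · exact hrq h
  change IsLocalization.mk' (Localization.AtPrime p) r s ∈
    q.asIdeal.map (algebraMap R (Localization.AtPrime p))
  rw [IsLocalization.mk'_mem_map_algebraMap_iff p.primeCompl]
  exact ⟨1, Submonoid.one_mem _, by simpa using hr⟩

end Groth.Agent.H11.SuppLoc
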