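import Mathlib

/-!
# Annihilators of finitely generated ideals commute with flat base change
-/

namespace Groth.Agent.H11.AnnFlat

open Module

section alg

variable {R S : Type*} [CommRing R] [CommRing S] [Algebra R S]

theorem map_annihilator_le (I : Ideal R) :
    (Submodule.annihilator I).map (algebraMap R S) ≤
      Submodule.annihilator (I.map (algebraMap R S)) := by
  rw [Ideal.map_le_iff_le_comap]
  intro a ha
  rw [Ideal.mem_comap, Ideal.map, Ideal.span, Submodule.mem_annihilator_span]
  rintro ⟨_, x, hx, rfl⟩
  have := (Submodule.mem_annihilator.mp ha) x hx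
  change algebraMap R S a * algebraMap R S x = 0
  rw [← map_mul, ← smul_eq_mul, this, map_zero]

theorem annihilator_map_le [Module.Flat R S] (I : Ideal R) (hI : I.FG) :
    Submodule.annihilator (I.map (algebraMap R S)) ≤
      (Submodule.annihilator I).map (algebraMap R S) := by
  obtain ⟨n, g, hg⟩ := Submodule.fg_iff_exists_fin_generating_family.mp hI
  intro s hs
  have hs' : ∀ i, g i • s = 0 := by
    intro i
    have h1 : algebraMap R S (g i) ∈ I.map (algebraMap R S) :=
      Ideal.mem_map_of_mem _ (hg ▸ Submodule.subset_span ⟨i, rfl⟩)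
    have := (Submodule.mem_annihilator.mp hs) _ h1
    rw [Algebra.smul_def, mul_comm]
    exact this
  let f : (Fin n →₀ R) →ₗ[R] R := Finsupp.linearCombination R g
  let x : R →ₗ[R] S := LinearMap.toSpanSingleton R S s
  have hxf : x ∘ₗ f = 0 := by
    ext i
    simp [f, x, hs' i]
  obtain ⟨k, a, y, hxy, haf⟩ := Module.Flat.exists_factorization_of_comp_eq_zero_of_free hxf
  have hs1 : s = y (a 1) := by
    have := LinearMap.congr_fun hxy 1
    simpa [x] using this
  have hann : ∀ j, (a 1) j ∈ Submodule.annihilator I := by
    intro j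
    rw [← hg, Submodule.mem_annihilator_span]
    rintro ⟨_, i, rfl⟩
    have h1 : a (f (Finsupp.single i 1)) = 0 := LinearMap.congr_fun haf (Finsupp.single i 1)
    have h2 : f (Finsupp.single i 1) = g i := by simp [f]
    rw [h2] at h1
    have h3 : a (g i) = g i • a 1 := by
      rw [← map_smul, smul_eq_mul, mul_one]
    rw [h3] at h1
    have h4 := DFunLike.congr_fun h1 j
    simp only [Finsupp.smul_apply, Finsupp.zero_apply, smul_eq_mul] at h4
    change (a 1) j * g i = 0
    rw [mul_comm]; exact h4
  rw [hs1]
  have h5 : a 1 = ∑ j, (a 1) j • Finsupp.single j (1 : R) := by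
    conv_lhs => rw [← Finsupp.univ_sum_single (a 1)]
    refine Finset.sum_congr rfl fun j _ => ?_
    rw [Finsupp.smul_single, smul_eq_mul, mul_one]
  rw [h5, map_sum]
  refine Ideal.sum_mem _ fun j _ => ?_
  rw [map_smul, Algebra.smul_def]
  exact Ideal.mul_mem_right _ _ (Ideal.mem_map_of_mem _ (hann j))

theorem annihilator_map [Module.Flat R S] (I : Ideal R) (hI : I.FG) :
    Submodule.annihilator (I.map (algebraMap R S)) =
      (Submodule.annihilator I).map (algebraMap R S) :=
  le_antisymm (annihilator_map_le I hI) (map_annihilator_le I)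

end alg

theorem annihilator_map_ringHom {R S : Type*} [CommRing R] [CommRing S] (φ : R →+* S)
    (hφ : φ.Flat) (I : Ideal R) (hI : I.FG) :
    Submodule.annihilator (I.map φ) = (Submodule.annihilator I).map φ := by
  letI := φ.toAlgebra
  haveI : Module.Flat R S := hφ
  exact annihilator_map (S := S) I hI

end Groth.Agent.H11.AnnFlat
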