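import Mathlib

/-!
# The fibre product `C ×_κ k` of an Artinian local ring with a subfield of its residue field

If `C` is an Artinian local ring with a surjection `r : C → κ` onto a field and `g : k → κ` is a
finite field extension, then the pullback ring `r.pullback g` is an Artinian local ring.
-/

set_option autoImplicit false

namespace Groth.Agent.H11.ArtinPullback

universe u

open IsLocalRing

/-- Restriction of scalars along `φ : D → C` of a finite length `C`-module is Artinian over `D`
as soon as the residue field `κ` of `C` is Artinian over `D`. -/
theorem isArtinian_compHom_of_isFiniteLength {C κ D : Type u} [CommRing C] [IsLocalRing C]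
    [Field κ] [CommRing D] (φ : D →+* C) (r : C →+* κ) (hr : Function.Surjective r)
    (hκ : @IsArtinian D κ _ _ (Module.compHom κ (r.comp φ)))
    (M : Type u) [AddCommGroup M] [Module C M] (hM : IsFiniteLength C M) :
    @IsArtinian D M _ _ (Module.compHom M φ) := by
  induction hM with
  | @of_subsingleton M _ _ _ =>
    letI : Module D M := Module.compHom M φ
    haveI : Finite M := Finite.of_subsingleton
    exact isArtinian_of_finite
  | @of_simple_quotient M _ _ N hsimple hN ih =>
    letI instM : Module D M := Module.compHom M φ
    letI instN : Module D N := Module.compHom N φ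
    letI instQ : Module D (M ⧸ N) := Module.compHom (M ⧸ N) φ
    letI instκ : Module D κ := Module.compHom κ (r.comp φ)
    haveI : IsArtinian D N := ih
    haveI : IsArtinian D κ := hκ
    -- the simple quotient embeds in `κ`
    haveI : IsArtinian D (M ⧸ N) := by
      obtain ⟨I, hI, ⟨e⟩⟩ := isSimpleModule_iff_quot_maximal.mp hsimple
      have hker : RingHom.ker r = I := by
        haveI : (RingHom.ker r).IsMaximal := RingHom.ker_isMaximal_of_surjective r hr
        rw [IsLocalRing.eq_maximalIdeal hI, IsLocalRing.eq_maximalIdeal ‹(RingHom.ker r).IsMaximal›]
      let l : C ⧸ I →+* κ := Ideal.Quotient.lift I r (fun a ha => by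
        rw [← hker] at ha; exact ha)
      have hl : Function.Injective l := by
        rw [injective_iff_map_eq_zero]
        intro x hx
        obtain ⟨c, rfl⟩ := Ideal.Quotient.mk_surjective x
        rw [Ideal.Quotient.eq_zero_iff_mem, ← hker]
        exact hx
      let F : (M ⧸ N) →ₗ[D] κ :=
        { toFun := fun q => l (e q)
          map_add' := fun x y => by rw [map_add, map_add]
          map_smul' := fun d q => by
            change l (e (φ d • q)) = r (φ d) * l (e q)
            rw [map_smul]
            have : (φ d • e q : C ⧸ I) = Ideal.Quotient.mk I (φ d) * e q := by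
              rw [Algebra.smul_def]; rfl
            rw [this, map_mul]
            rfl }
      exact isArtinian_of_injective F (fun x y hxy => e.injective (hl hxy))
    let f : N →ₗ[D] M :=
      { toFun := fun x => x.1
        map_add' := fun _ _ => rfl
        map_smul' := fun _ _ => rfl }
    let g' : M →ₗ[D] (M ⧸ N) :=
      { toFun := fun x => N.mkQ x
        map_add' := fun x y => map_add _ x y
        map_smul' := fun d x => by
          change N.mkQ (φ d • x) = φ d • N.mkQ x
          rw [map_smul] }
    refine isArtinian_of_range_eq_ker f g' ?_
    ext x
    constructor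
    · rintro ⟨y, rfl⟩
      change N.mkQ y.1 = 0
      simp
    · intro hx
      have hx' : N.mkQ x = 0 := hx
      rw [Submodule.mkQ_apply, Submodule.Quotient.mk_eq_zero] at hx'
      exact ⟨⟨x, hx'⟩, rfl⟩

/-- The fibre product `C ×_κ k` is an Artinian ring. -/
theorem isArtinianRing_pullback {C κ k : Type u} [CommRing C] [IsLocalRing C] [IsArtinianRing C]
    [Field κ] [Field k] (r : C →+* κ) (hr : Function.Surjective r) (g : k →+* κ)
    (hg : g.Finite) : IsArtinianRing (r.pullback g) := by
  have hκ : @IsArtinian (r.pullback g) κ _ _ (Module.compHom κ (r.comp (r.pullbackFst g))) := by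
    letI : Algebra (r.pullback g) k := (r.pullbackSnd g).toAlgebra
    letI : Algebra k κ := g.toAlgebra
    letI : Module (r.pullback g) κ := Module.compHom κ (r.comp (r.pullbackFst g))
    haveI : Module.Finite k κ := hg
    haveI : IsArtinian k κ := inferInstance
    haveI : IsScalarTower (r.pullback g) k κ := by
      refine ⟨fun d y x => ?_⟩
      change g (r.pullbackSnd g d * y) * x = r (r.pullbackFst g d) * (g y * x)
      have h1 : r (r.pullbackFst g d) = g (r.pullbackSnd g d) :=
        congrArg (fun ψ => ψ d) (RingHom.pullback_comm_sq r g)
      rw [h1, map_mul, mul_assoc]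
    exact isArtinian_of_surjective_algebraMap (R := k) (M := κ)
      (RingHom.surjective_pullbackSnd_of_surjective r g hr)
  have hC : IsFiniteLength C C :=
    isFiniteLength_iff_isNoetherian_isArtinian.mpr ⟨inferInstance, inferInstance⟩
  have hDC := isArtinian_compHom_of_isFiniteLength (r.pullbackFst g) r hr hκ C hC
  letI : Module (r.pullback g) C := Module.compHom C (r.pullbackFst g)
  haveI : IsArtinian (r.pullback g) C := hDC
  let F : (r.pullback g) →ₗ[r.pullback g] C :=
    { toFun := fun d => r.pullbackFst g d
      map_add' := fun x y => map_add _ x y
      map_smul' := fun d x => by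
        change r.pullbackFst g (d * x) = r.pullbackFst g d * r.pullbackFst g x
        rw [map_mul] }
  have hF : Function.Injective F := by
    intro x y hxy
    have h1 : (x : C × k).1 = (y : C × k).1 := hxy
    have hx : r (x : C × k).1 = g (x : C × k).2 := x.2
    have hy : r (y : C × k).1 = g (y : C × k).2 := y.2
    have h2 : (x : C × k).2 = (y : C × k).2 := by
      apply g.injective
      rw [← hx, ← hy, h1]
    exact Subtype.ext (Prod.ext h1 h2)
  exact isArtinian_of_injective F hF

end Groth.Agent.H11.ArtinPullback
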