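import Mathlib
import Groth.Agent.H11.ArtinPullback

/-!
# Artin lifting: from trivial residue field extensions to finite residue field extensions
-/

set_option autoImplicit false

namespace Groth.Agent.H11.ArtinLift

open AlgebraicGeometry CategoryTheory IsLocalRing

universe u

theorem residueMap_surjective_iff {A B : Type u} [CommRing A] [CommRing B] [IsLocalRing A]
    [IsLocalRing B] (ψ : A →+* B) [IsLocalHom ψ] :
    Function.Surjective (ResidueField.map ψ) ↔ ∀ b, ∃ a, ψ a - b ∈ maximalIdeal B := by
  constructor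
  · intro h b
    obtain ⟨y, hy⟩ := h (residue B b)
    obtain ⟨a, rfl⟩ := residue_surjective y
    refine ⟨a, ?_⟩
    rw [ResidueField.map_residue] at hy
    rw [← residue_eq_zero_iff, map_sub, hy, sub_self]
  · intro h y
    obtain ⟨b, rfl⟩ := residue_surjective y
    obtain ⟨a, ha⟩ := h b
    refine ⟨residue A a, ?_⟩
    rw [ResidueField.map_residue]
    rw [← residue_eq_zero_iff, map_sub, sub_eq_zero] at ha
    exact ha

section

variable {R : Type u} [CommRing R] [IsLocalRing R] {X : Scheme.{u}}

theorem surjective_residueFieldMap_of (f : Spec (CommRingCat.of R) ⟶ X)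
    (h : ∀ r : R, ∃ z, (Scheme.stalkClosedPointTo f).hom z - r ∈ maximalIdeal R) :
    Function.Surjective (f.residueFieldMap (closedPoint R)).hom := by
  change Function.Surjective (ResidueField.map (f.stalkMap (closedPoint R)).hom)
  rw [residueMap_surjective_iff]
  intro s
  obtain ⟨z, hz⟩ := h ((stalkClosedPointIso (CommRingCat.of R)).hom.hom s)
  refine ⟨z, ?_⟩
  rw [mem_maximalIdeal, mem_nonunits_iff] at hz ⊢
  intro hu
  apply hz
  have := hu.map (stalkClosedPointIso (CommRingCat.of R)).hom.hom
  rw [map_sub] at this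
  exact this

theorem finite_residueMap_of (f : Spec (CommRingCat.of R) ⟶ X)
    (h : (f.residueFieldMap (closedPoint R)).hom.Finite) :
    (ResidueField.map (Scheme.stalkClosedPointTo f).hom).Finite := by
  haveI : IsLocalHom (stalkClosedPointIso (CommRingCat.of R)).hom.hom :=
    isLocalHom_of_isIso _
  have key := ResidueField.map_comp (f.stalkMap (closedPoint R)).hom
    (stalkClosedPointIso (CommRingCat.of R)).hom.hom
  change (ResidueField.map ((stalkClosedPointIso (CommRingCat.of R)).hom.hom.comp
    (f.stalkMap (closedPoint R)).hom)).Finite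
  rw [key]
  refine RingHom.Finite.comp (RingHom.Finite.of_surjective _ ?_) h
  rw [residueMap_surjective_iff]
  intro r
  refine ⟨(stalkClosedPointIso (CommRingCat.of R)).inv.hom r, ?_⟩
  have : (stalkClosedPointIso (CommRingCat.of R)).hom.hom
      ((stalkClosedPointIso (CommRingCat.of R)).inv.hom r) = r := by
    change ((stalkClosedPointIso (CommRingCat.of R)).inv ≫
      (stalkClosedPointIso (CommRingCat.of R)).hom).hom r = r
    rw [Iso.inv_hom_id]; rfl
  rw [this, sub_self]
  exact Ideal.zero_mem _

end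

set_option maxHeartbeats 3200000 in
theorem exists_lift_of_finite {S T : Scheme.{u}} (g : T ⟶ S)
    (C C' : Type u) [CommRing C] [CommRing C'] [IsLocalRing C] [IsLocalRing C']
    [IsArtinianRing C] [IsArtinianRing C'] (π : C' →+* C) (hπ : Function.Surjective π)
    (a : Spec (CommRingCat.of C) ⟶ T) (b : Spec (CommRingCat.of C') ⟶ S)
    (hfin : (a.residueFieldMap (closedPoint C)).hom.Finite)
    (hsq : Spec.map (CommRingCat.ofHom π) ≫ b = a ≫ g)
    (hT : ∀ (D D' : Type u) [CommRing D] [CommRing D'] [IsLocalRing D] [IsLocalRing D']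
        [IsArtinianRing D] [IsArtinianRing D'] (ρ : D' →+* D), Function.Surjective ρ →
        ∀ (a' : Spec (CommRingCat.of D) ⟶ T) (b' : Spec (CommRingCat.of D') ⟶ S),
          a' (closedPoint D) = a (closedPoint C) →
          Function.Surjective (a'.residueFieldMap (closedPoint D)).hom →
          Spec.map (CommRingCat.ofHom ρ) ≫ b' = a' ≫ g →
          ∃ c : Spec (CommRingCat.of D') ⟶ T,
            Spec.map (CommRingCat.ofHom ρ) ≫ c = a' ∧ c ≫ g = b') :
    ∃ c : Spec (CommRingCat.of C') ⟶ T,
      Spec.map (CommRingCat.ofHom π) ≫ c = a ∧ c ≫ g = b := by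
  haveI hπloc : IsLocalHom π := hπ.isLocalHom
  haveI : IsLocalHom (CommRingCat.ofHom π).hom := hπloc
  -- data attached to `a` and `b`
  let α := Scheme.stalkClosedPointTo a
  have hα : Spec.map α ≫ T.fromSpecStalk (a (closedPoint C)) = a :=
    Scheme.Spec_stalkClosedPointTo_fromSpecStalk a
  let β := Scheme.stalkClosedPointTo b
  have hβ : Spec.map β ≫ S.fromSpecStalk (b (closedPoint C')) = b :=
    Scheme.Spec_stalkClosedPointTo_fromSpecStalk b
  haveI hαloc : IsLocalHom α.hom :=
    inferInstanceAs (IsLocalHom (Scheme.stalkClosedPointTo a).hom)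
  haveI hβloc : IsLocalHom β.hom :=
    inferInstanceAs (IsLocalHom (Scheme.stalkClosedPointTo b).hom)
  haveI : IsLocalHom (β ≫ CommRingCat.ofHom π).hom := CommRingCat.isLocalHom_comp _ _
  haveI : IsLocalHom (g.stalkMap (a (closedPoint C)) ≫ α).hom := CommRingCat.isLocalHom_comp _ _
  -- compare the two sides of the square
  have h1 : Spec.map (CommRingCat.ofHom π) ≫ b =
      (SpecToEquivOfLocalRing S (CommRingCat.of C)).symm
        ⟨b (closedPoint C'), β ≫ CommRingCat.ofHom π, inferInstance⟩ := by
    change _ = Spec.map (β ≫ CommRingCat.ofHom π) ≫ S.fromSpecStalk _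
    rw [Spec.map_comp, Category.assoc, hβ]
  have h2 : a ≫ g =
      (SpecToEquivOfLocalRing S (CommRingCat.of C)).symm
        ⟨g (a (closedPoint C)), g.stalkMap (a (closedPoint C)) ≫ α, inferInstance⟩ := by
    change _ = Spec.map (g.stalkMap (a (closedPoint C)) ≫ α) ≫ S.fromSpecStalk _
    rw [Spec.map_comp, Category.assoc, Scheme.SpecMap_stalkMap_fromSpecStalk, ← Category.assoc, hα]
  have h3 := (SpecToEquivOfLocalRing S (CommRingCat.of C)).symm.injective
    (h1.symm.trans (hsq.trans h2))
  obtain ⟨hs, hγ'⟩ := SpecToEquivOfLocalRing_eq_iff.mp h3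
  dsimp only at hs hγ'
  let γ : S.presheaf.stalk (b (closedPoint C')) ⟶ T.presheaf.stalk (a (closedPoint C)) :=
    (S.presheaf.stalkCongr (.of_eq hs)).hom ≫ g.stalkMap (a (closedPoint C))
  have hγ : β ≫ CommRingCat.ofHom π = γ ≫ α := by
    rw [hγ', Category.assoc]
  have hγel : ∀ w, π (β.hom w) = α.hom (γ.hom w) := fun w =>
    congrArg (fun ψ => ψ.hom w) hγ
  have hγS : Spec.map γ ≫ S.fromSpecStalk (b (closedPoint C')) =
      T.fromSpecStalk (a (closedPoint C)) ≫ g := by
    rw [Spec.map_comp, Category.assoc, TopCat.Presheaf.stalkCongr_hom,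
      Scheme.SpecMap_stalkSpecializes_fromSpecStalk, Scheme.SpecMap_stalkMap_fromSpecStalk]
  -- the rings
  let rC : C →+* ResidueField C := residue C
  let gk : ResidueField (T.presheaf.stalk (a (closedPoint C))) →+* ResidueField C :=
    ResidueField.map α.hom
  have hgk : gk.Finite := finite_residueMap_of a hfin
  let rC' : C' →+* ResidueField C := rC.comp π
  have hrC : Function.Surjective rC := residue_surjective
  have hrC' : Function.Surjective rC' := hrC.comp hπ
  haveI : IsLocalRing (rC.pullback gk) := RingHom.isLocalRing_pullback rC gk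
  haveI : IsLocalRing (rC'.pullback gk) := RingHom.isLocalRing_pullback rC' gk
  haveI : IsArtinianRing (rC.pullback gk) :=
    Groth.Agent.H11.ArtinPullback.isArtinianRing_pullback rC hrC gk hgk
  haveI : IsArtinianRing (rC'.pullback gk) :=
    Groth.Agent.H11.ArtinPullback.isArtinianRing_pullback rC' hrC' gk hgk
  -- the transition map
  let ρ : (rC'.pullback gk) →+* (rC.pullback gk) :=
    RingHom.codRestrict
      (((π.comp (RingHom.fst C' _)).prod (RingHom.snd C' _)).comp (rC'.pullback gk).subtype)
      (rC.pullback gk) (fun x => x.2)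
  have hρ : Function.Surjective ρ := by
    rintro ⟨⟨c, y⟩, hcy⟩
    obtain ⟨c', rfl⟩ := hπ c
    exact ⟨⟨(c', y), hcy⟩, rfl⟩
  -- the lifts of `α` and `β`
  let αD : T.presheaf.stalk (a (closedPoint C)) →+* (rC.pullback gk) :=
    RingHom.codRestrict (α.hom.prod (residue _)) (rC.pullback gk)
      (fun z => (ResidueField.map_residue α.hom z).symm)
  let βD : S.presheaf.stalk (b (closedPoint C')) →+* (rC'.pullback gk) :=
    RingHom.codRestrict (β.hom.prod ((residue _).comp γ.hom)) (rC'.pullback gk)
      (fun w => by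
        change residue C (π (β.hom w)) = ResidueField.map α.hom (residue _ (γ.hom w))
        rw [ResidueField.map_residue, hγel])
  haveI hαDloc : IsLocalHom αD := by
    refine ⟨fun z hz => ?_⟩
    have h4 : IsUnit (α.hom z) := hz.map (rC.pullbackFst gk)
    exact isUnit_of_map_unit α.hom z h4
  haveI : IsLocalHom (CommRingCat.ofHom αD).hom := hαDloc
  let aD : Spec (CommRingCat.of (rC.pullback gk)) ⟶ T :=
    Spec.map (CommRingCat.ofHom αD) ≫ T.fromSpecStalk (a (closedPoint C))
  let bD : Spec (CommRingCat.of (rC'.pullback gk)) ⟶ S :=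
    Spec.map (CommRingCat.ofHom βD) ≫ S.fromSpecStalk (b (closedPoint C'))
  have haD : aD (closedPoint (rC.pullback gk)) = a (closedPoint C) := by
    change (T.fromSpecStalk (a (closedPoint C)))
      (Spec.map (CommRingCat.ofHom αD) (closedPoint (rC.pullback gk))) = _
    rw [Spec_closedPoint, Scheme.fromSpecStalk_closedPoint]
  have hres : Function.Surjective (aD.residueFieldMap (closedPoint (rC.pullback gk))).hom := by
    apply surjective_residueFieldMap_of
    have h5 := (SpecToEquivOfLocalRing T (CommRingCat.of (rC.pullback gk))).apply_symm_apply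
      ⟨a (closedPoint C), CommRingCat.ofHom αD, inferInstance⟩
    obtain ⟨h6, h7⟩ := SpecToEquivOfLocalRing_eq_iff.mp h5
    have h6' : aD (closedPoint (rC.pullback gk)) = a (closedPoint C) := h6
    have h7' : Scheme.stalkClosedPointTo aD =
        (T.presheaf.stalkCongr (.of_eq h6')).hom ≫ CommRingCat.ofHom αD := h7
    intro d
    obtain ⟨z, hz⟩ := residue_surjective d.1.2
    refine ⟨(T.presheaf.stalkCongr (.of_eq h6')).inv.hom z, ?_⟩
    have h8 : (Scheme.stalkClosedPointTo aD).hom
        ((T.presheaf.stalkCongr (.of_eq h6')).inv.hom z) = αD z := by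
      rw [h7']
      change (CommRingCat.ofHom αD).hom (((T.presheaf.stalkCongr (.of_eq h6')).inv ≫
        (T.presheaf.stalkCongr (.of_eq h6')).hom).hom z) = _
      rw [Iso.inv_hom_id]; rfl
    rw [h8, mem_maximalIdeal, mem_nonunits_iff]
    intro hu
    have h9 : IsUnit ((rC.pullbackSnd gk) (αD z - d)) := hu.map (rC.pullbackSnd gk)
    have h10 : (rC.pullbackSnd gk) (αD z - d) = 0 := by
      rw [map_sub]
      change residue _ z - d.1.2 = 0
      rw [hz, sub_self]
    rw [h10] at h9
    exact not_isUnit_zero h9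
  have hsqD : Spec.map (CommRingCat.ofHom ρ) ≫ bD = aD ≫ g := by
    have h11 : CommRingCat.ofHom βD ≫ CommRingCat.ofHom ρ = γ ≫ CommRingCat.ofHom αD := by
      refine CommRingCat.hom_ext (RingHom.ext fun w => ?_)
      refine Subtype.ext (Prod.ext ?_ rfl)
      exact hγel w
    change Spec.map (CommRingCat.ofHom ρ) ≫ Spec.map (CommRingCat.ofHom βD) ≫ _ =
      (Spec.map (CommRingCat.ofHom αD) ≫ _) ≫ g
    rw [← Category.assoc, ← Spec.map_comp, h11, Spec.map_comp, Category.assoc, hγS,
      Category.assoc]
    rfl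
  obtain ⟨cD, hc1, hc2⟩ := hT _ _ ρ hρ aD bD haD hres hsqD
  refine ⟨Spec.map (CommRingCat.ofHom (rC'.pullbackFst gk)) ≫ cD, ?_, ?_⟩
  · have h12 : CommRingCat.ofHom (rC'.pullbackFst gk) ≫ CommRingCat.ofHom π =
        CommRingCat.ofHom ρ ≫ CommRingCat.ofHom (rC.pullbackFst gk) := rfl
    have h13 : CommRingCat.ofHom αD ≫ CommRingCat.ofHom (rC.pullbackFst gk) = α := rfl
    rw [← Category.assoc, ← Spec.map_comp, h12, Spec.map_comp, Category.assoc, hc1]
    change Spec.map _ ≫ Spec.map _ ≫ _ = _
    rw [← Category.assoc, ← Spec.map_comp, h13, hα]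
  · have h14 : CommRingCat.ofHom βD ≫ CommRingCat.ofHom (rC'.pullbackFst gk) = β := rfl
    rw [Category.assoc, hc2]
    change Spec.map _ ≫ Spec.map _ ≫ _ = _
    rw [← Category.assoc, ← Spec.map_comp, h14, hβ]

end Groth.Agent.H11.ArtinLift
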