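import Mathlib
import Groth.Agent.H11.ArtinLift

/-!
# Artin lifting and étale morphisms
-/

set_option autoImplicit false

namespace Groth.Agent.H11.ArtinLiftEtale

open AlgebraicGeometry CategoryTheory IsLocalRing

universe u

/-- The ring-level content of a commutative square of spectra of local rings over `g : T ⟶ S`. -/
theorem square_data {S T : Scheme.{u}} (g : T ⟶ S)
    (C C' : Type u) [CommRing C] [CommRing C'] [IsLocalRing C] [IsLocalRing C']
    (π : C' →+* C) [hπloc : IsLocalHom π]
    (a : Spec (CommRingCat.of C) ⟶ T) (b : Spec (CommRingCat.of C') ⟶ S)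
    (hsq : Spec.map (CommRingCat.ofHom π) ≫ b = a ≫ g) :
    ∃ hs : b (closedPoint C') = g (a (closedPoint C)),
      Scheme.stalkClosedPointTo b ≫ CommRingCat.ofHom π =
        (S.presheaf.stalkCongr (.of_eq hs)).hom ≫ g.stalkMap (a (closedPoint C)) ≫
          Scheme.stalkClosedPointTo a := by
  haveI : IsLocalHom (CommRingCat.ofHom π).hom := hπloc
  let α := Scheme.stalkClosedPointTo a
  have hα : Spec.map α ≫ T.fromSpecStalk (a (closedPoint C)) = a :=
    Scheme.Spec_stalkClosedPointTo_fromSpecStalk a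
  let β := Scheme.stalkClosedPointTo b
  have hβ : Spec.map β ≫ S.fromSpecStalk (b (closedPoint C')) = b :=
    Scheme.Spec_stalkClosedPointTo_fromSpecStalk b
  haveI hαloc : IsLocalHom α.hom :=
    inferInstanceAs (IsLocalHom (Scheme.stalkClosedPointTo a).hom)
  haveI hβloc : IsLocalHom β.hom :=
    inferInstanceAs (IsLocalHom (Scheme.stalkClosedPointTo b).hom)
  haveI : IsLocalHom (β ≫ CommRingCat.ofHom π).hom := CommRingCat.isLocalHom_comp _ _
  haveI : IsLocalHom (g.stalkMap (a (closedPoint C)) ≫ α).hom := CommRingCat.isLocalHom_comp _ _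
  have h1 : Spec.map (CommRingCat.ofHom π) ≫ b =
      (SpecToEquivOfLocalRing S (CommRingCat.of C)).symm
        ⟨b (closedPoint C'), β ≫ CommRingCat.ofHom π, inferInstance⟩ := by
    change _ = Spec.map (β ≫ CommRingCat.ofHom π) ≫ S.fromSpecStalk _
    rw [Spec.map_comp, Category.assoc, hβ]
  have h2 : a ≫ g =
      (SpecToEquivOfLocalRing S (CommRingCat.of C)).symm
        ⟨g (a (closedPoint C)), g.stalkMap (a (closedPoint C)) ≫ α, inferInstance⟩ := by
    change _ = Spec.map (g.stalkMap (a (closedPoint C)) ≫ α) ≫ S.fromSpecStalk _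
    rw [Spec.map_comp, Category.assoc, Scheme.SpecMap_stalkMap_fromSpecStalk, ← Category.assoc, hα]
  have h3 := (SpecToEquivOfLocalRing S (CommRingCat.of C)).symm.injective
    (h1.symm.trans (hsq.trans h2))
  obtain ⟨hs, hγ'⟩ := SpecToEquivOfLocalRing_eq_iff.mp h3
  exact ⟨hs, hγ'⟩

/-- Residue field extensions of unramified morphisms locally of finite type are finite. -/
theorem finite_residueFieldMap {U T : Scheme.{u}} (e : U ⟶ T) [FormallyUnramified e]
    [LocallyOfFiniteType e] (u : U) : (e.residueFieldMap u).hom.Finite := by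
  algebraize [(e.stalkMap u).hom]
  have : IsLocalHom (algebraMap (T.presheaf.stalk (e u)) (U.presheaf.stalk u)) :=
    inferInstanceAs <| IsLocalHom (e.stalkMap u).hom
  have : Algebra.EssFiniteType (T.presheaf.stalk (e u)) (U.presheaf.stalk u) := by
    rw [← RingHom.essFiniteType_algebraMap, RingHom.algebraMap_toAlgebra]
    exact LocallyOfFiniteType.stalkMap e u
  have : Algebra.FormallyUnramified (T.presheaf.stalk (e u)) (U.presheaf.stalk u) := by
    rw [← RingHom.formallyUnramified_algebraMap, RingHom.algebraMap_toAlgebra]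
    exact FormallyUnramified.stalkMap e u
  have h : Module.Finite (ResidueField (T.presheaf.stalk (e u)))
      (ResidueField (U.presheaf.stalk u)) := inferInstance
  unfold RingHom.Finite
  convert! h
  refine Module.ext' _ _ fun r m => ?_
  obtain ⟨r, rfl⟩ := IsLocalRing.residue_surjective r
  rfl

theorem isNilpotent_ker {C C' : Type u} [CommRing C] [CommRing C'] [IsLocalRing C']
    [Nontrivial C] [IsArtinianRing C'] (π : C' →+* C) : IsNilpotent (RingHom.ker π) := by
  have hle : RingHom.ker π ≤ maximalIdeal C' :=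
    IsLocalRing.le_maximalIdeal (RingHom.ker_ne_top π)
  have hnil : IsNilpotent (maximalIdeal C') := by
    have := IsArtinianRing.isNilpotent_jacobson_bot (R := C')
    rwa [IsLocalRing.jacobson_eq_maximalIdeal ⊥ bot_ne_top] at this
  obtain ⟨n, hn⟩ := hnil
  refine ⟨n, ?_⟩
  rw [Ideal.zero_eq_bot] at hn ⊢
  exact le_bot_iff.mp ((Ideal.pow_right_mono hle n).trans hn.le)

set_option maxHeartbeats 1600000 in
/-- Infinitesimal lifting along a smooth morphism for Artinian local thickenings. -/
theorem exists_lift_smooth {U T : Scheme.{u}} (e : U ⟶ T) [Smooth e]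
    (C C' : Type u) [CommRing C] [CommRing C'] [IsLocalRing C] [IsLocalRing C']
    [IsArtinianRing C'] (π : C' →+* C) (hπ : Function.Surjective π)
    (a : Spec (CommRingCat.of C) ⟶ U) (c' : Spec (CommRingCat.of C') ⟶ T)
    (hsq : Spec.map (CommRingCat.ofHom π) ≫ c' = a ≫ e) :
    ∃ c : Spec (CommRingCat.of C') ⟶ U,
      Spec.map (CommRingCat.ofHom π) ≫ c = a ∧ c ≫ e = c' := by
  haveI hπloc : IsLocalHom π := hπ.isLocalHom
  obtain ⟨hs, hrel⟩ := square_data e C C' π a c' hsq
  let α := Scheme.stalkClosedPointTo a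
  have hα : Spec.map α ≫ U.fromSpecStalk (a (closedPoint C)) = a :=
    Scheme.Spec_stalkClosedPointTo_fromSpecStalk a
  have hc' : Spec.map (Scheme.stalkClosedPointTo c') ≫ T.fromSpecStalk (c' (closedPoint C')) = c' :=
    Scheme.Spec_stalkClosedPointTo_fromSpecStalk c'
  let γ₀ : T.presheaf.stalk (e (a (closedPoint C))) ⟶ CommRingCat.of C' :=
    (T.presheaf.stalkCongr (.of_eq hs)).inv ≫ Scheme.stalkClosedPointTo c'
  have hrel' : γ₀ ≫ CommRingCat.ofHom π = e.stalkMap (a (closedPoint C)) ≫ α := by
    change ((T.presheaf.stalkCongr (.of_eq hs)).inv ≫ Scheme.stalkClosedPointTo c') ≫ _ = _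
    rw [Category.assoc, hrel, Iso.inv_hom_id_assoc]
  have hrelel : ∀ r, π (γ₀.hom r) = α.hom ((e.stalkMap (a (closedPoint C))).hom r) := fun r =>
    congrArg (fun ψ => ψ.hom r) hrel'
  have hsm : (e.stalkMap (a (closedPoint C))).hom.FormallySmooth := by
    have h1 : a (closedPoint C) ∈ e.smoothLocus := by
      rw [Scheme.Hom.smoothLocus_eq_top]; trivial
    exact h1
  letI algRA : Algebra (T.presheaf.stalk (e (a (closedPoint C))))
      (U.presheaf.stalk (a (closedPoint C))) := (e.stalkMap (a (closedPoint C))).hom.toAlgebra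
  haveI : Algebra.FormallySmooth (T.presheaf.stalk (e (a (closedPoint C))))
      (U.presheaf.stalk (a (closedPoint C))) := hsm
  letI algRC' : Algebra (T.presheaf.stalk (e (a (closedPoint C)))) C' := γ₀.hom.toAlgebra
  letI algRC : Algebra (T.presheaf.stalk (e (a (closedPoint C)))) C :=
    (π.comp γ₀.hom).toAlgebra
  let f : (U.presheaf.stalk (a (closedPoint C))) →ₐ[T.presheaf.stalk (e (a (closedPoint C)))] C :=
    { α.hom with
      commutes' := fun r => (hrelel r).symm }
  let gπ : C' →ₐ[T.presheaf.stalk (e (a (closedPoint C)))] C :=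
    { π with
      commutes' := fun r => rfl }
  have hnil : IsNilpotent (RingHom.ker (gπ : C' →+* C)) := isNilpotent_ker π
  let δ := Algebra.FormallySmooth.liftOfSurjective f gπ hπ hnil
  have hδ1 : ∀ x, π (δ x) = α.hom x := fun x =>
    Algebra.FormallySmooth.liftOfSurjective_apply f gπ hπ hnil x
  have hδ2 : ∀ r, δ ((e.stalkMap (a (closedPoint C))).hom r) = γ₀.hom r := fun r => δ.commutes r
  let δ' : U.presheaf.stalk (a (closedPoint C)) ⟶ CommRingCat.of C' :=
    CommRingCat.ofHom δ.toRingHom
  have h5 : δ' ≫ CommRingCat.ofHom π = α :=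
    CommRingCat.hom_ext (RingHom.ext fun x => hδ1 x)
  have h6 : e.stalkMap (a (closedPoint C)) ≫ δ' = γ₀ :=
    CommRingCat.hom_ext (RingHom.ext fun r => hδ2 r)
  refine ⟨Spec.map δ' ≫ U.fromSpecStalk (a (closedPoint C)), ?_, ?_⟩
  · rw [← Category.assoc, ← Spec.map_comp, h5, hα]
  · rw [Category.assoc, ← Scheme.SpecMap_stalkMap_fromSpecStalk, ← Category.assoc,
      ← Spec.map_comp, h6]
    change Spec.map ((T.presheaf.stalkCongr (.of_eq hs)).inv ≫ Scheme.stalkClosedPointTo c') ≫ _ = _
    rw [Spec.map_comp, Category.assoc, TopCat.Presheaf.stalkCongr_inv,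
      Scheme.SpecMap_stalkSpecializes_fromSpecStalk, hc']

end Groth.Agent.H11.ArtinLiftEtale
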