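import Mathlib.Algebra.Module.FinitePresentation
import Mathlib.Algebra.Module.LocalizedModule.Basic
import Mathlib.RingTheory.Spectrum.Prime.Topology
import Mathlib.Tactic

set_option autoImplicit false

namespace Groth.Agent.H11

universe u

variable {R : Type*} [CommRing R] {M N : Type*} [AddCommGroup M] [Module R M]
  [AddCommGroup N] [Module R N] (S : Submonoid R)
variable {M' : Type*} [AddCommGroup M'] [Module R M'] (f : M →ₗ[R] M') [IsLocalizedModule S f]
variable {N' : Type*} [AddCommGroup N'] [Module R N'] (g : N →ₗ[R] N') [IsLocalizedModule S g]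

/-- Variant of Mathlib's `exists_bijective_map_powers` valid for every submonoid containing `r`. -/
theorem exists_bijective_map_of_mem [Module.Finite R M] [Module.FinitePresentation R N]
    (l : M →ₗ[R] N) (hf : Function.Bijective (IsLocalizedModule.map S f g l)) :
    ∃ r, r ∈ S ∧ ∀ T : Submonoid R, r ∈ T → Function.Bijective (LocalizedModule.map T l) := by
  let e : M' ≃ₗ[R] N' := LinearEquiv.ofBijective _ hf
  obtain ⟨l', s₀, H⟩ := Module.FinitePresentation.exists_lift_of_isLocalizedModule S f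
    (e.symm.toLinearMap.comp g)
  have H₁ : g ∘ₗ l ∘ₗ l' = g ∘ₗ (s₀ • LinearMap.id) := by
    ext a; simpa [-EmbeddingLike.apply_eq_iff_eq, e] using congr(e ($H a))
  obtain ⟨s₁, hs₁⟩ := Module.Finite.exists_smul_of_comp_eq_of_isLocalizedModule S g _ _ H₁
  have H₂ : f ∘ₗ l' ∘ₗ l = f ∘ₗ (s₀ • LinearMap.id) := by
    rw [← LinearMap.comp_assoc, H, LinearMap.smul_comp, LinearMap.comp_assoc,
      ← IsLocalizedModule.map_comp S f g l, ← LinearMap.comp_assoc]
    change s₀ • (e.symm.toLinearMap ∘ₗ e.toLinearMap) ∘ₗ _ = _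
    simp [LinearMap.comp_smul]
  obtain ⟨s₂, hs₂⟩ := Module.Finite.exists_smul_of_comp_eq_of_isLocalizedModule S f _ _ H₂
  refine ⟨s₀ * s₁ * s₂, (s₀ * s₁ * s₂).2, fun T hT ↦ ?_⟩
  let Rₛ := Localization T
  let lₛ := LocalizedModule.map T l
  have hu := IsLocalization.map_units (M := T) Rₛ ⟨_, hT⟩
  have hu₀ : IsUnit (algebraMap R Rₛ s₀) := isUnit_of_dvd_unit
      (map_dvd (algebraMap R Rₛ) ⟨(s₁ : R) * s₂, by simp [mul_assoc]⟩) hu
  have hu₁ : IsUnit (algebraMap R Rₛ s₁) := isUnit_of_dvd_unit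
      (map_dvd (algebraMap R Rₛ) ⟨(s₀ : R) * s₂, by simp; ring⟩) hu
  have hu₂ : IsUnit (algebraMap R Rₛ s₂) := isUnit_of_dvd_unit
      (map_dvd (algebraMap R Rₛ) ⟨(s₀ : R) * s₁, by simp; ring⟩) hu
  let lₛ' := LocalizedModule.map T l'
  have H_left : ((hu₀.unit⁻¹).1 • lₛ') ∘ₗ lₛ = LinearMap.id := by
    apply ((Module.End.isUnit_iff _).mp (hu₂.map (algebraMap Rₛ (Module.End Rₛ _)))).1
    apply ((Module.End.isUnit_iff _).mp (hu₀.map (algebraMap Rₛ (Module.End Rₛ _)))).1
    simp only [Module.algebraMap_end_apply, algebraMap_smul, LinearMap.map_smul_of_tower]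
    rw [LinearMap.smul_comp, ← smul_assoc s₀.1, Algebra.smul_def s₀.1, IsUnit.mul_val_inv, one_smul]
    apply LinearMap.restrictScalars_injective R
    apply IsLocalizedModule.ext T (LocalizedModule.mkLinearMap T M)
      (IsLocalizedModule.map_units (LocalizedModule.mkLinearMap T M))
    ext x
    have : s₂.1 • l' (l x) = s₂.1 • s₀.1 • x := congr($hs₂ x)
    simp [lₛ, lₛ', LocalizedModule.smul'_mk, this]
  have H_right : lₛ ∘ₗ ((hu₀.unit⁻¹).1 • lₛ') = LinearMap.id := by
    apply ((Module.End.isUnit_iff _).mp (hu₁.map (algebraMap Rₛ (Module.End Rₛ _)))).1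
    apply ((Module.End.isUnit_iff _).mp (hu₀.map (algebraMap Rₛ (Module.End Rₛ _)))).1
    simp only [Module.algebraMap_end_apply, algebraMap_smul, LinearMap.map_smul_of_tower]
    rw [LinearMap.comp_smul, ← smul_assoc s₀.1, Algebra.smul_def s₀.1, IsUnit.mul_val_inv, one_smul]
    apply LinearMap.restrictScalars_injective R
    apply IsLocalizedModule.ext T (LocalizedModule.mkLinearMap T N)
      (IsLocalizedModule.map_units (LocalizedModule.mkLinearMap T N))
    ext x
    have : s₁.1 • l (l' x) = s₁.1 • s₀.1 • x := congr($hs₁ x)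
    simp [lₛ, lₛ', LocalizedModule.smul'_mk, this]
  let eₛ : LocalizedModule T M ≃ₗ[Rₛ] LocalizedModule T N :=
    { __ := lₛ,
      invFun := ((hu₀.unit⁻¹).1 • lₛ'),
      left_inv := fun x ↦ congr($H_left x),
      right_inv := fun x ↦ congr($H_right x) }
  exact eₛ.bijective

theorem isOpen_bijective_locus {R M N : Type u} [CommRing R] [AddCommGroup M] [Module R M]
    [Module.Finite R M] [AddCommGroup N] [Module R N] [Module.FinitePresentation R N]
    (φ : M →ₗ[R] N) :
    IsOpen {p : PrimeSpectrum R |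
      Function.Bijective (LocalizedModule.map p.asIdeal.primeCompl φ)} := by
  rw [isOpen_iff_forall_mem_open]
  intro p hp
  have hp' : Function.Bijective (IsLocalizedModule.map p.asIdeal.primeCompl
      (LocalizedModule.mkLinearMap p.asIdeal.primeCompl M)
      (LocalizedModule.mkLinearMap p.asIdeal.primeCompl N) φ) := hp
  obtain ⟨r, hr, h⟩ := exists_bijective_map_of_mem p.asIdeal.primeCompl
    (LocalizedModule.mkLinearMap p.asIdeal.primeCompl M)
    (LocalizedModule.mkLinearMap p.asIdeal.primeCompl N) φ hp'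
  refine ⟨PrimeSpectrum.basicOpen r, ?_, (PrimeSpectrum.basicOpen r).2, hr⟩
  intro q hq
  exact h q.asIdeal.primeCompl hq

end Groth.Agent.H11
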