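import Mathlib

/-!
# A finitely generated separably generated field is the fraction field of a hypersurface ring
-/

set_option autoImplicit false
set_option linter.style.haveILetI false
universe u

open Polynomial

namespace Groth.Agent.H11.BiratHypAlg

/-- Given a finitely generated field `K = Frac A` over `k` with a separating transcendence basis
`s`, there is a monic `g ∈ k[T₁..T_d][T]`, irreducible and separable over `k(T₁..T_d)`, and an
injective `k`-algebra map `k[T₁..T_d][T]/(g) → K` with fraction field `K`. -/
theorem exists_hypersurface (k : Type u) [Field k] (K : Type u) [Field K] [Algebra k K]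
    (A : Type u) [CommRing A] [Algebra k A] [Algebra.FiniteType k A] [Algebra A K]
    [IsScalarTower k A K] [IsFractionRing A K]
    (d : ℕ) (s : Fin d → K) (hs : IsTranscendenceBasis k s)
    (hsep : Algebra.IsSeparable ↥(IntermediateField.adjoin k (Set.range s)) K) :
    ∃ (g : Polynomial (MvPolynomial (Fin d) k)), g.Monic ∧
      Irreducible (g.map (algebraMap (MvPolynomial (Fin d) k)
        (FractionRing (MvPolynomial (Fin d) k)))) ∧
      (g.map (algebraMap (MvPolynomial (Fin d) k)
        (FractionRing (MvPolynomial (Fin d) k)))).Separable ∧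
      ∃ (φ : AdjoinRoot g →ₐ[k] K), Function.Injective φ ∧ ∀ z : K, ∃ x y, z = φ x / φ y := by
  classical
  have hind : AlgebraicIndependent k s := hs.1
  have hinj : Function.Injective (MvPolynomial.aeval s : MvPolynomial (Fin d) k →ₐ[k] K) :=
    algebraicIndependent_iff_injective_aeval.1 hind
  let ε : FractionRing (MvPolynomial (Fin d) k) ≃ₐ[k] ↥(IntermediateField.adjoin k (Set.range s)) :=
    hind.aevalEquivField
  letI algPK : Algebra (MvPolynomial (Fin d) k) K :=
    (MvPolynomial.aeval s : MvPolynomial (Fin d) k →ₐ[k] K).toRingHom.toAlgebra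
  letI algFrK : Algebra (FractionRing (MvPolynomial (Fin d) k)) K :=
    ((algebraMap ↥(IntermediateField.adjoin k (Set.range s)) K).comp
      ε.toRingEquiv.toRingHom).toAlgebra
  have hPK : ∀ p : MvPolynomial (Fin d) k, algebraMap (MvPolynomial (Fin d) k) K p =
      MvPolynomial.aeval s p := fun _ => rfl
  have hFrK : ∀ q : FractionRing (MvPolynomial (Fin d) k),
      algebraMap (FractionRing (MvPolynomial (Fin d) k)) K q = ((ε q : _) : K) := fun _ => rfl
  haveI t1 : IsScalarTower (MvPolynomial (Fin d) k) (FractionRing (MvPolynomial (Fin d) k)) K :=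
    IsScalarTower.of_algebraMap_eq (fun p => by
      rw [hPK, hFrK]
      exact (hind.aevalEquivField_algebraMap_apply_coe p).symm)
  haveI t2 : IsScalarTower k (FractionRing (MvPolynomial (Fin d) k)) K :=
    IsScalarTower.of_algebraMap_eq (fun r => by
      rw [hFrK, ε.commutes]; rfl)
  haveI t3 : IsScalarTower k (MvPolynomial (Fin d) k) K :=
    IsScalarTower.of_algebraMap_eq (fun r => by
      rw [hPK]; exact ((MvPolynomial.aeval s : MvPolynomial (Fin d) k →ₐ[k] K).commutes r).symm)
  haveI tf : Module.IsTorsionFree (MvPolynomial (Fin d) k) K :=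
    Module.isTorsionFree_iff_algebraMap_injective.mpr hinj
  haveI sepFr : Algebra.IsSeparable (FractionRing (MvPolynomial (Fin d) k)) K :=
    Algebra.IsSeparable.of_equiv_equiv (A₁ := ↥(IntermediateField.adjoin k (Set.range s)))
      (B₁ := K) ε.symm.toRingEquiv (RingEquiv.refl K) (by
        ext x
        change ((ε (ε.symm x) : _) : K) = algebraMap _ K x
        rw [ε.apply_symm_apply]; rfl)
  haveI algFr : Algebra.IsAlgebraic (FractionRing (MvPolynomial (Fin d) k)) K :=
    Algebra.IsSeparable.isAlgebraic _ _
  -- finite dimensionality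
  haveI fd : FiniteDimensional (FractionRing (MvPolynomial (Fin d) k)) K := by
    obtain ⟨t, ht⟩ := (Algebra.FiniteType.out : (⊤ : Subalgebra k A).FG)
    let E : IntermediateField (FractionRing (MvPolynomial (Fin d) k)) K :=
      IntermediateField.adjoin _ ((algebraMap A K) '' (t : Set A))
    haveI : Finite ↥((algebraMap A K) '' (t : Set A)) := (t.finite_toSet.image _).to_subtype
    haveI : FiniteDimensional (FractionRing (MvPolynomial (Fin d) k)) E :=
      IntermediateField.finiteDimensional_adjoin (fun x _ => Algebra.IsIntegral.isIntegral x)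
    have hA : ∀ x : A, algebraMap A K x ∈ E := by
      have hle : Algebra.adjoin k (t : Set A) ≤
          (E.toSubalgebra.restrictScalars k).comap (IsScalarTower.toAlgHom k A K) := by
        refine Algebra.adjoin_le ?_
        intro x hx
        exact IntermediateField.subset_adjoin _ _ ⟨x, hx, rfl⟩
      intro x
      have : x ∈ Algebra.adjoin k (t : Set A) := by rw [ht]; trivial
      exact hle this
    have hE : E = ⊤ := by
      rw [eq_top_iff]
      intro z _
      obtain ⟨x, y, hy, rfl⟩ := IsFractionRing.div_surjective (A := A) z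
      exact E.div_mem (hA x) (hA y)
    rw [hE] at this
    exact (IntermediateField.topEquiv (F := FractionRing (MvPolynomial (Fin d) k))
      (E := K)).toLinearEquiv.finiteDimensional
  obtain ⟨θ, hθ⟩ := Field.exists_primitive_element (FractionRing (MvPolynomial (Fin d) k)) K
  have hθalg : IsAlgebraic (MvPolynomial (Fin d) k) θ :=
    (IsFractionRing.isAlgebraic_iff (MvPolynomial (Fin d) k)
      (FractionRing (MvPolynomial (Fin d) k)) K).mpr (Algebra.IsAlgebraic.isAlgebraic θ)
  obtain ⟨c, hc0, hint⟩ := hθalg.exists_integral_multiple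
  set θ' : K := c • θ with hθ'
  have hcK : algebraMap (MvPolynomial (Fin d) k) K c ≠ 0 := by
    rw [hPK]; exact (map_ne_zero_iff _ hinj).mpr hc0
  have hθ'top : IntermediateField.adjoin (FractionRing (MvPolynomial (Fin d) k)) {θ'} = ⊤ := by
    rw [eq_top_iff, ← hθ, IntermediateField.adjoin_simple_le_iff]
    have h1 : θ = (algebraMap (FractionRing (MvPolynomial (Fin d) k)) K
        (algebraMap _ _ c))⁻¹ * θ' := by
      rw [← IsScalarTower.algebraMap_apply, hθ', Algebra.smul_def, ← mul_assoc,
        inv_mul_cancel₀ hcK, one_mul]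
    rw [h1]
    exact (IntermediateField.adjoin _ {θ'}).mul_mem
      ((IntermediateField.adjoin _ {θ'}).inv_mem
        ((IntermediateField.adjoin _ {θ'}).algebraMap_mem _))
      (IntermediateField.mem_adjoin_simple_self _ _)
  have hint' : IsIntegral (FractionRing (MvPolynomial (Fin d) k)) θ' :=
    Algebra.IsIntegral.isIntegral θ'
  have hmap : minpoly (FractionRing (MvPolynomial (Fin d) k)) θ' =
      (minpoly (MvPolynomial (Fin d) k) θ').map (algebraMap _ _) :=
    minpoly.isIntegrallyClosed_eq_field_fractions' _ hint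
  have hroot : (minpoly (MvPolynomial (Fin d) k) θ').eval₂
      (MvPolynomial.aeval s : MvPolynomial (Fin d) k →ₐ[k] K) θ' = 0 := by
    have := minpoly.aeval (MvPolynomial (Fin d) k) θ'
    rwa [Polynomial.aeval_def] at this
  refine ⟨minpoly (MvPolynomial (Fin d) k) θ', minpoly.monic hint, ?_, ?_,
    AdjoinRoot.liftAlgHom _ (MvPolynomial.aeval s : MvPolynomial (Fin d) k →ₐ[k] K) θ' hroot,
    ?_, ?_⟩
  · rw [← hmap]; exact minpoly.irreducible hint'
  · rw [← hmap]; exact Algebra.IsSeparable.isSeparable _ θ'
  · rw [injective_iff_map_eq_zero]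
    intro x hx
    obtain ⟨p, rfl⟩ := AdjoinRoot.mk_surjective x
    rw [AdjoinRoot.liftAlgHom_mk] at hx
    have hx' : Polynomial.aeval θ' p = 0 := by rw [Polynomial.aeval_def]; exact hx
    exact AdjoinRoot.mk_eq_zero.mpr (minpoly.isIntegrallyClosed_dvd hint hx')
  · intro z
    have hz : z ∈ (IntermediateField.adjoin (FractionRing (MvPolynomial (Fin d) k))
        {θ'}).toSubalgebra := by
      rw [hθ'top]; trivial
    rw [IntermediateField.adjoin_simple_toSubalgebra_of_isAlgebraic hint'.isAlgebraic,
      Algebra.adjoin_singleton_eq_range_aeval] at hz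
    obtain ⟨q, rfl⟩ := hz
    obtain ⟨⟨b, hb⟩, hbq⟩ := IsLocalization.integerNormalization_map_to_map
      (nonZeroDivisors (MvPolynomial (Fin d) k)) q
    have hb0 : b ≠ 0 := nonZeroDivisors.ne_zero hb
    have hbK : algebraMap (MvPolynomial (Fin d) k) K b ≠ 0 := by
      rw [hPK]; exact (map_ne_zero_iff _ hinj).mpr hb0
    refine ⟨AdjoinRoot.mk _ (IsLocalization.integerNormalization
      (nonZeroDivisors (MvPolynomial (Fin d) k)) q), AdjoinRoot.of _ b, ?_⟩
    have h1 : AdjoinRoot.liftAlgHom _ (MvPolynomial.aeval s : MvPolynomial (Fin d) k →ₐ[k] K) θ'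
        hroot (AdjoinRoot.of _ b) = algebraMap (MvPolynomial (Fin d) k) K b := by
      rw [← AdjoinRoot.mk_C, AdjoinRoot.liftAlgHom_mk, Polynomial.eval₂_C]; rfl
    have h2 : AdjoinRoot.liftAlgHom _ (MvPolynomial.aeval s : MvPolynomial (Fin d) k →ₐ[k] K) θ'
        hroot (AdjoinRoot.mk _ (IsLocalization.integerNormalization
          (nonZeroDivisors (MvPolynomial (Fin d) k)) q)) =
        algebraMap (MvPolynomial (Fin d) k) K b * Polynomial.aeval θ' q := by
      rw [AdjoinRoot.liftAlgHom_mk]
      have h3 := congrArg (Polynomial.aeval θ') hbq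
      have hb' : ((b : MvPolynomial (Fin d) k) • q :
          (FractionRing (MvPolynomial (Fin d) k))[X]) =
          Polynomial.C (algebraMap (MvPolynomial (Fin d) k)
            (FractionRing (MvPolynomial (Fin d) k)) b) * q := by
        rw [← Polynomial.smul_eq_C_mul, algebraMap_smul]
      rw [Polynomial.aeval_map_algebraMap, hb', map_mul, Polynomial.aeval_C,
        ← IsScalarTower.algebraMap_apply] at h3
      conv_lhs at h3 => rw [Polynomial.aeval_def]
      exact h3
    rw [h1, h2, mul_comm, mul_div_assoc, div_self hbK, mul_one]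
    rfl

end Groth.Agent.H11.BiratHypAlg
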