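import Mathlib

/-!
# Common localization of two finitely generated algebras with the same fraction field
-/

set_option autoImplicit false
set_option linter.style.haveILetI false
universe u

namespace Groth.Agent.H11.CommonLoc

section one

variable (k : Type*) [CommRing k] (A : Type*) [CommRing A] [IsDomain A] [Algebra k A]
  (K : Type*) [Field K] [Algebra k K] [Algebra A K] [IsScalarTower k A K] [IsFractionRing A K]

/-- The map `A[1/a] → K`. -/
noncomputable def locMap (a : A) (ha : a ≠ 0) : Localization.Away a →ₐ[k] K :=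
  IsLocalization.liftAlgHom (M := Submonoid.powers a) (f := IsScalarTower.toAlgHom k A K)
    (by
      rintro ⟨y, n, rfl⟩
      refine IsUnit.mk0 _ ?_
      simpa using pow_ne_zero n ((map_ne_zero_iff _ (IsFractionRing.injective A K)).mpr ha))

theorem locMap_algebraMap (a : A) (ha : a ≠ 0) (x : A) :
    locMap k A K a ha (algebraMap A (Localization.Away a) x) = algebraMap A K x := by
  simp [locMap]

theorem locMap_injective (a : A) (ha : a ≠ 0) : Function.Injective (locMap k A K a ha) := by
  have h1 : Function.Injective (algebraMap A (Localization.Away a)) :=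
    IsLocalization.injective _ (powers_le_nonZeroDivisors_of_noZeroDivisors ha)
  change Function.Injective (IsLocalization.lift (M := Submonoid.powers a) _)
  rw [IsLocalization.lift_injective_iff]
  intro x y
  change _ ↔ algebraMap A K x = algebraMap A K y
  rw [h1.eq_iff, (IsFractionRing.injective A K).eq_iff]

/-- The subalgebra `A[1/a] ⊆ K`. -/
noncomputable def locRange (a : A) (ha : a ≠ 0) : Subalgebra k K := (locMap k A K a ha).range

theorem algebraMap_mem_locRange (a : A) (ha : a ≠ 0) (x : A) :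
    algebraMap A K x ∈ locRange k A K a ha :=
  ⟨algebraMap A _ x, locMap_algebraMap k A K a ha x⟩

theorem inv_mem_locRange (a : A) (ha : a ≠ 0) :
    (algebraMap A K a)⁻¹ ∈ locRange k A K a ha := by
  refine ⟨IsLocalization.mk' _ (1 : A) (⟨a, Submonoid.mem_powers a⟩ : Submonoid.powers a), ?_⟩
  have ha' : algebraMap A K a ≠ 0 := (map_ne_zero_iff _ (IsFractionRing.injective A K)).mpr ha
  have h1 : locMap k A K a ha (IsLocalization.mk' _ (1 : A)
      (⟨a, Submonoid.mem_powers a⟩ : Submonoid.powers a)) * algebraMap A K a = 1 := by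
    have h0 := IsLocalization.mk'_spec (Localization.Away a) (1 : A)
      (⟨a, Submonoid.mem_powers a⟩ : Submonoid.powers a)
    rw [← locMap_algebraMap k A K a ha a, ← map_mul]
    erw [h0]
    rw [map_one, map_one]
  exact eq_inv_of_mul_eq_one_left h1

theorem locRange_le (a : A) (ha : a ≠ 0) (C : Subalgebra k K)
    (h1 : ∀ x : A, algebraMap A K x ∈ C) (h2 : (algebraMap A K a)⁻¹ ∈ C) :
    locRange k A K a ha ≤ C := by
  rintro _ ⟨z, rfl⟩
  obtain ⟨x, ⟨_, n, rfl⟩, rfl⟩ := IsLocalization.exists_mk'_eq (Submonoid.powers a) z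
  have ha' : algebraMap A K a ≠ 0 := (map_ne_zero_iff _ (IsFractionRing.injective A K)).mpr ha
  have h3 : (locMap k A K a ha) (IsLocalization.mk' _ x
      (⟨a ^ n, n, rfl⟩ : Submonoid.powers a)) * (algebraMap A K a) ^ n = algebraMap A K x := by
    have h0 := IsLocalization.mk'_spec (Localization.Away a) x
      (⟨a ^ n, n, rfl⟩ : Submonoid.powers a)
    rw [← map_pow, ← locMap_algebraMap k A K a ha (a ^ n), ← map_mul]
    erw [h0]
    rw [locMap_algebraMap]
  have h4 : (locMap k A K a ha) (IsLocalization.mk' _ x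
      (⟨a ^ n, n, rfl⟩ : Submonoid.powers a)) = algebraMap A K x * ((algebraMap A K a)⁻¹) ^ n := by
    rw [← h3, mul_assoc, ← mul_pow, mul_inv_cancel₀ ha', one_pow, mul_one]
  change (locMap k A K a ha) _ ∈ C
  rw [h4]
  exact C.mul_mem (h1 x) (C.pow_mem h2 n)

theorem exists_of_mem_locRange (a : A) (ha : a ≠ 0) (y : K) (hy : y ∈ locRange k A K a ha) :
    ∃ (x : A) (n : ℕ), y * (algebraMap A K a) ^ n = algebraMap A K x := by
  obtain ⟨z, rfl⟩ := hy
  obtain ⟨x, ⟨_, n, rfl⟩, rfl⟩ := IsLocalization.exists_mk'_eq (Submonoid.powers a) z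
  refine ⟨x, n, ?_⟩
  change (locMap k A K a ha) _ * _ = _
  have h0 := IsLocalization.mk'_spec (Localization.Away a) x
    (⟨a ^ n, n, rfl⟩ : Submonoid.powers a)
  rw [← map_pow, ← locMap_algebraMap k A K a ha (a ^ n), ← map_mul]
  erw [h0]
  rw [locMap_algebraMap]

end one

section two

variable (k : Type*) [CommRing k] (A B : Type*) [CommRing A] [IsDomain A] [Algebra k A]
  [CommRing B] [IsDomain B] [Algebra k B]
  (K : Type*) [Field K] [Algebra k K] [Algebra A K] [IsScalarTower k A K] [IsFractionRing A K]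
  [Algebra B K] [IsScalarTower k B K] [IsFractionRing B K]

/-- A finitely generated `B ⊆ K` lies in `A[1/a]` for a suitable `a`. -/
theorem exists_algebraMap_mem_locRange [Algebra.FiniteType k B] :
    ∃ (a : A) (ha : a ≠ 0), ∀ y : B, algebraMap B K y ∈ locRange k A K a ha := by
  classical
  obtain ⟨s, hs⟩ := (Algebra.FiniteType.out : (⊤ : Subalgebra k B).FG)
  obtain ⟨⟨a, ha0⟩, hint⟩ := IsLocalization.exist_integer_multiples_of_finset (nonZeroDivisors A)
    (s.image (algebraMap B K))
  have ha : a ≠ 0 := nonZeroDivisors.ne_zero ha0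
  refine ⟨a, ha, ?_⟩
  have ha' : algebraMap A K a ≠ 0 := (map_ne_zero_iff _ (IsFractionRing.injective A K)).mpr ha
  have hle : Algebra.adjoin k (s : Set B) ≤
      (locRange k A K a ha).comap (IsScalarTower.toAlgHom k B K) := by
    refine Algebra.adjoin_le ?_
    intro t ht
    change algebraMap B K t ∈ locRange k A K a ha
    obtain ⟨x, hx⟩ := hint _ (Finset.mem_image_of_mem _ ht)
    have hx' : algebraMap A K x = algebraMap A K a * algebraMap B K t := by
      rw [hx, Algebra.smul_def]
    have : algebraMap B K t = algebraMap A K x * (algebraMap A K a)⁻¹ := by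
      rw [hx', mul_comm, ← mul_assoc, inv_mul_cancel₀ ha', one_mul]
    rw [this]
    exact (locRange k A K a ha).mul_mem (algebraMap_mem_locRange k A K a ha x)
      (inv_mem_locRange k A K a ha)
  intro y
  have : y ∈ Algebra.adjoin k (s : Set B) := by rw [hs]; trivial
  exact hle this

/-- One inclusion between the localizations. -/
theorem locRange_le_locRange (a' w0 : A) (b' z0 : B) (ha' : a' ≠ 0) (hw0 : w0 ≠ 0) (hb' : b' ≠ 0)
    (hz0 : z0 ≠ 0) (l m : ℕ)
    (h1 : ∀ x : A, algebraMap A K x ∈ locRange k B K b' hb')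
    (h2 : algebraMap A K a' * (algebraMap B K b') ^ l = algebraMap B K z0)
    (h3 : algebraMap B K b' * (algebraMap A K a') ^ m = algebraMap A K w0) :
    locRange k A K (a' * w0) (mul_ne_zero ha' hw0) ≤
      locRange k B K (b' * z0) (mul_ne_zero hb' hz0) := by
  set C := locRange k B K (b' * z0) (mul_ne_zero hb' hz0) with hC
  have nA : ∀ {x : A}, x ≠ 0 → algebraMap A K x ≠ 0 := fun hx =>
    (map_ne_zero_iff _ (IsFractionRing.injective A K)).mpr hx
  have nB : ∀ {x : B}, x ≠ 0 → algebraMap B K x ≠ 0 := fun hx =>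
    (map_ne_zero_iff _ (IsFractionRing.injective B K)).mpr hx
  have hBC : ∀ y : B, algebraMap B K y ∈ C := algebraMap_mem_locRange k B K _ _
  have hbinv : (algebraMap B K (b' * z0))⁻¹ ∈ C := inv_mem_locRange k B K _ _
  have hb'inv : (algebraMap B K b')⁻¹ ∈ C := by
    have : (algebraMap B K b')⁻¹ = algebraMap B K z0 * (algebraMap B K (b' * z0))⁻¹ := by
      rw [map_mul, mul_inv, mul_comm (algebraMap B K b')⁻¹, ← mul_assoc,
        mul_inv_cancel₀ (nB hz0), one_mul]
    rw [this]; exact C.mul_mem (hBC _) hbinv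
  have hz0inv : (algebraMap B K z0)⁻¹ ∈ C := by
    have : (algebraMap B K z0)⁻¹ = algebraMap B K b' * (algebraMap B K (b' * z0))⁻¹ := by
      rw [map_mul, mul_inv, ← mul_assoc, mul_inv_cancel₀ (nB hb'), one_mul]
    rw [this]; exact C.mul_mem (hBC _) hbinv
  have hAC : ∀ x : A, algebraMap A K x ∈ C := fun x =>
    locRange_le k B K b' hb' C hBC hb'inv (h1 x)
  have ha'inv : (algebraMap A K a')⁻¹ ∈ C := by
    have : (algebraMap A K a')⁻¹ = (algebraMap B K b') ^ l * (algebraMap B K z0)⁻¹ := by
      rw [← h2, mul_inv, mul_comm (algebraMap A K a')⁻¹, ← mul_assoc,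
        mul_inv_cancel₀ (pow_ne_zero l (nB hb')), one_mul]
    rw [this]; exact C.mul_mem (C.pow_mem (hBC _) l) hz0inv
  have hw0inv : (algebraMap A K w0)⁻¹ ∈ C := by
    have : (algebraMap A K w0)⁻¹ = (algebraMap B K b')⁻¹ * ((algebraMap A K a')⁻¹) ^ m := by
      rw [← h3, mul_inv, inv_pow]
    rw [this]; exact C.mul_mem hb'inv (C.pow_mem ha'inv m)
  refine locRange_le k A K _ _ C hAC ?_
  rw [map_mul, mul_inv]
  exact C.mul_mem ha'inv hw0inv

end two

/-- **Common localization.** Two finitely generated `k`-algebras (domains) with a common fraction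
field have isomorphic principal localizations. -/
theorem exists_away_algEquiv (k : Type*) [CommRing k] (A B : Type*) [CommRing A] [IsDomain A]
    [Algebra k A] [CommRing B] [IsDomain B] [Algebra k B]
    (K : Type*) [Field K] [Algebra k K] [Algebra A K] [IsScalarTower k A K] [IsFractionRing A K]
    [Algebra B K] [IsScalarTower k B K] [IsFractionRing B K]
    [Algebra.FiniteType k A] [Algebra.FiniteType k B] :
    ∃ (a : A) (b : B), a ≠ 0 ∧ b ≠ 0 ∧
      Nonempty (Localization.Away a ≃ₐ[k] Localization.Away b) := by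
  obtain ⟨a', ha', hB⟩ := exists_algebraMap_mem_locRange k A B K
  obtain ⟨b', hb', hA⟩ := exists_algebraMap_mem_locRange k B A K
  have nA : ∀ {x : A}, x ≠ 0 → algebraMap A K x ≠ 0 := fun hx =>
    (map_ne_zero_iff _ (IsFractionRing.injective A K)).mpr hx
  have nB : ∀ {x : B}, x ≠ 0 → algebraMap B K x ≠ 0 := fun hx =>
    (map_ne_zero_iff _ (IsFractionRing.injective B K)).mpr hx
  obtain ⟨z0, l, h2⟩ := exists_of_mem_locRange k B K b' hb' _ (hA a')
  obtain ⟨w0, m, h3⟩ := exists_of_mem_locRange k A K a' ha' _ (hB b')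
  have hz0 : z0 ≠ 0 := by
    rintro rfl
    rw [map_zero] at h2
    exact mul_ne_zero (nA ha') (pow_ne_zero l (nB hb')) h2
  have hw0 : w0 ≠ 0 := by
    rintro rfl
    rw [map_zero] at h3
    exact mul_ne_zero (nB hb') (pow_ne_zero m (nA ha')) h3
  refine ⟨a' * w0, b' * z0, mul_ne_zero ha' hw0, mul_ne_zero hb' hz0, ?_⟩
  have heq : locRange k A K (a' * w0) (mul_ne_zero ha' hw0) =
      locRange k B K (b' * z0) (mul_ne_zero hb' hz0) :=
    le_antisymm (locRange_le_locRange k A B K a' w0 b' z0 ha' hw0 hb' hz0 l m hA h2 h3)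
      (locRange_le_locRange k B A K b' z0 a' w0 hb' hz0 ha' hw0 m l hB h3 h2)
  let eA := AlgEquiv.ofInjective (locMap k A K (a' * w0) (mul_ne_zero ha' hw0))
    (locMap_injective k A K _ _)
  let eB := AlgEquiv.ofInjective (locMap k B K (b' * z0) (mul_ne_zero hb' hz0))
    (locMap_injective k B K _ _)
  exact ⟨eA.trans ((Subalgebra.equivOfEq _ _ heq).trans eB.symm)⟩

end Groth.Agent.H11.CommonLoc
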