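import Mathlib
import Groth.Prelude.Def_Flat
import Groth.Prelude.Def_CurvBase
import Groth.Agent.H11.FtDim
import Groth.Agent.H17.Chev.TopLocalDim

/-!
# Affine charts of schemes locally of finite type over a field

For a scheme `X` over `Spec k`, an affine open `U` and `x ∈ U`, we relate the local dimension,
the local ring and the residue field of `X` at `x` to the corresponding ring-level data of the
`k`-algebra `Γ(X, U)` at the prime `hU.primeIdealOf ⟨x, hx⟩`.
-/

set_option autoImplicit false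
open CategoryTheory CategoryTheory.Limits AlgebraicGeometry TopologicalSpace Topology

universe u

namespace Groth.Agent.H11.FtChart

variable (k : Type u) [Field k] (X : Scheme.{u}) [X.Over (Spec (CommRingCat.of k))]

/-- The structure map `k → Γ(X, U)`. -/
noncomputable def secMap (U : X.Opens) : k →+* Γ(X, U) :=
  (X.presheaf.map (homOfLE (le_top : U ≤ ⊤)).op).hom.comp
    (Coh.toGlobal (X ↘ Spec (CommRingCat.of k)))

/-- The `k`-algebra structure on `Γ(X, U)`. -/
noncomputable abbrev secAlgebra (U : X.Opens) : Algebra k Γ(X, U) := (secMap k X U).toAlgebra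

theorem secMap_eq (U : X.Opens) :
    secMap k X U = ((X ↘ Spec (CommRingCat.of k)).appLE ⊤ U le_top).hom.comp
      (Scheme.ΓSpecIso (CommRingCat.of k)).inv.hom := by
  rfl

theorem finiteType_sec [LocallyOfFiniteType (X ↘ Spec (CommRingCat.of k))] {U : X.Opens}
    (hU : IsAffineOpen U) :
    letI := secAlgebra k X U
    Algebra.FiniteType k Γ(X, U) := by
  have h1 : ((X ↘ Spec (CommRingCat.of k)).appLE ⊤ U le_top).hom.FiniteType :=
    HasRingHomProperty.appLE (P := @LocallyOfFiniteType) _ inferInstance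
      ⟨⊤, isAffineOpen_top _⟩ ⟨U, hU⟩ le_top
  have h2 : (secMap k X U).FiniteType := by
    rw [secMap_eq]
    exact h1.comp (RingHom.FiniteType.of_surjective _
      (ConcreteCategory.bijective_of_isIso (Scheme.ΓSpecIso (CommRingCat.of k)).inv).2)
  exact h2


variable {X} {U : X.Opens} (hU : IsAffineOpen U) (x : X) (hx : x ∈ U)

include hU in
/-- Local dimension computed on an affine chart. -/
theorem localDim_eq :
    FlatMor.localDim X x =
      FlatMor.localDim (PrimeSpectrum Γ(X, U)) (hU.primeIdealOf ⟨x, hx⟩) := by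
  have h1 := Groth.Agent.H17.Chev.localDim_eq_of_isOpenEmbedding U.ι.isOpenEmbedding
    (⟨x, hx⟩ : U)
  have h2 := Groth.Agent.H17.Chev.localDim_eq_of_isOpenEmbedding
    hU.isoSpec.hom.homeomorph.isOpenEmbedding (⟨x, hx⟩ : U)
  exact h1.symm.trans h2

/-- Height of the prime of a point of an affine chart is the dimension of the local ring. -/
theorem height_eq :
    ((Order.height (hU.primeIdealOf ⟨x, hx⟩) : ℕ∞) : WithBot ℕ∞) =
      ringKrullDim (X.presheaf.stalk x) := by
  letI := X.presheaf.algebra_section_stalk ⟨x, hx⟩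
  have := hU.isLocalization_stalk ⟨x, hx⟩
  rw [IsLocalization.AtPrime.ringKrullDim_eq_height (hU.primeIdealOf ⟨x, hx⟩).asIdeal _,
    PrimeSpectrum.height_eq_orderHeight]

/-- Specialization in `X` between points of an affine chart is inclusion of primes. -/
theorem le_iff_specializes (y : X) (hy : y ∈ U) :
    hU.primeIdealOf ⟨x, hx⟩ ≤ hU.primeIdealOf ⟨y, hy⟩ ↔ x ⤳ y := by
  rw [PrimeSpectrum.le_iff_specializes]
  constructor
  · intro h
    have h1 := h.map hU.fromSpec.continuous
    rwa [hU.fromSpec_primeIdealOf ⟨x, hx⟩, hU.fromSpec_primeIdealOf ⟨y, hy⟩] at h1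
  · intro h
    have h1 : (⟨x, hx⟩ : U) ⤳ ⟨y, hy⟩ := (subtype_specializes_iff _ _).mpr h
    exact h1.map hU.isoSpec.hom.continuous

theorem fromSpec_mem (q : PrimeSpectrum Γ(X, U)) : hU.fromSpec q ∈ U := by
  have : hU.fromSpec q ∈ Set.range hU.fromSpec := ⟨q, rfl⟩
  rwa [hU.range_fromSpec] at this

theorem primeIdealOf_fromSpec (q : PrimeSpectrum Γ(X, U)) :
    hU.primeIdealOf ⟨hU.fromSpec q, fromSpec_mem hU q⟩ = q := by
  apply hU.fromSpec.isOpenEmbedding.injective
  exact hU.fromSpec_primeIdealOf ⟨hU.fromSpec q, fromSpec_mem hU q⟩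

/-- A closed point of `X` gives a maximal ideal on every affine chart. -/
theorem isMaximal_of_isClosed (hcl : IsClosed ({x} : Set X)) :
    (hU.primeIdealOf ⟨x, hx⟩).asIdeal.IsMaximal := by
  obtain ⟨M, hM, hle⟩ := Ideal.exists_le_maximal (hU.primeIdealOf ⟨x, hx⟩).asIdeal
    (hU.primeIdealOf ⟨x, hx⟩).2.ne_top
  let q : PrimeSpectrum Γ(X, U) := ⟨M, hM.isPrime⟩
  have h1 : hU.primeIdealOf ⟨x, hx⟩ ≤ hU.primeIdealOf ⟨hU.fromSpec q, fromSpec_mem hU q⟩ := by
    rw [primeIdealOf_fromSpec]
    exact hle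
  have h2 : x ⤳ hU.fromSpec q := (le_iff_specializes hU x hx _ _).mp h1
  have h3 : hU.fromSpec q ∈ closure ({x} : Set X) := specializes_iff_mem_closure.mp h2
  rw [hcl.closure_eq, Set.mem_singleton_iff] at h3
  have h4 : hU.primeIdealOf ⟨x, hx⟩ = q := by
    rw [← primeIdealOf_fromSpec hU q]
    congr 1
    exact Subtype.ext h3.symm
  rw [h4]
  exact hM

/-- The residue field of `X` at `x` and the residue field of the prime of `x` on an affine chart
have the same transcendence degree over `k`. -/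
theorem trdeg_eq :
    letI := secAlgebra k X U
    letI := Curv2.resAlgebra k X x
    Algebra.trdeg k (hU.primeIdealOf ⟨x, hx⟩).asIdeal.ResidueField =
      Algebra.trdeg k (X.residueField x) := by
  letI := secAlgebra k X U
  letI := Curv2.resAlgebra k X x
  letI algA := X.presheaf.algebra_section_stalk ⟨x, hx⟩
  haveI := hU.isLocalization_stalk ⟨x, hx⟩
  let e₁ : Localization.AtPrime (hU.primeIdealOf ⟨x, hx⟩).asIdeal ≃ₐ[Γ(X, U)] X.presheaf.stalk x :=
    IsLocalization.algEquiv (hU.primeIdealOf ⟨x, hx⟩).asIdeal.primeCompl _ _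
  let e₂ : (hU.primeIdealOf ⟨x, hx⟩).asIdeal.ResidueField ≃+* X.residueField x :=
    IsLocalRing.ResidueField.mapEquiv e₁.toRingEquiv
  have hcomm : ∀ c : k, e₂ (algebraMap k (hU.primeIdealOf ⟨x, hx⟩).asIdeal.ResidueField c) =
      algebraMap k (X.residueField x) c := by
    intro c
    rw [IsScalarTower.algebraMap_apply k Γ(X, U) (hU.primeIdealOf ⟨x, hx⟩).asIdeal.ResidueField]
    have h1 : algebraMap Γ(X, U) (hU.primeIdealOf ⟨x, hx⟩).asIdeal.ResidueField
        (algebraMap k Γ(X, U) c) =
        IsLocalRing.residue _ (algebraMap Γ(X, U)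
          (Localization.AtPrime (hU.primeIdealOf ⟨x, hx⟩).asIdeal) (algebraMap k Γ(X, U) c)) := rfl
    rw [h1]
    have h2 : ∀ y : Localization.AtPrime (hU.primeIdealOf ⟨x, hx⟩).asIdeal,
        e₂ (IsLocalRing.residue _ y) = IsLocalRing.residue _ (e₁ y) := fun y => rfl
    rw [h2, e₁.commutes]
    have h3 : algebraMap Γ(X, U) (X.presheaf.stalk x) (algebraMap k Γ(X, U) c) =
        Curv2.stalkMap k X x c := by
      change (X.presheaf.germ U x hx).hom ((X.presheaf.map (homOfLE (le_top : U ≤ ⊤)).op).hom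
        (Coh.toGlobal (X ↘ Spec (CommRingCat.of k)) c)) =
        (X.presheaf.germ ⊤ x trivial).hom (Coh.toGlobal (X ↘ Spec (CommRingCat.of k)) c)
      exact TopCat.Presheaf.germ_res_apply X.presheaf (homOfLE (le_top : U ≤ ⊤)) x hx _
    rw [h3]
    rfl
  let e : (hU.primeIdealOf ⟨x, hx⟩).asIdeal.ResidueField ≃ₐ[k] X.residueField x :=
    AlgEquiv.ofRingEquiv (f := e₂) hcomm
  exact e.trdeg_eq

end Groth.Agent.H11.FtChart
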