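import Mathlib
import Groth.Prelude.Def_CurvBase
import Groth.Agent.H11.CommonLoc
import Groth.Agent.H11.BiratHypAlg
import Groth.Agent.H11.FtChart
import Groth.Agent.H11.FlatModPowSch

/-!
# An integral scheme of finite type with separably generated function field is birational to a
hypersurface
-/

set_option autoImplicit false
set_option linter.style.haveILetI false
universe u

open CategoryTheory AlgebraicGeometry
attribute [local instance] Curv2.stalkAlgebra

namespace Groth.Agent.H11.BiratHypSch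

open Groth.Agent.H11.FtChart Groth.Agent.H11.FlatModPowSch

theorem main (k : Type u) [Field k]
    (X : Scheme.{u}) [X.Over (Spec (CommRingCat.of k))] [IsIntegral X]
    [LocallyOfFiniteType (X ↘ Spec (CommRingCat.of k))]
    (d : ℕ) (s : Fin d → X.presheaf.stalk (genericPoint X)) (hs : IsTranscendenceBasis k s)
    (hsep : Algebra.IsSeparable ↥(IntermediateField.adjoin k (Set.range s))
      (X.presheaf.stalk (genericPoint X))) :
    ∃ (g : Polynomial (MvPolynomial (Fin d) k)), g.Monic ∧
      Irreducible (g.map (algebraMap (MvPolynomial (Fin d) k)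
        (FractionRing (MvPolynomial (Fin d) k)))) ∧
      (g.map (algebraMap (MvPolynomial (Fin d) k)
        (FractionRing (MvPolynomial (Fin d) k)))).Separable ∧
      ∃ (U : X.Opens) (V : (Spec (CommRingCat.of (AdjoinRoot g))).Opens)
        (e : (U : Scheme.{u}) ≅ (V : Scheme.{u})),
        (U : Set X).Nonempty ∧ (V : Set (Spec (CommRingCat.of (AdjoinRoot g)))).Nonempty ∧
        e.hom ≫ V.ι ≫ Spec.map (CommRingCat.ofHom (algebraMap k (AdjoinRoot g))) =
          U.ι ≫ (X ↘ Spec (CommRingCat.of k)) := by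
  classical
  set f := X ↘ Spec (CommRingCat.of k) with hf
  -- an affine open
  obtain ⟨_, ⟨U₀, hU₀, rfl⟩, hηU₀, -⟩ :=
    X.isBasis_affineOpens.exists_subset_of_mem_open (Set.mem_univ (genericPoint X)) isOpen_univ
  haveI : Nonempty U₀ := ⟨⟨(genericPoint X), hηU₀⟩⟩
  letI algA : Algebra k Γ(X, U₀) := secAlgebra k X U₀
  haveI ftA : Algebra.FiniteType k Γ(X, U₀) := finiteType_sec k X hU₀
  haveI frA : IsFractionRing Γ(X, U₀) (X.presheaf.stalk (genericPoint X)) :=
    functionField_isFractionRing_of_isAffineOpen X U₀ hU₀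
  haveI tA : IsScalarTower k Γ(X, U₀) (X.presheaf.stalk (genericPoint X)) := .of_algebraMap_eq fun c => by
    change (X.presheaf.germ ⊤ (genericPoint X) trivial).hom (Coh.toGlobal f c) =
      (X.presheaf.germ U₀ (genericPoint X) hηU₀).hom ((X.presheaf.map (homOfLE le_top).op).hom (Coh.toGlobal f c))
    rw [← CommRingCat.comp_apply, TopCat.Presheaf.germ_res]
  obtain ⟨g, hmonic, hirr, hsepg, φ, hφinj, hφfrac⟩ :=
    Groth.Agent.H11.BiratHypAlg.exists_hypersurface k (X.presheaf.stalk (genericPoint X)) Γ(X, U₀) d s hs hsep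
  refine ⟨g, hmonic, hirr, hsepg, ?_⟩
  letI algBK : Algebra (AdjoinRoot g) (X.presheaf.stalk (genericPoint X)) := φ.toRingHom.toAlgebra
  haveI tB : IsScalarTower k (AdjoinRoot g) (X.presheaf.stalk (genericPoint X)) := .of_algebraMap_eq fun c =>
    (φ.commutes c).symm
  haveI : FaithfulSMul (AdjoinRoot g) (X.presheaf.stalk (genericPoint X)) :=
    (faithfulSMul_iff_algebraMap_injective _ _).mpr hφinj
  haveI frB : IsFractionRing (AdjoinRoot g) (X.presheaf.stalk (genericPoint X)) :=
    IsFractionRing.of_field (surj := hφfrac)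
  haveI domB : IsDomain (AdjoinRoot g) := hφinj.isDomain φ.toRingHom
  haveI ftB : Algebra.FiniteType k (AdjoinRoot g) :=
    Algebra.FiniteType.trans (inferInstance : Algebra.FiniteType k (MvPolynomial (Fin d) k))
      inferInstance
  obtain ⟨a, b, ha, hb, ⟨e⟩⟩ := Groth.Agent.H11.CommonLoc.exists_away_algEquiv k Γ(X, U₀)
    (AdjoinRoot g) (X.presheaf.stalk (genericPoint X))
  -- the open sets
  have hU : IsAffineOpen (X.basicOpen a) := hU₀.basicOpen a
  letI algAU : Algebra Γ(X, U₀) Γ(X, X.basicOpen a) :=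
    (X.presheaf.map (homOfLE (X.basicOpen_le a)).op).hom.toAlgebra
  haveI locU : IsLocalization.Away a Γ(X, X.basicOpen a) := hU₀.isLocalization_basicOpen a
  let eA : Localization.Away a ≃ₐ[Γ(X, U₀)] Γ(X, X.basicOpen a) :=
    IsLocalization.algEquiv (Submonoid.powers a) _ _
  let ρ : Localization.Away b ≃+* Γ(X, X.basicOpen a) :=
    e.symm.toRingEquiv.trans eA.toRingEquiv
  have hρ : ρ.toRingHom.comp ((algebraMap (AdjoinRoot g) (Localization.Away b)).comp
      (algebraMap k (AdjoinRoot g))) = (sec k f (X.basicOpen a)).hom := by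
    ext c
    change eA (e.symm (algebraMap (AdjoinRoot g) (Localization.Away b)
      (algebraMap k (AdjoinRoot g) c))) = _
    rw [← IsScalarTower.algebraMap_apply, e.symm.commutes,
      IsScalarTower.algebraMap_apply k Γ(X, U₀) (Localization.Away a), eA.commutes]
    change (X.presheaf.map (homOfLE (X.basicOpen_le a)).op).hom
      ((X.presheaf.map (homOfLE le_top).op).hom (Coh.toGlobal f c)) =
      (X.presheaf.map (homOfLE le_top).op).hom (Coh.toGlobal f c)
    rw [← CommRingCat.comp_apply, ← Functor.map_comp]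
    rfl
  let σ : Spec Γ(X, X.basicOpen a) ≅ Spec (CommRingCat.of (Localization.Away b)) :=
    { hom := Spec.map (CommRingCat.ofHom ρ.toRingHom)
      inv := Spec.map (CommRingCat.ofHom ρ.symm.toRingHom)
      hom_inv_id := by
        rw [← Spec.map_comp, ← CommRingCat.ofHom_comp]
        have : ρ.toRingHom.comp ρ.symm.toRingHom = RingHom.id _ := by ext x; simp
        rw [this]; exact Spec.map_id _
      inv_hom_id := by
        rw [← Spec.map_comp, ← CommRingCat.ofHom_comp]
        have : ρ.symm.toRingHom.comp ρ.toRingHom = RingHom.id _ := by ext x; simp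
        rw [this]; exact Spec.map_id _ }
  let V : (Spec (CommRingCat.of (AdjoinRoot g))).Opens :=
    PrimeSpectrum.basicOpen (R := AdjoinRoot g) b
  refine ⟨X.basicOpen a, V, hU.isoSpec ≪≫ σ ≪≫
    (basicOpenIsoSpecAway (R := CommRingCat.of (AdjoinRoot g)) b).symm, ?_, ?_, ?_⟩
  · refine ⟨(genericPoint X), ?_⟩
    rw [SetLike.mem_coe, Scheme.mem_basicOpen _ _ _ hηU₀]
    have h1 : algebraMap Γ(X, U₀) (X.presheaf.stalk (genericPoint X)) a ≠ 0 :=
      (map_ne_zero_iff _ (IsFractionRing.injective Γ(X, U₀) (X.presheaf.stalk (genericPoint X)))).mpr ha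
    exact IsUnit.mk0 _ h1
  · refine ⟨⟨⊥, Ideal.isPrime_bot⟩, ?_⟩
    change (⟨⊥, Ideal.isPrime_bot⟩ : PrimeSpectrum (AdjoinRoot g)) ∈
      PrimeSpectrum.basicOpen (R := AdjoinRoot g) b
    rw [PrimeSpectrum.mem_basicOpen]
    exact fun h => hb (by simpa using h)
  · have h1 : V.ι = (basicOpenIsoSpecAway (R := CommRingCat.of (AdjoinRoot g)) b).hom ≫
        Spec.map (CommRingCat.ofHom (algebraMap (AdjoinRoot g) (Localization.Away b))) :=
      (basicOpenIsoSpecAway_hom_SpecMap (R := CommRingCat.of (AdjoinRoot g)) b).symm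
    simp only [Iso.trans_hom, Iso.symm_hom, Category.assoc]
    rw [h1]
    simp only [Category.assoc]
    rw [Iso.inv_hom_id_assoc]
    change hU.isoSpec.hom ≫ Spec.map (CommRingCat.ofHom ρ.toRingHom) ≫ _ ≫ _ = _
    rw [← Spec.map_comp, ← Spec.map_comp, ← CommRingCat.ofHom_comp, ← CommRingCat.ofHom_comp,
      hρ]
    have h2 : Spec.map (CommRingCat.ofHom (sec k f (X.basicOpen a)).hom) =
        hU.fromSpec ≫ f := (fromSpec_comp k f hU).symm
    rw [h2, ← hU.isoSpec_inv_ι, Category.assoc, Iso.hom_inv_id_assoc]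

end Groth.Agent.H11.BiratHypSch
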