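import Mathlib

/-!
# Algebras over a field with few generators: residue fields are algebraic
-/

namespace Groth.Agent.H11.CardJac

open Cardinal

universe u

/-- A field extension of small dimension is algebraic. -/
theorem isAlgebraic_of_rank_lt {k K : Type u} [Field k] [Field K] [Algebra k K]
    (h : Module.rank k K < #k) : Algebra.IsAlgebraic k K := by
  by_contra hna
  rw [← Algebra.transcendental_iff_not_isAlgebraic] at hna
  obtain ⟨x, hx⟩ := hna.transcendental
  have := hx.linearIndependent_sub_inv.cardinal_le_rank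
  exact absurd (lt_of_le_of_lt this h) (lt_irrefl _)

/-- rank bound for a quotient of a polynomial algebra in infinitely many variables -/
theorem rank_le_of_surjective {k T σ : Type u} [Field k] [CommRing T] [Algebra k T] [Infinite σ]
    (Φ : MvPolynomial σ k →ₐ[k] T) (hΦ : Function.Surjective Φ) :
    Module.rank k T ≤ #σ := by
  have h1 := Φ.toLinearMap.rank_le_of_surjective hΦ
  rw [MvPolynomial.rank_eq, mk_finsupp_nat, max_eq_left (aleph0_le_mk σ)] at h1
  exact h1

theorem isAlgebraic_quotient {k T σ : Type u} [Field k] [CommRing T] [Algebra k T] [Infinite σ]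
    (Φ : MvPolynomial σ k →ₐ[k] T) (hΦ : Function.Surjective Φ) (hσ : #σ < #k)
    (m : Ideal T) [m.IsMaximal] : Algebra.IsAlgebraic k (T ⧸ m) := by
  letI := Ideal.Quotient.field m
  apply isAlgebraic_of_rank_lt
  have h1 := rank_le_of_surjective Φ hΦ
  have h2 := (Ideal.Quotient.mkₐ k m).toLinearMap.rank_le_of_surjective
    (Ideal.Quotient.mkₐ_surjective k m)
  exact lt_of_le_of_lt (h2.trans h1) hσ


theorem isJacobsonRing_of_surjective {k S σ : Type u} [Field k] [CommRing S] [Algebra k S]
    [Infinite σ] (Φ : MvPolynomial σ k →ₐ[k] S) (hΦ : Function.Surjective Φ) (hσ : #σ < #k) :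
    IsJacobsonRing S := by
  classical
  rw [isJacobsonRing_iff_prime_eq]
  intro P hP
  refine le_antisymm ?_ Ideal.le_jacobson
  intro f hf
  by_contra hfP
  let D := S ⧸ P
  let fbar : D := Ideal.Quotient.mk P f
  have hfbar : fbar ≠ 0 := by
    intro h0
    exact hfP (Ideal.Quotient.eq_zero_iff_mem.mp h0)
  let T := Localization.Away fbar
  have hinj : Function.Injective (algebraMap D T) :=
    IsLocalization.injective T (powers_le_nonZeroDivisors_of_noZeroDivisors hfbar)
  haveI : Nontrivial T := ⟨⟨algebraMap D T 1, algebraMap D T 0, fun h => one_ne_zero (hinj h)⟩⟩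
  let ρ : S →ₐ[k] T := (IsScalarTower.toAlgHom k D T).comp (Ideal.Quotient.mkₐ k P)
  let g : Option σ → T := fun o => o.elim (IsLocalization.Away.invSelf fbar)
    (fun i => ρ (Φ (MvPolynomial.X i)))
  let Ψ : MvPolynomial (Option σ) k →ₐ[k] T := MvPolynomial.aeval g
  have hΨρ : ∀ q : MvPolynomial σ k, Ψ (MvPolynomial.rename some q) = ρ (Φ q) := by
    intro q
    have : (Ψ.comp (MvPolynomial.rename some)) = ρ.comp Φ := by
      apply MvPolynomial.algHom_ext
      intro i
      simp [Ψ, g]
    exact DFunLike.congr_fun this q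
  have hΨ : Function.Surjective Ψ := by
    intro z
    obtain ⟨n, d, hz⟩ := IsLocalization.Away.surj fbar z
    have h1 : algebraMap D T fbar * IsLocalization.Away.invSelf fbar = 1 :=
      IsLocalization.Away.mul_invSelf fbar
    have hz' : z = algebraMap D T d * (IsLocalization.Away.invSelf fbar) ^ n := by
      calc z = z * (algebraMap D T fbar * IsLocalization.Away.invSelf fbar) ^ n := by
            rw [h1, one_pow, mul_one]
        _ = (z * algebraMap D T fbar ^ n) * (IsLocalization.Away.invSelf fbar) ^ n := by ring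
        _ = _ := by rw [hz]
    obtain ⟨s0, rfl⟩ := Ideal.Quotient.mk_surjective d
    obtain ⟨q, rfl⟩ := hΦ s0
    refine ⟨MvPolynomial.rename some q * MvPolynomial.X none ^ n, ?_⟩
    rw [map_mul, map_pow, hΨρ, hz']
    have : Ψ (MvPolynomial.X none) = IsLocalization.Away.invSelf fbar := by
      simp [Ψ, g]
    rw [this]
    rfl
  -- a maximal ideal of `T`
  obtain ⟨M, hM⟩ := Ideal.exists_maximal T
  have hcard : #(Option σ) < #k := by
    rw [mk_option, Cardinal.add_one_eq (aleph0_le_mk σ)]
    exact hσ
  haveI := isAlgebraic_quotient Ψ hΨ hcard M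
  let m : Ideal S := M.comap ρ
  have hPm : P ≤ m := by
    intro x hx
    change ρ x ∈ M
    have : ρ x = 0 := by
      change algebraMap D T (Ideal.Quotient.mk P x) = 0
      rw [Ideal.Quotient.eq_zero_iff_mem.mpr hx, map_zero]
    rw [this]
    exact M.zero_mem
  have hfm : f ∉ m := by
    intro hfm
    have hu : IsUnit (ρ f) := IsLocalization.Away.algebraMap_isUnit fbar
    exact hM.ne_top (Ideal.eq_top_of_isUnit_mem _ hfm hu)
  have hmmax : m.IsMaximal := by
    haveI : m.IsPrime := Ideal.comap_isPrime ρ M
    let j : S ⧸ m →ₐ[k] T ⧸ M := Ideal.quotientMapₐ M ρ (le_refl _)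
    have hj : Function.Injective j := Ideal.quotientMap_injective
    haveI : Algebra.IsAlgebraic k (S ⧸ m) := Algebra.IsAlgebraic.of_injective j hj
    haveI : Algebra.IsIntegral k (S ⧸ m) := Algebra.IsAlgebraic.isIntegral
    exact Ideal.Quotient.maximal_of_isField m
      (isField_of_isIntegral_of_isField' (Field.toIsField k))
  have : f ∈ m := by
    rw [Ideal.jacobson, Ideal.mem_sInf] at hf
    exact hf ⟨hPm, hmmax⟩
  exact hfm this

end Groth.Agent.H11.CardJac
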