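import Mathlib
import Groth.Prelude.Def_Flat
import Groth.Agent.H11.FtDim
import Groth.Agent.H51.SpDim2

/-!
# Local dimension at smooth points of finite type algebras over a field

* `finrank_fibre_kaehler_of_formallyEtale`: the fibre dimension of `Ω` is invariant under formally
  étale maps.
* `localDim_eq_finrank_of_isSmoothAt`: at a smooth point `q` of a finite type `k`-algebra `S`, the
  local dimension of `Spec S` equals `dim_κ(q) κ(q) ⊗ Ω[S/k]`.
-/

set_option autoImplicit false

namespace Groth.Agent.H11.SmoothDim1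

open TensorProduct

universe u

section F

variable (k S T : Type*) [CommRing k] [CommRing S] [CommRing T] [Algebra k S] [Algebra k T]
  [Algebra S T] [IsScalarTower k S T] [Algebra.FormallyEtale S T]
  (K L : Type*) [Field K] [Field L] [Algebra S K] [Algebra T L] [Algebra K L] [Algebra S L]
  [IsScalarTower S T L] [IsScalarTower S K L]

/-- Invariance of the fibre dimension of Kähler differentials under formally étale maps. -/
theorem finrank_fibre_kaehler_of_formallyEtale :
    Module.finrank L (L ⊗[T] Ω[T⁄k]) = Module.finrank K (K ⊗[S] Ω[S⁄k]) := by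
  let e1 : T ⊗[S] Ω[S⁄k] ≃ₗ[T] Ω[T⁄k] := KaehlerDifferential.tensorKaehlerEquivOfFormallyEtale k S T
  let e2 : L ⊗[T] Ω[T⁄k] ≃ₗ[L] L ⊗[T] (T ⊗[S] Ω[S⁄k]) :=
    (TensorProduct.AlgebraTensorModule.congr (LinearEquiv.refl L L) e1).symm
  let e3 : L ⊗[T] (T ⊗[S] Ω[S⁄k]) ≃ₗ[L] L ⊗[S] Ω[S⁄k] :=
    TensorProduct.AlgebraTensorModule.cancelBaseChange S T L L Ω[S⁄k]
  let e4 : L ⊗[K] (K ⊗[S] Ω[S⁄k]) ≃ₗ[L] L ⊗[S] Ω[S⁄k] :=
    TensorProduct.AlgebraTensorModule.cancelBaseChange S K L L Ω[S⁄k]
  rw [(e2.trans (e3.trans e4.symm)).finrank_eq, Module.finrank_baseChange]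

end F

section F'

variable (k : Type*) {S T : Type*} [CommRing k] [CommRing S] [CommRing T] [Algebra k S]
  [Algebra k T]

/-- Invariance of the fibre dimension of Kähler differentials at a prime under formally étale
maps. -/
theorem finrank_residueField_kaehler_of_formallyEtale [Algebra S T] [IsScalarTower k S T]
    [Algebra.FormallyEtale S T] (Q : Ideal T) [Q.IsPrime] (q : Ideal S) [q.IsPrime]
    (hq : q = Q.comap (algebraMap S T)) :
    Module.finrank Q.ResidueField (Q.ResidueField ⊗[T] Ω[T⁄k]) =
      Module.finrank q.ResidueField (q.ResidueField ⊗[S] Ω[S⁄k]) := by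
  letI : Algebra q.ResidueField Q.ResidueField :=
    (Ideal.ResidueField.map q Q (algebraMap S T) hq).toAlgebra
  haveI : IsScalarTower S q.ResidueField Q.ResidueField := by
    refine IsScalarTower.of_algebraMap_eq fun x => ?_
    rw [RingHom.algebraMap_toAlgebra, Ideal.ResidueField.map_algebraMap,
      ← IsScalarTower.algebraMap_apply]
  exact finrank_fibre_kaehler_of_formallyEtale k S T q.ResidueField Q.ResidueField

/-- Version for an algebra homomorphism. -/
theorem finrank_residueField_kaehler_of_algHom (f : S →ₐ[k] T) (hf : f.toRingHom.FormallyEtale)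
    (Q : Ideal T) [Q.IsPrime] (q : Ideal S) [q.IsPrime] (hq : q = Q.comap f.toRingHom) :
    Module.finrank Q.ResidueField (Q.ResidueField ⊗[T] Ω[T⁄k]) =
      Module.finrank q.ResidueField (q.ResidueField ⊗[S] Ω[S⁄k]) := by
  letI : Algebra S T := f.toRingHom.toAlgebra
  haveI : IsScalarTower k S T := IsScalarTower.of_algebraMap_eq fun x => (f.commutes x).symm
  haveI : Algebra.FormallyEtale S T := hf
  exact finrank_residueField_kaehler_of_formallyEtale k Q q hq

end F'

section D

open AlgebraicGeometry

theorem localDim_comap_of_etale {R T : Type u} [CommRing R] [CommRing T] (f : R →+* T)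
    (hf : f.Etale) (Q : PrimeSpectrum T) :
    FlatMor.localDim (PrimeSpectrum T) Q =
      FlatMor.localDim (PrimeSpectrum R) (PrimeSpectrum.comap f Q) := by
  have : Etale (Spec.map (CommRingCat.ofHom f)) :=
    (HasRingHomProperty.Spec_iff (P := @Etale)).mpr hf
  exact Groth.Agent.H51.localDim_eq_of_etale (Spec.map (CommRingCat.ofHom f)) Q

theorem localDim_comap_away {R : Type u} [CommRing R] (g : R)
    (Q : PrimeSpectrum (Localization.Away g)) :
    FlatMor.localDim (PrimeSpectrum (Localization.Away g)) Q =
      FlatMor.localDim (PrimeSpectrum R)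
        (PrimeSpectrum.comap (algebraMap R (Localization.Away g)) Q) :=
  Groth.Agent.H51.localDim_eq_of_etale
    (Spec.map (CommRingCat.ofHom (algebraMap R (Localization.Away g)))) Q

variable (k : Type u) [Field k]

theorem localDim_mvPolynomial (e : ℕ) (P : PrimeSpectrum (MvPolynomial (Fin e) k)) :
    FlatMor.localDim (PrimeSpectrum (MvPolynomial (Fin e) k)) P = (e : WithBot ℕ∞) := by
  rw [Groth.Agent.H11.FtDim.localDim_eq_height_add_coheight (k := k),
    Groth.Agent.H11.FtDim.height_add_coheight_eq k,
    Groth.Agent.H54.ringKrullDim_mvPolynomial_fin_field]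

/-- At a smooth point of a finite type algebra over a field, the local dimension is the fibre
dimension of the module of differentials. -/
theorem localDim_eq_finrank_of_isSmoothAt {S : Type u} [CommRing S] [Algebra k S]
    [Algebra.FiniteType k S] (q : Ideal S) [q.IsPrime] [Algebra.IsSmoothAt k q] :
    FlatMor.localDim (PrimeSpectrum S) ⟨q, inferInstance⟩ =
      ((Module.finrank q.ResidueField (q.ResidueField ⊗[S] Ω[S⁄k]) : ℕ∞) : WithBot ℕ∞) := by
  haveI : Algebra.FinitePresentation k S :=
    Algebra.FinitePresentation.of_finiteType.mp inferInstance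
  obtain ⟨g, hg, hstd⟩ := Algebra.IsSmoothAt.exists_notMem_isStandardSmooth k q
  obtain ⟨ι, σ, _, _, ⟨P⟩⟩ := hstd.out
  haveI : Algebra.IsStandardSmoothOfRelativeDimension P.dimension k (Localization.Away g) :=
    ⟨_, _, _, ‹_›, P, rfl⟩
  obtain ⟨φ, hφ⟩ := Algebra.IsStandardSmoothOfRelativeDimension.exists_etale_mvPolynomial
    P.dimension k (Localization.Away g)
  have hu : IsUnit (algebraMap S q.ResidueField g) := by
    rw [isUnit_iff_ne_zero, Ne, Ideal.algebraMap_residueField_eq_zero]
    exact hg
  let ψ : Localization.Away g →+* q.ResidueField := IsLocalization.Away.lift g hu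
  letI : Algebra (Localization.Away g) q.ResidueField := ψ.toAlgebra
  haveI : IsScalarTower S (Localization.Away g) q.ResidueField :=
    IsScalarTower.of_algebraMap_eq fun x => (IsLocalization.Away.lift_eq g hu x).symm
  let Q : PrimeSpectrum (Localization.Away g) := ⟨RingHom.ker ψ, RingHom.ker_isPrime ψ⟩
  have hQ : PrimeSpectrum.comap (algebraMap S (Localization.Away g)) Q = ⟨q, inferInstance⟩ := by
    ext x
    change algebraMap S (Localization.Away g) x ∈ RingHom.ker ψ ↔ x ∈ q
    rw [RingHom.mem_ker, IsLocalization.Away.lift_eq, Ideal.algebraMap_residueField_eq_zero]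
  haveI : Algebra.FormallyEtale S (Localization.Away g) :=
    Algebra.FormallyEtale.of_isLocalization (Submonoid.powers g)
  have h1 := finrank_fibre_kaehler_of_formallyEtale k S (Localization.Away g)
    q.ResidueField q.ResidueField
  have h2 : Module.finrank q.ResidueField (q.ResidueField ⊗[Localization.Away g]
      Ω[Localization.Away g⁄k]) = P.dimension := by
    haveI : Nontrivial (Localization.Away g) := ψ.domain_nontrivial
    rw [Module.finrank_baseChange]
    exact Module.finrank_eq_of_rank_eq
      (Algebra.IsStandardSmoothOfRelativeDimension.rank_kaehlerDifferential P.dimension)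
  rw [← h1, h2, ← hQ, ← localDim_comap_away g Q, localDim_comap_of_etale φ.toRingHom hφ Q,
    localDim_mvPolynomial]
  rfl

end D

end Groth.Agent.H11.SmoothDim1
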