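import Mathlib
import Groth.Agent.H23.Jacobian
import Groth.Prelude.Def_Smoothing

/-!
# Standard elements at smooth primes of a presented algebra

Given a presentation `A = R[x_1..x_n]/(f_1..f_m)` and a prime `q` of `A` at which `A` is smooth
over `R`, one can pick `c` of the relations and `c` of the variables such that the corresponding
Jacobian minor is invertible at `q` and the chosen relations generate the conormal module at `q`.
Built on helper23's `Jacobian` library.
-/

set_option autoImplicit false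

namespace Groth.Agent.H11.StdElem

open TensorProduct
open Groth.Agent.H23.Jacobian Groth.Agent.H23.SmoothQuot

universe u

section general

variable {A B : Type u} [CommRing A] [CommRing B] [Algebra A B] (J q : Ideal B) [q.IsPrime]
  (hJq : J ≤ q) [hp : (q.map (Ideal.Quotient.mk J)).IsPrime]

/-- Formal smoothness of `(B/J)_q` gives injectivity of the fibre of the conormal map. -/
theorem UU_injective_of_formallySmooth [Algebra.FormallySmooth A B] (hJ : J.FG)
    (h : Algebra.FormallySmooth A (Localization.AtPrime (q.map (Ideal.Quotient.mk J)))) :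
    Function.Injective (UU (A := A) J q) := by
  have hfin : Module.Finite (B ⧸ J) (PP (A := A) J).Cotangent :=
    Algebra.Extension.Cotangent.finite (by rw [ker_eq]; exact hJ)
  have hsm : Algebra.FormallySmooth A (PP (A := A) J).Ring := ‹_›
  rw [formallySmooth_atPrime_iff (hsurj J) (q.map (Ideal.Quotient.mk J))] at h
  rw [UU_injective_iff]
  exact (((Groth.Agent.S4530.result (PP (A := A) J).cotangentComplex).1
      ⟨q.map (Ideal.Quotient.mk J), hp⟩).out 0 1).mp h

include hJq in
/-- From injectivity of the fibre of the conormal map, a generating family of `J` and a separating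
family of linear forms on `Ω[B/A]`, extract a square "Jacobian" submatrix invertible at `q` whose
rows generate `J` at `q` modulo `J ^ 2`. -/
theorem exists_rows_cols {m : ℕ} (f : Fin m → B) (hfJ : J = Ideal.span (Set.range f))
    {ι : Type*} (ℓ : ι → (Ω[B⁄A] →ₗ[B] B))
    (hsep : ∀ z : κκ J q ⊗[B] Ω[B⁄A], (∀ i, φφ (A := A) J q (ℓ i) z = 0) → z = 0)
    (hinj : Function.Injective (UU (A := A) J q)) :
    ∃ (c : ℕ) (rows : Fin c ↪ Fin m) (cols : Fin c → ι),
      Matrix.det (Matrix.of fun a b => ℓ (cols b) (KaehlerDifferential.D A B (f (rows a)))) ∉ q ∧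
      ∀ x ∈ J, ∃ t ∉ q, ∃ b : Fin c → B, t * x - ∑ i, b i * f (rows i) ∈ J ^ 2 := by
  classical
  have hf : ∀ i, f i ∈ J := by
    rw [hfJ]; exact fun i => Ideal.subset_span ⟨i, rfl⟩
  have hJ : J.FG := by
    rw [hfJ]; exact Submodule.fg_span (Set.finite_range f)
  have hspan : Submodule.span (κκ J q) (Set.range fun i => cl (A := A) J q ⟨f i, hf i⟩) = ⊤ := by
    apply span_of_gen (A := A) J q hJq f hf
    rw [hfJ, Ideal.map_span, ← Set.range_comp]
    rfl
  obtain ⟨κ', a, ha, hsp, hli⟩ :=
    exists_linearIndependent' (κκ J q) (fun i => cl (A := A) J q ⟨f i, hf i⟩)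
  haveI : Finite κ' := Finite.of_injective a ha
  haveI : Fintype κ' := Fintype.ofFinite κ'
  set c := Fintype.card κ' with hc
  let e : Fin c ≃ κ' := (Fintype.equivFin κ').symm
  let rows : Fin c ↪ Fin m := ⟨a ∘ e, ha.comp e.injective⟩
  have hli' : LinearIndependent (κκ J q)
      (fun j : Fin c => cl (A := A) J q ⟨f (rows j), hf (rows j)⟩) :=
    hli.comp e e.injective
  have hsp' : Submodule.span (κκ J q)
      (Set.range fun j : Fin c => cl (A := A) J q ⟨(f ∘ rows) j, hf (rows j)⟩) = ⊤ := by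
    rw [← hspan, ← hsp]
    congr 1
    exact (e.surjective.range_comp
      ((fun i => cl (A := A) J q ⟨f i, hf i⟩) ∘ a))
  have hw : LinearIndependent (κκ J q)
      (fun j : Fin c => UU (A := A) J q (cl (A := A) J q ⟨f (rows j), hf (rows j)⟩)) :=
    hli'.map' _ (LinearMap.ker_eq_bot.mpr hinj)
  obtain ⟨cols, hdet⟩ := exists_det_ne_zero (fun i => φφ (A := A) J q (ℓ i)) hsep _ hw
  refine ⟨c, rows, cols, ?_, ?_⟩
  · intro hmem
    apply hdet
    have e1 : (Matrix.of fun a b => φφ (A := A) J q (ℓ (cols b))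
        (UU (A := A) J q (cl (A := A) J q ⟨f (rows a), hf (rows a)⟩))) =
        (algebraMap B (κκ J q)).mapMatrix (Matrix.of fun a b =>
          ℓ (cols b) (KaehlerDifferential.D A B (f (rows a)))) := by
      ext a b
      simp only [Matrix.of_apply, RingHom.mapMatrix_apply, Matrix.map_apply]
      rw [UU_cl, φφ_tmul, mul_one]
    rw [e1, ← RingHom.map_det, res_eq_zero_iff J q hJq]
    exact hmem
  · intro x hx
    exact exists_mul_sub_mem_sq (A := A) J q hJq (f ∘ rows) (fun j => hf (rows j)) hJ hsp' x hx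

end general

section poly

open MvPolynomial

variable {R A : Type u} [CommRing R] [CommRing A] [Algebra R A] {n m : ℕ}

theorem repr_eq_φφ (J q : Ideal (MvPolynomial (Fin n) R)) [q.IsPrime]
    [hp : (q.map (Ideal.Quotient.mk J)).IsPrime]
    (z : κκ J q ⊗[MvPolynomial (Fin n) R] Ω[MvPolynomial (Fin n) R⁄R]) (k : Fin n) :
    ((KaehlerDifferential.mvPolynomialBasis R (Fin n)).baseChange (κκ J q)).repr z k =
      φφ (A := R) J q ((KaehlerDifferential.mvPolynomialBasis R (Fin n)).coord k) z := by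
  induction z with
  | zero => simp
  | tmul c ω =>
    rw [Module.Basis.baseChange_repr_tmul, φφ_tmul, Module.Basis.coord_apply, Algebra.smul_def]
  | add x y hx hy => rw [map_add, map_add, Finsupp.add_apply, hx, hy]

/-- The coordinate forms on `Ω[R[X]/R]` separate the points of the fibre. -/
theorem coord_sep (J q : Ideal (MvPolynomial (Fin n) R)) [q.IsPrime]
    [hp : (q.map (Ideal.Quotient.mk J)).IsPrime]
    (z : κκ J q ⊗[MvPolynomial (Fin n) R] Ω[MvPolynomial (Fin n) R⁄R])
    (h : ∀ k : Fin n,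
      φφ (A := R) J q ((KaehlerDifferential.mvPolynomialBasis R (Fin n)).coord k) z = 0) :
    z = 0 := by
  apply ((KaehlerDifferential.mvPolynomialBasis R (Fin n)).baseChange (κκ J q)).repr.injective
  ext k
  rw [map_zero, Finsupp.zero_apply, repr_eq_φφ, h k]

theorem main (f : Fin m → MvPolynomial (Fin n) R) (φ : MvPolynomial (Fin n) R →ₐ[R] A)
    (hφ : Function.Surjective φ)
    (hker : RingHom.ker φ.toRingHom = Ideal.span (Set.range f)) (q : Ideal A) [q.IsPrime]
    [Algebra.IsSmoothAt R q] :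
    ∃ a : A, a ∉ q ∧ ∃ (c : ℕ) (rows : Fin c ↪ Fin m) (cols : Fin c ↪ Fin n) (a' : A),
      a = a' * φ (Smoothing.jacobianMinor f rows cols) ∧
      ∀ a₁ : MvPolynomial (Fin n) R, φ a₁ = a → ∀ ℓ : Fin m,
        a₁ * f ℓ ∈ Ideal.span (Set.range (f ∘ rows)) ⊔ Ideal.span (Set.range f) ^ 2 := by
  classical
  obtain ⟨J, hJdef⟩ : ∃ J : Ideal (MvPolynomial (Fin n) R), J = RingHom.ker φ := ⟨_, rfl⟩
  have hJ' : J = Ideal.span (Set.range f) := by rw [hJdef, ← hker]; rfl
  have hmemJ : ∀ x, x ∈ J ↔ φ x = 0 := fun x => by rw [hJdef, RingHom.mem_ker]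
  obtain ⟨q', hq'def⟩ : ∃ q' : Ideal (MvPolynomial (Fin n) R), q' = q.comap φ := ⟨_, rfl⟩
  haveI hq'prime : q'.IsPrime := by rw [hq'def]; infer_instance
  have hmemq' : ∀ x, x ∈ q' ↔ φ x ∈ q := fun x => by rw [hq'def, Ideal.mem_comap]
  have hJq : J ≤ q' := fun x hx => by
    rw [hmemq', (hmemJ x).mp hx]; exact zero_mem _
  haveI hp : (q'.map (Ideal.Quotient.mk J)).IsPrime :=
    Ideal.map_isPrime_of_surjective Ideal.Quotient.mk_surjective (by rwa [Ideal.mk_ker])
  -- transfer smoothness
  have hsm : Algebra.FormallySmooth R (Localization.AtPrime (q'.map (Ideal.Quotient.mk J))) := by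
    subst hJdef
    let e : (MvPolynomial (Fin n) R ⧸ RingHom.ker φ) ≃ₐ[R] A :=
      Ideal.quotientKerAlgEquivOfSurjective hφ
    have hq : ∀ y, y ∈ q'.map (Ideal.Quotient.mk (RingHom.ker φ)) ↔ e y ∈ q := by
      intro y
      obtain ⟨b, rfl⟩ := Ideal.Quotient.mk_surjective y
      rw [Ideal.mem_quotient_iff_mem hJq, hmemq', Ideal.quotientKerAlgEquivOfSurjective_mk]
    have H : Submonoid.map e (q'.map (Ideal.Quotient.mk (RingHom.ker φ))).primeCompl =
        q.primeCompl := by
      ext x
      constructor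
      · rintro ⟨y, hy, rfl⟩
        exact fun h => hy ((hq y).mpr h)
      · intro hx
        refine ⟨e.symm x, fun h => hx ?_, by simp⟩
        have := (hq _).mp h
        simpa using this
    let E : Localization.AtPrime (q'.map (Ideal.Quotient.mk (RingHom.ker φ))) ≃ₐ[R]
        Localization.AtPrime q := IsLocalization.algEquivOfAlgEquiv _ _ e H
    exact Algebra.FormallySmooth.of_equiv E.symm
  have hJfg : J.FG := by rw [hJ']; exact Submodule.fg_span (Set.finite_range f)
  have hinj := UU_injective_of_formallySmooth (A := R) J q' hJfg hsm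
  obtain ⟨c, rows, cols, hdet, hgen⟩ := exists_rows_cols (A := R) J q' hJq f hJ'
    (fun k => (KaehlerDifferential.mvPolynomialBasis R (Fin n)).coord k)
    (coord_sep J q') hinj
  have hminor : (Matrix.of fun a b => (KaehlerDifferential.mvPolynomialBasis R (Fin n)).coord
      (cols b) (KaehlerDifferential.D R (MvPolynomial (Fin n) R) (f (rows a)))) =
      Matrix.of fun a b => pderiv (cols b) (f (rows a)) := by
    apply Matrix.ext
    intro a b
    simp only [Matrix.of_apply, Module.Basis.coord_apply]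
    exact KaehlerDifferential.mvPolynomialBasis_repr_apply R (Fin n) _ _
  rw [hminor] at hdet
  have hcols : Function.Injective cols := by
    intro b1 b2 h12
    by_contra hne
    apply hdet
    rw [Matrix.det_zero_of_column_eq hne (fun k => by simp only [Matrix.of_apply, h12])]
    exact zero_mem _
  have hfJ : ∀ i, f i ∈ J := by
    rw [hJ']; exact fun i => Ideal.subset_span ⟨i, rfl⟩
  choose t ht b hb using fun ℓ : Fin m => hgen (f ℓ) (hfJ ℓ)
  have key : ∀ ℓ, t ℓ * f ℓ ∈ Ideal.span (Set.range (f ∘ rows)) ⊔ J ^ 2 := by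
    intro ℓ
    have e1 : t ℓ * f ℓ = ∑ i, b ℓ i * f (rows i) + (t ℓ * f ℓ - ∑ i, b ℓ i * f (rows i)) := by
      ring
    rw [e1]
    apply Submodule.add_mem
    · apply Submodule.mem_sup_left
      apply Submodule.sum_mem
      intro i _
      exact Ideal.mul_mem_left _ _ (Ideal.subset_span ⟨i, rfl⟩)
    · exact Submodule.mem_sup_right (hb ℓ)
  obtain ⟨T, hTdef⟩ : ∃ T, T = ∏ ℓ, t ℓ := ⟨_, rfl⟩
  have hT : T ∉ q' := by
    rw [hTdef, Ideal.IsPrime.prod_mem_iff]
    rintro ⟨ℓ, -, hℓ⟩
    exact ht ℓ hℓ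
  have key2 : ∀ ℓ, T * f ℓ ∈ Ideal.span (Set.range (f ∘ rows)) ⊔ J ^ 2 := by
    intro ℓ
    obtain ⟨u, hu⟩ : t ℓ ∣ T := by
      rw [hTdef]; exact Finset.dvd_prod_of_mem t (Finset.mem_univ ℓ)
    rw [hu, mul_comm (t ℓ) u, mul_assoc]
    exact Ideal.mul_mem_left _ _ (key ℓ)
  refine ⟨φ (T * Smoothing.jacobianMinor f rows cols), ?_, c, rows, ⟨cols, hcols⟩, φ T,
    by rw [map_mul]; rfl, ?_⟩
  · rw [← hmemq']
    intro h
    rcases Ideal.IsPrime.mem_or_mem hq'prime h with h | h
    · exact hT h
    · exact hdet h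
  · intro a₁ ha₁ ℓ
    rw [← hJ']
    have h1 : a₁ - T * Smoothing.jacobianMinor f rows cols ∈ J := by
      rw [hmemJ, map_sub, ha₁, sub_self]
    have e2 : a₁ * f ℓ = (a₁ - T * Smoothing.jacobianMinor f rows cols) * f ℓ +
        Smoothing.jacobianMinor f rows cols * (T * f ℓ) := by ring
    rw [e2]
    apply Submodule.add_mem
    · apply Submodule.mem_sup_right
      rw [pow_two]
      exact Ideal.mul_mem_mul h1 (hfJ ℓ)
    · exact Ideal.mul_mem_left _ _ (key2 ℓ)

end poly

end Groth.Agent.H11.StdElem
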