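import Mathlib
import Groth.Prelude.Def_Smoothing

/-!
# Reindexing presentations: elementary standard elements from arbitrary rows and columns

If `A = R[x]/(f)` and `a` is a multiple of the Jacobian minor on rows `rows` and columns `cols`,
and `a f_ℓ ∈ (f ∘ rows) + (f)^2` for all `ℓ`, then `a` is elementary standard (w.r.t. the
marked presentation obtained by permuting variables and relations).
-/

set_option autoImplicit false

namespace Groth.Agent.H11.StdReindex

open MvPolynomial

universe u

/-- Two embeddings of `Fin c` into a finite type differ by a permutation of the target. -/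
theorem exists_perm_of_embeddings {α : Type*} [Finite α] {c : ℕ} (u v : Fin c ↪ α) :
    ∃ σ : Equiv.Perm α, ∀ i, σ (u i) = v i := by
  classical
  let e : {x // x ∈ Set.range u} ≃ {x // x ∈ Set.range v} :=
    (Equiv.ofInjective u u.injective).symm.trans (Equiv.ofInjective v v.injective)
  refine ⟨e.extendSubtype, fun i => ?_⟩
  rw [Equiv.extendSubtype_apply_of_mem e (u i) ⟨i, rfl⟩]
  have : (Equiv.ofInjective u u.injective).symm ⟨u i, ⟨i, rfl⟩⟩ = i :=
    Equiv.ofInjective_symm_apply u.injective i
  simp only [e, Equiv.trans_apply, this]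
  rfl

variable {R A : Type u} [CommRing R] [CommRing A] [Algebra R A]

theorem jacobianMinor_rename {n m c : ℕ} (f : Fin m → MvPolynomial (Fin n) R)
    (rows : Fin c → Fin m) (cols : Fin c → Fin n) (σ : Equiv.Perm (Fin n)) :
    Smoothing.jacobianMinor (fun j => rename σ (f j)) rows (fun k => σ (cols k)) =
      rename σ (Smoothing.jacobianMinor f rows cols) := by
  unfold Smoothing.jacobianMinor
  rw [AlgHom.map_det]
  congr 1
  apply Matrix.ext
  intro j k
  simp only [Matrix.of_apply, AlgHom.mapMatrix_apply, Matrix.map_apply]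
  exact pderiv_rename σ.injective _ _

theorem isElementaryStandard_of_rows_cols {n m c : ℕ} (f : Fin m → MvPolynomial (Fin n) R)
    (φ : MvPolynomial (Fin n) R →ₐ[R] A) (hφ : Function.Surjective φ)
    (hker : RingHom.ker φ.toRingHom = Ideal.span (Set.range f))
    (rows : Fin c ↪ Fin m) (cols : Fin c ↪ Fin n) (a a' : A)
    (ha : a = a' * φ (Smoothing.jacobianMinor f rows cols))
    (hkill : ∀ a₁ : MvPolynomial (Fin n) R, φ a₁ = a → ∀ ℓ : Fin m,
      a₁ * f ℓ ∈ Ideal.span (Set.range (f ∘ rows)) ⊔ Ideal.span (Set.range f) ^ 2) :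
    Smoothing.IsElementaryStandard R A a := by
  classical
  have hcm : c ≤ m := by simpa using Fintype.card_le_of_embedding rows
  have hcn : c ≤ n := by simpa using Fintype.card_le_of_embedding cols
  obtain ⟨σ, hσ⟩ := exists_perm_of_embeddings cols (Fin.castLEEmb hcn)
  obtain ⟨τ, hτ⟩ := exists_perm_of_embeddings (Fin.castLEEmb hcm) rows
  have hσ' : ∀ i, σ (cols i) = Fin.castLE hcn i := hσ
  have hτ' : ∀ j, τ (Fin.castLE hcm j) = rows j := hτ
  let ρ : MvPolynomial (Fin n) R ≃ₐ[R] MvPolynomial (Fin n) R := renameEquiv R σ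
  have hρ : ∀ p, ρ p = rename σ p := fun p => rfl
  have hmemker : ∀ p, φ p = 0 ↔ p ∈ Ideal.span (Set.range f) := by
    intro p
    rw [← hker]; rfl
  -- the image of the ideal
  have hmap : ∀ p, p ∈ Ideal.span (Set.range f) →
      ρ p ∈ Ideal.span (Set.range fun j => ρ (f (τ j))) := by
    intro p hp
    have h1 : ρ p ∈ (Ideal.span (Set.range f)).map (ρ : MvPolynomial (Fin n) R →+* _) :=
      Ideal.mem_map_of_mem _ hp
    rw [Ideal.map_span] at h1
    refine Ideal.span_mono ?_ h1
    rintro _ ⟨_, ⟨j, rfl⟩, rfl⟩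
    exact ⟨τ.symm j, by simp⟩
  let P : Smoothing.MarkedPresentation R A :=
    { n := n, m := m, c := c, hcn := hcn, hcm := hcm
      rel := fun j => ρ (f (τ j))
      hom := φ.comp ρ.symm.toAlgHom
      surj := hφ.comp ρ.symm.surjective
      ker_eq := by
        ext p
        rw [RingHom.mem_ker]
        change φ (ρ.symm p) = 0 ↔ _
        rw [hmemker]
        constructor
        · intro h
          have := hmap _ h
          rwa [AlgEquiv.apply_symm_apply] at this
        · intro h
          have h1 : ρ.symm p ∈ (Ideal.span (Set.range fun j => ρ (f (τ j)))).map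
              (ρ.symm : MvPolynomial (Fin n) R →+* _) := Ideal.mem_map_of_mem _ h
          rw [Ideal.map_span] at h1
          refine Ideal.span_mono ?_ h1
          rintro _ ⟨_, ⟨j, rfl⟩, rfl⟩
          exact ⟨τ j, by simp⟩ }
  have hminor : Smoothing.jacobianMinor P.rel (Fin.castLE P.hcm) (Fin.castLE P.hcn) =
      ρ (Smoothing.jacobianMinor f rows cols) := by
    rw [hρ, ← jacobianMinor_rename]
    unfold Smoothing.jacobianMinor
    congr 1
    apply Matrix.ext
    intro j k
    simp only [Matrix.of_apply]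
    change pderiv (Fin.castLE hcn k) (ρ (f (τ (Fin.castLE hcm j)))) = _
    rw [hτ', hσ', hρ]
  refine ⟨P, ⟨a', ?_⟩, ?_⟩
  · rw [hminor]
    change a = a' * φ (ρ.symm (ρ _))
    rw [AlgEquiv.symm_apply_apply]
    exact ha
  · intro a'' ha'' j _
    have h1 : φ (ρ.symm a'') = a := ha''
    have h2 := hkill _ h1 (τ j)
    have h3 : ρ (ρ.symm a'' * f (τ j)) ∈
        (Ideal.span (Set.range (f ∘ rows)) ⊔ Ideal.span (Set.range f) ^ 2).map
          (ρ : MvPolynomial (Fin n) R →+* _) := Ideal.mem_map_of_mem _ h2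
    rw [map_mul, AlgEquiv.apply_symm_apply, Ideal.map_sup, Ideal.map_pow, Ideal.map_span,
      Ideal.map_span] at h3
    change a'' * ρ (f (τ j)) ∈ _
    refine SetLike.le_def.mp ?_ h3
    apply sup_le_sup
    · apply Ideal.span_mono
      rintro _ ⟨_, ⟨i, rfl⟩, rfl⟩
      refine ⟨Fin.castLE hcm i, i.2, ?_⟩
      change ρ (f (τ (Fin.castLE hcm i))) = _
      rw [hτ']
      rfl
    · apply Ideal.pow_right_mono
      apply Ideal.span_mono
      rintro _ ⟨_, ⟨i, rfl⟩, rfl⟩
      exact ⟨τ.symm i, by simp [P]⟩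

end Groth.Agent.H11.StdReindex
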