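import Mathlib
import Groth.Agent.H11.StdElem
import Groth.Agent.H11.StdReindex
import Groth.Agent.H20.ElemStd

/-!
# The singular ideal is the radical of the ideal of standard elements
-/

set_option autoImplicit false

namespace Groth.Agent.H11.StdSing

open MvPolynomial
open Groth.Agent.H23.Jacobian

universe u

variable {R A : Type u} [CommRing R] [CommRing A] [Algebra R A]

/-- Transfer of formal smoothness of local rings between `A` and the quotient `B / ker φ`. -/
theorem formallySmooth_atPrime_iff_of_surjective {B : Type u} [CommRing B] [Algebra R B]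
    (φ : B →ₐ[R] A) (hφ : Function.Surjective φ) (q : Ideal A) [q.IsPrime]
    [hp : ((q.comap φ).map (Ideal.Quotient.mk (RingHom.ker φ))).IsPrime] :
    Algebra.FormallySmooth R
      (Localization.AtPrime ((q.comap φ).map (Ideal.Quotient.mk (RingHom.ker φ)))) ↔
      Algebra.FormallySmooth R (Localization.AtPrime q) := by
  have hJq : RingHom.ker φ ≤ q.comap φ := fun x hx => by
    rw [Ideal.mem_comap, (RingHom.mem_ker).mp hx]; exact zero_mem _
  let e : (B ⧸ RingHom.ker φ) ≃ₐ[R] A := Ideal.quotientKerAlgEquivOfSurjective hφ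
  have hq : ∀ y, y ∈ (q.comap φ).map (Ideal.Quotient.mk (RingHom.ker φ)) ↔ e y ∈ q := by
    intro y
    obtain ⟨b, rfl⟩ := Ideal.Quotient.mk_surjective y
    rw [Ideal.mem_quotient_iff_mem hJq, Ideal.mem_comap, Ideal.quotientKerAlgEquivOfSurjective_mk]
  have H : Submonoid.map e ((q.comap φ).map (Ideal.Quotient.mk (RingHom.ker φ))).primeCompl =
      q.primeCompl := by
    ext x
    constructor
    · rintro ⟨y, hy, rfl⟩
      exact fun h => hy ((hq y).mpr h)
    · intro hx
      refine ⟨e.symm x, fun h => hx ?_, by simp⟩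
      have := (hq _).mp h
      simpa using this
  let E : Localization.AtPrime ((q.comap φ).map (Ideal.Quotient.mk (RingHom.ker φ))) ≃ₐ[R]
      Localization.AtPrime q := IsLocalization.algEquivOfAlgEquiv _ _ e H
  exact Algebra.FormallySmooth.iff_of_equiv E

/-- A strictly standard element is invertible only at smooth primes. -/
theorem isSmoothAt_of_isStrictlyStandard (a : A) (ha : Smoothing.IsStrictlyStandard R A a)
    (q : Ideal A) [q.IsPrime] (haq : a ∉ q) : Algebra.IsSmoothAt R q := by
  classical
  obtain ⟨P, hspan, hKT⟩ := ha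
  -- a column choice with minor outside q
  obtain ⟨cols, hcols⟩ : ∃ cols : Fin P.c → Fin P.n,
      P.hom (Smoothing.jacobianMinor P.rel (Fin.castLE P.hcm) cols) ∉ q := by
    by_contra hne
    push Not at hne
    apply haq
    refine (Ideal.span_le.mpr ?_ : _ ≤ q) hspan
    rintro _ ⟨cols, rfl⟩
    exact hne cols
  obtain ⟨a', ha'⟩ := P.surj a
  let f : Fin P.c → MvPolynomial (Fin P.n) R := fun j => P.rel (Fin.castLE P.hcm j)
  obtain ⟨J, hJdef⟩ : ∃ J : Ideal (MvPolynomial (Fin P.n) R), J = RingHom.ker P.hom := ⟨_, rfl⟩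
  have hJ' : J = Ideal.span (Set.range P.rel) := by rw [hJdef, ← P.ker_eq]; rfl
  have hmemJ : ∀ x, x ∈ J ↔ P.hom x = 0 := fun x => by rw [hJdef, RingHom.mem_ker]
  let F : Ideal (MvPolynomial (Fin P.n) R) := Ideal.span (Set.range f)
  have himg : P.rel '' {j' : Fin P.m | (j' : ℕ) < P.c} = Set.range f := by
    ext x
    constructor
    · rintro ⟨j', hj', rfl⟩
      exact ⟨⟨j', hj'⟩, by simp [f, Fin.castLE]⟩
    · rintro ⟨j, rfl⟩
      exact ⟨Fin.castLE P.hcm j, by simp, rfl⟩
  have hFJ : F ≤ J := by
    rw [hJ']
    apply Ideal.span_mono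
    rintro _ ⟨j, rfl⟩
    exact ⟨_, rfl⟩
  have hfg : J.FG := by rw [hJ']; exact Submodule.fg_span (Set.finite_range _)
  have hmul : ∀ x ∈ J, a' * x ∈ F ⊔ J ^ 2 := by
    intro x hx
    rw [hJ'] at hx
    induction hx using Submodule.span_induction with
    | mem x hx =>
      obtain ⟨j, rfl⟩ := hx
      by_cases hj : (j : ℕ) < P.c
      · apply Ideal.mem_sup_left
        apply Ideal.mul_mem_left
        apply Ideal.subset_span
        rw [← himg]
        exact ⟨j, hj, rfl⟩
      · have := hKT a' ha' j (not_lt.1 hj)
        rw [himg, ← hJ'] at this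
        exact this
    | zero => simp
    | add x y _ _ hx hy => rw [mul_add]; exact Ideal.add_mem _ hx hy
    | smul r x _ hx =>
      rw [smul_eq_mul, mul_left_comm]
      exact Ideal.mul_mem_left _ _ hx
  obtain ⟨h, s, hh, hhs⟩ := Groth.Agent.H20.exists_mul_le_of_mul_le_sup_sq F J hFJ hfg a' hmul
  obtain ⟨q', hq'def⟩ : ∃ q' : Ideal (MvPolynomial (Fin P.n) R), q' = q.comap P.hom := ⟨_, rfl⟩
  haveI hq'prime : q'.IsPrime := by rw [hq'def]; infer_instance
  have hmemq' : ∀ x, x ∈ q' ↔ P.hom x ∈ q := fun x => by rw [hq'def, Ideal.mem_comap]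
  have hJq : J ≤ q' := fun x hx => by
    rw [hmemq', (hmemJ x).mp hx]; exact zero_mem _
  have hhq : h ∉ q' := by
    rw [hmemq']
    have : P.hom (h - a' ^ s) = 0 := (hmemJ _).1 hhs
    rw [map_sub, sub_eq_zero, map_pow, ha'] at this
    rw [this]
    exact fun h' => haq (Ideal.IsPrime.mem_of_pow_mem inferInstance _ h')
  haveI hp : (q'.map (Ideal.Quotient.mk J)).IsPrime :=
    Ideal.map_isPrime_of_surjective Ideal.Quotient.mk_surjective (by rwa [Ideal.mk_ker])
  have hmain : Algebra.FormallySmooth R (Localization.AtPrime (q'.map (Ideal.Quotient.mk J))) := by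
    rw [Groth.Agent.H23.Jacobian.main (A := R) J q' hJq hfg]
    refine ⟨P.c, f, fun k => pderiv (cols k), fun i => hFJ (Ideal.subset_span ⟨i, rfl⟩), ?_, ?_⟩
    · apply le_antisymm
      · rw [Ideal.map_le_iff_le_comap]
        intro x hx
        rw [Ideal.mem_comap]
        have hunit : IsUnit (algebraMap _ (Localization.AtPrime q') h) :=
          IsLocalization.map_units (Localization.AtPrime q') (⟨h, hhq⟩ : q'.primeCompl)
        have h1 : algebraMap _ (Localization.AtPrime q') (h * x) ∈
            Ideal.span (Set.range fun i => algebraMap _ (Localization.AtPrime q') (f i)) := by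
          have h2 : algebraMap _ (Localization.AtPrime q') (h * x) ∈
              F.map (algebraMap _ (Localization.AtPrime q')) :=
            Ideal.mem_map_of_mem _ (hh x hx)
          rw [Ideal.map_span, ← Set.range_comp] at h2
          exact h2
        rw [map_mul] at h1
        obtain ⟨u, hu⟩ := hunit
        have e2 : algebraMap _ (Localization.AtPrime q') x =
            ↑u⁻¹ * (algebraMap _ (Localization.AtPrime q') h *
              algebraMap _ (Localization.AtPrime q') x) := by
          rw [← hu, ← mul_assoc, Units.inv_mul, one_mul]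
        rw [e2]
        exact Ideal.mul_mem_left _ _ h1
      · rw [Ideal.span_le]
        rintro _ ⟨i, rfl⟩
        exact Ideal.mem_map_of_mem _ (hFJ (Ideal.subset_span ⟨i, rfl⟩))
    · rw [hmemq']
      exact hcols
  subst hJdef hq'def
  exact (formallySmooth_atPrime_iff_of_surjective P.hom P.surj q).mp hmain

/-- Elementary standard elements are strictly standard. -/
theorem isStrictlyStandard_of_isElementaryStandard (a : A)
    (ha : Smoothing.IsElementaryStandard R A a) : Smoothing.IsStrictlyStandard R A a := by
  obtain ⟨P, ⟨a', ha'⟩, hKT⟩ := ha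
  refine ⟨P, ?_, hKT⟩
  rw [ha']
  exact Ideal.mul_mem_left _ _ (Ideal.subset_span ⟨Fin.castLE P.hcn, rfl⟩)

theorem main [Algebra.FinitePresentation R A] :
    Smoothing.singularIdeal R A = (Ideal.span {a : A | Smoothing.IsStrictlyStandard R A a}).radical ∧
      Smoothing.singularIdeal R A =
        (Ideal.span {a : A | Smoothing.IsElementaryStandard R A a}).radical := by
  classical
  have h1 : (Ideal.span {a : A | Smoothing.IsElementaryStandard R A a}).radical ≤
      (Ideal.span {a : A | Smoothing.IsStrictlyStandard R A a}).radical :=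
    Ideal.radical_mono (Ideal.span_mono fun a ha => isStrictlyStandard_of_isElementaryStandard a ha)
  have h2 : (Ideal.span {a : A | Smoothing.IsStrictlyStandard R A a}).radical ≤
      Smoothing.singularIdeal R A := by
    have hrad : (Smoothing.singularIdeal R A).IsRadical := by
      unfold Smoothing.singularIdeal
      exact PrimeSpectrum.isRadical_vanishingIdeal _
    rw [hrad.radical_le_iff, Ideal.span_le]
    intro a ha
    change a ∈ PrimeSpectrum.vanishingIdeal _
    rw [PrimeSpectrum.mem_vanishingIdeal]
    intro x hx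
    by_contra hax
    exact hx (isSmoothAt_of_isStrictlyStandard a ha x.asIdeal hax)
  have h3 : Smoothing.singularIdeal R A ≤
      (Ideal.span {a : A | Smoothing.IsElementaryStandard R A a}).radical := by
    obtain ⟨n, φ, hφ, hfg⟩ := Algebra.FinitePresentation.out (R := R) (A := A)
    obtain ⟨m, f, hf⟩ := Submodule.fg_iff_exists_fin_generating_family.mp hfg
    intro x hx
    rw [Ideal.radical_eq_sInf, Submodule.mem_sInf]
    rintro q ⟨hq, hqprime⟩
    have hx' := (PrimeSpectrum.mem_vanishingIdeal _ _).mp hx
    have hns : (⟨q, hqprime⟩ : PrimeSpectrum A) ∈ (Algebra.smoothLocus R A)ᶜ := by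
      intro hsm
      haveI : Algebra.IsSmoothAt R q := hsm
      obtain ⟨a, haq, c, rows, cols, a', ha, hkill⟩ :=
        Groth.Agent.H11.StdElem.main f φ hφ hf.symm q
      apply haq
      apply hq
      apply Ideal.subset_span
      exact Groth.Agent.H11.StdReindex.isElementaryStandard_of_rows_cols f φ hφ hf.symm rows cols
        a a' ha hkill
    exact hx' _ hns
  exact ⟨le_antisymm (h3.trans h1) h2, le_antisymm h3 (h1.trans h2)⟩

end Groth.Agent.H11.StdSing
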