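import Mathlib
import Groth.Agent.H11.SmoothDim1
import Groth.Agent.H11.StdElem
import Groth.Agent.H11.StdSing
import Groth.Agent.H47.RegSmoothField
import Groth.Agent.Lead.RegularLocal

/-!
# Smoothness over a field via the fibre dimension of differentials
-/

set_option autoImplicit false

namespace Groth.Agent.H11.SmoothDim2

open TensorProduct
open Groth.Agent.H23.Jacobian Groth.Agent.H23.SmoothQuot Groth.Agent.H11.FtDim Groth.Agent.H24

universe u

section R

variable {A B : Type u} [CommRing A] [CommRing B] [Algebra A B] (J q : Ideal B) [q.IsPrime]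
  [hp : (q.map (Ideal.Quotient.mk J)).IsPrime]

/-- The rank formula coming from the conormal sequence of `B → B/J` at a prime. -/
theorem finrank_add_finrank_range_UU [Module.Finite B Ω[B⁄A]] :
    Module.finrank (κκ J q) (κκ J q ⊗[B ⧸ J] Ω[(B ⧸ J)⁄A]) +
      Module.finrank (κκ J q) (LinearMap.range (UU (A := A) J q)) =
    Module.finrank (κκ J q) (κκ J q ⊗[B] Ω[B⁄A]) := by
  set P := PP (A := A) J with hP
  let e : κκ J q ⊗[B ⧸ J] ((B ⧸ J) ⊗[B] Ω[B⁄A]) ≃ₗ[κκ J q] κκ J q ⊗[B] Ω[B⁄A] :=
    AlgebraTensorModule.cancelBaseChange B (B ⧸ J) (κκ J q) (κκ J q) Ω[B⁄A]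
  let g : κκ J q ⊗[B] Ω[B⁄A] →ₗ[κκ J q] κκ J q ⊗[B ⧸ J] Ω[(B ⧸ J)⁄A] :=
    (P.toKaehler.baseChange (κκ J q)) ∘ₗ e.symm.toLinearMap
  have hex : Function.Exact (P.cotangentComplex.baseChange (κκ J q))
      (P.toKaehler.baseChange (κκ J q)) := by
    rw [LinearMap.baseChange_eq_ltensor, LinearMap.baseChange_eq_ltensor]
    exact lTensor_exact _ P.exact_cotangentComplex_toKaehler P.toKaehler_surjective
  have hs2 : Function.Surjective (P.toKaehler.baseChange (κκ J q)) := by
    rw [LinearMap.baseChange_eq_ltensor]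
    exact LinearMap.lTensor_surjective _ P.toKaehler_surjective
  have hsurj : Function.Surjective g := hs2.comp e.symm.surjective
  have hker : LinearMap.ker g = LinearMap.range (UU (A := A) J q) := by
    ext x
    rw [LinearMap.mem_ker, LinearMap.mem_range]
    change (P.toKaehler.baseChange (κκ J q)) (e.symm x) = 0 ↔ _
    rw [hex (e.symm x)]
    constructor
    · rintro ⟨y, hy⟩
      refine ⟨y, ?_⟩
      change e ((P.cotangentComplex.baseChange (κκ J q)) y) = x
      rw [hy, LinearEquiv.apply_symm_apply]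
    · rintro ⟨y, rfl⟩
      refine ⟨y, ?_⟩
      change _ = e.symm (e ((P.cotangentComplex.baseChange (κκ J q)) y))
      rw [LinearEquiv.symm_apply_apply]
  have h1 := LinearMap.finrank_range_add_finrank_ker g
  rw [LinearMap.range_eq_top.mpr hsurj, finrank_top, hker] at h1
  exact h1

end R

section poly

open MvPolynomial

variable {k : Type u} [Field k] {n : ℕ}

theorem finrank_fibre_mvPolynomial (J q : Ideal (MvPolynomial (Fin n) k)) [q.IsPrime]
    [hp : (q.map (Ideal.Quotient.mk J)).IsPrime] :
    Module.finrank (κκ J q)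
      (κκ J q ⊗[MvPolynomial (Fin n) k] Ω[MvPolynomial (Fin n) k⁄k]) = n := by
  rw [Module.finrank_eq_card_basis
    ((KaehlerDifferential.mvPolynomialBasis k (Fin n)).baseChange (κκ J q)), Fintype.card_fin]

/-- The Jacobian matrix of `f` with respect to the chosen columns. -/
noncomputable abbrev jac {c : ℕ} (f : Fin c → MvPolynomial (Fin n) k) (cols : Fin c → Fin n) :
    Matrix (Fin c) (Fin c) (MvPolynomial (Fin n) k) :=
  Matrix.of fun a b => (KaehlerDifferential.mvPolynomialBasis k (Fin n)).coord (cols b)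
    (KaehlerDifferential.D k _ (f a))

theorem matrix_eq (J q : Ideal (MvPolynomial (Fin n) k)) [q.IsPrime]
    [hp : (q.map (Ideal.Quotient.mk J)).IsPrime] {c : ℕ}
    (f : Fin c → MvPolynomial (Fin n) k) (hf : ∀ i, f i ∈ J) (cols : Fin c → Fin n) :
    (Matrix.of fun a b => φφ (A := k) J q
        ((KaehlerDifferential.mvPolynomialBasis k (Fin n)).coord (cols b))
        (UU (A := k) J q (cl (A := k) J q ⟨f a, hf a⟩))) =
      (algebraMap _ (κκ J q)).mapMatrix (jac f cols) := by
  ext a b
  simp only [Matrix.of_apply, RingHom.mapMatrix_apply, Matrix.map_apply]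
  rw [UU_cl, φφ_tmul, mul_one]

theorem linearIndependent_of_det (J q : Ideal (MvPolynomial (Fin n) k)) [q.IsPrime]
    (hJq : J ≤ q) [hp : (q.map (Ideal.Quotient.mk J)).IsPrime] {c : ℕ}
    (f : Fin c → MvPolynomial (Fin n) k) (hf : ∀ i, f i ∈ J) (cols : Fin c → Fin n)
    (hdet : (jac f cols).det ∉ q) :
    LinearIndependent (κκ J q) (fun a => UU (A := k) J q (cl (A := k) J q ⟨f a, hf a⟩)) := by
  rw [Fintype.linearIndependent_iff]
  intro g hg
  have hdet' : ((algebraMap _ (κκ J q)).mapMatrix (jac f cols)).det ≠ 0 := by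
    rw [← RingHom.map_det, Ne, res_eq_zero_iff J q hJq]
    exact hdet
  have hc : g = 0 := by
    apply Matrix.eq_zero_of_vecMul_eq_zero hdet'
    ext b
    have h1 := congrArg (φφ (A := k) J q
      ((KaehlerDifferential.mvPolynomialBasis k (Fin n)).coord (cols b))) hg
    rw [map_sum, map_zero] at h1
    rw [Pi.zero_apply, ← h1]
    simp only [Matrix.vecMul, dotProduct]
    apply Finset.sum_congr rfl
    intro a _
    rw [map_smul, UU_cl, φφ_tmul, mul_one, smul_eq_mul]
    simp [jac]
  intro a
  rw [hc]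
  rfl

theorem exists_rows (J q : Ideal (MvPolynomial (Fin n) k)) [q.IsPrime]
    (hJq : J ≤ q) [hp : (q.map (Ideal.Quotient.mk J)).IsPrime] :
    ∃ (f : Fin (Module.finrank (κκ J q) (LinearMap.range (UU (A := k) J q))) →
        MvPolynomial (Fin n) k)
      (cols : Fin (Module.finrank (κκ J q) (LinearMap.range (UU (A := k) J q))) → Fin n),
      (∀ i, f i ∈ J) ∧ (jac f cols).det ∉ q := by
  have hspan : Submodule.span (κκ J q)
      (Set.range fun x : J => UU (A := k) J q (cl (A := k) J q x)) =
      LinearMap.range (UU (A := k) J q) := by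
    rw [LinearMap.range_eq_map, ← span_cl (A := k) J q, Submodule.map_span, ← Set.range_comp]
    rfl
  obtain ⟨g, hg, -, hgli⟩ := Submodule.exists_fun_fin_finrank_span_eq (κκ J q)
    (Set.range fun x : J => UU (A := k) J q (cl (A := k) J q x))
  have hc : Module.finrank (κκ J q) (Submodule.span (κκ J q)
      (Set.range fun x : J => UU (A := k) J q (cl (A := k) J q x))) =
      Module.finrank (κκ J q) (LinearMap.range (UU (A := k) J q)) := by
    rw [hspan]
  choose x hx using hg
  have hli : LinearIndependent (κκ J q) (g ∘ Fin.cast hc.symm) :=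
    hgli.comp _ (Fin.cast_injective _)
  obtain ⟨cols, hdet⟩ := exists_det_ne_zero
    (fun j : Fin n => φφ (A := k) J q
      ((KaehlerDifferential.mvPolynomialBasis k (Fin n)).coord j))
    (Groth.Agent.H11.StdElem.coord_sep J q) _ hli
  refine ⟨fun i => (x (Fin.cast hc.symm i)).1, cols, fun i => (x _).2, ?_⟩
  intro hmem
  apply hdet
  have e1 : (Matrix.of fun a b => φφ (A := k) J q
      ((KaehlerDifferential.mvPolynomialBasis k (Fin n)).coord (cols b))
      ((g ∘ Fin.cast hc.symm) a)) =
      (algebraMap _ (κκ J q)).mapMatrix (jac (fun i => (x (Fin.cast hc.symm i)).1) cols) := by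
    rw [← matrix_eq J q _ (fun i => (x _).2) cols]
    ext a b
    simp only [Matrix.of_apply, Function.comp]
    rw [← hx]
  rw [e1, ← RingHom.map_det, res_eq_zero_iff J q hJq]
  exact hmem

/-- Core of the criterion, with chosen rows and columns of the Jacobian matrix. -/
theorem formallySmooth_of_le_localDim_aux (I q : Ideal (MvPolynomial (Fin n) k)) [q.IsPrime]
    (hIq : I ≤ q) [hp : (q.map (Ideal.Quotient.mk I)).IsPrime]
    (h : ((Module.finrank (κκ I q)
        (κκ I q ⊗[MvPolynomial (Fin n) k ⧸ I] Ω[(MvPolynomial (Fin n) k ⧸ I)⁄k]) : ℕ∞) :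
          WithBot ℕ∞) ≤
        FlatMor.localDim (PrimeSpectrum (MvPolynomial (Fin n) k ⧸ I))
          ⟨q.map (Ideal.Quotient.mk I), hp⟩)
    (c : ℕ) (f : Fin c → MvPolynomial (Fin n) k) (cols : Fin c → Fin n)
    (hf : ∀ i, f i ∈ I) (hdet : (jac f cols).det ∉ q)
    (hR : Module.finrank (κκ I q)
        (κκ I q ⊗[MvPolynomial (Fin n) k ⧸ I] Ω[(MvPolynomial (Fin n) k ⧸ I)⁄k]) + c = n) :
    Algebra.FormallySmooth k (Localization.AtPrime (q.map (Ideal.Quotient.mk I))) := by
  classical
  set F : Ideal (MvPolynomial (Fin n) k) := Ideal.span (Set.range f) with hF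
  have hFI : F ≤ I := Ideal.span_le.mpr (by rintro _ ⟨i, rfl⟩; exact hf i)
  have hFq : F ≤ q := hFI.trans hIq
  have hfF : ∀ i, f i ∈ F := fun i => Ideal.subset_span ⟨i, rfl⟩
  haveI hpF : (q.map (Ideal.Quotient.mk F)).IsPrime := map_mk_isPrime_of_le hFq
  let D : Fin c → Derivation k (MvPolynomial (Fin n) k) (MvPolynomial (Fin n) k) := fun b =>
    ((KaehlerDifferential.mvPolynomialBasis k (Fin n)).coord (cols b)).compDer
      (KaehlerDifferential.D k (MvPolynomial (Fin n) k))
  have hdetD : Matrix.det (Matrix.of fun i j => D j (f i)) ∉ q := hdet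
  have hsmF : Algebra.FormallySmooth k (Localization.AtPrime (q.map (Ideal.Quotient.mk F))) := by
    refine (Groth.Agent.H23.Jacobian.main (A := k) F q hFq
      (Submodule.fg_span (Set.finite_range f))).mpr ⟨c, f, D, hfF, ?_, hdetD⟩
    rw [hF, Ideal.map_span, ← Set.range_comp]
    rfl
  suffices hloc : ∀ x ∈ I, ∃ t ∉ q, t * x ∈ F by
    refine (Groth.Agent.H23.Jacobian.main (A := k) I q hIq
      (IsNoetherian.noetherian I)).mpr ⟨c, f, D, hf, ?_, hdetD⟩
    apply le_antisymm
    · rw [Ideal.map_le_iff_le_comap]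
      intro x hx
      obtain ⟨t, ht, htx⟩ := hloc x hx
      rw [Ideal.mem_comap]
      have hunit : IsUnit (algebraMap (MvPolynomial (Fin n) k) (Localization.AtPrime q) t) :=
        IsLocalization.map_units _ (⟨t, ht⟩ : q.primeCompl)
      have h1 : algebraMap (MvPolynomial (Fin n) k) (Localization.AtPrime q) (t * x) ∈
          Ideal.span (Set.range fun i =>
            algebraMap (MvPolynomial (Fin n) k) (Localization.AtPrime q) (f i)) := by
        have h2 : algebraMap (MvPolynomial (Fin n) k) (Localization.AtPrime q) (t * x) ∈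
            F.map (algebraMap (MvPolynomial (Fin n) k) (Localization.AtPrime q)) :=
          Ideal.mem_map_of_mem _ htx
        rw [hF, Ideal.map_span, ← Set.range_comp] at h2
        exact h2
      rw [map_mul] at h1
      exact (Ideal.unit_mul_mem_iff_mem _ hunit).mp h1
    · rw [Ideal.span_le]
      rintro _ ⟨i, rfl⟩
      exact Ideal.mem_map_of_mem _ (hf i)
  -- dimension estimates
  haveI : Algebra.IsSmoothAt k (q.map (Ideal.Quotient.mk F)) := hsmF
  have hD := Groth.Agent.H11.SmoothDim1.localDim_eq_finrank_of_isSmoothAt k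
    (q.map (Ideal.Quotient.mk F))
  have hRF := finrank_add_finrank_range_UU (A := k) F q
  rw [finrank_fibre_mvPolynomial] at hRF
  have hcF : c ≤ Module.finrank (κκ F q) (LinearMap.range (UU (A := k) F q)) := by
    have hli := linearIndependent_of_det F q hFq f hfF cols hdet
    have h1 := finrank_span_eq_card hli
    rw [Fintype.card_fin] at h1
    rw [← h1]
    apply Submodule.finrank_mono
    rw [Submodule.span_le]
    rintro _ ⟨a, rfl⟩
    exact ⟨_, rfl⟩
  set P0 : PrimeSpectrum (MvPolynomial (Fin n) k) := ⟨q, inferInstance⟩ with hP0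
  set P1 : PrimeSpectrum (MvPolynomial (Fin n) k ⧸ I) :=
    ⟨q.map (Ideal.Quotient.mk I), hp⟩ with hP1
  set P2 : PrimeSpectrum (MvPolynomial (Fin n) k ⧸ F) :=
    ⟨q.map (Ideal.Quotient.mk F), hpF⟩ with hP2
  have e1 := localDim_eq_height_add_coheight (k := k) P1
  have e2 := localDim_eq_height_add_coheight (k := k) P2
  have c1 : Order.coheight P1 = Order.coheight P0 := coheight_mapMk I P0 hIq
  have c2 : Order.coheight P2 = Order.coheight P0 := coheight_mapMk F P0 hFq
  have hD' : Order.height P2 + Order.coheight P2 =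
      ((Module.finrank (κκ F q)
        (κκ F q ⊗[MvPolynomial (Fin n) k ⧸ F] Ω[(MvPolynomial (Fin n) k ⧸ F)⁄k]) : ℕ) : ℕ∞) :=
    WithBot.coe_injective (e2.symm.trans hD)
  have h' : ((Module.finrank (κκ I q)
        (κκ I q ⊗[MvPolynomial (Fin n) k ⧸ I] Ω[(MvPolynomial (Fin n) k ⧸ I)⁄k]) : ℕ) : ℕ∞) ≤
      Order.height P1 + Order.coheight P1 := WithBot.coe_le_coe.mp (h.trans_eq e1)
  have hht : Order.height P2 ≤ Order.height P1 := by
    have hfin : Order.coheight P0 ≠ ⊤ := by
      rw [← c2]
      exact ne_top_of_le_ne_top (ENat.natCast_ne_top _) (le_add_self.trans_eq hD')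
    have h3 : Order.height P2 + Order.coheight P2 ≤ Order.height P1 + Order.coheight P1 := by
      rw [hD']
      refine le_trans ?_ h'
      exact_mod_cast (by omega)
    rw [c1, c2] at h3
    exact (ENat.add_le_add_iff_right hfin).mp h3
  -- the local ring of `B/F` is a domain
  haveI : IsRegularLocalRing (Localization.AtPrime (q.map (Ideal.Quotient.mk F))) :=
    Groth.Agent.H47.RSF.isRegularLocalRing_of_isSmoothAt k (MvPolynomial (Fin n) k ⧸ F)
      (q.map (Ideal.Quotient.mk F))
  haveI : IsDomain (Localization.AtPrime (q.map (Ideal.Quotient.mk F))) :=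
    Groth.Agent.Lead.RLR.isDomain (Localization.AtPrime (q.map (Ideal.Quotient.mk F)))
  let ψ : MvPolynomial (Fin n) k →+* Localization.AtPrime (q.map (Ideal.Quotient.mk F)) :=
    (algebraMap (MvPolynomial (Fin n) k ⧸ F) _).comp (Ideal.Quotient.mk F)
  have hψ : ∀ x, ψ x = 0 → ∃ t ∉ q, t * x ∈ F := by
    intro x hx
    obtain ⟨⟨s, hs⟩, hsx⟩ := (IsLocalization.map_eq_zero_iff
      (q.map (Ideal.Quotient.mk F)).primeCompl _ _).mp hx
    obtain ⟨t, rfl⟩ := Ideal.Quotient.mk_surjective s
    refine ⟨t, fun ht => hs (Ideal.mem_map_of_mem _ ht), ?_⟩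
    rw [← Ideal.Quotient.eq_zero_iff_mem, map_mul]
    exact hsx
  intro x hxI
  by_contra hcon
  have hx0 : ψ x ≠ 0 := fun h0 => hcon (hψ x h0)
  haveI : IsNoetherianRing (MvPolynomial (Fin n) k ⧸ I) := inferInstance
  obtain ⟨l, hlast, hlen⟩ := Ideal.exists_ltSeries_length_eq_height
    (q.map (Ideal.Quotient.mk I))
  have hlen' : (l.length : ℕ∞) = Order.height P1 := by
    rw [hlen]
    exact PrimeSpectrum.height_eq_orderHeight P1
  let l' : LTSeries (PrimeSpectrum (MvPolynomial (Fin n) k)) :=
    l.map (PrimeSpectrum.comap (Ideal.Quotient.mk I)) (strictMono_comap_mk I)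
  have hl'last : l'.last = P0 := by
    rw [LTSeries.last_map, hlast]
    exact comap_mapMk I P0 hIq
  have hl'head : I ≤ l'.head.asIdeal := by
    rw [LTSeries.head_map]
    exact le_comap_mk I _
  let PF : PrimeSpectrum (MvPolynomial (Fin n) k) := ⟨RingHom.ker ψ, RingHom.ker_isPrime ψ⟩
  have hFPF : F ≤ PF.asIdeal := by
    intro y hy
    change algebraMap (MvPolynomial (Fin n) k ⧸ F)
      (Localization.AtPrime (q.map (Ideal.Quotient.mk F))) (Ideal.Quotient.mk F y) = 0
    rw [Ideal.Quotient.eq_zero_iff_mem.mpr hy, map_zero]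
  have hlt : PF < l'.head := by
    refine lt_of_le_of_ne ?_ ?_
    · intro y hy
      obtain ⟨t, ht, hty⟩ := hψ y hy
      have h1 : t * y ∈ l'.head.asIdeal := hl'head (hFI hty)
      refine (l'.head.isPrime.mem_or_mem h1).resolve_left fun ht' => ht ?_
      have h2 : l'.head ≤ P0 := hl'last ▸ l'.head_le_last
      exact h2 ht'
    · intro heq
      apply hx0
      have : x ∈ PF.asIdeal := heq ▸ hl'head hxI
      exact this
  let l'' : LTSeries (PrimeSpectrum (MvPolynomial (Fin n) k)) := l'.cons PF hlt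
  have hl''last : l''.last = P0 := by
    rw [RelSeries.last_cons]
    exact hl'last
  have hl''head : F ≤ l''.head.asIdeal := by
    rw [RelSeries.head_cons]
    exact hFPF
  have key := length_le_height_mapMk F l'' hl''head
  have hgen : ∀ (Z : PrimeSpectrum (MvPolynomial (Fin n) k)) (hZ : F ≤ Z.asIdeal), Z = P0 →
      Order.height (mapMk F Z hZ) = Order.height P2 := by
    rintro Z hZ rfl
    rfl
  rw [hgen _ _ hl''last] at key
  have hlen'' : l''.length = l.length + 1 := by
    simp [l'', l']
  rw [hlen''] at key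
  have := (key.trans hht).trans_eq hlen'.symm
  have h4 : l.length + 1 ≤ l.length := by exact_mod_cast this
  omega

/-- Core of the criterion: for a quotient of a polynomial ring, if the fibre dimension of the
differentials at a prime is at most the local dimension, the quotient is smooth there. -/
theorem formallySmooth_of_le_localDim (I q : Ideal (MvPolynomial (Fin n) k)) [q.IsPrime]
    (hIq : I ≤ q) [hp : (q.map (Ideal.Quotient.mk I)).IsPrime]
    (h : ((Module.finrank (κκ I q)
        (κκ I q ⊗[MvPolynomial (Fin n) k ⧸ I] Ω[(MvPolynomial (Fin n) k ⧸ I)⁄k]) : ℕ∞) :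
          WithBot ℕ∞) ≤
        FlatMor.localDim (PrimeSpectrum (MvPolynomial (Fin n) k ⧸ I))
          ⟨q.map (Ideal.Quotient.mk I), hp⟩) :
    Algebra.FormallySmooth k (Localization.AtPrime (q.map (Ideal.Quotient.mk I))) := by
  obtain ⟨f, cols, hf, hdet⟩ := exists_rows I q hIq
  have hR := finrank_add_finrank_range_UU (A := k) I q
  rw [finrank_fibre_mvPolynomial] at hR
  exact formallySmooth_of_le_localDim_aux I q hIq h _ f cols hf hdet hR

end poly

section main

variable {k S : Type u} [Field k] [CommRing S] [Algebra k S] [Algebra.FiniteType k S]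

/-- **Smoothness criterion via differentials and local dimension** (finite type over a field). -/
theorem isSmoothAt_iff_finrank_le_localDim (q : Ideal S) [q.IsPrime] :
    Algebra.IsSmoothAt k q ↔
      ((Module.finrank q.ResidueField (q.ResidueField ⊗[S] Ω[S⁄k]) : ℕ∞) : WithBot ℕ∞) ≤
        FlatMor.localDim (PrimeSpectrum S) ⟨q, inferInstance⟩ := by
  constructor
  · intro h
    exact (Groth.Agent.H11.SmoothDim1.localDim_eq_finrank_of_isSmoothAt k q).ge
  · intro h
    obtain ⟨n, φ, hφ⟩ := Algebra.FiniteType.iff_quotient_mvPolynomial''.1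
      (inferInstance : Algebra.FiniteType k S)
    have hIq : RingHom.ker φ ≤ q.comap φ := fun x hx => by
      rw [Ideal.mem_comap, (RingHom.mem_ker).mp hx]; exact zero_mem _
    haveI : (q.comap φ).IsPrime := Ideal.comap_isPrime φ q
    haveI hp : ((q.comap φ).map (Ideal.Quotient.mk (RingHom.ker φ))).IsPrime :=
      map_mk_isPrime_of_le hIq
    let e : (MvPolynomial (Fin n) k ⧸ RingHom.ker φ) ≃ₐ[k] S :=
      Ideal.quotientKerAlgEquivOfSurjective hφ
    have hq : ∀ y, y ∈ (q.comap φ).map (Ideal.Quotient.mk (RingHom.ker φ)) ↔ e y ∈ q := by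
      intro y
      obtain ⟨b, rfl⟩ := Ideal.Quotient.mk_surjective y
      rw [Ideal.mem_quotient_iff_mem hIq, Ideal.mem_comap,
        Ideal.quotientKerAlgEquivOfSurjective_mk]
    have hq' : (q.comap φ).map (Ideal.Quotient.mk (RingHom.ker φ)) =
        q.comap e.toAlgHom.toRingHom := by
      ext y
      exact hq y
    change Algebra.FormallySmooth k (Localization.AtPrime q)
    rw [← Groth.Agent.H11.StdSing.formallySmooth_atPrime_iff_of_surjective φ hφ q]
    apply formallySmooth_of_le_localDim (RingHom.ker φ) (q.comap φ) hIq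
    have hbij : Function.Bijective e.toAlgHom.toRingHom := e.bijective
    have hF := Groth.Agent.H11.SmoothDim1.finrank_residueField_kaehler_of_algHom k e.toAlgHom
      (RingHom.Etale.of_bijective hbij).1 q _ hq'
    have hL := Groth.Agent.H11.SmoothDim1.localDim_comap_of_etale e.toAlgHom.toRingHom
      (RingHom.Etale.of_bijective hbij) ⟨q, inferInstance⟩
    have hpt : PrimeSpectrum.comap e.toAlgHom.toRingHom ⟨q, inferInstance⟩ =
        ⟨(q.comap φ).map (Ideal.Quotient.mk (RingHom.ker φ)), hp⟩ :=
      PrimeSpectrum.ext hq'.symm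
    rw [hpt] at hL
    rw [← hL, ← hF]
    exact h

end main

end Groth.Agent.H11.SmoothDim2
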