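import Mathlib
import Groth.Agent.H11.SmoothDim2

/-!
# Étaleness over a polynomial ring via differentials

* `formallyEtale_of_bijective_mapBaseChange`: for `R → S → T` with `T` formally smooth over `R` and
  `T ⊗[S] Ω[S/R] → Ω[T/R]` bijective, `T` is formally étale over `S` (Jacobi–Zariski).
-/

set_option autoImplicit false
set_option linter.unusedSectionVars false

namespace Groth.Agent.H11.EtaleDiff

open TensorProduct

universe u

section JZ

variable (R S T : Type u) [CommRing R] [CommRing S] [CommRing T] [Algebra R S] [Algebra R T]
  [Algebra S T] [IsScalarTower R S T]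

theorem formallyUnramified_of_surjective_mapBaseChange
    (h : Function.Surjective (KaehlerDifferential.mapBaseChange R S T)) :
    Algebra.FormallyUnramified S T := by
  refine ⟨⟨fun a b => ?_⟩⟩
  have key : ∀ a : Ω[T⁄S], a = 0 := by
    intro a
    obtain ⟨x, rfl⟩ := KaehlerDifferential.map_surjective R S T a
    obtain ⟨y, rfl⟩ := h x
    exact (KaehlerDifferential.exact_mapBaseChange_map R S T _).mpr ⟨y, rfl⟩
  rw [key a, key b]

theorem formallyEtale_of_bijective_mapBaseChange [Algebra.FormallySmooth R T]
    (h : Function.Bijective (KaehlerDifferential.mapBaseChange R S T)) :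
    Algebra.FormallyEtale S T := by
  haveI hu : Algebra.FormallyUnramified S T :=
    formallyUnramified_of_surjective_mapBaseChange R S T h.2
  haveI : Subsingleton (Algebra.H1Cotangent S T) := by
    refine ⟨fun a b => ?_⟩
    have key : ∀ a : Algebra.H1Cotangent S T, a = 0 := by
      intro a
      have h1 : Algebra.H1Cotangent.δ R S T a = 0 := by
        apply h.1
        rw [map_zero]
        exact (Algebra.H1Cotangent.exact_δ_mapBaseChange R S T _).mpr ⟨a, rfl⟩
      obtain ⟨y, rfl⟩ := (Algebra.H1Cotangent.exact_map_δ R S T a).mp h1
      rw [Subsingleton.elim y 0, map_zero]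
    rw [key a, key b]
  haveI : Algebra.FormallySmooth S T := ⟨inferInstance, inferInstance⟩
  exact Algebra.FormallyEtale.of_formallyUnramified_and_formallySmooth

end JZ

section span

theorem finrank_baseChange_le_of_span_eq_top {R : Type*} [CommRing R] {M : Type*} [AddCommGroup M]
    [Module R M] (K : Type*) [Field K] [Algebra R K] {ι : Type*} [Fintype ι] (v : ι → M)
    (hv : Submodule.span R (Set.range v) = ⊤) :
    Module.finrank K (K ⊗[R] M) ≤ Fintype.card ι := by
  apply finrank_le_of_span_eq_top (v := fun i => (1 : K) ⊗ₜ[R] v i)
  have h1 := Submodule.baseChange_span (R := R) (M := M) K (Set.range v)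
  rw [hv, Submodule.baseChange_top] at h1
  rw [h1, ← Set.range_comp]
  rfl

end span

section main

open MvPolynomial

variable (k A : Type u) [Field k] [CommRing A] [Algebra k A] [Algebra.FiniteType k A] (n : ℕ)
  [Algebra (MvPolynomial (Fin n) k) A] [IsScalarTower k (MvPolynomial (Fin n) k) A]
  (p : Ideal A) [p.IsPrime]

theorem mapBaseChange_one_tmul_D_X (i : Fin n) :
    KaehlerDifferential.mapBaseChange k (MvPolynomial (Fin n) k) (Localization.AtPrime p)
      ((1 : Localization.AtPrime p) ⊗ₜ KaehlerDifferential.D k (MvPolynomial (Fin n) k) (X i)) =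
    KaehlerDifferential.D k (Localization.AtPrime p)
      (algebraMap A (Localization.AtPrime p) (algebraMap (MvPolynomial (Fin n) k) A (X i))) := by
  rw [KaehlerDifferential.mapBaseChange_tmul, one_smul, KaehlerDifferential.map_D,
    ← IsScalarTower.algebraMap_apply]

theorem span_one_tmul_D_X :
    Submodule.span (Localization.AtPrime p) (Set.range fun i : Fin n =>
      (1 : Localization.AtPrime p) ⊗ₜ[MvPolynomial (Fin n) k]
        KaehlerDifferential.D k (MvPolynomial (Fin n) k) (X i)) = ⊤ := by
  have h := ((KaehlerDifferential.mvPolynomialBasis k (Fin n)).baseChange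
    (Localization.AtPrime p)).span_eq
  convert h using 3
  ext i
  rw [Module.Basis.baseChange_apply, KaehlerDifferential.mvPolynomialBasis_apply]

/-- **Étaleness over the polynomial ring via differentials**: if `Spec A` has local dimension `n`
at `p`, then `A` is étale at `p` over `k[X₁, …, Xₙ]` iff the `d gᵢ` generate `Ω[A_p/k]`. -/
theorem isEtaleAt_iff_span_D_eq_top
    (hn : FlatMor.localDim (PrimeSpectrum A) ⟨p, inferInstance⟩ = (n : WithBot ℕ∞)) :
    Algebra.IsEtaleAt (MvPolynomial (Fin n) k) p ↔
      Submodule.span (Localization.AtPrime p)
        (Set.range fun i : Fin n => KaehlerDifferential.D k (Localization.AtPrime p)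
          (algebraMap A (Localization.AtPrime p)
            (algebraMap (MvPolynomial (Fin n) k) A (X i)))) = ⊤ := by
  have hrange : Submodule.span (Localization.AtPrime p)
      (Set.range fun i : Fin n => KaehlerDifferential.D k (Localization.AtPrime p)
        (algebraMap A (Localization.AtPrime p) (algebraMap (MvPolynomial (Fin n) k) A (X i)))) =
      LinearMap.range (KaehlerDifferential.mapBaseChange k (MvPolynomial (Fin n) k)
        (Localization.AtPrime p)) := by
    rw [LinearMap.range_eq_map, ← span_one_tmul_D_X k A n p, Submodule.map_span,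
      ← Set.range_comp]
    congr 2
    ext i
    exact (mapBaseChange_one_tmul_D_X k A n p i).symm
  rw [hrange, LinearMap.range_eq_top]
  constructor
  · intro h
    haveI : Algebra.FormallyEtale (MvPolynomial (Fin n) k) (Localization.AtPrime p) := h
    intro y
    obtain ⟨x, hx⟩ := (KaehlerDifferential.tensorKaehlerEquivOfFormallyEtale k
      (MvPolynomial (Fin n) k) (Localization.AtPrime p)).surjective y
    exact ⟨x, by rw [← hx, KaehlerDifferential.tensorKaehlerEquivOfFormallyEtale_apply]⟩
  · intro hsurj
    haveI : Algebra.FormallyEtale A (Localization.AtPrime p) :=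
      Algebra.FormallyEtale.of_isLocalization p.primeCompl
    have hF := Groth.Agent.H11.SmoothDim1.finrank_fibre_kaehler_of_formallyEtale k A
      (Localization.AtPrime p) p.ResidueField p.ResidueField
    have hspanT : Submodule.span (Localization.AtPrime p)
        (Set.range fun i : Fin n => KaehlerDifferential.D k (Localization.AtPrime p)
          (algebraMap A (Localization.AtPrime p)
            (algebraMap (MvPolynomial (Fin n) k) A (X i)))) = ⊤ := by
      rw [hrange, LinearMap.range_eq_top]
      exact hsurj
    have hle : Module.finrank p.ResidueField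
        (p.ResidueField ⊗[Localization.AtPrime p] Ω[Localization.AtPrime p⁄k]) ≤ n := by
      have h1 := finrank_baseChange_le_of_span_eq_top p.ResidueField _ hspanT
      rwa [Fintype.card_fin] at h1
    have hsm : Algebra.IsSmoothAt k p := by
      rw [Groth.Agent.H11.SmoothDim2.isSmoothAt_iff_finrank_le_localDim, hn, ← hF]
      exact_mod_cast hle
    haveI : Algebra.FormallySmooth k (Localization.AtPrime p) := hsm
    have hD := Groth.Agent.H11.SmoothDim1.localDim_eq_finrank_of_isSmoothAt k p
    rw [hn, ← hF] at hD
    have hrk : Module.finrank p.ResidueField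
        (p.ResidueField ⊗[Localization.AtPrime p] Ω[Localization.AtPrime p⁄k]) = n := by
      exact_mod_cast hD.symm
    haveI : Algebra.EssFiniteType A (Localization.AtPrime p) :=
      .of_isLocalization (Localization.AtPrime p) p.primeCompl
    haveI : Algebra.EssFiniteType k (Localization.AtPrime p) :=
      .comp k A (Localization.AtPrime p)
    haveI : Module.Finite (Localization.AtPrime p) Ω[Localization.AtPrime p⁄k] := inferInstance
    haveI : Module.Free (Localization.AtPrime p) Ω[Localization.AtPrime p⁄k] :=
      Module.free_of_flat_of_isLocalRing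
    have hrkT : Module.finrank (Localization.AtPrime p) Ω[Localization.AtPrime p⁄k] = n := by
      rw [← hrk, Module.finrank_baseChange]
    let b2 : Module.Basis (Fin n) (Localization.AtPrime p) Ω[Localization.AtPrime p⁄k] :=
      Module.finBasisOfFinrankEq (Localization.AtPrime p) _ hrkT
    let b1 := (KaehlerDifferential.mvPolynomialBasis k (Fin n)).baseChange
      (Localization.AtPrime p)
    have hinj : Function.Injective (KaehlerDifferential.mapBaseChange k (MvPolynomial (Fin n) k)
        (Localization.AtPrime p)) :=
      OrzechProperty.injective_of_surjective_of_injective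
        (b1.equiv b2 (Equiv.refl _)).toLinearMap _ (LinearEquiv.injective _) hsurj
    exact formallyEtale_of_bijective_mapBaseChange k (MvPolynomial (Fin n) k)
      (Localization.AtPrime p) ⟨hinj, hsurj⟩

end main

end Groth.Agent.H11.EtaleDiff
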