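import Mathlib
import Groth.Agent.H11.EtaleDiff
import Groth.Agent.Lead.RegularLocal3

/-!
# Étaleness over a polynomial ring: generators of the maximal ideal and differentials of the
residue field (EGA IV 17.15.x type criteria)
-/

set_option autoImplicit false
set_option linter.unusedSectionVars false

namespace Groth.Agent.H11.EtaleDiff2

open TensorProduct MvPolynomial IsLocalRing

universe u

section span

theorem span_one_tmul_eq_top {R : Type*} [CommRing R] {M : Type*} [AddCommGroup M]
    [Module R M] (K : Type*) [Field K] [Algebra R K] {ι : Type*} (v : ι → M)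
    (hv : Submodule.span R (Set.range v) = ⊤) :
    Submodule.span K (Set.range fun i => (1 : K) ⊗ₜ[R] v i) = ⊤ := by
  have h1 := Submodule.baseChange_span (R := R) (M := M) K (Set.range v)
  rw [hv, Submodule.baseChange_top] at h1
  rw [h1, ← Set.range_comp]
  rfl

end span

section nak

variable {k T : Type u} [CommRing k] [CommRing T] [IsLocalRing T] [Algebra k T]

/-- If part of a family generates the maximal ideal and the differentials of the residue classes
of another part span `Ω[κ/k]`, then the differentials of the family span `Ω[T/k]`. -/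
theorem span_D_eq_top_of_generators [Module.Finite T Ω[T⁄k]] {ι : Type*} (g : ι → T)
    (S₁ S₂ : Set ι) (h1 : Ideal.span (g '' S₁) = maximalIdeal T)
    (h2 : Submodule.span (ResidueField T)
      ((fun i => KaehlerDifferential.D k (ResidueField T) (residue T (g i))) '' S₂) = ⊤) :
    Submodule.span T (Set.range fun i => KaehlerDifferential.D k T (g i)) = ⊤ := by
  rw [← IsLocalRing.map_tensorProduct_mk_eq_top, Submodule.map_span, ← Set.range_comp,
    ← Submodule.restrictScalars_span T (ResidueField T) Ideal.Quotient.mk_surjective,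
    Submodule.restrictScalars_eq_top_iff]
  set W := Submodule.span (ResidueField T) (Set.range
    (⇑(TensorProduct.mk T (ResidueField T) Ω[T⁄k] 1) ∘ fun i => KaehlerDifferential.D k T (g i)))
    with hWdef
  have hW : ∀ i, (1 : ResidueField T) ⊗ₜ[T] KaehlerDifferential.D k T (g i) ∈ W :=
    fun i => Submodule.subset_span ⟨i, rfl⟩
  have hsurj : Function.Surjective (algebraMap T (ResidueField T)) := Ideal.Quotient.mk_surjective
  have hmb : ∀ t, KaehlerDifferential.mapBaseChange k T (ResidueField T)
      ((1 : ResidueField T) ⊗ₜ[T] KaehlerDifferential.D k T t) =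
      KaehlerDifferential.D k (ResidueField T) (residue T t) := by
    intro t
    rw [KaehlerDifferential.mapBaseChange_tmul, one_smul, KaehlerDifferential.map_D]
    rfl
  have hm : ∀ x ∈ maximalIdeal T, (1 : ResidueField T) ⊗ₜ[T] KaehlerDifferential.D k T x ∈ W := by
    intro x hx
    rw [← h1] at hx
    induction hx using Submodule.span_induction with
    | mem x hx =>
      obtain ⟨i, -, rfl⟩ := hx
      exact hW i
    | zero => simp
    | add x y _ _ hx hy =>
      rw [map_add, tmul_add]
      exact add_mem hx hy
    | smul a x hx ih =>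
      have hxm : x ∈ maximalIdeal T := h1 ▸ hx
      have h0 : x • (1 : ResidueField T) = 0 := by
        rw [Algebra.smul_def, mul_one]
        exact (residue_eq_zero_iff x).mpr hxm
      rw [smul_eq_mul, Derivation.leibniz, tmul_add, tmul_smul, ← smul_tmul, h0, zero_tmul,
        add_zero, ← algebraMap_smul (ResidueField T) a]
      exact W.smul_mem _ ih
  rw [eq_top_iff]
  intro z _
  have h3 : KaehlerDifferential.mapBaseChange k T (ResidueField T) z ∈
      W.map (KaehlerDifferential.mapBaseChange k T (ResidueField T)) := by
    have hle : (⊤ : Submodule (ResidueField T) Ω[ResidueField T⁄k]) ≤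
        W.map (KaehlerDifferential.mapBaseChange k T (ResidueField T)) := by
      rw [← h2, Submodule.span_le]
      rintro _ ⟨i, -, rfl⟩
      exact ⟨_, hW i, hmb (g i)⟩
    exact hle trivial
  obtain ⟨w, hw, hwz⟩ := h3
  have h4 : KaehlerDifferential.mapBaseChange k T (ResidueField T) (z - w) = 0 := by
    rw [map_sub, hwz, sub_self]
  obtain ⟨c, hc⟩ := (KaehlerDifferential.exact_kerCotangentToTensor_mapBaseChange k T
    (ResidueField T) hsurj (z - w)).mp h4
  obtain ⟨x, rfl⟩ := Ideal.toCotangent_surjective _ c
  rw [KaehlerDifferential.kerCotangentToTensor_toCotangent] at hc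
  have hx : x.1 ∈ maximalIdeal T := by
    have h5 := x.2
    rw [RingHom.mem_ker] at h5
    exact (residue_eq_zero_iff x.1).mp h5
  have h6 : z = w + (1 : ResidueField T) ⊗ₜ[T] KaehlerDifferential.D k T x.1 := by
    rw [hc]; abel
  rw [h6]
  exact add_mem hw (hm _ hx)

end nak

section gen

variable {k T : Type u} [CommRing k] [CommRing T] [IsLocalRing T] [Algebra k T]

/-- If `m` is generated by `r` elements, then `r` elements of `m` whose differentials are linearly
independent in the fibre of `Ω[T/k]` generate `m`. -/
theorem span_eq_maximalIdeal_of_linearIndependent {r : ℕ} (y : Fin r → T)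
    (hy : Ideal.span (Set.range y) = maximalIdeal T) (g : Fin r → T)
    (hg : ∀ i, g i ∈ maximalIdeal T)
    (hli : LinearIndependent (ResidueField T)
      (fun i => (1 : ResidueField T) ⊗ₜ[T] KaehlerDifferential.D k T (g i))) :
    Ideal.span (Set.range g) = maximalIdeal T := by
  classical
  have hex : ∀ i, ∃ a : Fin r → T, ∑ j, a j * y j = g i := fun i =>
    (Ideal.mem_span_range_iff_exists_fun).mp (hy ▸ hg i)
  choose a ha using hex
  set M : Matrix (Fin r) (Fin r) T := Matrix.of a with hM
  have hym : ∀ j, y j ∈ maximalIdeal T := fun j => hy ▸ Ideal.subset_span ⟨j, rfl⟩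
  have hd : ∀ i, (1 : ResidueField T) ⊗ₜ[T] KaehlerDifferential.D k T (g i) =
      ∑ j, residue T (a i j) • ((1 : ResidueField T) ⊗ₜ[T] KaehlerDifferential.D k T (y j)) := by
    intro i
    rw [← ha i, map_sum, tmul_sum]
    apply Finset.sum_congr rfl
    intro j _
    have h0 : y j • (1 : ResidueField T) = 0 := by
      rw [Algebra.smul_def, mul_one]
      exact (residue_eq_zero_iff (y j)).mpr (hym j)
    rw [Derivation.leibniz, tmul_add, tmul_smul, ← smul_tmul, h0, zero_tmul, add_zero,
      ← algebraMap_smul (ResidueField T) (a i j)]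
    rfl
  have hrows : LinearIndependent (ResidueField T) ((residue T).mapMatrix M).row := by
    rw [Fintype.linearIndependent_iff]
    intro c hc
    have hc' : ∀ j, ∑ i, c i * residue T (a i j) = 0 := by
      intro j
      have := congrFun hc j
      simpa [Matrix.row, hM] using this
    have h1 : ∑ i, c i • ((1 : ResidueField T) ⊗ₜ[T] KaehlerDifferential.D k T (g i)) = 0 := by
      simp_rw [hd, Finset.smul_sum, smul_smul]
      rw [Finset.sum_comm]
      simp_rw [← Finset.sum_smul, hc', zero_smul]
      exact Finset.sum_const_zero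
    exact Fintype.linearIndependent_iff.mp hli c h1
  have hunit : IsUnit ((residue T).mapMatrix M) := Matrix.linearIndependent_rows_iff_isUnit.mp hrows
  have hdet : IsUnit M.det := by
    have h2 := (Matrix.isUnit_iff_isUnit_det _).mp hunit
    rw [← RingHom.map_det] at h2
    by_contra hnu
    have : M.det ∈ maximalIdeal T := (mem_maximalIdeal _).mpr hnu
    rw [(residue_eq_zero_iff _).mpr this] at h2
    exact not_isUnit_zero h2
  have hgy : g = M.mulVec y := by
    funext i
    rw [← ha i]
    rfl
  have hyg : y = M⁻¹.mulVec g := by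
    rw [hgy, Matrix.mulVec_mulVec, Matrix.nonsing_inv_mul M hdet, Matrix.one_mulVec]
  apply le_antisymm
  · rw [Ideal.span_le]
    rintro _ ⟨i, rfl⟩
    exact hg i
  · rw [← hy, Ideal.span_le]
    rintro _ ⟨j, rfl⟩
    rw [hyg]
    change ∑ i, M⁻¹ j i * g i ∈ _
    exact Ideal.sum_mem _ fun i _ => Ideal.mul_mem_left _ _ (Ideal.subset_span ⟨i, rfl⟩)

end gen

section main

variable (k A : Type u) [Field k] [CommRing A] [Algebra k A] [Algebra.FiniteType k A] (n : ℕ)
  [Algebra (MvPolynomial (Fin n) k) A] [IsScalarTower k (MvPolynomial (Fin n) k) A]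
  (p : Ideal A) [p.IsPrime]

/-- The image of the `i`-th variable in the local ring. -/
noncomputable abbrev gg (i : Fin n) : Localization.AtPrime p :=
  algebraMap A (Localization.AtPrime p) (algebraMap (MvPolynomial (Fin n) k) A (X i))

theorem finrank_fibre_localization :
    Module.finrank p.ResidueField
      (p.ResidueField ⊗[Localization.AtPrime p] Ω[Localization.AtPrime p⁄k]) =
    Module.finrank p.ResidueField (p.ResidueField ⊗[A] Ω[A⁄k]) := by
  haveI : Algebra.FormallyEtale A (Localization.AtPrime p) :=
    Algebra.FormallyEtale.of_isLocalization p.primeCompl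
  exact Groth.Agent.H11.SmoothDim1.finrank_fibre_kaehler_of_formallyEtale k A
    (Localization.AtPrime p) p.ResidueField p.ResidueField

/-- Consequences of étaleness at `p` over the polynomial ring in `n = localDim` variables. -/
theorem facts_of_isEtaleAt
    (hn : FlatMor.localDim (PrimeSpectrum A) ⟨p, inferInstance⟩ = (n : WithBot ℕ∞))
    (h : Algebra.IsEtaleAt (MvPolynomial (Fin n) k) p) :
    Algebra.IsSmoothAt k p ∧
    LinearIndependent p.ResidueField (fun i : Fin n =>
      (1 : p.ResidueField) ⊗ₜ[Localization.AtPrime p]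
        KaehlerDifferential.D k (Localization.AtPrime p) (gg k A n p i)) ∧
    Submodule.span p.ResidueField (Set.range fun i : Fin n =>
      (1 : p.ResidueField) ⊗ₜ[Localization.AtPrime p]
        KaehlerDifferential.D k (Localization.AtPrime p) (gg k A n p i)) = ⊤ := by
  haveI : Algebra.FormallyEtale (MvPolynomial (Fin n) k) (Localization.AtPrime p) := h
  have hsm : Algebra.FormallySmooth k (Localization.AtPrime p) :=
    Algebra.FormallySmooth.comp k (MvPolynomial (Fin n) k) (Localization.AtPrime p)
  haveI : Algebra.IsSmoothAt k p := hsm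
  have hD := Groth.Agent.H11.SmoothDim1.localDim_eq_finrank_of_isSmoothAt k p
  rw [hn, ← finrank_fibre_localization k A p] at hD
  have hrk : Module.finrank p.ResidueField
      (p.ResidueField ⊗[Localization.AtPrime p] Ω[Localization.AtPrime p⁄k]) = n := by
    exact_mod_cast hD.symm
  have hspanT := (Groth.Agent.H11.EtaleDiff.isEtaleAt_iff_span_D_eq_top k A n p hn).mp h
  have hspan := span_one_tmul_eq_top p.ResidueField _ hspanT
  refine ⟨hsm, ?_, hspan⟩
  apply linearIndependent_of_top_le_span_of_card_eq_finrank hspan.ge
  rw [Fintype.card_fin, hrk]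

theorem gg_mem_maximalIdeal (i : Fin n)
    (hi : algebraMap (MvPolynomial (Fin n) k) A (X i) ∈ p) :
    gg k A n p i ∈ maximalIdeal (Localization.AtPrime p) :=
  (IsLocalization.AtPrime.to_map_mem_maximal_iff (Localization.AtPrime p) p _).mpr hi

include k in
/-- `dim A_p ≤ localDim`. -/
theorem dim_le_of_localDim_eq (r : ℕ)
    (hn : FlatMor.localDim (PrimeSpectrum A) ⟨p, inferInstance⟩ = (n : WithBot ℕ∞))
    (hr : ringKrullDim (Localization.AtPrime p) = (r : WithBot ℕ∞)) :
    r ≤ n ∧ Order.coheight (⟨p, inferInstance⟩ : PrimeSpectrum A) = ((n - r : ℕ) : ℕ∞) := by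
  have e1 := Groth.Agent.H11.FtDim.localDim_eq_height_add_coheight (k := k)
    (⟨p, inferInstance⟩ : PrimeSpectrum A)
  have e2 : ringKrullDim (Localization.AtPrime p) = p.height :=
    IsLocalization.AtPrime.ringKrullDim_eq_height p (Localization.AtPrime p)
  have e3 : p.height = Order.height (⟨p, inferInstance⟩ : PrimeSpectrum A) :=
    PrimeSpectrum.height_eq_orderHeight ⟨p, inferInstance⟩
  rw [hr, e3] at e2
  have e4 : Order.height (⟨p, inferInstance⟩ : PrimeSpectrum A) = (r : ℕ∞) := by
    exact_mod_cast e2.symm
  rw [hn, e4] at e1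
  have e5 : ((n : ℕ) : ℕ∞) = (r : ℕ∞) + Order.coheight (⟨p, inferInstance⟩ : PrimeSpectrum A) := by
    exact_mod_cast e1
  have hfin : Order.coheight (⟨p, inferInstance⟩ : PrimeSpectrum A) ≠ ⊤ := by
    intro htop
    rw [htop, add_top] at e5
    exact ENat.natCast_ne_top n e5
  obtain ⟨c, hc⟩ := ENat.ne_top_iff_exists.mp hfin
  rw [← hc] at e5 ⊢
  have e6 : n = r + c := by exact_mod_cast e5
  refine ⟨by omega, ?_⟩
  have : c = n - r := by omega
  rw [this]

/-- EGA IV 17.15.x: étaleness over the polynomial ring in terms of generators of the maximal ideal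
and differentials of the residue field. -/
theorem isEtaleAt_iff_generators (r : ℕ)
    (hn : FlatMor.localDim (PrimeSpectrum A) ⟨p, inferInstance⟩ = (n : WithBot ℕ∞))
    (hr : ringKrullDim (Localization.AtPrime p) = (r : WithBot ℕ∞))
    (hg : ∀ i : Fin n, (i : ℕ) < r → algebraMap (MvPolynomial (Fin n) k) A (X i) ∈ p) :
    Algebra.IsEtaleAt (MvPolynomial (Fin n) k) p ↔
      Ideal.span ((fun i : Fin n => gg k A n p i) '' {i : Fin n | (i : ℕ) < r}) =
          maximalIdeal (Localization.AtPrime p) ∧
        Submodule.span p.ResidueField ((fun i : Fin n =>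
          KaehlerDifferential.D k p.ResidueField
            (residue (Localization.AtPrime p) (gg k A n p i))) ''
            {i : Fin n | r ≤ (i : ℕ)}) = ⊤ := by
  haveI : Algebra.EssFiniteType A (Localization.AtPrime p) :=
    .of_isLocalization (Localization.AtPrime p) p.primeCompl
  haveI : Algebra.EssFiniteType k (Localization.AtPrime p) :=
    .comp k A (Localization.AtPrime p)
  haveI : Module.Finite (Localization.AtPrime p) Ω[Localization.AtPrime p⁄k] := inferInstance
  constructor
  · intro h
    obtain ⟨hsm, hli, hspan⟩ := facts_of_isEtaleAt k A n p hn h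
    obtain ⟨hrn, -⟩ := dim_le_of_localDim_eq k A n p r hn hr
    constructor
    · haveI : Algebra.IsSmoothAt k p := hsm
      haveI : IsRegularLocalRing (Localization.AtPrime p) :=
        Groth.Agent.H47.RSF.isRegularLocalRing_of_isSmoothAt k A p
      have hsf : (maximalIdeal (Localization.AtPrime p)).spanFinrank = r := by
        have h1 := IsRegularLocalRing.spanFinrank_maximalIdeal (R := Localization.AtPrime p)
        rw [hr] at h1
        exact_mod_cast h1
      obtain ⟨s, hscard, hsspan⟩ := Submodule.FG.exists_span_finset_card_eq_spanFinrank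
        (maximalIdeal (Localization.AtPrime p)).fg_of_isNoetherianRing
      obtain ⟨y, hy⟩ := Groth.Agent.Lead.RLR.exists_fin_range_eq s r (hscard.trans hsf)
      have hyspan : Ideal.span (Set.range y) = maximalIdeal (Localization.AtPrime p) := by
        rw [hy]
        exact hsspan
      have hg' : ∀ i : Fin r, gg k A n p (Fin.castLE hrn i) ∈
          maximalIdeal (Localization.AtPrime p) := fun i =>
        gg_mem_maximalIdeal k A n p _ (hg _ (by simp))
      have hli' := hli.comp (Fin.castLE hrn) (Fin.castLE_injective hrn)
      have key := span_eq_maximalIdeal_of_linearIndependent (k := k) y hyspan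
        (fun i : Fin r => gg k A n p (Fin.castLE hrn i)) hg' hli'
      rw [← key]
      congr 1
      ext x
      constructor
      · rintro ⟨i, hi, rfl⟩
        exact ⟨⟨i, hi⟩, rfl⟩
      · rintro ⟨j, rfl⟩
        exact ⟨Fin.castLE hrn j, by simp, rfl⟩
    · have hsurj : Function.Surjective (algebraMap (Localization.AtPrime p) p.ResidueField) :=
        Ideal.Quotient.mk_surjective
      have hmbs := KaehlerDifferential.mapBaseChange_surjective k (Localization.AtPrime p)
        p.ResidueField hsurj
      rw [eq_top_iff, ← LinearMap.range_eq_top.mpr hmbs, LinearMap.range_eq_map, ← hspan,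
        Submodule.map_span, Submodule.span_le]
      rintro _ ⟨_, ⟨i, rfl⟩, rfl⟩
      have hmb : KaehlerDifferential.mapBaseChange k (Localization.AtPrime p) p.ResidueField
          ((1 : p.ResidueField) ⊗ₜ[Localization.AtPrime p]
            KaehlerDifferential.D k (Localization.AtPrime p) (gg k A n p i)) =
          KaehlerDifferential.D k p.ResidueField
            (residue (Localization.AtPrime p) (gg k A n p i)) := by
        rw [KaehlerDifferential.mapBaseChange_tmul, one_smul, KaehlerDifferential.map_D]
        rfl
      rw [hmb]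
      by_cases hi : r ≤ (i : ℕ)
      · exact Submodule.subset_span ⟨i, hi, rfl⟩
      · have h0 : residue (Localization.AtPrime p) (gg k A n p i) = 0 :=
          (residue_eq_zero_iff _).mpr (gg_mem_maximalIdeal k A n p i (hg i (not_le.mp hi)))
        rw [h0, map_zero]
        exact zero_mem _
  · rintro ⟨h1, h2⟩
    rw [Groth.Agent.H11.EtaleDiff.isEtaleAt_iff_span_D_eq_top k A n p hn]
    exact span_D_eq_top_of_generators (k := k) (fun i : Fin n => gg k A n p i) _ _ h1 h2

end main

end Groth.Agent.H11.EtaleDiff2
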