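import Mathlib
import Groth.Agent.H11.EtaleDiff2
import Groth.Agent.H47.FSSep

/-!
# Separability of residue fields via differentials

For a prime `p` of a finite type algebra `A` over a field `k`, the residue field `κ(p)` is
geometrically reduced (separable) over `k` iff `dim_κ(p) Ω[κ(p)/k] ≤ dim A/p`.
-/

set_option autoImplicit false
set_option linter.unusedSectionVars false

namespace Groth.Agent.H11.GeomRedDiff

open TensorProduct IsLocalRing Groth.Agent.H11.FtDim

universe u

variable (k A : Type u) [Field k] [CommRing A] [Algebra k A] [Algebra.FiniteType k A]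
  (p : Ideal A) [p.IsPrime]

instance : (⊥ : Ideal (A ⧸ p)).IsPrime := Ideal.isPrime_bot

include k in
/-- The local dimension of `Spec (A/p)` at the generic point is `dim A/p`. -/
theorem localDim_quotient_bot :
    FlatMor.localDim (PrimeSpectrum (A ⧸ p)) ⟨⊥, inferInstance⟩ =
      ((Order.coheight (⟨p, inferInstance⟩ : PrimeSpectrum A) : ℕ∞) : WithBot ℕ∞) := by
  have e1 := localDim_eq_height_add_coheight (k := k)
    (⟨⊥, inferInstance⟩ : PrimeSpectrum (A ⧸ p))
  have e2 : Order.height (⟨⊥, inferInstance⟩ : PrimeSpectrum (A ⧸ p)) = 0 := by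
    rw [← PrimeSpectrum.height_eq_orderHeight]
    exact Ideal.height_bot
  have e3 : (⟨⊥, inferInstance⟩ : PrimeSpectrum (A ⧸ p)) =
      mapMk p ⟨p, inferInstance⟩ le_rfl :=
    PrimeSpectrum.ext (Ideal.map_quotient_self p).symm
  have e4 := coheight_mapMk p (⟨p, inferInstance⟩ : PrimeSpectrum A) le_rfl
  rw [e2, zero_add, e3, e4] at e1
  rw [e3]
  exact e1

/-- The fibre of `Ω[(A/p)/k]` at the generic point is `Ω[κ(p)/k]`. -/
theorem finrank_fibre_quotient_bot :
    Module.finrank (⊥ : Ideal (A ⧸ p)).ResidueField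
      ((⊥ : Ideal (A ⧸ p)).ResidueField ⊗[A ⧸ p] Ω[(A ⧸ p)⁄k]) =
    Module.finrank p.ResidueField Ω[p.ResidueField⁄k] := by
  have hinj : Function.Injective (algebraMap (A ⧸ p) p.ResidueField) :=
    IsFractionRing.injective (A ⧸ p) p.ResidueField
  letI : Algebra (⊥ : Ideal (A ⧸ p)).ResidueField p.ResidueField :=
    (IsFractionRing.lift hinj).toAlgebra
  haveI : IsScalarTower (A ⧸ p) (⊥ : Ideal (A ⧸ p)).ResidueField p.ResidueField :=
    IsScalarTower.of_algebraMap_eq fun x => (IsFractionRing.lift_algebraMap hinj x).symm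
  haveI : Algebra.FormallyEtale (A ⧸ p) p.ResidueField :=
    Algebra.FormallyEtale.of_isLocalization (nonZeroDivisors (A ⧸ p))
  have h := Groth.Agent.H11.SmoothDim1.finrank_fibre_kaehler_of_formallyEtale k (A ⧸ p)
    p.ResidueField (⊥ : Ideal (A ⧸ p)).ResidueField p.ResidueField
  rw [← h, Module.finrank_baseChange]

/-- Smoothness of `A/p` at the generic point is formal smoothness of the residue field. -/
theorem isSmoothAt_quotient_bot_iff :
    Algebra.IsSmoothAt k (⊥ : Ideal (A ⧸ p)) ↔ Algebra.FormallySmooth k p.ResidueField := by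
  haveI : IsFractionRing (A ⧸ p) (Localization.AtPrime (⊥ : Ideal (A ⧸ p))) := by
    simpa [Ideal.primeCompl_bot] using
      Localization.isLocalization (M := (⊥ : Ideal (A ⧸ p)).primeCompl)
  let e : Localization.AtPrime (⊥ : Ideal (A ⧸ p)) ≃ₐ[A ⧸ p] p.ResidueField :=
    IsLocalization.algEquiv (nonZeroDivisors (A ⧸ p)) _ _
  exact Algebra.FormallySmooth.iff_of_equiv (e.restrictScalars k)

/-- **Separability of the residue field via differentials.** -/
theorem isGeometricallyReduced_residueField_iff (c : ℕ)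
    (hc : Order.coheight (⟨p, inferInstance⟩ : PrimeSpectrum A) = (c : ℕ∞)) :
    Algebra.IsGeometricallyReduced k p.ResidueField ↔
      Module.finrank p.ResidueField Ω[p.ResidueField⁄k] ≤ c := by
  rw [← Groth.Agent.H47.formallySmooth_field_iff_isGeometricallyReduced,
    ← isSmoothAt_quotient_bot_iff k A p,
    Groth.Agent.H11.SmoothDim2.isSmoothAt_iff_finrank_le_localDim,
    localDim_quotient_bot k A p, finrank_fibre_quotient_bot k A p, hc]
  norm_cast

end Groth.Agent.H11.GeomRedDiff
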