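import Mathlib
import Groth.Agent.H11.GeomRedDiff
import Groth.Agent.H11.SmoothDim2
import Groth.Agent.H48.GeomNormal

/-!
# Characteristic zero: freeness of differentials of the local ring implies smoothness
-/

set_option autoImplicit false

namespace Groth.Agent.H11.Char0Free

open TensorProduct IsLocalRing KaehlerDifferential

universe u

section lemmas

/-- In characteristic zero, over a local ring with free differentials, the differential of a
nilpotent element lies in `𝔪 Ω`. -/
theorem D_mem_of_isNilpotent (k T : Type*) [Field k] [CharZero k] [CommRing T] [Algebra k T]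
    [IsLocalRing T] [Module.Free T Ω[T⁄k]] (a : T) (ha : IsNilpotent a) :
    D k T a ∈ maximalIdeal T • (⊤ : Submodule T Ω[T⁄k]) := by
  classical
  let b := Module.Free.chooseBasis T Ω[T⁄k]
  have hex : ∃ n, a ^ n = 0 := ha
  have hc : ∀ i, b.repr (D k T a) i ∈ maximalIdeal T := by
    intro i
    by_contra hi
    have hu : IsUnit (b.repr (D k T a) i) := by
      by_contra h
      exact hi ((IsLocalRing.mem_maximalIdeal _).2 h)
    have hspec := Nat.find_spec hex
    rcases hN : Nat.find hex with _ | M
    · rw [hN, pow_zero] at hspec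
      exact one_ne_zero hspec
    · rw [hN] at hspec
      have h1 : D k T (a ^ (M + 1)) = 0 := by rw [hspec, map_zero]
      rw [Derivation.leibniz_pow, ← Nat.cast_smul_eq_nsmul T] at h1
      have hunit : IsUnit (((M + 1 : ℕ) : T)) := by
        have h2 : (((M + 1 : ℕ) : T)) = algebraMap k T ((M + 1 : ℕ) : k) := (map_natCast _ _).symm
        rw [h2]
        exact (IsUnit.mk0 _ (Nat.cast_ne_zero.2 (Nat.succ_ne_zero M))).map _
      rw [hunit.smul_eq_zero] at h1
      have h3 := congrArg (fun v => b.repr v i) h1
      simp only [Nat.add_sub_cancel, map_smul, Finsupp.smul_apply, smul_eq_mul, map_zero,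
        Finsupp.zero_apply] at h3
      rw [hu.mul_left_eq_zero] at h3
      exact Nat.find_min hex (by omega : M < Nat.find hex) h3
  rw [← b.linearCombination_repr (D k T a), Finsupp.linearCombination_apply, Finsupp.sum]
  exact Submodule.sum_mem _ fun i _ => Submodule.smul_mem_smul (hc i) Submodule.mem_top

/-- If `d(𝔪) ⊆ 𝔪 Ω` then `κ ⊗ Ω[T/k] → Ω[κ/k]` is bijective. -/
theorem mapBaseChange_bijective (k T : Type*) [CommRing k] [CommRing T] [Algebra k T]
    [IsLocalRing T]
    (h : ∀ a ∈ maximalIdeal T, D k T a ∈ maximalIdeal T • (⊤ : Submodule T Ω[T⁄k])) :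
    Function.Bijective (KaehlerDifferential.mapBaseChange k T (ResidueField T)) := by
  have hsurj : Function.Surjective (algebraMap T (ResidueField T)) :=
    IsLocalRing.residue_surjective
  refine ⟨?_, KaehlerDifferential.mapBaseChange_surjective k T _ hsurj⟩
  rw [injective_iff_map_eq_zero]
  intro x hx
  obtain ⟨y, rfl⟩ :=
    (KaehlerDifferential.exact_kerCotangentToTensor_mapBaseChange k T _ hsurj x).1 hx
  obtain ⟨⟨a, ha⟩, rfl⟩ := Ideal.toCotangent_surjective _ y
  rw [KaehlerDifferential.kerCotangentToTensor_toCotangent]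
  have ha' : a ∈ maximalIdeal T := by
    have : algebraMap T (ResidueField T) a = 0 := ha
    exact (IsLocalRing.residue_eq_zero_iff a).1 this
  refine Submodule.smul_induction_on (p := fun ω => (1 : ResidueField T) ⊗ₜ[T] ω = 0)
    (h a ha') ?_ ?_
  · intro r hr ω _
    rw [TensorProduct.tmul_smul, TensorProduct.smul_tmul', Algebra.smul_def, mul_one]
    have : algebraMap T (ResidueField T) r = 0 := (IsLocalRing.residue_eq_zero_iff r).2 hr
    rw [this, TensorProduct.zero_tmul]
  · intro x y hx hy
    rw [TensorProduct.tmul_add, hx, hy, add_zero]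

end lemmas

section main

variable (k A : Type u) [Field k] [CharZero k] [CommRing A] [Algebra k A]
  [Algebra.FiniteType k A] (q : Ideal A) [q.IsPrime]

theorem isSmoothAt_of_free
    [Module.Free (Localization.AtPrime q) Ω[Localization.AtPrime q⁄k]] :
    Algebra.IsSmoothAt k q := by
  rw [Groth.Agent.H11.SmoothDim2.isSmoothAt_iff_finrank_le_localDim]
  obtain ⟨q₀, hq₀min, hq₀le⟩ := Ideal.exists_minimalPrimes_le (bot_le : ⊥ ≤ q)
  haveI : q₀.IsPrime := hq₀min.1.1
  have hle : q.primeCompl ≤ q₀.primeCompl := fun x hx hx0 => hx (hq₀le hx0)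
  letI : Algebra (Localization.AtPrime q) (Localization.AtPrime q₀) :=
    IsLocalization.localizationAlgebraOfSubmonoidLe (Localization.AtPrime q)
      (Localization.AtPrime q₀) q.primeCompl q₀.primeCompl hle
  haveI : IsScalarTower A (Localization.AtPrime q) (Localization.AtPrime q₀) :=
    IsLocalization.localization_isScalarTower_of_submonoid_le (Localization.AtPrime q)
      (Localization.AtPrime q₀) _ _ hle
  haveI : IsLocalization (q₀.primeCompl.map (algebraMap A (Localization.AtPrime q)))
      (Localization.AtPrime q₀) :=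
    IsLocalization.isLocalization_of_submonoid_le (Localization.AtPrime q)
      (Localization.AtPrime q₀) _ _ hle
  haveI : IsScalarTower k (Localization.AtPrime q) (Localization.AtPrime q₀) :=
    IsScalarTower.of_algebraMap_eq fun x => by
      rw [IsScalarTower.algebraMap_apply k A (Localization.AtPrime q₀),
        IsScalarTower.algebraMap_apply A (Localization.AtPrime q) (Localization.AtPrime q₀),
        ← IsScalarTower.algebraMap_apply k A (Localization.AtPrime q)]
  haveI : Algebra.FormallyEtale (Localization.AtPrime q) (Localization.AtPrime q₀) :=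
    Algebra.FormallyEtale.of_isLocalization (Rₘ := Localization.AtPrime q₀)
      (q₀.primeCompl.map (algebraMap A (Localization.AtPrime q)))
  let e := KaehlerDifferential.tensorKaehlerEquivOfFormallyEtale k (Localization.AtPrime q)
    (Localization.AtPrime q₀)
  haveI : Module.Free (Localization.AtPrime q₀) Ω[Localization.AtPrime q₀⁄k] :=
    Module.Free.of_equiv e
  have hd : Module.finrank (Localization.AtPrime q₀) Ω[Localization.AtPrime q₀⁄k] =
      Module.finrank (Localization.AtPrime q) Ω[Localization.AtPrime q⁄k] := by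
    rw [← e.finrank_eq, Module.finrank_baseChange]
  have hnil : ∀ a ∈ maximalIdeal (Localization.AtPrime q₀), IsNilpotent a := by
    intro a ha
    haveI := IsLocalization.subsingleton_primeSpectrum_of_mem_minimalPrimes q₀ hq₀min
      (Localization.AtPrime q₀)
    rw [← mem_nilradical, nilradical_eq_sInf, Ideal.mem_sInf]
    intro J hJ
    have h1 : (⟨J, hJ⟩ : PrimeSpectrum (Localization.AtPrime q₀)) =
        ⟨maximalIdeal _, inferInstance⟩ := Subsingleton.elim _ _
    have hJ' : J = maximalIdeal _ := congrArg PrimeSpectrum.asIdeal h1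
    rw [hJ']; exact ha
  have hD : ∀ a ∈ maximalIdeal (Localization.AtPrime q₀),
      D k (Localization.AtPrime q₀) a ∈ maximalIdeal (Localization.AtPrime q₀) •
        (⊤ : Submodule (Localization.AtPrime q₀) Ω[Localization.AtPrime q₀⁄k]) :=
    fun a ha => D_mem_of_isNilpotent k _ a (hnil a ha)
  have hbij := mapBaseChange_bijective k (Localization.AtPrime q₀) hD
  have hd2 : Module.finrank q₀.ResidueField Ω[q₀.ResidueField⁄k] =
      Module.finrank (Localization.AtPrime q) Ω[Localization.AtPrime q⁄k] := by
    rw [← hd]
    have h1 := (LinearEquiv.ofBijective _ hbij).finrank_eq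
    rw [Module.finrank_baseChange] at h1
    exact h1.symm
  have hGR : Algebra.IsGeometricallyReduced k q₀.ResidueField :=
    Groth.Agent.H48.GeomNormal.isGeometricallyReduced_of_perfectField k _
  obtain ⟨n, -, hn2, -⟩ :=
    Groth.Agent.H14.ringKrullDim_eq_trdeg_of_finiteType_domain k (A ⧸ q₀)
  have hco : Order.coheight (⟨q₀, inferInstance⟩ : PrimeSpectrum A) = (n : ℕ∞) := by
    have h2 := Groth.Agent.H24.coheight_eq_ringKrullDim_quotient
      (⟨q₀, inferInstance⟩ : PrimeSpectrum A)
    rw [hn2] at h2
    exact WithBot.coe_injective h2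
  have hle2 := (Groth.Agent.H11.GeomRedDiff.isGeometricallyReduced_residueField_iff k A q₀ n
    hco).1 hGR
  have hge := Groth.Agent.H11.FtDim.localDim_ge (k := k) (⟨q, inferInstance⟩ : PrimeSpectrum A)
    q₀ hq₀le
  rw [hn2] at hge
  have hfib : Module.finrank q.ResidueField (q.ResidueField ⊗[A] Ω[A⁄k]) =
      Module.finrank (Localization.AtPrime q) Ω[Localization.AtPrime q⁄k] := by
    rw [← Groth.Agent.H11.EtaleDiff2.finrank_fibre_localization k A q, Module.finrank_baseChange]
  rw [hfib, ← hd2]
  refine le_trans ?_ hge
  exact_mod_cast hle2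

omit [CharZero k] in
theorem free_of_isSmoothAt (h : Algebra.IsSmoothAt k q) :
    Module.Free (Localization.AtPrime q) Ω[Localization.AtPrime q⁄k] := by
  haveI : Algebra.FormallySmooth k (Localization.AtPrime q) := h
  haveI : Algebra.EssFiniteType A (Localization.AtPrime q) :=
    .of_isLocalization _ q.primeCompl
  haveI : Algebra.EssFiniteType k (Localization.AtPrime q) := .comp _ A _
  exact Module.free_of_flat_of_isLocalRing

end main

end Groth.Agent.H11.Char0Free
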