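import Groth.Prelude.Def_CAlgX
import Mathlib.Algebra.Module.FinitePresentation
import Mathlib.LinearAlgebra.TensorProduct.Vanishing
import Mathlib.RingTheory.TensorProduct.DirectLimitFG
import Mathlib.Tactic

set_option autoImplicit false
open TensorProduct

namespace Groth.Agent.H11

universe u

section

variable {R : Type u} [CommRing R]

/-- The cokernel of the matrix `a`, presented as a quotient of `Fin n → R`. -/
abbrev colSpan {n m : ℕ} (a : Fin n → Fin m → R) : Submodule R (Fin n → R) :=
  Submodule.span R (Set.range fun j : Fin m => fun i : Fin n => a i j)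

theorem finitePresentation_quot_colSpan {n m : ℕ} (a : Fin n → Fin m → R) :
    Module.FinitePresentation R ((Fin n → R) ⧸ colSpan a) := by
  refine Module.finitePresentation_of_surjective (colSpan a).mkQ (Submodule.mkQ_surjective _) ?_
  rw [Submodule.ker_mkQ]
  exact Submodule.fg_span (Set.finite_range _)

variable {M₁ M₂ : Type u} [AddCommGroup M₁] [Module R M₁] [AddCommGroup M₂] [Module R M₂]

/-- If tensoring with the cokernel of the matrix `a` keeps `f` injective, the equational
condition holds for `a`. -/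
theorem exists_of_rTensor_injective (f : M₁ →ₗ[R] M₂) {n m : ℕ} (x : Fin n → M₁) (y : Fin m → M₂)
    (a : Fin n → Fin m → R) (hxy : ∀ i, f (x i) = ∑ j, a i j • y j)
    (hinj : Function.Injective (f.rTensor ((Fin n → R) ⧸ colSpan a))) :
    ∃ z : Fin m → M₁, ∀ i, x i = ∑ j, a i j • z j := by
  classical
  set Q := (Fin n → R) ⧸ colSpan a
  set q : Fin n → Q := fun i => (colSpan a).mkQ (Pi.single i 1) with hq
  have hqspan : Submodule.span R (Set.range q) = ⊤ := by
    rw [eq_top_iff]
    rintro v -
    obtain ⟨w, rfl⟩ := Submodule.mkQ_surjective _ v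
    have hw : w = ∑ i, w i • (Pi.single i 1 : Fin n → R) := by
      funext k
      simp [Finset.sum_apply, Pi.single_apply]
    rw [hw, map_sum]
    refine Submodule.sum_mem _ (fun i _ => ?_)
    rw [map_smul]
    exact Submodule.smul_mem _ _ (Submodule.subset_span ⟨i, rfl⟩)
  have hcol : ∀ j, ∑ i, a i j • q i = 0 := by
    intro j
    simp only [hq, ← map_smul, ← map_sum]
    rw [Submodule.mkQ_apply, Submodule.Quotient.mk_eq_zero]
    refine Submodule.subset_span ⟨j, ?_⟩
    funext k
    simp [Finset.sum_apply, Pi.single_apply]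
  -- the image vanishes
  have h2 : ∑ i, q i ⊗ₜ[R] f (x i) = 0 :=
    sum_tmul_eq_zero_of_vanishesTrivially R ⟨m, a, y, hxy, hcol⟩
  have h1 : ∑ i, x i ⊗ₜ[R] q i = 0 := by
    apply hinj
    rw [map_zero, map_sum]
    simp only [LinearMap.rTensor_tmul]
    have := congr_arg (TensorProduct.comm R Q M₂) h2
    simpa using this
  have h3 : ∑ i, q i ⊗ₜ[R] x i = 0 := by
    have := congr_arg (TensorProduct.comm R M₁ Q) h1
    simpa using this
  obtain ⟨k, a', z', hz', ha'⟩ := vanishesTrivially_of_sum_tmul_eq_zero R hqspan h3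
  -- each column of a' lies in the column span of a
  have hmem : ∀ l : Fin k, (fun i => a' i l) ∈ colSpan a := by
    intro l
    have := ha' l
    simp only [hq, ← map_smul, ← map_sum] at this
    rw [Submodule.mkQ_apply, Submodule.Quotient.mk_eq_zero] at this
    convert this using 1
    funext i
    simp [Finset.sum_apply, Pi.single_apply]
  have hb : ∀ l : Fin k, ∃ c : Fin m → R, ∑ j, c j • (fun i => a i j) = fun i => a' i l := by
    intro l
    exact (Submodule.mem_span_range_iff_exists_fun R).1 (hmem l)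
  choose b hb using hb
  refine ⟨fun j => ∑ l, b l j • z' l, fun i => ?_⟩
  rw [hz' i]
  have hb' : ∀ l, a' i l = ∑ j, b l j * a i j := by
    intro l
    have := congr_fun (hb l) i
    simp only [Finset.sum_apply, Pi.smul_apply, smul_eq_mul] at this
    exact this.symm
  simp only [Finset.smul_sum, hb', Finset.sum_smul]
  rw [Finset.sum_comm]
  refine Finset.sum_congr rfl (fun j _ => Finset.sum_congr rfl (fun l _ => ?_))
  rw [smul_smul, mul_comm]

/-- Every element of `Q ⊗ M` is a combination of a spanning family of `Q`. -/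
theorem exists_sum_tmul_of_span {Q M : Type u} [AddCommGroup Q] [Module R Q] [AddCommGroup M]
    [Module R M] {r : ℕ} (q : Fin r → Q) (hq : Submodule.span R (Set.range q) = ⊤)
    (t : Q ⊗[R] M) : ∃ x : Fin r → M, t = ∑ i, q i ⊗ₜ[R] x i := by
  induction t with
  | zero => exact ⟨0, by simp⟩
  | tmul q' x =>
    have : q' ∈ Submodule.span R (Set.range q) := by rw [hq]; trivial
    obtain ⟨c, rfl⟩ := (Submodule.mem_span_range_iff_exists_fun R).1 this
    refine ⟨fun i => c i • x, ?_⟩
    rw [TensorProduct.sum_tmul]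
    exact Finset.sum_congr rfl (fun i _ => by rw [TensorProduct.smul_tmul])
  | add t₁ t₂ h₁ h₂ =>
    obtain ⟨x₁, rfl⟩ := h₁
    obtain ⟨x₂, rfl⟩ := h₂
    refine ⟨x₁ + x₂, ?_⟩
    rw [← Finset.sum_add_distrib]
    exact Finset.sum_congr rfl (fun i _ => by rw [Pi.add_apply, TensorProduct.tmul_add])

/-- The equational condition implies universal injectivity. -/
theorem universallyInjective_of_equational (f : M₁ →ₗ[R] M₂)
    (h : ∀ (n m : ℕ) (x : Fin n → M₁) (y : Fin m → M₂) (a : Fin n → Fin m → R),
      (∀ i, f (x i) = ∑ j, a i j • y j) → ∃ z : Fin m → M₁, ∀ i, x i = ∑ j, a i j • z j) :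
    CAlgX.UniversallyInjective R f := by
  intro Q _ _
  -- reduce to lTensor
  have key : Function.Injective (f.lTensor Q) := by
    rw [injective_iff_map_eq_zero]
    intro ξ hξ
    obtain ⟨P, hP, t, rfl⟩ := TensorProduct.exists_of_fg ξ
    have h0 : LinearMap.rTensor M₂ P.subtype (LinearMap.lTensor P f t) = 0 := by
      rw [← LinearMap.comp_apply, LinearMap.rTensor_comp_lTensor, ← LinearMap.lTensor_comp_rTensor,
        LinearMap.comp_apply]
      exact hξ
    obtain ⟨P', hPP', hP', h1⟩ := TensorProduct.eq_zero_of_fg_of_subtype_eq_zero hP h0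
    set t' : P' ⊗[R] M₁ := LinearMap.rTensor M₁ (Submodule.inclusion hPP') t with ht'
    have h2 : LinearMap.lTensor P' f t' = 0 := by
      rw [ht', ← LinearMap.comp_apply, LinearMap.lTensor_comp_rTensor,
        ← LinearMap.rTensor_comp_lTensor, LinearMap.comp_apply]
      exact h1
    have ht0 : t' = 0 := by
      obtain ⟨r, q, hq⟩ := (Module.Finite.iff_fg.2 hP').exists_fin
      obtain ⟨x, hx⟩ := exists_sum_tmul_of_span q hq t'
      rw [hx, map_sum] at h2
      simp only [LinearMap.lTensor_tmul] at h2
      obtain ⟨k, a, y, hy, ha⟩ := vanishesTrivially_of_sum_tmul_eq_zero R hq h2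
      obtain ⟨z, hz⟩ := h r k x y a hy
      rw [hx]
      exact sum_tmul_eq_zero_of_vanishesTrivially R ⟨k, a, z, hz, ha⟩
    have : LinearMap.rTensor M₁ P.subtype t = LinearMap.rTensor M₁ P'.subtype t' := by
      rw [ht', ← LinearMap.comp_apply, ← LinearMap.rTensor_comp]
      rfl
    rw [this, ht0, map_zero]
  have hcomm : f.rTensor Q = (TensorProduct.comm R Q M₂).toLinearMap ∘ₗ f.lTensor Q ∘ₗ
      (TensorProduct.comm R M₁ Q).toLinearMap := by
    ext; simp
  rw [hcomm]
  exact (TensorProduct.comm R Q M₂).injective.comp (key.comp (TensorProduct.comm R M₁ Q).injective)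

end

end Groth.Agent.H11
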