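import Mathlib
import Groth.Agent.H11.UnivInj
import Groth.Agent.H87.Dec2
import Groth.Agent.S17539

/-!
# `(⊕ R)^ → ∏ R^` is universally injective for `R` Noetherian and `I`-adically complete
-/

set_option autoImplicit false

namespace Groth.Agent.H11.ComplSumProd

universe u

open Groth.Agent.H87 W4c5adicflatcompl

theorem main {R : Type u} [CommRing R] [IsNoetherianRing R] (I : Ideal R) [IsAdicComplete I R]
    (α : Type u) :
    CAlgX.UniversallyInjective R
      (LinearMap.pi fun a : α =>
        (AdicCompletion.map I (Finsupp.lapply (M := R) (R := R) a)).restrictScalars R :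
        AdicCompletion I (α →₀ R) →ₗ[R] (α → AdicCompletion I R)) := by
  classical
  have hfg : I.FG := IsNoetherian.noetherian I
  haveI : IsAdicComplete I (AdicCompletion I R) := AdicCompletion.isAdicComplete hfg
  obtain ⟨hinj, hrange⟩ := Groth.Agent.S17539.result I α R
  set Φ : AdicCompletion I (α →₀ R) →ₗ[R] (α → AdicCompletion I R) :=
    LinearMap.pi fun a : α =>
      (AdicCompletion.map I (Finsupp.lapply (M := R) (R := R) a)).restrictScalars R with hΦ
  apply Groth.Agent.H11.universallyInjective_of_equational
  intro n m x y a hxy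
  haveI : Module.Finite R (AdicCompletion I R) :=
    Module.Finite.equiv (AdicCompletion.ofLinearEquiv I R)
  have hjac : I ≤ Ideal.jacobson ⊥ := IsAdicComplete.le_jacobson_bot I
  let A : (Fin m → AdicCompletion I R) →ₗ[R] (Fin n → AdicCompletion I R) :=
    LinearMap.pi fun i => ∑ j, a i j • LinearMap.proj j
  have hA : ∀ (v : Fin m → AdicCompletion I R) (i : Fin n), A v i = ∑ j, a i j • v j := by
    intro v i
    simp [A]
  haveI : IsHausdorff I (LinearMap.range A) := IsHausdorff.of_le_jacobson I _ hjac
  have hmem : ∀ c : α, (fun i => Φ (x i) c) ∈ LinearMap.range A := by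
    intro c
    refine ⟨fun j => y j c, ?_⟩
    funext i
    rw [hA, hxy i]
    simp [Finset.sum_apply]
  let g : α → LinearMap.range A := fun c => ⟨fun i => Φ (x i) c, hmem c⟩
  have hg : g ∈ decaying I α (LinearMap.range A) := by
    rw [decaying_submodule_iff, decaying_pi_iff]
    intro i
    have : Φ (x i) ∈ LinearMap.range Φ := ⟨_, rfl⟩
    rw [hrange] at this
    exact this
  obtain ⟨f, hf, hfg'⟩ := exists_decaying_lift (I := I) A.rangeRestrict
    (LinearMap.surjective_rangeRestrict A) g hg
  rw [decaying_pi_iff] at hf
  have hz : ∀ j, ∃ z, Φ z = fun c => f c j := by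
    intro j
    have := hf j
    rw [← hrange] at this
    exact this
  choose z hz using hz
  refine ⟨z, fun i => ?_⟩
  apply hinj
  rw [map_sum]
  simp only [map_smul, hz]
  funext c
  have := congrArg (fun v : LinearMap.range A => (v : Fin n → AdicCompletion I R) i) (hfg' c)
  simp only [LinearMap.codRestrict_apply, LinearMap.rangeRestrict, hA, g] at this
  rw [Finset.sum_apply]
  simpa using this.symm

end Groth.Agent.H11.ComplSumProd
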