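import Mathlib
import Groth.Agent.S5671

/-!
# Ideals of a regular local ring generated by regular sequences, via the conormal module
-/

set_option autoImplicit false

open IsLocalRing RingTheory.Sequence

namespace Groth.Agent.H11.ConormalGen

universe u

section Gen

variable {R : Type u} [CommRing R] (I : Ideal R)

/-- the span over `R ⧸ I` of a set in the cotangent module, as an `R`-submodule -/
theorem restrictScalars_span_cotangent (X : Set I.Cotangent) :
    (Submodule.span (R ⧸ I) X).restrictScalars R = Submodule.span R X :=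
  Submodule.restrictScalars_span R (R ⧸ I) Ideal.Quotient.mk_surjective X

/-- images of generators of `I` generate the cotangent module -/
theorem span_toCotangent_eq_top (S : Set R) (hS : Ideal.span S = I) :
    Submodule.span (R ⧸ I) (I.toCotangent '' {x : I | (x : R) ∈ S}) = ⊤ := by
  have hSI : S ⊆ I := by
    rw [← hS]; exact Ideal.subset_span
  have h1 : Submodule.span R {x : I | (x : R) ∈ S} = ⊤ := by
    apply Submodule.map_injective_of_injective (f := I.subtype) Subtype.val_injective
    rw [Submodule.map_span, Submodule.map_top, Submodule.range_subtype]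
    have : I.subtype '' {x : I | (x : R) ∈ S} = S := by
      ext y
      constructor
      · rintro ⟨x, hx, rfl⟩
        exact hx
      · intro hy
        exact ⟨⟨y, hSI hy⟩, hy, rfl⟩
    rw [this]
    exact hS
  have h2 : Submodule.span R (I.toCotangent '' {x : I | (x : R) ∈ S}) = ⊤ := by
    rw [← Submodule.map_span, h1, Submodule.map_top, Ideal.toCotangent_range]
  apply (Submodule.restrictScalars_eq_top_iff (S := R) (R := R ⧸ I) (M := I.Cotangent)).mp
  rw [restrictScalars_span_cotangent, h2]

/-- Nakayama: generators of the cotangent module lift to generators of the ideal -/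
theorem exists_finset_span_eq (hfg : I.FG) (hjac : I ≤ Ideal.jacobson ⊥)
    (s : Finset I.Cotangent) (hs : Submodule.span (R ⧸ I) (s : Set I.Cotangent) = ⊤) :
    ∃ t : Finset R, t.card ≤ s.card ∧ Ideal.span (t : Set R) = I := by
  classical
  choose f hf using fun c : I.Cotangent => I.toCotangent_surjective c
  refine ⟨s.image (fun c => (f c : R)), Finset.card_image_le, ?_⟩
  set J : Ideal R := Ideal.span ((s.image (fun c => (f c : R)) : Finset R) : Set R) with hJ
  have hJI : J ≤ I := by
    rw [hJ, Ideal.span_le]
    intro y hy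
    rw [Finset.mem_coe, Finset.mem_image] at hy
    obtain ⟨c, -, rfl⟩ := hy
    exact (f c).2
  refine le_antisymm hJI ?_
  refine Submodule.le_of_le_smul_of_le_jacobson_bot hfg hjac ?_
  intro y hy
  -- the class of `y` lies in the span of `s`
  have h1 : I.toCotangent ⟨y, hy⟩ ∈ Submodule.span R (s : Set I.Cotangent) := by
    rw [← restrictScalars_span_cotangent, hs]
    trivial
  -- which is the image of the span of the lifts
  have h2 : Submodule.span R (s : Set I.Cotangent) =
      Submodule.map I.toCotangent (Submodule.span R ((fun c => f c) '' (s : Set I.Cotangent))) := by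
    rw [Submodule.map_span, ← Set.image_comp]
    congr 1
    ext c
    simp [hf]
  rw [h2] at h1
  obtain ⟨z, hz, hzy⟩ := h1
  have hzJ : (z : R) ∈ J := by
    have : Submodule.map I.subtype (Submodule.span R ((fun c => f c) '' (s : Set I.Cotangent))) ≤
        J := by
      rw [Submodule.map_span, ← Set.image_comp, hJ]
      apply Ideal.span_mono
      intro w hw
      obtain ⟨c, hc, rfl⟩ := hw
      rw [Finset.mem_coe, Finset.mem_image]
      exact ⟨c, hc, rfl⟩
    exact this ⟨z, hz, rfl⟩
  have hdiff : (y - z : R) ∈ I ^ 2 := by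
    have := (I.toCotangent_eq (x := ⟨y, hy⟩) (y := z)).mp hzy.symm
    exact this
  have : y = z + (y - z) := by ring
  rw [this]
  refine Submodule.add_mem_sup hzJ ?_
  rw [smul_eq_mul, ← sq]
  exact hdiff

end Gen

section Main

variable {R : Type u} [CommRing R] [IsRegularLocalRing R]

theorem forward (I : Ideal R) (rs : List R) (hrs : Ideal.ofList rs = I)
    (hreg : RingTheory.Sequence.IsRegular R rs) :
    (((⊤ : Submodule (R ⧸ I) I.Cotangent).spanFinrank : WithBot ℕ∞) + ringKrullDim (R ⧸ I)
        ≤ ringKrullDim R) := by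
  classical
  subst hrs
  have h1 := ringKrullDim_add_length_eq_ringKrullDim_of_isRegular rs hreg
  have h2 : (⊤ : Submodule (R ⧸ Ideal.ofList rs) (Ideal.ofList rs).Cotangent).spanFinrank ≤
      rs.length := by
    rw [← span_toCotangent_eq_top (Ideal.ofList rs) {r | r ∈ rs} rfl]
    have hfin : ((Ideal.ofList rs).toCotangent ''
        {x : Ideal.ofList rs | (x : R) ∈ {r | r ∈ rs}}).Finite := by
      apply Set.Finite.image
      apply Set.Finite.of_injOn (f := fun x : Ideal.ofList rs => (x : R)) (t := {r | r ∈ rs})
      · intro x hx; exact hx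
      · intro x _ y _ hxy; exact Subtype.ext hxy
      · exact List.finite_toSet rs
    refine (Submodule.spanFinrank_span_le_ncard_of_finite hfin).trans ?_
    have hfin2 : {x : Ideal.ofList rs | (x : R) ∈ {r | r ∈ rs}}.Finite := by
      apply Set.Finite.of_injOn (f := fun x : Ideal.ofList rs => (x : R)) (t := {r | r ∈ rs})
      · intro x hx; exact hx
      · intro x _ y _ hxy; exact Subtype.ext hxy
      · exact List.finite_toSet rs
    refine (Set.ncard_image_le hfin2).trans ?_
    have h3 : {x : Ideal.ofList rs | (x : R) ∈ {r | r ∈ rs}}.ncard ≤ {r | r ∈ rs}.ncard := by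
      exact Set.ncard_le_ncard_of_injOn (fun x : Ideal.ofList rs => (x : R))
        (fun x hx => hx) (fun x _ y _ hxy => Subtype.ext hxy) (List.finite_toSet rs)
    refine h3.trans ?_
    have : {r | r ∈ rs} = ((rs.toFinset : Finset R) : Set R) := by
      ext; simp
    rw [this, Set.ncard_coe_finset]
    exact List.toFinset_card_le rs
  rw [← h1, add_comm]
  gcongr

theorem backward (I : Ideal R) (hI : I ≠ ⊤)
    (h : (((⊤ : Submodule (R ⧸ I) I.Cotangent).spanFinrank : WithBot ℕ∞) + ringKrullDim (R ⧸ I)
        ≤ ringKrullDim R)) :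
    ∃ rs : List R, Ideal.ofList rs = I ∧ RingTheory.Sequence.IsRegular R rs := by
  classical
  have hIm : I ≤ maximalIdeal R := le_maximalIdeal hI
  have hjac : I ≤ Ideal.jacobson ⊥ := by
    rw [IsLocalRing.jacobson_eq_maximalIdeal ⊥ bot_ne_top]
    exact hIm
  haveI : Module.Finite R I := Module.Finite.iff_fg.mpr (IsNoetherian.noetherian I)
  haveI : Module.Finite R I.Cotangent := Module.Finite.of_surjective I.toCotangent
    I.toCotangent_surjective
  haveI : Module.Finite (R ⧸ I) I.Cotangent := Module.Finite.of_restrictScalars_finite R _ _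
  obtain ⟨s, hscard, hsspan⟩ := Submodule.FG.exists_span_finset_card_eq_spanFinrank
    (p := (⊤ : Submodule (R ⧸ I) I.Cotangent)) Module.Finite.fg_top
  obtain ⟨t, htcard, htspan⟩ := exists_finset_span_eq I (IsNoetherian.noetherian I) hjac s hsspan
  have hof : Ideal.ofList t.toList = I := by
    rw [Ideal.ofList, ← htspan]
    congr 1
    ext x
    simp
  refine ⟨t.toList, hof, ?_⟩
  haveI : IsLocalRing (R ⧸ I) := Groth.Agent.Lead.RLR.isLocalRing_quotient R I hI
  obtain ⟨d, hd, -⟩ := Groth.Agent.Lead.RLR.exists_ringKrullDim_eq R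
  obtain ⟨d', hd', -⟩ := Groth.Agent.Lead.RLR.exists_ringKrullDim_eq (R ⧸ I)
  have h3 := ringKrullDim_le_ringKrullDim_quotient_add_spanFinrank I (by
    rw [IsLocalRing.ringJacobson_eq_maximalIdeal]
    exact hIm)
  have h4 : I.spanFinrank ≤ t.card := by
    rw [← htspan]
    refine (Submodule.spanFinrank_span_le_ncard_of_finite t.finite_toSet).trans ?_
    rw [Set.ncard_coe_finset]
  rw [hd, hd'] at h h3
  have h' : (⊤ : Submodule (R ⧸ I) I.Cotangent).spanFinrank + d' ≤ d := by exact_mod_cast h
  have h3' : d ≤ d' + I.spanFinrank := by exact_mod_cast h3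
  have hlen : d' + t.toList.length = d := by
    rw [Finset.length_toList]
    omega
  have hdim : ringKrullDim (R ⧸ Ideal.ofList t.toList) + (t.toList.length : ℕ) = ringKrullDim R := by
    rw [hof, hd, hd']
    exact_mod_cast hlen
  have eq : Ideal.ofList t.toList = Ideal.ofList t.toList • (⊤ : Ideal R) := by simp
  have hsupp : Module.supportDim R (R ⧸ (Ideal.ofList t.toList • ⊤ : Submodule R R)) +
      (t.toList.length : ℕ) = Module.supportDim R R := by
    rw [Module.supportDim_quotient_eq_ringKrullDim, Module.supportDim_self_eq_ringKrullDim,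
      ← ringKrullDim_eq_of_ringEquiv (Ideal.quotientEquivAlgOfEq R eq).toRingEquiv]
    exact hdim
  have hweak := Groth.Agent.H29.CML.isWeaklyRegular_of_supportDim_eq t.toList R
    (Groth.Agent.S5671.isCM_self R) (fun x hx => by
      apply hIm
      rw [← hof]
      exact Ideal.subset_span hx) hsupp
  refine ⟨hweak, ?_⟩
  rw [← eq, hof]
  exact fun h => hI h.symm

end Main

end Groth.Agent.H11.ConormalGen
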