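import Mathlib

/-!
# Jacobian minors and linear independence of differentials in the fibre

`A → B`, `q` prime of `B`, `T = B_q`. If `f_1, …, f_m ∈ B` and `A`-derivations `D_1, …, D_m` of `B`
have `det (D_j f_i) ∉ q`, then the `1 ⊗ d f_i` are linearly independent in `κ(T) ⊗ Ω[T/A]`.
-/

set_option autoImplicit false

namespace Groth.Agent.H11.JacLI

open TensorProduct KaehlerDifferential IsLocalRing

universe u

variable {A B : Type u} [CommRing A] [CommRing B] [Algebra A B]

/-- The functional on `κ ⊗ Ω[T/A]` induced by a derivation of `B`. -/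
theorem exists_functional (q : Ideal B) [q.IsPrime] (T : Type u) [CommRing T]
    [Algebra B T] [IsLocalization.AtPrime T q] [Algebra A T] [IsScalarTower A B T] [IsLocalRing T]
    (d : Derivation A B B) :
    ∃ ψ : ResidueField T ⊗[T] Ω[T⁄A] →ₗ[ResidueField T] ResidueField T,
      ∀ b : B, ψ ((1 : ResidueField T) ⊗ₜ D A T (algebraMap B T b)) =
        residue T (algebraMap B T (d b)) := by
  haveI : Algebra.FormallyEtale B T := Algebra.FormallyEtale.of_isLocalization q.primeCompl
  let ℓ : Ω[B⁄A] →ₗ[B] ResidueField T :=
    (Algebra.linearMap B (ResidueField T)) ∘ₗ d.liftKaehlerDifferential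
  let l' : Ω[T⁄A] →ₗ[T] ResidueField T :=
    (ℓ.liftBaseChange T) ∘ₗ (tensorKaehlerEquivOfFormallyEtale A B T).symm.toLinearMap
  refine ⟨l'.liftBaseChange (ResidueField T), fun b => ?_⟩
  rw [LinearMap.liftBaseChange_tmul, one_smul]
  show ℓ.liftBaseChange T ((tensorKaehlerEquivOfFormallyEtale A B T).symm
    (D A T (algebraMap B T b))) = _
  rw [tensorKaehlerEquivOfFormallyEtale_symm_D_algebraMap, LinearMap.liftBaseChange_tmul, one_smul]
  show algebraMap B (ResidueField T) (d.liftKaehlerDifferential (D A B b)) = _
  rw [Derivation.liftKaehlerDifferential_comp_D]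
  rfl

/-- A nonvanishing Jacobian minor gives linearly independent differentials in the fibre. -/
theorem linearIndependent_of_det (q : Ideal B) [q.IsPrime] (T : Type u) [CommRing T]
    [Algebra B T] [IsLocalization.AtPrime T q] [Algebra A T] [IsScalarTower A B T] [IsLocalRing T]
    {m : ℕ} (f : Fin m → B) (d : Fin m → Derivation A B B)
    (hdet : Matrix.det (Matrix.of fun i j => d j (f i)) ∉ q) :
    LinearIndependent (ResidueField T)
      (fun i => (1 : ResidueField T) ⊗ₜ[T] D A T (algebraMap B T (f i))) := by
  rw [Fintype.linearIndependent_iff]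
  intro c hc
  choose ψ hψ using fun j => exists_functional (A := A) q T (d j)
  have hdet' : (((residue T).comp (algebraMap B T)).mapMatrix
      (Matrix.of fun i j => d j (f i))).det ≠ 0 := by
    rw [← RingHom.map_det]
    have hu : IsUnit (algebraMap B T (Matrix.det (Matrix.of fun i j => d j (f i)))) :=
      IsLocalization.map_units T (⟨_, hdet⟩ : q.primeCompl)
    exact (residue_ne_zero_iff_isUnit _).mpr hu
  have h0 : c = 0 := by
    apply Matrix.eq_zero_of_vecMul_eq_zero hdet'
    ext j
    have h1 := congrArg (ψ j) hc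
    rw [map_sum, map_zero] at h1
    rw [Pi.zero_apply, ← h1]
    simp only [Matrix.vecMul, dotProduct]
    apply Finset.sum_congr rfl
    intro i _
    rw [map_smul, hψ, smul_eq_mul]
    simp
  intro i
  rw [h0]
  rfl

end Groth.Agent.H11.JacLI
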