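import Mathlib
import Groth.Agent.H11.SmoothDim2
import Groth.Agent.H11.StdElem
import Groth.Agent.H11.EtaleDiff2

/-!
# Choosing rows of the Jacobian matrix from a bound on the number of generators of `Ω`

`P = A[X_1..X_n]`, `J ≤ q` ideals with `q` prime. If `Ω[(P/J)/A]` is generated by `p` elements and
`n = m + p`, there are `f_1, …, f_m ∈ J` and columns with Jacobian minor outside `q`.
-/

set_option autoImplicit false

namespace Groth.Agent.H11.JacRows

open TensorProduct MvPolynomial
open Groth.Agent.H23.Jacobian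

universe u

variable {A : Type u} [CommRing A] {n : ℕ}

theorem finrank_fibre_mvPolynomial (J q : Ideal (MvPolynomial (Fin n) A)) [q.IsPrime]
    [hp : (q.map (Ideal.Quotient.mk J)).IsPrime] :
    Module.finrank (κκ J q)
      (κκ J q ⊗[MvPolynomial (Fin n) A] Ω[MvPolynomial (Fin n) A⁄A]) = n := by
  rw [Module.finrank_eq_card_basis
    ((KaehlerDifferential.mvPolynomialBasis A (Fin n)).baseChange (κκ J q)), Fintype.card_fin]

theorem exists_rows (J q : Ideal (MvPolynomial (Fin n) A)) [q.IsPrime] (hJq : J ≤ q)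
    [hp : (q.map (Ideal.Quotient.mk J)).IsPrime] (p m : ℕ) (hn : n = m + p)
    (y : Fin p → Ω[(MvPolynomial (Fin n) A ⧸ J)⁄A])
    (hy : Submodule.span (MvPolynomial (Fin n) A ⧸ J) (Set.range y) = ⊤) :
    ∃ (f : Fin m → MvPolynomial (Fin n) A) (cols : Fin m → Fin n),
      (∀ i, f i ∈ J) ∧ Matrix.det (Matrix.of fun a b => pderiv (cols b) (f a)) ∉ q := by
  classical
  have h1 := Groth.Agent.H11.SmoothDim2.finrank_add_finrank_range_UU (A := A) J q
  rw [finrank_fibre_mvPolynomial] at h1
  have h2 : Module.finrank (κκ J q)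
      (κκ J q ⊗[MvPolynomial (Fin n) A ⧸ J] Ω[(MvPolynomial (Fin n) A ⧸ J)⁄A]) ≤ p := by
    have hsp := Groth.Agent.H11.EtaleDiff2.span_one_tmul_eq_top (κκ J q) y hy
    have h3 := finrank_range_le_card (R := κκ J q)
      (fun i => (1 : κκ J q) ⊗ₜ[MvPolynomial (Fin n) A ⧸ J] y i)
    rw [Set.finrank, hsp, finrank_top, Fintype.card_fin] at h3
    exact h3
  have h3 : m ≤ Module.finrank (κκ J q) (LinearMap.range (UU (A := A) J q)) := by omega
  have hspan : Submodule.span (κκ J q)
      (Set.range fun x : J => UU (A := A) J q (cl (A := A) J q x)) =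
      LinearMap.range (UU (A := A) J q) := by
    rw [LinearMap.range_eq_map, ← span_cl (A := A) J q, Submodule.map_span, ← Set.range_comp]
    rfl
  obtain ⟨g, hg, -, hgli⟩ := Submodule.exists_fun_fin_finrank_span_eq (κκ J q)
    (Set.range fun x : J => UU (A := A) J q (cl (A := A) J q x))
  have hc : m ≤ Module.finrank (κκ J q) (Submodule.span (κκ J q)
      (Set.range fun x : J => UU (A := A) J q (cl (A := A) J q x))) := by
    rw [hspan]; exact h3
  choose x hx using hg
  have hli : LinearIndependent (κκ J q) (g ∘ Fin.castLE hc) :=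
    hgli.comp _ (Fin.castLE_injective hc)
  obtain ⟨cols, hdet⟩ := exists_det_ne_zero
    (fun j : Fin n => φφ (A := A) J q
      ((KaehlerDifferential.mvPolynomialBasis A (Fin n)).coord j))
    (Groth.Agent.H11.StdElem.coord_sep J q) _ hli
  refine ⟨fun i => (x (Fin.castLE hc i)).1, cols, fun i => (x _).2, ?_⟩
  intro hmem
  apply hdet
  have e1 : (Matrix.of fun a b => φφ (A := A) J q
      ((KaehlerDifferential.mvPolynomialBasis A (Fin n)).coord (cols b))
      ((g ∘ Fin.castLE hc) a)) =
      (algebraMap _ (κκ J q)).mapMatrix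
        (Matrix.of fun a b => pderiv (cols b) ((x (Fin.castLE hc a)).1)) := by
    ext a b
    simp only [Matrix.of_apply, Function.comp, RingHom.mapMatrix_apply, Matrix.map_apply]
    rw [← hx]
    show φφ (A := A) J q _ (UU (A := A) J q (cl (A := A) J q (x (Fin.castLE hc a)))) = _
    rw [UU_cl, φφ_tmul, mul_one, Module.Basis.coord_apply,
      KaehlerDifferential.mvPolynomialBasis_repr_apply]
  rw [e1, ← RingHom.map_det, res_eq_zero_iff J q hJq]
  exact hmem

end Groth.Agent.H11.JacRows
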