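import Mathlib
import Groth.Agent.H11.EtaleDiff
import Groth.Agent.H11.EtaleDiff2

/-!
# Smooth effective Cartier divisors through a point (algebraic core)

`A → B` smooth, `q` a prime of `B`, `h : B` with `1 ⊗ dh ≠ 0` in `κ(q) ⊗ Ω_{B/A}`. Then there is
`g ∉ q` such that `h` is a nonzerodivisor of `B_g` and `B_g/(h)` is smooth over `A`.
Route: choose étale coordinates `A[X_i] → B` near `q` with `X_{i₀} ↦ h`.
-/

set_option autoImplicit false

namespace Groth.Agent.H11.SmoothCartier

open TensorProduct KaehlerDifferential IsLocalRing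

universe u v w

/-- From a spanning family containing a nonzero vector, extract a basis through that vector. -/
theorem exists_basis_of_spanning {K : Type v} {V : Type u} [Field K] [AddCommGroup V] [Module K V]
    [Module.Finite K V] {β : Type w} (f : β → V) (hf : Submodule.span K (Set.range f) = ⊤)
    (h : β) (hh : f h ≠ 0) :
    ∃ (I : Type u) (_ : Fintype I) (c : I → β) (i₀ : I) (bas : Module.Basis I K V),
      c i₀ = h ∧ ∀ i, bas i = f (c i) := by
  classical
  have hs : LinearIndepOn K id ({f h} : Set V) := (linearIndepOn_singleton_iff K).mpr hh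
  have hst : ({f h} : Set V) ⊆ Set.range f := by
    rintro _ rfl; exact ⟨h, rfl⟩
  have ht : ⊤ ≤ Submodule.span K (Set.range f) := hf.ge
  let bas := Module.Basis.extendLe hs hst ht
  haveI : Finite ↥(hs.extend hst) := Module.Finite.finite_basis bas
  have hsub : ∀ i : ↥(hs.extend hst), (i : V) ∈ Set.range f := fun i => hs.extend_subset hst i.2
  let i₀ : ↥(hs.extend hst) := ⟨f h, hs.subset_extend hst rfl⟩
  let c : ↥(hs.extend hst) → β := fun i => if i = i₀ then h else (hsub i).choose
  refine ⟨↥(hs.extend hst), Fintype.ofFinite _, c, i₀, bas, by simp [c], fun i => ?_⟩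
  rw [Module.Basis.extendLe_apply_self]
  by_cases hi : i = i₀
  · simp [c, hi, i₀]
  · simp only [c, hi, if_false]; exact (hsub i).choose_spec.symm

section
variable {A B : Type u} [CommRing A] [CommRing B] [Algebra A B]

/-- Differentials of a localization are spanned by differentials of elements of `B`. -/
theorem span_D_algebraMap (S : Submonoid B) (T : Type u) [CommRing T] [Algebra B T]
    [IsLocalization S T] [Algebra A T] [IsScalarTower A B T] :
    Submodule.span T (Set.range fun b : B => D A T (algebraMap B T b)) = ⊤ := by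
  rw [eq_top_iff, ← KaehlerDifferential.span_range_derivation A T, Submodule.span_le]
  rintro _ ⟨t, rfl⟩
  obtain ⟨b, s, rfl⟩ := IsLocalization.exists_mk'_eq S t
  have hs : IsUnit (algebraMap B T s) := IsLocalization.map_units T s
  have h1 : algebraMap B T s * IsLocalization.mk' T b s = algebraMap B T b := by
    rw [mul_comm, IsLocalization.mk'_spec]
  have h2 := congrArg (D A T) h1
  rw [Derivation.leibniz] at h2
  have h3 : D A T (IsLocalization.mk' T b s) =
      (hs.unit⁻¹ : Tˣ) • (D A T (algebraMap B T b) -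
        IsLocalization.mk' T b s • D A T (algebraMap B T s)) := by
    rw [← h2, add_sub_cancel_right, Units.smul_def, smul_smul, IsUnit.val_inv_mul, one_smul]
  rw [h3]
  refine Submodule.smul_mem _ _ (Submodule.sub_mem _ (Submodule.subset_span ⟨b, rfl⟩)
    (Submodule.smul_mem _ _ (Submodule.subset_span ⟨s, rfl⟩)))

end

open MvPolynomial in
/-- The quotient of a polynomial ring by a variable is smooth. -/
theorem smooth_quotient_X (A : Type u) [CommRing A] (I : Type u) [Finite I] (i₀ : I) :
    Algebra.Smooth A (MvPolynomial I A ⧸ Ideal.span {(X i₀ : MvPolynomial I A)}) := by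
  classical
  obtain ⟨J, hJ⟩ : ∃ J : Ideal (MvPolynomial I A), J = Ideal.span {(X i₀ : MvPolynomial I A)} :=
    ⟨_, rfl⟩
  rw [← hJ]
  have hmem : (X i₀ : MvPolynomial I A) ∈ J := hJ ▸ Ideal.subset_span (Set.mem_singleton _)
  let fwd : MvPolynomial {i // i ≠ i₀} A →ₐ[A] (MvPolynomial I A ⧸ J) :=
    (Ideal.Quotient.mkₐ A J).comp (rename Subtype.val)
  let bwd₀ : MvPolynomial I A →ₐ[A] MvPolynomial {i // i ≠ i₀} A :=
    aeval (fun i => if h : i = i₀ then 0 else X ⟨i, h⟩)
  have hker : ∀ a ∈ J, bwd₀ a = 0 := by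
    intro a ha
    have : J ≤ RingHom.ker bwd₀.toRingHom := by
      rw [hJ, Ideal.span_le]
      rintro _ rfl
      simp [bwd₀]
    exact this ha
  let bwd : (MvPolynomial I A ⧸ J) →ₐ[A] MvPolynomial {i // i ≠ i₀} A :=
    Ideal.Quotient.liftₐ J bwd₀ hker
  have hb : ∀ p, bwd (Ideal.Quotient.mk J p) = bwd₀ p := fun p => rfl
  have hf : ∀ p, fwd p = Ideal.Quotient.mk J (rename Subtype.val p) := fun p => rfl
  have hb₀ : ∀ i, bwd₀ (X i) = if h : i = i₀ then 0 else X ⟨i, h⟩ := fun i => aeval_X _ i
  have h1 : bwd.comp fwd = AlgHom.id A _ := by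
    apply MvPolynomial.algHom_ext
    rintro ⟨i, hi⟩
    show bwd (fwd (X ⟨i, hi⟩)) = X ⟨i, hi⟩
    rw [hf, rename_X, hb, hb₀, dif_neg hi]
  have h2 : fwd.comp bwd = AlgHom.id A _ := by
    apply Ideal.Quotient.algHom_ext
    apply MvPolynomial.algHom_ext
    intro i
    show fwd (bwd (Ideal.Quotient.mk J (X i))) = Ideal.Quotient.mk J (X i)
    rw [hb, hb₀]
    by_cases hi : i = i₀
    · rw [dif_pos hi, map_zero, hi]
      exact (Ideal.Quotient.eq_zero_iff_mem.mpr hmem).symm
    · rw [dif_neg hi, hf, rename_X]
  let e : MvPolynomial {i // i ≠ i₀} A ≃ₐ[A] (MvPolynomial I A ⧸ J) :=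
    AlgEquiv.ofAlgHom fwd bwd h2 h1
  haveI : Algebra.Smooth A (MvPolynomial {i // i ≠ i₀} A) := ⟨inferInstance, inferInstance⟩
  exact Algebra.Smooth.of_equiv e

section Core
variable {A B : Type u} [CommRing A] [CommRing B] [Algebra A B]

open MvPolynomial in
set_option maxHeartbeats 1600000 in
set_option backward.isDefEq.respectTransparency false in
/-- **Core.** `A → B` smooth, `q` prime, `T = B_q`, `1 ⊗ dh ≠ 0` in `κ ⊗ Ω[T/A]`. Then for some
`g ∉ q`, `h` is a nonzerodivisor in `B_g` and `B_g/(h)` is smooth over `A`. -/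
theorem core (q : Ideal B) [q.IsPrime] [Algebra.Smooth A B] (T : Type u) [CommRing T]
    [Algebra B T] [IsLocalization.AtPrime T q] [Algebra A T] [IsScalarTower A B T] [IsLocalRing T]
    (h : B) (hne : (1 : ResidueField T) ⊗ₜ[T] D A T (algebraMap B T h) ≠ 0) :
    ∃ g ∉ q, ∀ (B' : Type u) [CommRing B'] [Algebra B B'] [IsLocalization.Away g B']
      [Algebra A B'] [IsScalarTower A B B'],
      algebraMap B B' h ∈ nonZeroDivisors B' ∧
        Algebra.Smooth A (B' ⧸ Ideal.span {algebraMap B B' h}) := by
  classical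
  haveI : Algebra.FormallySmooth B T := Algebra.FormallySmooth.of_isLocalization q.primeCompl
  haveI : Algebra.FormallySmooth A T := Algebra.FormallySmooth.comp A B T
  haveI : Algebra.EssFiniteType B T := Algebra.EssFiniteType.of_isLocalization T q.primeCompl
  haveI : Algebra.EssFiniteType A T := Algebra.EssFiniteType.comp A B T
  haveI : Module.Finite T Ω[T⁄A] := inferInstance
  haveI : Module.Projective T Ω[T⁄A] := inferInstance
  have hspan := Groth.Agent.H11.EtaleDiff2.span_one_tmul_eq_top (ResidueField T)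
    (fun b : B => D A T (algebraMap B T b)) (span_D_algebraMap (A := A) q.primeCompl T)
  obtain ⟨I, _, c, i₀, bas, hci₀, hbas⟩ := exists_basis_of_spanning
    (K := ResidueField T) (fun b : B => (1 : ResidueField T) ⊗ₜ[T] D A T (algebraMap B T b))
    hspan h hne
  let φ : MvPolynomial I A →ₐ[A] B := aeval c
  letI algQB : Algebra (MvPolynomial I A) B := φ.toRingHom.toAlgebra
  haveI : IsScalarTower A (MvPolynomial I A) B :=
    IsScalarTower.of_algebraMap_eq' φ.comp_algebraMap.symm
  letI algQT : Algebra (MvPolynomial I A) T :=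
    ((algebraMap B T).comp (algebraMap (MvPolynomial I A) B)).toAlgebra
  haveI : IsScalarTower (MvPolynomial I A) B T := IsScalarTower.of_algebraMap_eq' rfl
  haveI : IsScalarTower A (MvPolynomial I A) T := IsScalarTower.of_algebraMap_eq' (by
    rw [IsScalarTower.algebraMap_eq A B T, IsScalarTower.algebraMap_eq A (MvPolynomial I A) B,
      ← RingHom.comp_assoc]; rfl)
  let w : I → Ω[T⁄A] := fun i => D A T (algebraMap B T (c i))
  have hw1 : ∀ i, (1 : ResidueField T) ⊗ₜ[T] w i = bas i := fun i => (hbas i).symm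
  have hli : LinearIndependent T w := by
    apply Module.IsLocalRing.linearIndependent_of_flat
    have : (TensorProduct.mk T (ResidueField T) Ω[T⁄A] 1 ∘ w) = bas := funext hw1
    rw [this]; exact bas.linearIndependent
  have hsp : Submodule.span T (Set.range w) = ⊤ :=
    IsLocalRing.span_eq_top_of_tmul_eq_basis w bas hw1
  let bT : Module.Basis I T Ω[T⁄A] := Module.Basis.mk hli hsp.ge
  let bQ : Module.Basis I T (T ⊗[MvPolynomial I A] Ω[MvPolynomial I A⁄A]) :=
    (KaehlerDifferential.mvPolynomialBasis A I).baseChange T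
  have hmap : ∀ i, KaehlerDifferential.mapBaseChange A (MvPolynomial I A) T (bQ i) = bT i := by
    intro i
    rw [Module.Basis.baseChange_apply, KaehlerDifferential.mvPolynomialBasis_apply,
      KaehlerDifferential.mapBaseChange_tmul, one_smul, KaehlerDifferential.map_D,
      Module.Basis.mk_apply]
    congr 1
    show algebraMap B T (φ (X i)) = _
    simp [φ]
  have hbij : Function.Bijective (KaehlerDifferential.mapBaseChange A (MvPolynomial I A) T) := by
    have : (KaehlerDifferential.mapBaseChange A (MvPolynomial I A) T) =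
        (bQ.equiv bT (Equiv.refl I)).toLinearMap := by
      apply bQ.ext
      intro i
      rw [hmap]; simp
    rw [this]; exact (bQ.equiv bT (Equiv.refl I)).bijective
  haveI : Algebra.FormallyEtale (MvPolynomial I A) T :=
    Groth.Agent.H11.EtaleDiff.formallyEtale_of_bijective_mapBaseChange A (MvPolynomial I A) T hbij
  haveI : Algebra.FinitePresentation (MvPolynomial I A) B :=
    Algebra.FinitePresentation.of_restrict_scalars_finitePresentation A (MvPolynomial I A) B
  let e₁ : T ≃ₐ[MvPolynomial I A] Localization.AtPrime q :=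
    (IsLocalization.algEquiv q.primeCompl T (Localization.AtPrime q)).restrictScalars
      (MvPolynomial I A)
  haveI : Algebra.IsEtaleAt (MvPolynomial I A) q := Algebra.FormallyEtale.of_equiv e₁
  obtain ⟨g, hg, hét⟩ := Algebra.exists_etale_of_isEtaleAt (R := MvPolynomial I A) q
  refine ⟨g, hg, ?_⟩
  intro B' _ _ _ _ _
  letI algQB' : Algebra (MvPolynomial I A) B' :=
    ((algebraMap B B').comp (algebraMap (MvPolynomial I A) B)).toAlgebra
  haveI : IsScalarTower (MvPolynomial I A) B B' := IsScalarTower.of_algebraMap_eq' rfl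
  haveI : IsScalarTower A (MvPolynomial I A) B' := IsScalarTower.of_algebraMap_eq' (by
    rw [IsScalarTower.algebraMap_eq A B B', IsScalarTower.algebraMap_eq A (MvPolynomial I A) B,
      ← RingHom.comp_assoc]; rfl)
  let e₂ : Localization.Away g ≃ₐ[MvPolynomial I A] B' :=
    (IsLocalization.algEquiv (Submonoid.powers g) (Localization.Away g) B').restrictScalars
      (MvPolynomial I A)
  haveI : Algebra.Etale (MvPolynomial I A) B' := Algebra.Etale.of_equiv e₂
  haveI : Algebra.Smooth (MvPolynomial I A) B' := ⟨inferInstance, inferInstance⟩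
  haveI : Module.Flat (MvPolynomial I A) B' := Algebra.Smooth.flat _ _
  have hX : algebraMap (MvPolynomial I A) B' (X i₀) = algebraMap B B' h := by
    show algebraMap B B' (φ (X i₀)) = _
    simp [φ, hci₀]
  constructor
  · rw [← hX]
    have hreg : IsSMulRegular (MvPolynomial I A) (X i₀ : MvPolynomial I A) :=
      (isRegular_X (R := A) (n := i₀)).left.isSMulRegular
    have h1 := IsSMulRegular.of_flat (S := B') hreg
    exact mem_nonZeroDivisors_iff_left.mpr fun y hy =>
      (isLeftRegular_iff_mem_nonZeroDivisorsLeft.mp h1.isLeftRegular) y hy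
  · haveI : Algebra.Smooth A (MvPolynomial I A ⧸ Ideal.span {(X i₀ : MvPolynomial I A)}) :=
      smooth_quotient_X A I i₀
    obtain ⟨J, hJ⟩ : ∃ J : Ideal (MvPolynomial I A), J = Ideal.span {(X i₀ : MvPolynomial I A)} :=
      ⟨_, rfl⟩
    rw [← hJ] at this
    haveI : Algebra.Etale (MvPolynomial I A ⧸ J) ((MvPolynomial I A ⧸ J) ⊗[MvPolynomial I A] B') :=
      inferInstance
    let e₃ := Algebra.TensorProduct.quotIdealMapEquivQuotTensor B' J
    haveI : Algebra.Etale (MvPolynomial I A ⧸ J) (B' ⧸ J.map (algebraMap (MvPolynomial I A) B')) :=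
      Algebra.Etale.of_equiv (A := (MvPolynomial I A ⧸ J) ⊗[MvPolynomial I A] B') e₃.symm
    haveI : Algebra.Smooth (MvPolynomial I A ⧸ J)
        (B' ⧸ J.map (algebraMap (MvPolynomial I A) B')) := ⟨inferInstance, inferInstance⟩
    haveI : IsScalarTower A (MvPolynomial I A ⧸ J)
        (B' ⧸ J.map (algebraMap (MvPolynomial I A) B')) := by
      have key : ∀ a : A, algebraMap A (B' ⧸ J.map (algebraMap (MvPolynomial I A) B')) a =
          algebraMap (MvPolynomial I A ⧸ J) (B' ⧸ J.map (algebraMap (MvPolynomial I A) B'))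
            (algebraMap A (MvPolynomial I A ⧸ J) a) := by
        intro a
        have h0 := IsScalarTower.algebraMap_apply A (MvPolynomial I A) B' a
        show Ideal.Quotient.mk (J.map (algebraMap (MvPolynomial I A) B')) (algebraMap A B' a) =
          Ideal.Quotient.mk (J.map (algebraMap (MvPolynomial I A) B'))
            (algebraMap (MvPolynomial I A) B' (algebraMap A (MvPolynomial I A) a))
        rw [h0]
      exact IsScalarTower.of_algebraMap_eq key
    haveI : Algebra.Smooth A (B' ⧸ J.map (algebraMap (MvPolynomial I A) B')) :=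
      Algebra.Smooth.comp A (MvPolynomial I A ⧸ J) _
    have hJ' : J.map (algebraMap (MvPolynomial I A) B') = Ideal.span {algebraMap B B' h} := by
      rw [hJ, Ideal.map_span, Set.image_singleton, hX]
    exact Algebra.Smooth.of_equiv (Ideal.quotientEquivAlgOfEq A hJ')

end Core

end Groth.Agent.H11.SmoothCartier
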