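import Mathlib
import Groth.Agent.H11.SmoothCartier

/-!
# Étale coordinates through several functions with independent differentials

`core_multi`: `A → B` smooth, `q` prime, `T = B_q`, `h : ι → B` with `1 ⊗ d(h k)` linearly
independent in `κ ⊗ Ω[T/A]`. Then for some `g ∉ q`, `B_g/(h k)_k` is smooth over `A`, and étale
if the `1 ⊗ d(h k)` form a basis.
-/

set_option autoImplicit false

namespace Groth.Agent.H11.SmoothCartierMulti

open TensorProduct KaehlerDifferential IsLocalRing

universe u v w

/-- From a spanning family containing a linearly independent subfamily, extract a basis through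
that subfamily. -/
theorem exists_basis_of_spanning_family {K : Type v} {V : Type u} [Field K] [AddCommGroup V]
    [Module K V] [Module.Finite K V] {β : Type w} (f : β → V)
    (hf : Submodule.span K (Set.range f) = ⊤) {ι : Type*} (h : ι → β)
    (hli : LinearIndependent K (fun k => f (h k))) :
    ∃ (I : Type u) (_ : Fintype I) (c : I → β) (j : ι → I) (bas : Module.Basis I K V),
      Function.Injective j ∧ (∀ k, c (j k) = h k) ∧ ∀ i, bas i = f (c i) := by
  classical
  have hs : LinearIndepOn K id (Set.range fun k => f (h k)) := hli.linearIndepOn_id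
  have hst : (Set.range fun k => f (h k)) ⊆ Set.range f := by
    rintro _ ⟨k, rfl⟩; exact ⟨h k, rfl⟩
  have ht : ⊤ ≤ Submodule.span K (Set.range f) := hf.ge
  let bas := Module.Basis.extendLe hs hst ht
  haveI : Finite ↥(hs.extend hst) := Module.Finite.finite_basis bas
  have hsub : ∀ i : ↥(hs.extend hst), (i : V) ∈ Set.range f := fun i => hs.extend_subset hst i.2
  let j : ι → ↥(hs.extend hst) := fun k => ⟨f (h k), hs.subset_extend hst ⟨k, rfl⟩⟩
  have hj : Function.Injective j := by
    intro k k' hkk
    exact hli.injective (congrArg Subtype.val hkk)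
  let c : ↥(hs.extend hst) → β := fun i =>
    if hi : ∃ k, j k = i then h hi.choose else (hsub i).choose
  refine ⟨↥(hs.extend hst), Fintype.ofFinite _, c, j, bas, hj, fun k => ?_, fun i => ?_⟩
  · have hex : ∃ k', j k' = j k := ⟨k, rfl⟩
    simp only [c, dif_pos hex]
    rw [hj hex.choose_spec]
  · rw [Module.Basis.extendLe_apply_self]
    by_cases hi : ∃ k, j k = i
    · simp only [c, dif_pos hi]
      exact (congrArg Subtype.val hi.choose_spec).symm
    · simp only [c, dif_neg hi]
      exact (hsub i).choose_spec.symm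

open MvPolynomial in
/-- The quotient of a polynomial ring by a set of variables is a polynomial ring. -/
theorem nonempty_quotient_X_equiv (A : Type u) [CommRing A] (I : Type u) (s : Set I) :
    Nonempty (MvPolynomial {i // i ∉ s} A ≃ₐ[A]
      (MvPolynomial I A ⧸ Ideal.span ((fun i => (X i : MvPolynomial I A)) '' s))) := by
  classical
  obtain ⟨J, hJ⟩ : ∃ J : Ideal (MvPolynomial I A),
    J = Ideal.span ((fun i => (X i : MvPolynomial I A)) '' s) := ⟨_, rfl⟩
  rw [← hJ]
  have hmem : ∀ i ∈ s, (X i : MvPolynomial I A) ∈ J := fun i hi =>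
    hJ ▸ Ideal.subset_span ⟨i, hi, rfl⟩
  let fwd : MvPolynomial {i // i ∉ s} A →ₐ[A] (MvPolynomial I A ⧸ J) :=
    (Ideal.Quotient.mkₐ A J).comp (rename Subtype.val)
  let bwd₀ : MvPolynomial I A →ₐ[A] MvPolynomial {i // i ∉ s} A :=
    aeval (fun i => if h : i ∈ s then 0 else X ⟨i, h⟩)
  have hb₀ : ∀ i, bwd₀ (X i) = if h : i ∈ s then 0 else X ⟨i, h⟩ := fun i => aeval_X _ i
  have hker : ∀ a ∈ J, bwd₀ a = 0 := by
    intro a ha
    have : J ≤ RingHom.ker bwd₀.toRingHom := by
      rw [hJ, Ideal.span_le]
      rintro _ ⟨i, hi, rfl⟩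
      show bwd₀ (X i) = 0
      rw [hb₀, dif_pos hi]
    exact this ha
  let bwd : (MvPolynomial I A ⧸ J) →ₐ[A] MvPolynomial {i // i ∉ s} A :=
    Ideal.Quotient.liftₐ J bwd₀ hker
  have hb : ∀ p, bwd (Ideal.Quotient.mk J p) = bwd₀ p := fun p => rfl
  have hf : ∀ p, fwd p = Ideal.Quotient.mk J (rename Subtype.val p) := fun p => rfl
  have h1 : bwd.comp fwd = AlgHom.id A _ := by
    apply MvPolynomial.algHom_ext
    rintro ⟨i, hi⟩
    show bwd (fwd (X ⟨i, hi⟩)) = X ⟨i, hi⟩
    rw [hf, rename_X, hb, hb₀, dif_neg hi]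
  have h2 : fwd.comp bwd = AlgHom.id A _ := by
    apply Ideal.Quotient.algHom_ext
    apply MvPolynomial.algHom_ext
    intro i
    show fwd (bwd (Ideal.Quotient.mk J (X i))) = Ideal.Quotient.mk J (X i)
    rw [hb, hb₀]
    by_cases hi : i ∈ s
    · rw [dif_pos hi, map_zero]
      exact (Ideal.Quotient.eq_zero_iff_mem.mpr (hmem i hi)).symm
    · rw [dif_neg hi, hf, rename_X]
  exact ⟨AlgEquiv.ofAlgHom fwd bwd h2 h1⟩

section CoreMulti
open Groth.Agent.H11.SmoothCartier
variable {A B : Type u} [CommRing A] [CommRing B] [Algebra A B]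

open MvPolynomial in
set_option maxHeartbeats 1600000 in
set_option backward.isDefEq.respectTransparency false in
/-- **Core (several functions).** `A → B` smooth, `q` prime, `T = B_q`, `1 ⊗ d(h k)` linearly
independent in `κ ⊗ Ω[T/A]`. Then for some `g ∉ q`, `B_g/(h k)_k` is smooth over `A`, and étale
when the number of `h k` is the dimension of `κ ⊗ Ω[T/A]`. -/
theorem core_multi (q : Ideal B) [q.IsPrime] [Algebra.Smooth A B] (T : Type u) [CommRing T]
    [Algebra B T] [IsLocalization.AtPrime T q] [Algebra A T] [IsScalarTower A B T] [IsLocalRing T]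
    {ι : Type*} [Fintype ι] (h : ι → B)
    (hli : LinearIndependent (ResidueField T)
      (fun k => (1 : ResidueField T) ⊗ₜ[T] D A T (algebraMap B T (h k)))) :
    ∃ g ∉ q, ∀ (B' : Type u) [CommRing B'] [Algebra B B'] [IsLocalization.Away g B']
      [Algebra A B'] [IsScalarTower A B B'],
      Algebra.Smooth A (B' ⧸ Ideal.span (Set.range fun k => algebraMap B B' (h k))) ∧
      (Fintype.card ι = Module.finrank (ResidueField T) (ResidueField T ⊗[T] Ω[T⁄A]) →
        Algebra.Etale A (B' ⧸ Ideal.span (Set.range fun k => algebraMap B B' (h k)))) := by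
  classical
  haveI : Algebra.FormallySmooth B T := Algebra.FormallySmooth.of_isLocalization q.primeCompl
  haveI : Algebra.FormallySmooth A T := Algebra.FormallySmooth.comp A B T
  haveI : Algebra.EssFiniteType B T := Algebra.EssFiniteType.of_isLocalization T q.primeCompl
  haveI : Algebra.EssFiniteType A T := Algebra.EssFiniteType.comp A B T
  haveI : Module.Finite T Ω[T⁄A] := inferInstance
  haveI : Module.Projective T Ω[T⁄A] := inferInstance
  have hspan := Groth.Agent.H11.EtaleDiff2.span_one_tmul_eq_top (ResidueField T)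
    (fun b : B => D A T (algebraMap B T b)) (span_D_algebraMap (A := A) q.primeCompl T)
  obtain ⟨I, _, c, j, bas, hj, hcj, hbas⟩ := exists_basis_of_spanning_family
    (K := ResidueField T) (fun b : B => (1 : ResidueField T) ⊗ₜ[T] D A T (algebraMap B T b))
    hspan h hli
  let φ : MvPolynomial I A →ₐ[A] B := aeval c
  letI algQB : Algebra (MvPolynomial I A) B := φ.toRingHom.toAlgebra
  haveI : IsScalarTower A (MvPolynomial I A) B :=
    IsScalarTower.of_algebraMap_eq' φ.comp_algebraMap.symm
  letI algQT : Algebra (MvPolynomial I A) T :=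
    ((algebraMap B T).comp (algebraMap (MvPolynomial I A) B)).toAlgebra
  haveI : IsScalarTower (MvPolynomial I A) B T := IsScalarTower.of_algebraMap_eq' rfl
  haveI : IsScalarTower A (MvPolynomial I A) T := IsScalarTower.of_algebraMap_eq' (by
    rw [IsScalarTower.algebraMap_eq A B T, IsScalarTower.algebraMap_eq A (MvPolynomial I A) B,
      ← RingHom.comp_assoc]; rfl)
  let w : I → Ω[T⁄A] := fun i => D A T (algebraMap B T (c i))
  have hw1 : ∀ i, (1 : ResidueField T) ⊗ₜ[T] w i = bas i := fun i => (hbas i).symm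
  have hli : LinearIndependent T w := by
    apply Module.IsLocalRing.linearIndependent_of_flat
    have : (TensorProduct.mk T (ResidueField T) Ω[T⁄A] 1 ∘ w) = bas := funext hw1
    rw [this]; exact bas.linearIndependent
  have hsp : Submodule.span T (Set.range w) = ⊤ :=
    IsLocalRing.span_eq_top_of_tmul_eq_basis w bas hw1
  let bT : Module.Basis I T Ω[T⁄A] := Module.Basis.mk hli hsp.ge
  let bQ : Module.Basis I T (T ⊗[MvPolynomial I A] Ω[MvPolynomial I A⁄A]) :=
    (KaehlerDifferential.mvPolynomialBasis A I).baseChange T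
  have hmap : ∀ i, KaehlerDifferential.mapBaseChange A (MvPolynomial I A) T (bQ i) = bT i := by
    intro i
    rw [Module.Basis.baseChange_apply, KaehlerDifferential.mvPolynomialBasis_apply,
      KaehlerDifferential.mapBaseChange_tmul, one_smul, KaehlerDifferential.map_D,
      Module.Basis.mk_apply]
    congr 1
    show algebraMap B T (φ (X i)) = _
    simp [φ]
  have hbij : Function.Bijective (KaehlerDifferential.mapBaseChange A (MvPolynomial I A) T) := by
    have : (KaehlerDifferential.mapBaseChange A (MvPolynomial I A) T) =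
        (bQ.equiv bT (Equiv.refl I)).toLinearMap := by
      apply bQ.ext
      intro i
      rw [hmap]; simp
    rw [this]; exact (bQ.equiv bT (Equiv.refl I)).bijective
  haveI : Algebra.FormallyEtale (MvPolynomial I A) T :=
    Groth.Agent.H11.EtaleDiff.formallyEtale_of_bijective_mapBaseChange A (MvPolynomial I A) T hbij
  haveI : Algebra.FinitePresentation (MvPolynomial I A) B :=
    Algebra.FinitePresentation.of_restrict_scalars_finitePresentation A (MvPolynomial I A) B
  let e₁ : T ≃ₐ[MvPolynomial I A] Localization.AtPrime q :=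
    (IsLocalization.algEquiv q.primeCompl T (Localization.AtPrime q)).restrictScalars
      (MvPolynomial I A)
  haveI : Algebra.IsEtaleAt (MvPolynomial I A) q := Algebra.FormallyEtale.of_equiv e₁
  obtain ⟨g, hg, hét⟩ := Algebra.exists_etale_of_isEtaleAt (R := MvPolynomial I A) q
  refine ⟨g, hg, ?_⟩
  intro B' _ _ _ _ _
  letI algQB' : Algebra (MvPolynomial I A) B' :=
    ((algebraMap B B').comp (algebraMap (MvPolynomial I A) B)).toAlgebra
  haveI : IsScalarTower (MvPolynomial I A) B B' := IsScalarTower.of_algebraMap_eq' rfl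
  haveI : IsScalarTower A (MvPolynomial I A) B' := IsScalarTower.of_algebraMap_eq' (by
    rw [IsScalarTower.algebraMap_eq A B B', IsScalarTower.algebraMap_eq A (MvPolynomial I A) B,
      ← RingHom.comp_assoc]; rfl)
  let e₂ : Localization.Away g ≃ₐ[MvPolynomial I A] B' :=
    (IsLocalization.algEquiv (Submonoid.powers g) (Localization.Away g) B').restrictScalars
      (MvPolynomial I A)
  haveI : Algebra.Etale (MvPolynomial I A) B' := Algebra.Etale.of_equiv e₂
  haveI : Algebra.Smooth (MvPolynomial I A) B' := ⟨inferInstance, inferInstance⟩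
  haveI : Module.Flat (MvPolynomial I A) B' := Algebra.Smooth.flat _ _
  have hX : ∀ k, algebraMap (MvPolynomial I A) B' (X (j k)) = algebraMap B B' (h k) := by
    intro k
    show algebraMap B B' (φ (X (j k))) = _
    simp [φ, hcj]
  obtain ⟨e₀⟩ := nonempty_quotient_X_equiv A I (Set.range j)
  obtain ⟨J, hJ⟩ : ∃ J : Ideal (MvPolynomial I A),
    J = Ideal.span ((fun i => (X i : MvPolynomial I A)) '' (Set.range j)) := ⟨_, rfl⟩
  rw [← hJ] at e₀
  haveI : Algebra.Etale (MvPolynomial I A ⧸ J) ((MvPolynomial I A ⧸ J) ⊗[MvPolynomial I A] B') :=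
    inferInstance
  let e₃ := Algebra.TensorProduct.quotIdealMapEquivQuotTensor B' J
  haveI : Algebra.Etale (MvPolynomial I A ⧸ J) (B' ⧸ J.map (algebraMap (MvPolynomial I A) B')) :=
    Algebra.Etale.of_equiv (A := (MvPolynomial I A ⧸ J) ⊗[MvPolynomial I A] B') e₃.symm
  haveI : IsScalarTower A (MvPolynomial I A ⧸ J)
      (B' ⧸ J.map (algebraMap (MvPolynomial I A) B')) := by
    have key : ∀ a : A, algebraMap A (B' ⧸ J.map (algebraMap (MvPolynomial I A) B')) a =
        algebraMap (MvPolynomial I A ⧸ J) (B' ⧸ J.map (algebraMap (MvPolynomial I A) B'))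
          (algebraMap A (MvPolynomial I A ⧸ J) a) := by
      intro a
      have h0 := IsScalarTower.algebraMap_apply A (MvPolynomial I A) B' a
      show Ideal.Quotient.mk (J.map (algebraMap (MvPolynomial I A) B')) (algebraMap A B' a) =
        Ideal.Quotient.mk (J.map (algebraMap (MvPolynomial I A) B'))
          (algebraMap (MvPolynomial I A) B' (algebraMap A (MvPolynomial I A) a))
      rw [h0]
    exact IsScalarTower.of_algebraMap_eq key
  have hJ' : J.map (algebraMap (MvPolynomial I A) B') =
      Ideal.span (Set.range fun k => algebraMap B B' (h k)) := by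
    rw [hJ, Ideal.map_span]
    congr 1
    ext b
    constructor
    · rintro ⟨_, ⟨_, ⟨k, rfl⟩, rfl⟩, rfl⟩
      exact ⟨k, (hX k).symm⟩
    · rintro ⟨k, rfl⟩
      exact ⟨X (j k), ⟨j k, ⟨k, rfl⟩, rfl⟩, hX k⟩
  constructor
  · haveI : Algebra.Smooth A (MvPolynomial {i // i ∉ Set.range j} A) :=
      ⟨inferInstance, inferInstance⟩
    haveI : Algebra.Smooth A (MvPolynomial I A ⧸ J) := Algebra.Smooth.of_equiv e₀
    haveI : Algebra.Smooth (MvPolynomial I A ⧸ J)
        (B' ⧸ J.map (algebraMap (MvPolynomial I A) B')) := ⟨inferInstance, inferInstance⟩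
    haveI : Algebra.Smooth A (B' ⧸ J.map (algebraMap (MvPolynomial I A) B')) :=
      Algebra.Smooth.comp A (MvPolynomial I A ⧸ J) _
    exact Algebra.Smooth.of_equiv (Ideal.quotientEquivAlgOfEq A hJ')
  · intro hcard
    have hI : Fintype.card I = Module.finrank (ResidueField T) (ResidueField T ⊗[T] Ω[T⁄A]) :=
      (Module.finrank_eq_card_basis bas).symm
    have hsurj : Function.Surjective j := by
      have hbij : Function.Bijective j :=
        (Fintype.bijective_iff_injective_and_card j).mpr ⟨hj, by rw [hcard, hI]⟩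
      exact hbij.2
    haveI : IsEmpty {i // i ∉ Set.range j} := ⟨fun ⟨i, hi⟩ => hi (hsurj i)⟩
    haveI : Algebra.Etale A (MvPolynomial {i // i ∉ Set.range j} A) :=
      Algebra.Etale.of_equiv (MvPolynomial.isEmptyAlgEquiv A {i // i ∉ Set.range j}).symm
    haveI : Algebra.Etale A (MvPolynomial I A ⧸ J) := Algebra.Etale.of_equiv e₀
    haveI : Algebra.Etale A (B' ⧸ J.map (algebraMap (MvPolynomial I A) B')) :=
      Algebra.Etale.comp A (MvPolynomial I A ⧸ J) _
    exact Algebra.Etale.of_equiv (Ideal.quotientEquivAlgOfEq A hJ')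

end CoreMulti

end Groth.Agent.H11.SmoothCartierMulti
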