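import Mathlib
import Groth.Agent.H11.SmoothCartierMulti
import Groth.Agent.H91.MvPolyStdSmooth

/-!
# Quotients of smooth algebras by functions with independent differentials: relative dimension

`core_multi_chart`: in the situation of `SmoothCartierMulti.core_multi`, the quotient
`B_g/(h k)_k` is étale over a polynomial ring in `dim κ ⊗ Ω - #h` variables.  Consequently
`Spec (B_g/(h)) → Spec A` is smooth of that relative dimension.
-/

set_option autoImplicit false

namespace Groth.Agent.H11.SmoothRelDim

open TensorProduct KaehlerDifferential IsLocalRing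
open Groth.Agent.H11.SmoothCartier Groth.Agent.H11.SmoothCartierMulti

universe u

section CoreMulti
variable {A B : Type u} [CommRing A] [CommRing B] [Algebra A B]

open MvPolynomial in
set_option maxHeartbeats 1600000 in
set_option backward.isDefEq.respectTransparency false in
/-- **Core with chart.** `A → B` smooth, `q` prime, `T = B_q`, `1 ⊗ d(h k)` linearly
independent in `κ ⊗ Ω[T/A]`. Then for some `g ∉ q`, `B_g/(h k)_k` is étale over a polynomial ring
over `A` in `dim (κ ⊗ Ω[T/A]) - #h` variables. -/
theorem core_multi_chart (q : Ideal B) [q.IsPrime] [Algebra.Smooth A B] (T : Type u) [CommRing T]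
    [Algebra B T] [IsLocalization.AtPrime T q] [Algebra A T] [IsScalarTower A B T] [IsLocalRing T]
    {ι : Type*} [Fintype ι] (h : ι → B)
    (hli : LinearIndependent (ResidueField T)
      (fun k => (1 : ResidueField T) ⊗ₜ[T] D A T (algebraMap B T (h k)))) :
    ∃ g ∉ q, ∀ (B' : Type u) [CommRing B'] [Algebra B B'] [IsLocalization.Away g B']
      [Algebra A B'] [IsScalarTower A B B'],
      ∃ (I' : Type u) (_ : Fintype I')
        (ψ : MvPolynomial I' A →ₐ[A]
          (B' ⧸ Ideal.span (Set.range fun k => algebraMap B B' (h k)))),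
        ψ.toRingHom.Etale ∧
        Fintype.card I' + Fintype.card ι =
          Module.finrank (ResidueField T) (ResidueField T ⊗[T] Ω[T⁄A]) := by
  classical
  haveI : Algebra.FormallySmooth B T := Algebra.FormallySmooth.of_isLocalization q.primeCompl
  haveI : Algebra.FormallySmooth A T := Algebra.FormallySmooth.comp A B T
  haveI : Algebra.EssFiniteType B T := Algebra.EssFiniteType.of_isLocalization T q.primeCompl
  haveI : Algebra.EssFiniteType A T := Algebra.EssFiniteType.comp A B T
  haveI : Module.Finite T Ω[T⁄A] := inferInstance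
  haveI : Module.Projective T Ω[T⁄A] := inferInstance
  have hspan := Groth.Agent.H11.EtaleDiff2.span_one_tmul_eq_top (ResidueField T)
    (fun b : B => D A T (algebraMap B T b)) (span_D_algebraMap (A := A) q.primeCompl T)
  obtain ⟨I, _, c, j, bas, hj, hcj, hbas⟩ := exists_basis_of_spanning_family
    (K := ResidueField T) (fun b : B => (1 : ResidueField T) ⊗ₜ[T] D A T (algebraMap B T b))
    hspan h hli
  let φ : MvPolynomial I A →ₐ[A] B := aeval c
  letI algQB : Algebra (MvPolynomial I A) B := φ.toRingHom.toAlgebra
  haveI : IsScalarTower A (MvPolynomial I A) B :=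
    IsScalarTower.of_algebraMap_eq' φ.comp_algebraMap.symm
  letI algQT : Algebra (MvPolynomial I A) T :=
    ((algebraMap B T).comp (algebraMap (MvPolynomial I A) B)).toAlgebra
  haveI : IsScalarTower (MvPolynomial I A) B T := IsScalarTower.of_algebraMap_eq' rfl
  haveI : IsScalarTower A (MvPolynomial I A) T := IsScalarTower.of_algebraMap_eq' (by
    rw [IsScalarTower.algebraMap_eq A B T, IsScalarTower.algebraMap_eq A (MvPolynomial I A) B,
      ← RingHom.comp_assoc]; rfl)
  let w : I → Ω[T⁄A] := fun i => D A T (algebraMap B T (c i))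
  have hw1 : ∀ i, (1 : ResidueField T) ⊗ₜ[T] w i = bas i := fun i => (hbas i).symm
  have hli : LinearIndependent T w := by
    apply Module.IsLocalRing.linearIndependent_of_flat
    have : (TensorProduct.mk T (ResidueField T) Ω[T⁄A] 1 ∘ w) = bas := funext hw1
    rw [this]; exact bas.linearIndependent
  have hsp : Submodule.span T (Set.range w) = ⊤ :=
    IsLocalRing.span_eq_top_of_tmul_eq_basis w bas hw1
  let bT : Module.Basis I T Ω[T⁄A] := Module.Basis.mk hli hsp.ge
  let bQ : Module.Basis I T (T ⊗[MvPolynomial I A] Ω[MvPolynomial I A⁄A]) :=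
    (KaehlerDifferential.mvPolynomialBasis A I).baseChange T
  have hmap : ∀ i, KaehlerDifferential.mapBaseChange A (MvPolynomial I A) T (bQ i) = bT i := by
    intro i
    rw [Module.Basis.baseChange_apply, KaehlerDifferential.mvPolynomialBasis_apply,
      KaehlerDifferential.mapBaseChange_tmul, one_smul, KaehlerDifferential.map_D,
      Module.Basis.mk_apply]
    congr 1
    show algebraMap B T (φ (X i)) = _
    simp [φ]
  have hbij : Function.Bijective (KaehlerDifferential.mapBaseChange A (MvPolynomial I A) T) := by
    have : (KaehlerDifferential.mapBaseChange A (MvPolynomial I A) T) =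
        (bQ.equiv bT (Equiv.refl I)).toLinearMap := by
      apply bQ.ext
      intro i
      rw [hmap]; simp
    rw [this]; exact (bQ.equiv bT (Equiv.refl I)).bijective
  haveI : Algebra.FormallyEtale (MvPolynomial I A) T :=
    Groth.Agent.H11.EtaleDiff.formallyEtale_of_bijective_mapBaseChange A (MvPolynomial I A) T hbij
  haveI : Algebra.FinitePresentation (MvPolynomial I A) B :=
    Algebra.FinitePresentation.of_restrict_scalars_finitePresentation A (MvPolynomial I A) B
  let e₁ : T ≃ₐ[MvPolynomial I A] Localization.AtPrime q :=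
    (IsLocalization.algEquiv q.primeCompl T (Localization.AtPrime q)).restrictScalars
      (MvPolynomial I A)
  haveI : Algebra.IsEtaleAt (MvPolynomial I A) q := Algebra.FormallyEtale.of_equiv e₁
  obtain ⟨g, hg, hét⟩ := Algebra.exists_etale_of_isEtaleAt (R := MvPolynomial I A) q
  refine ⟨g, hg, ?_⟩
  intro B' _ _ _ _ _
  letI algQB' : Algebra (MvPolynomial I A) B' :=
    ((algebraMap B B').comp (algebraMap (MvPolynomial I A) B)).toAlgebra
  haveI : IsScalarTower (MvPolynomial I A) B B' := IsScalarTower.of_algebraMap_eq' rfl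
  haveI : IsScalarTower A (MvPolynomial I A) B' := IsScalarTower.of_algebraMap_eq' (by
    rw [IsScalarTower.algebraMap_eq A B B', IsScalarTower.algebraMap_eq A (MvPolynomial I A) B,
      ← RingHom.comp_assoc]; rfl)
  let e₂ : Localization.Away g ≃ₐ[MvPolynomial I A] B' :=
    (IsLocalization.algEquiv (Submonoid.powers g) (Localization.Away g) B').restrictScalars
      (MvPolynomial I A)
  haveI : Algebra.Etale (MvPolynomial I A) B' := Algebra.Etale.of_equiv e₂
  haveI : Algebra.Smooth (MvPolynomial I A) B' := ⟨inferInstance, inferInstance⟩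
  haveI : Module.Flat (MvPolynomial I A) B' := Algebra.Smooth.flat _ _
  have hX : ∀ k, algebraMap (MvPolynomial I A) B' (X (j k)) = algebraMap B B' (h k) := by
    intro k
    show algebraMap B B' (φ (X (j k))) = _
    simp [φ, hcj]
  obtain ⟨e₀⟩ := nonempty_quotient_X_equiv A I (Set.range j)
  obtain ⟨J, hJ⟩ : ∃ J : Ideal (MvPolynomial I A),
    J = Ideal.span ((fun i => (X i : MvPolynomial I A)) '' (Set.range j)) := ⟨_, rfl⟩
  rw [← hJ] at e₀
  haveI : Algebra.Etale (MvPolynomial I A ⧸ J) ((MvPolynomial I A ⧸ J) ⊗[MvPolynomial I A] B') :=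
    inferInstance
  let e₃ := Algebra.TensorProduct.quotIdealMapEquivQuotTensor B' J
  haveI : Algebra.Etale (MvPolynomial I A ⧸ J) (B' ⧸ J.map (algebraMap (MvPolynomial I A) B')) :=
    Algebra.Etale.of_equiv (A := (MvPolynomial I A ⧸ J) ⊗[MvPolynomial I A] B') e₃.symm
  haveI : IsScalarTower A (MvPolynomial I A ⧸ J)
      (B' ⧸ J.map (algebraMap (MvPolynomial I A) B')) := by
    have key : ∀ a : A, algebraMap A (B' ⧸ J.map (algebraMap (MvPolynomial I A) B')) a =
        algebraMap (MvPolynomial I A ⧸ J) (B' ⧸ J.map (algebraMap (MvPolynomial I A) B'))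
          (algebraMap A (MvPolynomial I A ⧸ J) a) := by
      intro a
      have h0 := IsScalarTower.algebraMap_apply A (MvPolynomial I A) B' a
      show Ideal.Quotient.mk (J.map (algebraMap (MvPolynomial I A) B')) (algebraMap A B' a) =
        Ideal.Quotient.mk (J.map (algebraMap (MvPolynomial I A) B'))
          (algebraMap (MvPolynomial I A) B' (algebraMap A (MvPolynomial I A) a))
      rw [h0]
    exact IsScalarTower.of_algebraMap_eq key
  have hJ' : J.map (algebraMap (MvPolynomial I A) B') =
      Ideal.span (Set.range fun k => algebraMap B B' (h k)) := by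
    rw [hJ, Ideal.map_span]
    congr 1
    ext b
    constructor
    · rintro ⟨_, ⟨_, ⟨k, rfl⟩, rfl⟩, rfl⟩
      exact ⟨k, (hX k).symm⟩
    · rintro ⟨k, rfl⟩
      exact ⟨X (j k), ⟨j k, ⟨k, rfl⟩, rfl⟩, hX k⟩
  let ψ : MvPolynomial {i // i ∉ Set.range j} A →ₐ[A]
      (B' ⧸ Ideal.span (Set.range fun k => algebraMap B B' (h k))) :=
    ((Ideal.quotientEquivAlgOfEq A hJ').toAlgHom.comp
      (IsScalarTower.toAlgHom A (MvPolynomial I A ⧸ J)
        (B' ⧸ J.map (algebraMap (MvPolynomial I A) B')))).comp e₀.toAlgHom
  refine ⟨{i // i ∉ Set.range j}, inferInstance, ψ, ?_, ?_⟩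
  · have hψ : ψ.toRingHom = ((Ideal.quotientEquivAlgOfEq A hJ').toRingEquiv.toRingHom.comp
        (algebraMap (MvPolynomial I A ⧸ J) (B' ⧸ J.map (algebraMap (MvPolynomial I A) B')))).comp
        e₀.toRingEquiv.toRingHom := RingHom.ext fun x => rfl
    rw [hψ]
    refine RingHom.Etale.stableUnderComposition _ _ ?_
      (RingHom.Etale.stableUnderComposition _ _ ?_ ?_)
    · exact RingHom.Etale.of_bijective e₀.bijective
    · exact RingHom.etale_algebraMap.mpr inferInstance
    · exact RingHom.Etale.of_bijective (Ideal.quotientEquivAlgOfEq A hJ').bijective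
  · have h1 : Fintype.card {i // i ∈ Set.range j} = Fintype.card ι :=
      (Fintype.card_congr (Equiv.ofInjective j hj)).symm
    have h2 := Fintype.card_subtype_compl (fun i => i ∈ Set.range j)
    have h3 : Fintype.card {i // i ∈ Set.range j} ≤ Fintype.card I := Fintype.card_subtype_le _
    rw [Module.finrank_eq_card_basis bas]
    omega

end CoreMulti

section Sch

open AlgebraicGeometry CategoryTheory

/-- `Spec A[I'] → Spec A` is smooth of relative dimension `#I'`. -/
theorem smoothOfRelativeDimension_mvPolynomial (A : Type u) [CommRing A] (I' : Type u)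
    [Fintype I'] :
    SmoothOfRelativeDimension (Fintype.card I')
      (Spec.map (CommRingCat.ofHom (algebraMap A (MvPolynomial I' A)))) := by
  rw [HasRingHomProperty.Spec_iff (P := @SmoothOfRelativeDimension (Fintype.card I'))]
  apply RingHom.locally_of RingHom.isStandardSmoothOfRelativeDimension_respectsIso
  rw [CommRingCat.hom_ofHom, RingHom.isStandardSmoothOfRelativeDimension_algebraMap]
  exact (Groth.Agent.H91.MvPolyStdSmooth.subPres A I').isStandardSmoothOfRelativeDimension
    (by simp [Algebra.Presentation.dimension])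

/-- An `A`-algebra étale over a polynomial ring in `#I'` variables has spectrum smooth of relative
dimension `#I'` over `Spec A`. -/
theorem smoothOfRelativeDimension_of_etale_chart {A C : Type u} [CommRing A] [CommRing C]
    [Algebra A C] (I' : Type u) [Fintype I'] (ψ : MvPolynomial I' A →ₐ[A] C)
    (hψ : ψ.toRingHom.Etale) :
    SmoothOfRelativeDimension (Fintype.card I')
      (Spec.map (CommRingCat.ofHom (algebraMap A C))) := by
  have h1 : CommRingCat.ofHom (algebraMap A C) =
      CommRingCat.ofHom (algebraMap A (MvPolynomial I' A)) ≫ CommRingCat.ofHom ψ.toRingHom := by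
    ext a
    simp
  rw [h1, Spec.map_comp]
  haveI : Etale (Spec.map (CommRingCat.ofHom ψ.toRingHom)) := by
    rw [HasRingHomProperty.Spec_iff (P := @Etale)]
    exact hψ
  haveI := smoothOfRelativeDimension_mvPolynomial A I'
  have h2 : SmoothOfRelativeDimension (0 + Fintype.card I')
      (Spec.map (CommRingCat.ofHom ψ.toRingHom) ≫
        Spec.map (CommRingCat.ofHom (algebraMap A (MvPolynomial I' A)))) := inferInstance
  rwa [zero_add] at h2

end Sch

end Groth.Agent.H11.SmoothRelDim
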