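import Mathlib
import Groth.Agent.H11.JacRows
import Groth.Agent.H11.JacLI
import Groth.Agent.H11.SmoothRelDim

/-!
# Local embedding into a smooth scheme of relative dimension `p` from `p` generators of `Ω`

Ring-level core: `P = A[X_1..X_n]`, `J ≤ q`, `Ω[(P/J)/A]` generated by `p` elements, `n = m + p`.
Then there are `f_1..f_m ∈ J` and `g ∉ q` with `Spec (P_g/(f)) → Spec A` smooth of relative
dimension `p`.
-/

set_option autoImplicit false

namespace Groth.Agent.H11.FittSmooth

open TensorProduct KaehlerDifferential IsLocalRing MvPolynomial AlgebraicGeometry CategoryTheory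

universe u

variable {A : Type u} [CommRing A] {n : ℕ}

/-- The fibre of `Ω[T/A]` for `T` a localization of a polynomial ring in `n` variables has
dimension `n`. -/
theorem finrank_fibre_localization (q : Ideal (MvPolynomial (Fin n) A)) [q.IsPrime] (T : Type u)
    [CommRing T] [Algebra (MvPolynomial (Fin n) A) T] [IsLocalization.AtPrime T q] [Algebra A T]
    [IsScalarTower A (MvPolynomial (Fin n) A) T] [IsLocalRing T] :
    Module.finrank (ResidueField T) (ResidueField T ⊗[T] Ω[T⁄A]) = n := by
  haveI : Algebra.FormallyEtale (MvPolynomial (Fin n) A) T :=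
    Algebra.FormallyEtale.of_isLocalization q.primeCompl
  let b₁ := ((KaehlerDifferential.mvPolynomialBasis A (Fin n)).baseChange T).map
    (tensorKaehlerEquivOfFormallyEtale A (MvPolynomial (Fin n) A) T)
  rw [Module.finrank_eq_card_basis (b₁.baseChange (ResidueField T)), Fintype.card_fin]

set_option maxHeartbeats 800000 in
theorem poly_main (J q : Ideal (MvPolynomial (Fin n) A)) [q.IsPrime] (hJq : J ≤ q)
    (p m : ℕ) (hn : n = m + p)
    (y : Fin p → Ω[(MvPolynomial (Fin n) A ⧸ J)⁄A])
    (hy : Submodule.span (MvPolynomial (Fin n) A ⧸ J) (Set.range y) = ⊤) :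
    ∃ g ∉ q, ∃ f : Fin m → MvPolynomial (Fin n) A, (∀ i, f i ∈ J) ∧
      SmoothOfRelativeDimension p (Spec.map (CommRingCat.ofHom (algebraMap A
        (Localization.Away g ⧸ Ideal.span (Set.range fun k =>
          algebraMap (MvPolynomial (Fin n) A) (Localization.Away g) (f k)))))) := by
  haveI hp : (q.map (Ideal.Quotient.mk J)).IsPrime :=
    Ideal.map_isPrime_of_surjective Ideal.Quotient.mk_surjective (by rw [Ideal.mk_ker]; exact hJq)
  obtain ⟨f, cols, hfJ, hdet⟩ := Groth.Agent.H11.JacRows.exists_rows J q hJq p m hn y hy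
  haveI : Algebra.Smooth A (MvPolynomial (Fin n) A) := ⟨inferInstance, inferInstance⟩
  have hli := Groth.Agent.H11.JacLI.linearIndependent_of_det (A := A) q (Localization.AtPrime q) f
    (fun j => pderiv (cols j)) hdet
  have hfr := finrank_fibre_localization (A := A) q (Localization.AtPrime q)
  obtain ⟨g, hg, H⟩ := Groth.Agent.H11.SmoothRelDim.core_multi_chart (A := A) q
    (Localization.AtPrime q) f hli
  obtain ⟨I', _, ψ, hψ, hcard⟩ := H (Localization.Away g)
  refine ⟨g, hg, f, hfJ, ?_⟩
  have h1 := Groth.Agent.H11.SmoothRelDim.smoothOfRelativeDimension_of_etale_chart I' ψ hψ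
  have h2 : Fintype.card I' = p := by
    rw [hfr, Fintype.card_fin] at hcard
    omega
  rwa [h2] at h1

/-- Transport a finite generating family of `Ω` along a surjective algebra homomorphism. -/
theorem span_transport {A B C : Type u} [CommRing A] [CommRing B] [CommRing C] [Algebra A B]
    [Algebra A C] (ε : B →ₐ[A] C) (hε : Function.Surjective ε) {p : ℕ} (y : Fin p → Ω[B⁄A])
    (hy : Submodule.span B (Set.range y) = ⊤) :
    ∃ y' : Fin p → Ω[C⁄A], Submodule.span C (Set.range y') = ⊤ := by
  letI : Algebra B C := ε.toRingHom.toAlgebra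
  haveI : IsScalarTower A B C :=
    IsScalarTower.of_algebraMap_eq' (by ext a; exact (ε.commutes a).symm)
  have hs : Function.Surjective (algebraMap B C) := hε
  have hm := KaehlerDifferential.map_surjective_of_surjective A A B C hs
  refine ⟨fun i => KaehlerDifferential.map A A B C (y i), ?_⟩
  rw [eq_top_iff]
  rintro z -
  obtain ⟨w, rfl⟩ := hm z
  have hw : w ∈ Submodule.span B (Set.range y) := hy ▸ Submodule.mem_top
  induction hw using Submodule.span_induction with
  | mem x hx =>
    obtain ⟨i, rfl⟩ := hx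
    exact Submodule.subset_span ⟨i, rfl⟩
  | zero => simp
  | add x y _ _ hx hy => rw [map_add]; exact Submodule.add_mem _ hx hy
  | smul b x _ hx =>
    rw [map_smul, ← algebraMap_smul C b]
    exact Submodule.smul_mem _ _ hx

set_option maxHeartbeats 800000 in
/-- **Ring-level main result.** `B` of finite type over `A`, `q` a prime of `B`, `Ω[B/A]`
generated by `p` elements. Then some localization `B_b`, `b ∉ q`, is a quotient of an `A`-algebra
`C` whose spectrum is smooth of relative dimension `p` over `Spec A`. -/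
theorem ring_main {A B : Type u} [CommRing A] [CommRing B] [Algebra A B]
    [hft : Algebra.FiniteType A B] (q : Ideal B) [q.IsPrime] (p : ℕ) (y : Fin p → Ω[B⁄A])
    (hy : Submodule.span B (Set.range y) = ⊤) :
    ∃ (C : Type u) (_ : CommRing C) (_ : Algebra A C) (b : B), b ∉ q ∧
      SmoothOfRelativeDimension p (Spec.map (CommRingCat.ofHom (algebraMap A C))) ∧
      ∀ (B' : Type u) [CommRing B'] [Algebra B B'] [IsLocalization.Away b B'] [Algebra A B']
        [IsScalarTower A B B'], ∃ χ : C →ₐ[A] B', Function.Surjective χ := by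
  classical
  obtain ⟨n₀, φ₀, hφ₀⟩ := Algebra.FiniteType.iff_quotient_mvPolynomial''.mp hft
  let φ : MvPolynomial (Fin (n₀ + p)) A →ₐ[A] B :=
    aeval (fun k => Fin.addCases (fun a => φ₀ (X a)) (fun _ => 0) k)
  have hφφ₀ : φ.comp (rename (Fin.castAdd p)) = φ₀ := by
    apply MvPolynomial.algHom_ext
    intro a
    show φ (rename (Fin.castAdd p) (X a)) = φ₀ (X a)
    rw [rename_X]
    show aeval _ (X (Fin.castAdd p a)) = _
    rw [aeval_X, Fin.addCases_left]
  have hφ : Function.Surjective φ := by
    intro b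
    obtain ⟨a, rfl⟩ := hφ₀ b
    exact ⟨rename (Fin.castAdd p) a, by rw [← hφφ₀]; rfl⟩
  obtain ⟨J, hJ⟩ : ∃ J : Ideal (MvPolynomial (Fin (n₀ + p)) A), J = RingHom.ker φ := ⟨_, rfl⟩
  have hJq : J ≤ q.comap φ := by
    intro a ha
    rw [hJ, RingHom.mem_ker] at ha
    rw [Ideal.mem_comap, ha]
    exact zero_mem _
  let ε : (MvPolynomial (Fin (n₀ + p)) A ⧸ J) ≃ₐ[A] B :=
    (Ideal.quotientEquivAlgOfEq A hJ).trans (Ideal.quotientKerAlgEquivOfSurjective hφ)
  obtain ⟨y', hy'⟩ := span_transport ε.symm.toAlgHom ε.symm.surjective y hy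
  obtain ⟨g, hg, f, hfJ, hsm⟩ := poly_main J (q.comap φ) hJq p n₀ rfl y' hy'
  refine ⟨_, inferInstance, inferInstance, φ g, hg, hsm, ?_⟩
  intro B' _ _ _ _ _
  let ρ : Localization.Away g →ₐ[A] B' := IsLocalization.Away.mapₐ (Localization.Away g) B' φ g
  have hρ : Function.Surjective ρ := IsLocalization.Away.mapₐ_surjective_of_surjective g hφ
  have hker : ∀ a ∈ Ideal.span (Set.range fun k =>
      algebraMap (MvPolynomial (Fin (n₀ + p)) A) (Localization.Away g) (f k)), ρ a = 0 := by
    intro a ha
    have hle : Ideal.span (Set.range fun k =>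
        algebraMap (MvPolynomial (Fin (n₀ + p)) A) (Localization.Away g) (f k)) ≤
        RingHom.ker ρ.toRingHom := by
      rw [Ideal.span_le]
      rintro _ ⟨k, rfl⟩
      show ρ (algebraMap _ _ (f k)) = 0
      rw [IsLocalization.Away.mapₐ_apply, IsLocalization.Away.map, IsLocalization.map_eq]
      have h0 : φ (f k) = 0 := by
        have := hfJ k
        rwa [hJ, RingHom.mem_ker] at this
      show algebraMap B B' (φ (f k)) = 0
      rw [h0, map_zero]
    exact hle ha
  refine ⟨Ideal.Quotient.liftₐ _ ρ hker, ?_⟩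
  intro b'
  obtain ⟨a, ha⟩ := hρ b'
  exact ⟨Ideal.Quotient.mk _ a, ha⟩

end Groth.Agent.H11.FittSmooth
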