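import Mathlib
import Groth.Agent.H11.FittSmooth
import Groth.Agent.H7.LocalStd
import Groth.Agent.H44.OmegaSections
import Groth.Agent.H44.AffineFree
import Groth.Agent.H44.OmegaFitting

/-!
# Local closed immersions into smooth schemes of relative dimension `p` and generators of `Ω`
-/

set_option autoImplicit false

namespace Groth.Agent.H11.FittSmoothSch

open AlgebraicGeometry CategoryTheory Limits TensorProduct TopologicalSpace

universe u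

set_option maxHeartbeats 800000 in
/-- If `Ω[Γ(X,U₀)/Γ(Y,V)]` is generated by `p` elements, a neighbourhood of `x ∈ U₀` embeds as a
closed subscheme of a `Y`-scheme smooth of relative dimension `p`. -/
theorem forward {X Y : Scheme.{u}} (f : X ⟶ Y) [LocallyOfFiniteType f]
    {V : Y.Opens} (hV : IsAffineOpen V) {U₀ : X.Opens} (hU₀ : IsAffineOpen U₀)
    (e₀ : U₀ ≤ f ⁻¹ᵁ V) (x : X) (hx : x ∈ U₀) (p : ℕ)
    (hy : letI := (f.appLE V U₀ e₀).hom.toAlgebra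
      ∃ y : Fin p → Ω[Γ(X, U₀)⁄Γ(Y, V)], Submodule.span Γ(X, U₀) (Set.range y) = ⊤) :
    ∃ (U : X.Opens) (U' : Scheme.{u}) (i : (U : Scheme.{u}) ⟶ U') (g : U' ⟶ Y),
        x ∈ U ∧ IsClosedImmersion i ∧ SmoothOfRelativeDimension p g ∧ i ≫ g = U.ι ≫ f := by
  letI alg : Algebra Γ(Y, V) Γ(X, U₀) := (f.appLE V U₀ e₀).hom.toAlgebra
  obtain ⟨y, hy⟩ := hy
  haveI hft : Algebra.FiniteType Γ(Y, V) Γ(X, U₀) :=
    HasRingHomProperty.appLE @LocallyOfFiniteType f inferInstance ⟨V, hV⟩ ⟨U₀, hU₀⟩ e₀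
  obtain ⟨C, _, _, b, hb, hsm, H⟩ :=
    Groth.Agent.H11.FittSmooth.ring_main (hU₀.primeIdealOf ⟨x, hx⟩).asIdeal p y hy
  have hxU : x ∈ X.basicOpen b :=
    (Groth.Agent.H7.mem_basicOpen_iff_notMem_primeIdealOf hU₀ x hx b).mpr hb
  have hU : IsAffineOpen (X.basicOpen b) := hU₀.basicOpen b
  have hUle : X.basicOpen b ≤ U₀ := X.basicOpen_le b
  haveI hloc : IsLocalization.Away b Γ(X, X.basicOpen b) := hU₀.isLocalization_basicOpen b
  letI algAB' : Algebra Γ(Y, V) Γ(X, X.basicOpen b) :=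
    (f.appLE V (X.basicOpen b) (hUle.trans e₀)).hom.toAlgebra
  haveI : IsScalarTower Γ(Y, V) Γ(X, U₀) Γ(X, X.basicOpen b) := by
    apply IsScalarTower.of_algebraMap_eq'
    show (f.appLE V (X.basicOpen b) (hUle.trans e₀)).hom =
      (X.presheaf.map (homOfLE hUle).op).hom.comp (f.appLE V U₀ e₀).hom
    rw [← CommRingCat.hom_comp, Scheme.Hom.appLE_map]
  obtain ⟨χ, hχ⟩ := H Γ(X, X.basicOpen b)
  haveI : IsClosedImmersion (Spec.map (CommRingCat.ofHom χ.toRingHom)) :=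
    IsClosedImmersion.spec_of_surjective _ hχ
  haveI := hsm
  refine ⟨X.basicOpen b, Spec (CommRingCat.of C),
    hU.isoSpec.hom ≫ Spec.map (CommRingCat.ofHom χ.toRingHom),
    Spec.map (CommRingCat.ofHom (algebraMap Γ(Y, V) C)) ≫ hV.fromSpec, hxU, inferInstance,
    ?_, ?_⟩
  · exact inferInstanceAs (SmoothOfRelativeDimension (p + 0) _)
  · have h1 : CommRingCat.ofHom (algebraMap Γ(Y, V) C) ≫ CommRingCat.ofHom χ.toRingHom =
        f.appLE V (X.basicOpen b) (hUle.trans e₀) := by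
      ext a
      exact χ.commutes a
    rw [Category.assoc, ← Spec.map_comp_assoc, h1,
      IsAffineOpen.SpecMap_appLE_fromSpec f hV hU (hUle.trans e₀), ← Category.assoc]
    congr 1
    rw [← hU.isoSpec_inv_ι, Iso.hom_inv_id_assoc]

theorem appLE_congr_hom {X Y : Scheme.{u}} {h₁ h₂ : X ⟶ Y} (hh : h₁ = h₂) (V : Y.Opens)
    (U : X.Opens) (e : U ≤ h₁ ⁻¹ᵁ V) (e' : U ≤ h₂ ⁻¹ᵁ V) : h₁.appLE V U e = h₂.appLE V U e' := by
  subst hh
  rfl

set_option maxHeartbeats 800000 in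
/-- A neighbourhood of `x` closed-immersed over `Y` into a scheme smooth of relative dimension `p`
forces `Ω_{X/Y}` to be generated by `p` sections near `x`. -/
theorem backward {X Y : Scheme.{u}} (f : X ⟶ Y) [QuasiSeparated f] (p : ℕ) (x : X)
    (U : X.Opens) (U' : Scheme.{u}) (i : (U : Scheme.{u}) ⟶ U') (g : U' ⟶ Y)
    (hxU : x ∈ U) [IsClosedImmersion i] [SmoothOfRelativeDimension p g]
    (w : i ≫ g = U.ι ≫ f) :
    ∃ U₁ : X.Opens, x ∈ U₁ ∧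
      ∃ π : FlatMod.freeMod (↑U₁) p ⟶ (Omega.sheaf f).restrict U₁.ι, Epi π := by
  obtain ⟨V, hV, W, hW, hzW, e, hstd⟩ :=
    SmoothOfRelativeDimension.exists_isStandardSmoothOfRelativeDimension (n := p) (f := g)
      (i ⟨x, hxU⟩)
  have hW₁ : IsAffineOpen (i ⁻¹ᵁ W) := hW.preimage i
  have hU₁ : IsAffineOpen (U.ι ''ᵁ (i ⁻¹ᵁ W)) := hW₁.image_of_isOpenImmersion U.ι
  have hxU₁ : x ∈ U.ι ''ᵁ (i ⁻¹ᵁ W) := ⟨⟨x, hxU⟩, hzW, rfl⟩
  have eW₁ : i ⁻¹ᵁ W ≤ (i ≫ g) ⁻¹ᵁ V := fun y₁ hy₁ => e hy₁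
  have eW₁' : i ⁻¹ᵁ W ≤ (U.ι ≫ f) ⁻¹ᵁ V := by rw [← w]; exact eW₁
  have e₁ : U.ι ''ᵁ (i ⁻¹ᵁ W) ≤ f ⁻¹ᵁ V := by
    rintro _ ⟨y₁, hy₁, rfl⟩
    exact eW₁' hy₁
  letI algAC : Algebra Γ(Y, V) Γ(U', W) := (g.appLE V W e).hom.toAlgebra
  letI algAB : Algebra Γ(Y, V) Γ(X, U.ι ''ᵁ (i ⁻¹ᵁ W)) := (f.appLE V _ e₁).hom.toAlgebra
  haveI : Algebra.IsStandardSmoothOfRelativeDimension p Γ(Y, V) Γ(U', W) := hstd
  haveI : Nonempty W := ⟨⟨_, hzW⟩⟩
  haveI : Nontrivial Γ(U', W) := inferInstance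
  haveI : Algebra.IsStandardSmooth Γ(Y, V) Γ(U', W) :=
    Algebra.IsStandardSmoothOfRelativeDimension.isStandardSmooth p
  have hrank := Algebra.IsStandardSmoothOfRelativeDimension.rank_kaehlerDifferential
    (R := Γ(Y, V)) (S := Γ(U', W)) p
  have hfr : Module.finrank Γ(U', W) Ω[Γ(U', W)⁄Γ(Y, V)] = p := Module.finrank_eq_of_rank_eq hrank
  let bas := Module.finBasisOfFinrankEq Γ(U', W) Ω[Γ(U', W)⁄Γ(Y, V)] hfr
  -- the surjection
  have hcomm : f.appLE V _ e₁ ≫ (U.ι.appIso (i ⁻¹ᵁ W)).hom = g.appLE V W e ≫ i.app W := by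
    rw [Scheme.Hom.appIso_hom', Scheme.Hom.appLE_comp_appLE, ← Scheme.Hom.appLE_eq_app,
      Scheme.Hom.appLE_comp_appLE]
    exact (appLE_congr_hom w V _ eW₁ eW₁').symm
  have hcomm' : f.appLE V _ e₁ = g.appLE V W e ≫ i.app W ≫ (U.ι.appIso (i ⁻¹ᵁ W)).inv := by
    rw [← Category.assoc, ← hcomm, Category.assoc, Iso.hom_inv_id, Category.comp_id]
  let κ : Γ(U', W) →ₐ[Γ(Y, V)] Γ(X, U.ι ''ᵁ (i ⁻¹ᵁ W)) :=
    { (i.app W ≫ (U.ι.appIso (i ⁻¹ᵁ W)).inv).hom with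
      commutes' := fun a => by
        have h2 := congrArg (fun φ => φ.hom a) hcomm'
        exact h2.symm }
  have hκ : Function.Surjective κ := by
    have h1 : Function.Surjective (i.app W) := i.app_surjective W hW
    have h2 : Function.Surjective (U.ι.appIso (i ⁻¹ᵁ W)).inv :=
      (ConcreteCategory.bijective_of_isIso (U.ι.appIso (i ⁻¹ᵁ W)).inv).2
    exact h2.comp h1
  obtain ⟨y', hy'⟩ := Groth.Agent.H11.FittSmooth.span_transport κ hκ bas bas.span_eq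
  let Φ := Groth.Agent.H44.omegaSectionsEquiv f hU₁ hV e₁
  have hsp : Submodule.span Γ(X, U.ι ''ᵁ (i ⁻¹ᵁ W)) (Set.range fun k => Φ.symm (y' k)) = ⊤ := by
    have h1 := congrArg (Submodule.map Φ.symm.toLinearMap) hy'
    rw [Submodule.map_span, Submodule.map_top, LinearEquiv.range, ← Set.range_comp] at h1
    exact h1
  obtain ⟨π, hπ⟩ := Groth.Agent.H44.exists_epi_freeMod_of_span (Omega.sheaf f) hU₁ _ hsp
  exact ⟨_, hxU₁, π, hπ⟩

end Groth.Agent.H11.FittSmoothSch
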