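import Mathlib
import Groth.Agent.H23.Jacobian
import Groth.Agent.H11.SmoothDim2
import Groth.Agent.Lead.FittingLoc

/-!
# Smoothness of a complete intersection in a smooth algebra via the Fitting ideal of `Ω`

`A → B` smooth with `Ω[B/A]` free of rank `m + c`, `J = (rs_1, …, rs_c) ≤ q` with the `rs_i`
quasi-regular in degree one (`Σ a_i rs_i ∈ J² → a_i ∈ J`).  Then `(B/J)_q` is formally smooth over
`A` iff `Fitt_m(Ω[(B/J)/A]) ⊄ q/J`.
-/

set_option autoImplicit false

namespace Groth.Agent.H11.LciFitt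

open TensorProduct
open Groth.Agent.H23.Jacobian Groth.Agent.H23.SmoothQuot

universe u

variable {A B : Type u} [CommRing A] [CommRing B] [Algebra A B] (J q : Ideal B) [q.IsPrime]
  (hJq : J ≤ q) [hp : (q.map (Ideal.Quotient.mk J)).IsPrime]

/-- Formal smoothness of `(B/J)_q` is injectivity of the fibre of the conormal map. -/
theorem formallySmooth_iff_UU_injective [Algebra.FormallySmooth A B] (hJ : J.FG) :
    Algebra.FormallySmooth A (Localization.AtPrime (q.map (Ideal.Quotient.mk J))) ↔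
      Function.Injective (UU (A := A) J q) := by
  set P := PP (A := A) J with hP
  have hfin : Module.Finite (B ⧸ J) P.Cotangent :=
    Algebra.Extension.Cotangent.finite (by rw [ker_eq]; exact hJ)
  have hsm : Algebra.FormallySmooth A P.Ring := ‹_›
  rw [formallySmooth_atPrime_iff (hsurj J) (q.map (Ideal.Quotient.mk J)), UU_injective_iff]
  exact ((Groth.Agent.S4530.result P.cotangentComplex).1
    ⟨q.map (Ideal.Quotient.mk J), hp⟩).out 0 1

/-- The classes of a degree-one quasi-regular generating family form a basis of `J/J²`. -/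
theorem linearIndependent_cl {c : ℕ} (rs : Fin c → B) (hJdef : J = Ideal.span (Set.range rs))
    (hq1 : ∀ a : Fin c → B, ∑ i, a i * rs i ∈ J ^ 2 → ∀ i, a i ∈ J)
    (hf : ∀ i, rs i ∈ J) :
    LinearIndependent (κκ J q) (fun i => cl (A := A) J q ⟨rs i, hf i⟩) := by
  classical
  set P := PP (A := A) J with hP
  have hker : P.ker = J := ker_eq (A := A) J
  let e : Fin c → P.Cotangent := fun i =>
    Algebra.Extension.Cotangent.mk ⟨rs i, hker.ge (hf i)⟩
  have hli : LinearIndependent (B ⧸ J) e := by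
    rw [Fintype.linearIndependent_iff]
    intro g hg
    choose a ha using fun i => Ideal.Quotient.mk_surjective (g i)
    have h1 : ∑ i, g i • e i =
        Algebra.Extension.Cotangent.mk (P := P)
          ⟨∑ i, a i * rs i, hker.ge (J.sum_mem fun i _ => J.mul_mem_left _ (hf i))⟩ := by
      have h2 : (⟨∑ i, a i * rs i, hker.ge (J.sum_mem fun i _ => J.mul_mem_left _ (hf i))⟩ :
          P.ker) = ∑ i, a i • (⟨rs i, hker.ge (hf i)⟩ : P.ker) := by
        apply Subtype.ext
        simp [Submodule.coe_sum]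
      rw [h2, map_sum]
      apply Finset.sum_congr rfl
      intro i _
      rw [map_smul, ← ha i]
      exact (algebraMap_smul (B ⧸ J) (a i) (e i)).symm ▸ rfl
    rw [h1, Algebra.Extension.Cotangent.mk_eq_zero_iff] at hg
    have h3 : ∑ i, a i * rs i ∈ J ^ 2 := by
      rw [← hker]; exact hg
    intro i
    rw [← ha i]
    exact Ideal.Quotient.eq_zero_iff_mem.mpr (hq1 a h3 i)
  have hsp : ⊤ ≤ Submodule.span (B ⧸ J) (Set.range e) := by
    rintro x -
    obtain ⟨⟨y, hy⟩, rfl⟩ := Algebra.Extension.Cotangent.mk_surjective x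
    have hy' : y ∈ Ideal.span (Set.range rs) := by
      have h0 : y ∈ J := hker.le hy
      exact hJdef.le h0
    obtain ⟨b, hb⟩ := (Submodule.mem_span_range_iff_exists_fun B).mp hy'
    have h2 : (⟨y, hy⟩ : P.ker) = ∑ i, b i • (⟨rs i, hker.ge (hf i)⟩ : P.ker) := by
      apply Subtype.ext
      simp [Submodule.coe_sum, ← hb]
    rw [h2, map_sum]
    refine Submodule.sum_mem _ fun i _ => ?_
    rw [map_smul, ← algebraMap_smul (B ⧸ J) (b i)]
    exact Submodule.smul_mem _ _ (Submodule.subset_span ⟨i, rfl⟩)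
  let bas : Module.Basis (Fin c) (B ⧸ J) P.Cotangent := Module.Basis.mk hli hsp
  have h4 := (bas.baseChange (κκ J q)).linearIndependent
  convert h4 using 1
  ext i
  rw [Module.Basis.baseChange_apply, Module.Basis.mk_apply, cl_apply]

include hJq in
set_option maxHeartbeats 800000 in
/-- **Main ring-level criterion** for the quotient `B/J`. -/
theorem main₀ [Algebra.Smooth A B] {m c : ℕ} (bas : Module.Basis (Fin (m + c)) B Ω[B⁄A])
    (rs : Fin c → B) (hJdef : J = Ideal.span (Set.range rs))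
    (hq1 : ∀ a : Fin c → B, ∑ i, a i * rs i ∈ J ^ 2 → ∀ i, a i ∈ J) :
    Algebra.FormallySmooth A (Localization.AtPrime (q.map (Ideal.Quotient.mk J))) ↔
      ¬ Fitt.ideal (B ⧸ J) Ω[(B ⧸ J)⁄A] m ≤ q.map (Ideal.Quotient.mk J) := by
  classical
  have hJ : J.FG := by rw [hJdef]; exact Submodule.fg_span (Set.finite_range rs)
  have hf : ∀ i, rs i ∈ J := fun i => hJdef ▸ Ideal.subset_span ⟨i, rfl⟩
  rw [formallySmooth_iff_UU_injective (A := A) J q hJ,
    Groth.Agent.Lead.not_fitt_ideal_le_iff_finrank]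
  have hrank := Groth.Agent.H11.SmoothDim2.finrank_add_finrank_range_UU (A := A) J q
  have hN : Module.finrank (κκ J q) (κκ J q ⊗[B] Ω[B⁄A]) = m + c := by
    rw [Module.finrank_eq_card_basis (bas.baseChange (κκ J q)), Fintype.card_fin]
  rw [hN] at hrank
  have hspan : Submodule.span (κκ J q) (Set.range fun i => cl (A := A) J q ⟨rs i, hf i⟩) = ⊤ := by
    apply span_of_gen (A := A) J q hJq rs hf
    rw [hJdef, Ideal.map_span, ← Set.range_comp]
    rfl
  have hrange : LinearMap.range (UU (A := A) J q) = Submodule.span (κκ J q)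
      (Set.range fun i => UU (A := A) J q (cl (A := A) J q ⟨rs i, hf i⟩)) := by
    rw [LinearMap.range_eq_map, ← hspan, Submodule.map_span, ← Set.range_comp]
    rfl
  have hle : Module.finrank (κκ J q) (LinearMap.range (UU (A := A) J q)) ≤ c := by
    rw [hrange]
    exact (finrank_range_le_card (R := κκ J q)
      (fun i => UU (A := A) J q (cl (A := A) J q ⟨rs i, hf i⟩))).trans_eq (Fintype.card_fin c)
  constructor
  · intro hinj
    have hli := linearIndependent_cl (A := A) J q rs hJdef hq1 hf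
    have h1 : Module.finrank (κκ J q) (LinearMap.range (UU (A := A) J q)) = c := by
      rw [LinearMap.finrank_range_of_inj hinj,
        Module.finrank_eq_card_basis (Module.Basis.mk hli hspan.ge), Fintype.card_fin]
    show Module.finrank (κκ J q) (κκ J q ⊗[B ⧸ J] Ω[(B ⧸ J)⁄A]) ≤ m
    omega
  · intro hfr
    have hfr' : Module.finrank (κκ J q) (κκ J q ⊗[B ⧸ J] Ω[(B ⧸ J)⁄A]) ≤ m := hfr
    have hc : Module.finrank (κκ J q) (LinearMap.range (UU (A := A) J q)) = c := by omega
    have hli : LinearIndependent (κκ J q)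
        (fun i => UU (A := A) J q (cl (A := A) J q ⟨rs i, hf i⟩)) := by
      rw [linearIndependent_iff_card_eq_finrank_span, Fintype.card_fin, Set.finrank, ← hrange, hc]
    rw [← LinearMap.ker_eq_bot, eq_bot_iff]
    intro z hz
    have hz' : z ∈ Submodule.span (κκ J q)
        (Set.range fun i => cl (A := A) J q ⟨rs i, hf i⟩) := hspan ▸ Submodule.mem_top
    obtain ⟨a, rfl⟩ := (Submodule.mem_span_range_iff_exists_fun (κκ J q)).mp hz'
    rw [LinearMap.mem_ker, map_sum] at hz
    simp only [map_smul] at hz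
    have ha := Fintype.linearIndependent_iff.mp hli a hz
    rw [Submodule.mem_bot]
    apply Finset.sum_eq_zero
    intro i _
    rw [ha i, zero_smul]

section transport

variable {A C₁ C₂ : Type u} [CommRing A] [CommRing C₁] [CommRing C₂] [Algebra A C₁] [Algebra A C₂]

/-- Fitting ideals of `Ω` along a formally étale map. -/
theorem not_fitt_le_iff_of_formallyEtale [Algebra C₁ C₂] [IsScalarTower A C₁ C₂]
    [Algebra.FormallyEtale C₁ C₂] [Module.Finite C₁ Ω[C₁⁄A]] (m : ℕ) (q₂ : Ideal C₂) :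
    ¬ Fitt.ideal C₂ Ω[C₂⁄A] m ≤ q₂ ↔
      ¬ Fitt.ideal C₁ Ω[C₁⁄A] m ≤ q₂.comap (algebraMap C₁ C₂) := by
  rw [← Groth.Agent.Lead.fitt_ideal_congr
    (KaehlerDifferential.tensorKaehlerEquivOfFormallyEtale A C₁ C₂) m,
    Groth.Agent.Lead.fitt_ideal_baseChange, Ideal.map_le_iff_le_comap]

theorem not_fitt_le_iff_of_algEquiv (ε : C₁ ≃ₐ[A] C₂) [Module.Finite C₁ Ω[C₁⁄A]] (m : ℕ)
    (q₁ : Ideal C₁) (q₂ : Ideal C₂) (h : q₁ = q₂.comap (ε : C₁ →+* C₂)) :
    ¬ Fitt.ideal C₂ Ω[C₂⁄A] m ≤ q₂ ↔ ¬ Fitt.ideal C₁ Ω[C₁⁄A] m ≤ q₁ := by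
  letI : Algebra C₁ C₂ := (ε : C₁ →+* C₂).toAlgebra
  haveI : IsScalarTower A C₁ C₂ :=
    IsScalarTower.of_algebraMap_eq' (by ext a; exact (ε.commutes a).symm)
  let e' : C₁ ≃ₐ[C₁] C₂ := AlgEquiv.ofBijective (Algebra.ofId C₁ C₂) ε.bijective
  haveI : Algebra.FormallyEtale C₁ C₂ := Algebra.FormallyEtale.of_equiv e'
  rw [h]
  exact not_fitt_le_iff_of_formallyEtale (A := A) m q₂

theorem formallySmooth_atPrime_iff_of_algEquiv (ε : C₁ ≃ₐ[A] C₂)
    (q₁ : Ideal C₁) [q₁.IsPrime] (q₂ : Ideal C₂) [q₂.IsPrime]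
    (h : q₁ = q₂.comap (ε : C₁ →+* C₂)) :
    Algebra.FormallySmooth A (Localization.AtPrime q₁) ↔
      Algebra.FormallySmooth A (Localization.AtPrime q₂) := by
  have H : q₁.primeCompl.map ε = q₂.primeCompl := by
    ext x
    constructor
    · rintro ⟨y, hy, rfl⟩
      intro hx
      apply hy
      rw [h]
      exact hx
    · intro hx
      refine ⟨ε.symm x, ?_, ε.apply_symm_apply x⟩
      intro hy
      apply hx
      rw [h] at hy
      have : ε (ε.symm x) ∈ q₂ := hy
      rwa [ε.apply_symm_apply] at this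
  let E : Localization.AtPrime q₁ ≃ₐ[A] Localization.AtPrime q₂ :=
    IsLocalization.algEquivOfAlgEquiv (Localization.AtPrime q₁) (Localization.AtPrime q₂) ε H
  exact ⟨fun _ => Algebra.FormallySmooth.of_equiv E, fun _ => Algebra.FormallySmooth.of_equiv E.symm⟩

end transport

section general

variable {A B : Type u} [CommRing A] [CommRing B] [Algebra A B]

set_option maxHeartbeats 800000 in
/-- **Main ring-level criterion**, for a quotient presented by a surjection `φ : B → C`. -/
theorem main [Algebra.Smooth A B] {C : Type u} [CommRing C] [Algebra A C] (φ : B →ₐ[A] C)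
    (hφ : Function.Surjective φ) (qC : Ideal C) [qC.IsPrime] {m c : ℕ}
    (bas : Module.Basis (Fin (m + c)) B Ω[B⁄A]) (rs : Fin c → B)
    (hker : RingHom.ker φ = Ideal.span (Set.range rs))
    (hq1 : ∀ a : Fin c → B, ∑ i, a i * rs i ∈ (RingHom.ker φ) ^ 2 → ∀ i, a i ∈ RingHom.ker φ) :
    Algebra.IsSmoothAt A qC ↔ ¬ Fitt.ideal C Ω[C⁄A] m ≤ qC := by
  obtain ⟨J, hJ⟩ : ∃ J : Ideal B, J = RingHom.ker φ := ⟨_, rfl⟩
  have hJq : J ≤ qC.comap φ := by
    intro b hb
    rw [hJ, RingHom.mem_ker] at hb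
    rw [Ideal.mem_comap, hb]
    exact zero_mem _
  haveI hp : ((qC.comap φ).map (Ideal.Quotient.mk J)).IsPrime :=
    Ideal.map_isPrime_of_surjective Ideal.Quotient.mk_surjective (by rw [Ideal.mk_ker]; exact hJq)
  let ε : (B ⧸ J) ≃ₐ[A] C :=
    (Ideal.quotientEquivAlgOfEq A hJ).trans (Ideal.quotientKerAlgEquivOfSurjective hφ)
  have hε : ∀ b : B, ε (Ideal.Quotient.mk J b) = φ b := fun b => rfl
  have hq : (qC.comap φ).map (Ideal.Quotient.mk J) = qC.comap (ε : (B ⧸ J) →+* C) := by
    ext x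
    obtain ⟨b, rfl⟩ := Ideal.Quotient.mk_surjective x
    rw [Ideal.mem_quotient_iff_mem hJq, Ideal.mem_comap, Ideal.mem_comap]
    rfl
  haveI : Algebra.FiniteType A (B ⧸ J) := inferInstance
  haveI : Module.Finite (B ⧸ J) Ω[(B ⧸ J)⁄A] := inferInstance
  rw [← hJ] at hker hq1
  have h0 := main₀ (A := A) J (qC.comap φ) hJq bas rs hker hq1
  rw [not_fitt_le_iff_of_algEquiv ε m _ qC hq]
  rw [← h0]
  exact (formallySmooth_atPrime_iff_of_algEquiv ε _ qC hq).symm

end general

end Groth.Agent.H11.LciFitt
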