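import Groth.Prelude.Def_CAlgX
import Mathlib.Tactic

set_option autoImplicit false
universe u

namespace Groth.Agent.H11.H1Reg

variable {R : Type u} [CommRing R]

/-- The submodule of trivial (Koszul) relations. -/
def T {c : ℕ} (f : Fin c → R) : Submodule R (Fin c → R) :=
  Submodule.span R {v : Fin c → R | ∃ i j : Fin c, v = Pi.single i (f j) - Pi.single j (f i)}

/-- The relation functional. -/
def rel {c : ℕ} (f : Fin c → R) : (Fin c → R) →ₗ[R] R :=
  ∑ i, (f i) • LinearMap.proj i

theorem rel_apply {c : ℕ} (f : Fin c → R) (a : Fin c → R) : rel f a = ∑ i, a i * f i := by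
  simp [rel, mul_comm]

theorem isH1Regular_iff {c : ℕ} (f : Fin c → R) :
    CAlgX.IsH1Regular f ↔ ∀ a, rel f a = 0 → a ∈ T f := by
  unfold CAlgX.IsH1Regular T
  simp only [rel_apply]

theorem T_le_ker {c : ℕ} (f : Fin c → R) : T f ≤ LinearMap.ker (rel f) := by
  unfold T
  rw [Submodule.span_le]
  rintro v ⟨i, j, rfl⟩
  simp only [SetLike.mem_coe, LinearMap.mem_ker, map_sub, rel_apply]
  simp [Pi.single_apply, mul_comm]

/-- left inclusion -/
def ιL (n m : ℕ) : (Fin n → R) →ₗ[R] (Fin (n + m) → R) :=
  LinearMap.pi fun k => Fin.addCases (fun i => LinearMap.proj i) (fun _ => 0) k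

/-- right inclusion -/
def ιR (n m : ℕ) : (Fin m → R) →ₗ[R] (Fin (n + m) → R) :=
  LinearMap.pi fun k => Fin.addCases (fun _ => 0) (fun j => LinearMap.proj j) k

@[simp] theorem ιL_castAdd {n m : ℕ} (a : Fin n → R) (i : Fin n) :
    ιL n m a (Fin.castAdd m i) = a i := by simp [ιL]
@[simp] theorem ιL_natAdd {n m : ℕ} (a : Fin n → R) (j : Fin m) :
    ιL n m a (Fin.natAdd n j) = 0 := by simp [ιL]
@[simp] theorem ιR_castAdd {n m : ℕ} (b : Fin m → R) (i : Fin n) :
    ιR n m b (Fin.castAdd m i) = 0 := by simp [ιR]
@[simp] theorem ιR_natAdd {n m : ℕ} (b : Fin m → R) (j : Fin m) :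
    ιR n m b (Fin.natAdd n j) = b j := by simp [ιR]

theorem ιL_single {n m : ℕ} (i : Fin n) (x : R) :
    ιL n m (Pi.single i x) = Pi.single (Fin.castAdd m i) x := by
  ext k
  refine Fin.addCases (fun i' => ?_) (fun j => ?_) k
  · rw [ιL_castAdd]
    by_cases h : i' = i
    · subst h; simp
    · rw [Pi.single_eq_of_ne h, Pi.single_eq_of_ne]
      intro h'
      exact h (Fin.castAdd_injective _ _ h')
  · rw [ιL_natAdd, Pi.single_eq_of_ne]
    intro h'
    have := congr_arg Fin.val h'
    simp at this
    omega

theorem ιR_single {n m : ℕ} (j : Fin m) (x : R) :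
    ιR n m (Pi.single j x) = Pi.single (Fin.natAdd n j) x := by
  ext k
  refine Fin.addCases (fun i => ?_) (fun j' => ?_) k
  · rw [ιR_castAdd, Pi.single_eq_of_ne]
    intro h'
    have := congr_arg Fin.val h'
    simp at this
    omega
  · rw [ιR_natAdd]
    by_cases h : j' = j
    · subst h; simp
    · rw [Pi.single_eq_of_ne h, Pi.single_eq_of_ne]
      intro h'
      exact h (Fin.natAdd_injective _ _ h')

theorem decomp {n m : ℕ} (v : Fin (n + m) → R) :
    v = ιL n m (fun i => v (Fin.castAdd m i)) + ιR n m (fun j => v (Fin.natAdd n j)) := by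
  ext k
  refine Fin.addCases (fun i => ?_) (fun j => ?_) k <;> simp

theorem rel_append_ιL {n m : ℕ} (f : Fin n → R) (g : Fin m → R) (a : Fin n → R) :
    rel (Fin.append f g) (ιL n m a) = rel f a := by
  simp [rel_apply, Fin.sum_univ_add]

theorem rel_append_ιR {n m : ℕ} (f : Fin n → R) (g : Fin m → R) (b : Fin m → R) :
    rel (Fin.append f g) (ιR n m b) = rel g b := by
  simp [rel_apply, Fin.sum_univ_add]

theorem ιL_T {n m : ℕ} (f : Fin n → R) (g : Fin m → R) {a : Fin n → R} (ha : a ∈ T f) :
    ιL n m a ∈ T (Fin.append f g) := by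
  have : T f ≤ (T (Fin.append f g)).comap (ιL n m) := by
    unfold T
    rw [Submodule.span_le]
    rintro v ⟨i, j, rfl⟩
    simp only [SetLike.mem_coe, Submodule.mem_comap, map_sub, ιL_single]
    apply Submodule.subset_span
    exact ⟨Fin.castAdd m i, Fin.castAdd m j, by simp⟩
  exact this ha

theorem ιR_T {n m : ℕ} (f : Fin n → R) (g : Fin m → R) {b : Fin m → R} (hb : b ∈ T g) :
    ιR n m b ∈ T (Fin.append f g) := by
  have : T g ≤ (T (Fin.append f g)).comap (ιR n m) := by
    unfold T
    rw [Submodule.span_le]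
    rintro v ⟨i, j, rfl⟩
    simp only [SetLike.mem_coe, Submodule.mem_comap, map_sub, ιR_single]
    apply Submodule.subset_span
    exact ⟨Fin.natAdd n i, Fin.natAdd n j, by simp⟩
  exact this hb

theorem mixed_T {n m : ℕ} (f : Fin n → R) (g : Fin m → R) (i : Fin n) (j : Fin m) :
    (Pi.single (Fin.castAdd m i) (g j) - Pi.single (Fin.natAdd n j) (f i) : Fin (n + m) → R) ∈
      T (Fin.append f g) := by
  apply Submodule.subset_span
  exact ⟨Fin.castAdd m i, Fin.natAdd n j, by simp⟩

/-- Lifting trivial relations from the quotient. -/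
theorem lift_T {m : ℕ} (I : Ideal R) (g : Fin m → R) (w : Fin m → R ⧸ I)
    (hw : w ∈ T (fun j => Ideal.Quotient.mk I (g j))) :
    ∃ t ∈ T g, ∀ j, Ideal.Quotient.mk I (t j) = w j := by
  unfold T at hw
  induction hw using Submodule.span_induction with
  | mem x hx =>
    obtain ⟨i, j, rfl⟩ := hx
    refine ⟨Pi.single i (g j) - Pi.single j (g i), Submodule.subset_span ⟨i, j, rfl⟩, ?_⟩
    intro k
    simp only [Pi.sub_apply, map_sub, Pi.single_apply]
    split_ifs <;> simp
  | zero => exact ⟨0, Submodule.zero_mem _, by simp⟩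
  | add x y _ _ hx hy =>
    obtain ⟨t, ht, h1⟩ := hx
    obtain ⟨s, hs, h2⟩ := hy
    exact ⟨t + s, Submodule.add_mem _ ht hs, by simp [h1, h2]⟩
  | smul r x _ hx =>
    obtain ⟨t, ht, h1⟩ := hx
    obtain ⟨r', rfl⟩ := Ideal.Quotient.mk_surjective r
    exact ⟨r' • t, Submodule.smul_mem _ _ ht, by simp [h1]⟩

theorem append {n m : ℕ} (f : Fin n → R) (g : Fin m → R) (hf : CAlgX.IsH1Regular f)
    (hg : CAlgX.IsH1Regular (fun j => Ideal.Quotient.mk (Ideal.span (Set.range f)) (g j))) :
    CAlgX.IsH1Regular (Fin.append f g) := by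
  rw [isH1Regular_iff] at hf hg ⊢
  intro v hv
  set I := Ideal.span (Set.range f) with hI
  set a : Fin n → R := fun i => v (Fin.castAdd m i) with ha
  set b : Fin m → R := fun j => v (Fin.natAdd n j) with hb
  have hdec : v = ιL n m a + ιR n m b := decomp v
  have hrel : rel f a + rel g b = 0 := by
    rw [hdec, map_add, rel_append_ιL, rel_append_ιR] at hv
    exact hv
  -- reduce mod I
  have hfa : rel f a ∈ I := by
    rw [rel_apply]
    refine Ideal.sum_mem _ (fun i _ => Ideal.mul_mem_left _ _ (Ideal.subset_span ⟨i, rfl⟩))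
  have hgb : rel (fun j => Ideal.Quotient.mk I (g j)) (fun j => Ideal.Quotient.mk I (b j)) = 0 := by
    rw [rel_apply]
    have : rel g b ∈ I := by
      have : rel g b = - rel f a := by linear_combination hrel
      rw [this]
      exact I.neg_mem hfa
    rw [rel_apply] at this
    rw [← Ideal.Quotient.eq_zero_iff_mem] at this
    simpa using this
  obtain ⟨t, ht, htb⟩ := lift_T I g _ (hg _ hgb)
  -- b - t has coordinates in I
  have hb' : ∀ j, ∃ d : Fin n → R, ∑ i, d i * f i = b j - t j := by
    intro j
    have : b j - t j ∈ I := by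
      rw [← Ideal.Quotient.eq_zero_iff_mem, map_sub, htb j, sub_self]
    exact (Ideal.mem_span_range_iff_exists_fun).1 this
  choose d hd using hb'
  -- a'' i = Σ_j d j i * g j
  set a'' : Fin n → R := fun i => ∑ j, d j i * g j with ha''
  -- ιR (b - t) ≡ ιL a'' mod T
  have hmix : ιR n m (b - t) - ιL n m a'' ∈ T (Fin.append f g) := by
    have e : ιR n m (b - t) - ιL n m a'' =
        - ∑ j, ∑ i, d j i • ((Pi.single (Fin.castAdd m i) (g j) -
          Pi.single (Fin.natAdd n j) (f i) : Fin (n + m) → R)) := by
      ext k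
      refine Fin.addCases (fun i' => ?_) (fun j' => ?_) k
      · simp only [Pi.sub_apply, ιR_castAdd, ιL_castAdd, zero_sub, Pi.neg_apply,
          Finset.sum_apply, Pi.smul_apply, smul_eq_mul, neg_inj, ha'']
        refine Finset.sum_congr rfl (fun j _ => ?_)
        rw [Finset.sum_eq_single i']
        · have : (Fin.castAdd m i' : Fin (n + m)) ≠ Fin.natAdd n j := by
            intro h'
            have := congr_arg Fin.val h'
            simp at this
            omega
          simp [Pi.single_eq_of_ne this]
        · intro i _ hne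
          have h1 : (Fin.castAdd m i' : Fin (n + m)) ≠ Fin.castAdd m i := by
            intro h'
            exact hne (Fin.castAdd_injective _ _ h').symm
          have h2 : (Fin.castAdd m i' : Fin (n + m)) ≠ Fin.natAdd n j := by
            intro h'
            have := congr_arg Fin.val h'
            simp at this
            omega
          simp [Pi.single_eq_of_ne h1, Pi.single_eq_of_ne h2]
        · simp
      · simp only [Pi.sub_apply, ιR_natAdd, ιL_natAdd, sub_zero, Pi.neg_apply,
          Finset.sum_apply, Pi.smul_apply, smul_eq_mul]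
        rw [Finset.sum_eq_single j']
        · rw [← hd j', ← Finset.sum_neg_distrib]
          refine Finset.sum_congr rfl (fun i _ => ?_)
          have : (Fin.natAdd n j' : Fin (n + m)) ≠ Fin.castAdd m i := by
            intro h'
            have := congr_arg Fin.val h'
            simp at this
            omega
          simp [Pi.single_eq_of_ne this]
        · intro j _ hne
          refine Finset.sum_eq_zero (fun i _ => ?_)
          have h1 : (Fin.natAdd n j' : Fin (n + m)) ≠ Fin.castAdd m i := by
            intro h'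
            have := congr_arg Fin.val h'
            simp at this
            omega
          have h2 : (Fin.natAdd n j' : Fin (n + m)) ≠ Fin.natAdd n j := by
            intro h'
            exact hne (Fin.natAdd_injective _ _ h').symm
          simp [Pi.single_eq_of_ne h1, Pi.single_eq_of_ne h2]
        · simp
    rw [e]
    refine Submodule.neg_mem _ (Submodule.sum_mem _ (fun j _ => Submodule.sum_mem _ (fun i _ => ?_)))
    exact Submodule.smul_mem _ _ (mixed_T f g i j)
  -- v = ιL (a + a'') + ιR t + (ιR (b - t) - ιL a'')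
  have hv2 : v = ιL n m (a + a'') + (ιR n m t + (ιR n m (b - t) - ιL n m a'')) := by
    rw [hdec]
    simp only [map_add, map_sub]
    abel
  have hrest : ιR n m t + (ιR n m (b - t) - ιL n m a'') ∈ T (Fin.append f g) :=
    Submodule.add_mem _ (ιR_T f g ht) hmix
  have hrel2 : rel f (a + a'') = 0 := by
    have h0 := T_le_ker _ hrest
    rw [LinearMap.mem_ker] at h0
    have := hv
    rw [hv2, map_add, h0, add_zero, rel_append_ιL] at this
    exact this
  rw [hv2]
  exact Submodule.add_mem _ (ιL_T f g (hf _ hrel2)) hrest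

end Groth.Agent.H11.H1Reg
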