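import Groth.Agent.H19.QuasiReg
import Groth.Agent.H11.H1Reg
import Mathlib

/-!
# `H_1`-regular sequences are quasi-regular

Zig-zag argument in the polynomial ring: a homogeneous `F` with `F(f) = 0` is written as
`Σ (X_i - f_i) ω_i`; taking homogeneous components and lifting degree by degree with
`H_1`-regularity (with polynomial coefficients) shows `F ∈ J·A[X]`.
-/

set_option autoImplicit false
universe u

namespace Groth.Agent.H11.H1Quasi

open MvPolynomial Groth.Agent.H19.QReg

variable {R : Type u} [CommRing R] {c : ℕ}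

/-- antisymmetric form of a trivial relation -/
theorem exists_antisymm_of_mem_T (f : Fin c → R) (a : Fin c → R) (ha : a ∈ H1Reg.T f) :
    ∃ b : Fin c → Fin c → R, (∀ i j, b i j = - b j i) ∧ (∀ i, b i i = 0) ∧
      ∀ i, a i = ∑ j, b i j * f j := by
  classical
  unfold H1Reg.T at ha
  induction ha using Submodule.span_induction with
  | mem v hv =>
    obtain ⟨i, j, rfl⟩ := hv
    refine ⟨fun k l => (if k = i ∧ l = j then 1 else 0) - (if k = j ∧ l = i then 1 else 0),
      ?_, ?_, ?_⟩
    · intro k l
      beta_reduce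
      rw [neg_sub]
      simp only [and_comm]
    · intro k
      beta_reduce
      simp only [and_comm]
      exact sub_self _
    · intro k
      simp only [sub_mul, Finset.sum_sub_distrib, Pi.sub_apply]
      congr 1
      · by_cases h1 : k = i
        · subst h1
          simp
        · simp [h1, Pi.single_apply]
      · by_cases h1 : k = j
        · subst h1
          simp
        · simp [h1, Pi.single_apply]
  | zero => exact ⟨fun _ _ => 0, by simp, by simp, by simp⟩
  | add x y _ _ hx hy =>
    obtain ⟨b, hb1, hb0, hb2⟩ := hx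
    obtain ⟨b', hb1', hb0', hb2'⟩ := hy
    refine ⟨fun i j => b i j + b' i j, fun i j => by beta_reduce; rw [hb1 i j, hb1' i j]; ring,
      fun i => by beta_reduce; rw [hb0, hb0', add_zero], fun i => ?_⟩
    simp only [Pi.add_apply, add_mul, Finset.sum_add_distrib, hb2, hb2']
  | smul r x _ hx =>
    obtain ⟨b, hb1, hb0, hb2⟩ := hx
    refine ⟨fun i j => r * b i j, fun i j => by beta_reduce; rw [hb1 i j]; ring,
      fun i => by beta_reduce; rw [hb0, mul_zero], fun i => ?_⟩
    simp only [Pi.smul_apply, smul_eq_mul, hb2, Finset.mul_sum, mul_assoc]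

/-- `H_1`-regularity with polynomial coefficients. -/
theorem exists_antisymm_poly (f : Fin c → R) (hf : CAlgX.IsH1Regular f)
    (G : Fin c → MvPolynomial (Fin c) R) (hG : ∑ i, C (f i) * G i = 0) :
    ∃ η : Fin c → Fin c → MvPolynomial (Fin c) R,
      (∀ i j, η i j = - η j i) ∧ (∀ i, η i i = 0) ∧ ∀ i, G i = ∑ j, C (f j) * η i j := by
  classical
  have hrel : ∀ d : Fin c →₀ ℕ, ∑ i, coeff d (G i) * f i = 0 := by
    intro d
    have := congrArg (coeff d) hG
    rw [coeff_sum, coeff_zero] at this
    rw [← this]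
    refine Finset.sum_congr rfl fun i _ => ?_
    rw [coeff_C_mul, mul_comm]
  have hT : ∀ d : Fin c →₀ ℕ, ∃ b : Fin c → Fin c → R,
      (∀ i j, b i j = - b j i) ∧ (∀ i, b i i = 0) ∧
        ∀ i, coeff d (G i) = ∑ j, b i j * f j := fun d =>
    exists_antisymm_of_mem_T f _ (hf _ (hrel d))
  choose b hb1 hb0 hb2 using hT
  let D : Finset (Fin c →₀ ℕ) := Finset.univ.biUnion fun i => (G i).support
  refine ⟨fun i j => ∑ d ∈ D, monomial d (b d i j), ?_, ?_, ?_⟩
  · intro i j
    rw [← Finset.sum_neg_distrib]
    refine Finset.sum_congr rfl fun d _ => ?_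
    rw [hb1 d i j, map_neg]
  · intro i
    refine Finset.sum_eq_zero fun d _ => ?_
    rw [hb0 d i, map_zero]
  · intro i
    ext d'
    rw [coeff_sum]
    simp only [coeff_C_mul, coeff_sum, coeff_monomial]
    by_cases hd' : d' ∈ D
    · simp only [Finset.sum_ite_eq', hd', if_true]
      rw [hb2 d' i]
      refine Finset.sum_congr rfl fun j _ => ?_
      rw [mul_comm]
    · simp only [Finset.sum_ite_eq', hd', if_false, mul_zero, Finset.sum_const_zero]
      have : d' ∉ (G i).support := fun h =>
        hd' (Finset.mem_biUnion.mpr ⟨i, Finset.mem_univ i, h⟩)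
      exact notMem_support_iff.mp this

/-- Taylor expansion at `f` to first order. -/
theorem exists_taylor (f : Fin c → R) (p : MvPolynomial (Fin c) R) :
    ∃ ω : Fin c → MvPolynomial (Fin c) R,
      p - C (eval f p) = ∑ i, (X i - C (f i)) * ω i := by
  classical
  induction p using MvPolynomial.induction_on with
  | C a => exact ⟨fun _ => 0, by simp⟩
  | add p q hp hq =>
    obtain ⟨ω, hω⟩ := hp
    obtain ⟨ω', hω'⟩ := hq
    refine ⟨fun i => ω i + ω' i, ?_⟩
    simp only [mul_add, Finset.sum_add_distrib, ← hω, ← hω', map_add]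
    ring
  | mul_X p i hp =>
    obtain ⟨ω, hω⟩ := hp
    refine ⟨fun k => C (f i) * ω k + (if k = i then p else 0), ?_⟩
    simp only [mul_add, Finset.sum_add_distrib, mul_ite, mul_zero, Finset.sum_ite_eq',
      Finset.mem_univ, if_true]
    have : ∑ k, (X k - C (f k)) * (C (f i) * ω k) = C (f i) * ∑ k, (X k - C (f k)) * ω k := by
      rw [Finset.mul_sum]
      refine Finset.sum_congr rfl fun k _ => ?_
      ring
    rw [this, ← hω, map_mul, eval_X, map_mul]
    ring

theorem homogeneousComponent_X_mul_succ (i : Fin c) (p : MvPolynomial (Fin c) R) (m : ℕ) :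
    homogeneousComponent (m + 1) (X i * p) = X i * homogeneousComponent m p := by
  classical
  ext d
  rw [coeff_homogeneousComponent, coeff_X_mul', coeff_X_mul']
  by_cases hi : i ∈ d.support
  · simp only [hi, if_true]
    rw [coeff_homogeneousComponent]
    have hdeg : d.degree = (d - Finsupp.single i 1).degree + 1 := by
      have h1 : Finsupp.single i 1 ≤ d := by
        rw [Finsupp.single_le_iff]
        exact Nat.one_le_iff_ne_zero.mpr (Finsupp.mem_support_iff.mp hi)
      have h2 : d = (d - Finsupp.single i 1) + Finsupp.single i 1 := (tsub_add_cancel_of_le h1).symm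
      conv_lhs => rw [h2]
      rw [map_add, Finsupp.degree_single]
    rw [hdeg]
    simp only [add_left_inj]
  · simp only [hi, if_false, ite_self]

theorem homogeneousComponent_X_mul_zero (i : Fin c) (p : MvPolynomial (Fin c) R) :
    homogeneousComponent 0 (X i * p) = 0 := by
  classical
  ext d
  rw [coeff_homogeneousComponent, coeff_X_mul', coeff_zero]
  by_cases hd : d.degree = 0
  · have : d = 0 := (Finsupp.degree_eq_zero_iff d).mp hd
    subst this
    simp
  · simp [hd]

/-- The main step: a homogeneous polynomial vanishing at an `H_1`-regular `f` has coefficients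
in `J`. -/
theorem coeffsIn_of_eval_eq_zero (f : Fin c → R) (hf : CAlgX.IsH1Regular f) (n : ℕ)
    (F : MvPolynomial (Fin c) R) (hF : F.IsHomogeneous n) (hev : eval f F = 0) :
    CoeffsIn (J f) F := by
  classical
  obtain ⟨ω, hω⟩ := exists_taylor f F
  rw [hev, map_zero, sub_zero] at hω
  -- components
  let Ω : ℕ → Fin c → MvPolynomial (Fin c) R := fun m i => homogeneousComponent m (ω i)
  have hJ : ∀ G : Fin c → MvPolynomial (Fin c) R, CoeffsIn (J f) (∑ i, C (f i) * G i) := by
    intro G
    have : ∀ s : Finset (Fin c), CoeffsIn (J f) (∑ i ∈ s, C (f i) * G i) := by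
      intro s
      induction s using Finset.induction_on with
      | empty => simpa using CoeffsIn.zero (J f)
      | insert a s ha ih =>
        rw [Finset.sum_insert ha]
        exact (CoeffsIn.C_mul_of_mem _ (Ideal.subset_span (Set.mem_range_self a))).add ih
    exact this _
  have hE0 : homogeneousComponent 0 F = - ∑ i, C (f i) * Ω 0 i := by
    conv_lhs => rw [hω]
    rw [map_sum, ← Finset.sum_neg_distrib]
    refine Finset.sum_congr rfl fun i _ => ?_
    rw [sub_mul, map_sub, homogeneousComponent_X_mul_zero, homogeneousComponent_C_mul, zero_sub]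
  have hE : ∀ m, homogeneousComponent (m + 1) F =
      ∑ i, X i * Ω m i - ∑ i, C (f i) * Ω (m + 1) i := by
    intro m
    conv_lhs => rw [hω]
    rw [map_sum, ← Finset.sum_sub_distrib]
    refine Finset.sum_congr rfl fun i _ => ?_
    rw [sub_mul, map_sub, homogeneousComponent_X_mul_succ, homogeneousComponent_C_mul]
  have hcomp : ∀ m, homogeneousComponent m F = if m = n then F else 0 := fun m =>
    homogeneousComponent_of_mem hF
  -- the anticommutation `d ∂' η = - ∂ d' η`
  have hanti : ∀ η : Fin c → Fin c → MvPolynomial (Fin c) R, (∀ i j, η i j = - η j i) →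
      ∑ i, X i * ∑ j, C (f j) * η i j = - ∑ i, C (f i) * ∑ j, X j * η i j := by
    intro η hη
    simp only [Finset.mul_sum]
    rw [Finset.sum_comm, ← Finset.sum_neg_distrib]
    refine Finset.sum_congr rfl fun i _ => ?_
    rw [← Finset.sum_neg_distrib]
    refine Finset.sum_congr rfl fun j _ => ?_
    rw [hη j i]
    ring
  have hdd : ∀ η : Fin c → Fin c → MvPolynomial (Fin c) R, (∀ i j, η i j = - η j i) →
      (∀ i, η i i = 0) → ∑ i, X i * ∑ j, X j * η i j = 0 := by
    intro η hη hη0
    simp only [Finset.mul_sum]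
    rw [← Finset.sum_product']
    refine Finset.sum_involution (fun p _ => (p.2, p.1)) ?_ ?_ ?_ ?_
    · intro p _
      rw [hη p.2 p.1]
      ring
    · intro p _ hne heq
      apply hne
      have hp : p.2 = p.1 := congrArg Prod.fst heq
      rw [hp, hη0, mul_zero, mul_zero]
    · intro p _; exact Finset.mem_product.mpr ⟨Finset.mem_univ _, Finset.mem_univ _⟩
    · intro p _; rfl
  -- the invariant
  have hinv : ∀ m, m + 1 ≤ n → ∃ η : Fin c → Fin c → MvPolynomial (Fin c) R,
      (∀ i j, η i j = - η j i) ∧ (∀ i, η i i = 0) ∧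
      ∑ i, X i * Ω m i = - ∑ i, C (f i) * ∑ j, X j * η i j := by
    intro m
    induction m with
    | zero =>
      intro hn
      have h0 : ∑ i, C (f i) * Ω 0 i = 0 := by
        have := hE0
        rw [hcomp 0, if_neg (by omega)] at this
        exact neg_eq_zero.mp this.symm
      obtain ⟨η, hη, hη0, hηG⟩ := exists_antisymm_poly f hf (Ω 0) h0
      refine ⟨η, hη, hη0, ?_⟩
      rw [← hanti η hη]
      refine Finset.sum_congr rfl fun i _ => ?_
      rw [hηG i]
    | succ m ih =>
      intro hn
      obtain ⟨η', hη'a, hη'0, hη'⟩ := ih (by omega)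
      have h0 : ∑ i, C (f i) * (Ω (m + 1) i + ∑ j, X j * η' i j) = 0 := by
        have := hE m
        rw [hcomp (m + 1), if_neg (by omega), hη'] at this
        simp only [mul_add, Finset.sum_add_distrib]
        linear_combination (1 : MvPolynomial (Fin c) R) * this
      obtain ⟨η, hη, hη0, hηG⟩ := exists_antisymm_poly f hf _ h0
      refine ⟨η, hη, hη0, ?_⟩
      rw [← hanti η hη]
      have h1 : ∀ i, Ω (m + 1) i = ∑ j, C (f j) * η i j - ∑ j, X j * η' i j := fun i =>
        eq_sub_of_add_eq (hηG i)
      have h2 : ∑ i, X i * Ω (m + 1) i =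
          ∑ i, X i * ∑ j, C (f j) * η i j - ∑ i, X i * ∑ j, X j * η' i j := by
        rw [← Finset.sum_sub_distrib]
        refine Finset.sum_congr rfl fun i _ => ?_
        rw [h1 i, mul_sub]
      rw [h2, hdd η' hη'a hη'0, sub_zero]
  -- conclusion
  rcases Nat.eq_zero_or_pos n with hn | hn
  · have h1 : F = - ∑ i, C (f i) * Ω 0 i := by
      rw [← hE0, hcomp 0, if_pos hn.symm]
    rw [h1, ← zero_sub]
    exact (CoeffsIn.zero _).sub (hJ _)
  · obtain ⟨m, rfl⟩ : ∃ m, n = m + 1 := ⟨n - 1, by omega⟩
    obtain ⟨η, -, -, hη⟩ := hinv m le_rfl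
    have h1 : F = 0 - ∑ i, C (f i) * ((∑ j, X j * η i j) + Ω (m + 1) i) := by
      have := hE m
      rw [hcomp (m + 1), if_pos rfl, hη] at this
      rw [this]
      simp only [mul_add, Finset.sum_add_distrib]
      ring
    rw [h1]
    exact (CoeffsIn.zero _).sub (hJ _)

/-- `H_1`-regular implies quasi-regular. -/
theorem isQuasiRegular_of_isH1Regular (f : Fin c → R) (hf : CAlgX.IsH1Regular f) :
    CAlgX.IsQuasiRegular f := by
  rw [isQuasiRegular_iff]
  intro n P hP hev
  exact qr_level_of_zero f n (fun P hP h0 => coeffsIn_of_eval_eq_zero f hf n P hP h0) P hP hev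

end Groth.Agent.H11.H1Quasi
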