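import Mathlib
import Groth.Agent.H11.LciFitt
import Groth.Agent.H11.FittSmoothSch
import Groth.Agent.H44.FittSupport
import Groth.Agent.H44.FittSheaf
import Groth.Agent.H94.RegImmKinds
import Groth.Agent.H94.KindFlat

/-!
# Smoothness of a local complete intersection via the Fitting ideal of `Ω` (scheme level)
-/

set_option autoImplicit false

namespace Groth.Agent.H11.LciFittSch

open AlgebraicGeometry CategoryTheory Limits TensorProduct TopologicalSpace

universe u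

/-- The support of the `m`-th Fitting ideal of `Ω_{Y/X}` on an affine chart. -/
theorem not_mem_support_iff {Y X : Scheme.{u}} (f : Y ⟶ X) [LocallyOfFinitePresentation f]
    [QuasiSeparated f] (m : ℕ) (y : Y) {U₂ : Y.Opens} (hU₂ : IsAffineOpen U₂) {V : X.Opens}
    (hV : IsAffineOpen V) (e : U₂ ≤ f ⁻¹ᵁ V) (hy : y ∈ U₂) :
    letI := (f.appLE V U₂ e).hom.toAlgebra
    y ∉ (Fitt.sheafIdeal (Omega.sheaf f) m).support ↔
      ¬ Fitt.ideal Γ(Y, U₂) Ω[Γ(Y, U₂)⁄Γ(X, V)] m ≤ (hU₂.primeIdealOf ⟨y, hy⟩).asIdeal := by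
  letI := (f.appLE V U₂ e).hom.toAlgebra
  have h := Scheme.IdealSheafData.mem_support_iff_of_mem
    (I := Fitt.sheafIdeal (Omega.sheaf f) m) (U := (⟨U₂, hU₂⟩ : Y.affineOpens)) (x := y) hy
  rw [h, Groth.Agent.H44.sheafIdeal_ideal,
    Groth.Agent.H44.mem_zeroLocus_iff_primeIdealOf hU₂ _ hy, PrimeSpectrum.mem_zeroLocus,
    SetLike.coe_subset_coe,
    Groth.Agent.Lead.fitt_ideal_congr (Groth.Agent.H44.omegaSectionsEquiv f hU₂ hV e) m]

section CI

variable {Z P : Scheme.{u}} (i : Z ⟶ P)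

/-- A morphism restricting to a closed immersion over `W` restricts to a closed immersion over any
smaller open. -/
theorem isClosedImmersion_restrict_of_le {W W' : P.Opens} [IsClosedImmersion (i ∣_ W)]
    (h : W' ≤ W) : IsClosedImmersion (i ∣_ W') := by
  have h1 : IsClosedImmersion (i ∣_ W ∣_ (W.ι ⁻¹ᵁ W')) := inferInstance
  have h2 : IsClosedImmersion (i ∣_ W.ι ''ᵁ (W.ι ⁻¹ᵁ W')) :=
    (MorphismProperty.arrow_mk_iso_iff @IsClosedImmersion
      (morphismRestrictRestrict i W (W.ι ⁻¹ᵁ W'))).mp h1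
  have h3 : W.ι ''ᵁ (W.ι ⁻¹ᵁ W') = W' := by
    rw [Scheme.Hom.image_preimage_eq_opensRange_inf, Scheme.Opens.opensRange_ι]
    exact inf_eq_right.mpr h
  exact (MorphismProperty.arrow_mk_iso_iff @IsClosedImmersion (morphismRestrictEq i h3)).mp h2

theorem isAffineOpen_preimage_of_restrict {W' : P.Opens} [IsClosedImmersion (i ∣_ W')]
    (hW' : IsAffineOpen W') : IsAffineOpen (i ⁻¹ᵁ W') := by
  haveI : IsAffine W'.toScheme := hW'
  exact isAffine_of_isAffineHom (i ∣_ W')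

theorem app_surjective_of_restrict {W' : P.Opens} [IsClosedImmersion (i ∣_ W')]
    (hW' : IsAffineOpen W') : Function.Surjective (i.app W') := by
  haveI : IsAffine W'.toScheme := hW'
  have h1 : Function.Surjective ((i ∣_ W').app ⊤) := (i ∣_ W').app_surjective ⊤ (isAffineOpen_top _)
  have h2 : (i ∣_ W').app ⊤ = W'.topIso.hom ≫ i.app W' ≫ (i ⁻¹ᵁ W').topIso.inv := by
    rw [← Scheme.Hom.resLE_eq_morphismRestrict, Scheme.Hom.resLE_app_top,
      Scheme.Hom.appLE_eq_app]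
  intro t
  obtain ⟨s, hs⟩ := h1 ((i ⁻¹ᵁ W').topIso.inv t)
  refine ⟨W'.topIso.hom s, ?_⟩
  rw [h2] at hs
  have h3 : (i ⁻¹ᵁ W').topIso.inv (i.app W' (W'.topIso.hom s)) = (i ⁻¹ᵁ W').topIso.inv t := hs
  have h4 := congrArg (i ⁻¹ᵁ W').topIso.hom h3
  rwa [Iso.inv_hom_id_apply, Iso.inv_hom_id_apply] at h4

/-- The kernel on a basic open is the extension of the kernel. -/
theorem ker_app_basicOpen {W : P.Opens} (hW : IsAffineOpen W) (hZ : IsAffineOpen (i ⁻¹ᵁ W))
    (a : Γ(P, W)) :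
    RingHom.ker (i.app (P.basicOpen a)).hom =
      (RingHom.ker (i.app W).hom).map (algebraMap Γ(P, W) Γ(P, P.basicOpen a)) := by
  haveI hloc : IsLocalization.Away a Γ(P, P.basicOpen a) := hW.isLocalization_basicOpen a
  have hle : P.basicOpen a ≤ W := P.basicOpen_le a
  have hnat : ∀ b : Γ(P, W), i.app (P.basicOpen a) (algebraMap Γ(P, W) Γ(P, P.basicOpen a) b) =
      Z.presheaf.map (homOfLE (show i ⁻¹ᵁ P.basicOpen a ≤ i ⁻¹ᵁ W from fun z hz => hle hz)).op
        (i.app W b) := by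
    intro b
    have h1 := i.naturality (homOfLE hle).op
    have h2 := congrArg (fun φ => φ.hom b) h1
    exact h2
  apply le_antisymm
  · intro t ht
    rw [RingHom.mem_ker] at ht
    obtain ⟨⟨b, s⟩, hbs⟩ := IsLocalization.surj (Submonoid.powers a) t
    have hbs' : t * algebraMap Γ(P, W) Γ(P, P.basicOpen a) s =
        algebraMap Γ(P, W) Γ(P, P.basicOpen a) b := hbs
    have h1 : i.app (P.basicOpen a) (algebraMap Γ(P, W) Γ(P, P.basicOpen a) b) = 0 := by
      rw [← hbs', map_mul]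
      show (i.app (P.basicOpen a)).hom t * _ = 0
      rw [ht, zero_mul]
    rw [hnat] at h1
    have hle1 : Z.basicOpen (i.app W a) ≤ i ⁻¹ᵁ P.basicOpen a :=
      (Scheme.preimage_basicOpen i a).ge
    have h2 : Z.presheaf.map (homOfLE hle1).op (Z.presheaf.map (homOfLE
        (show i ⁻¹ᵁ P.basicOpen a ≤ i ⁻¹ᵁ W from fun z hz => hle hz)).op (i.app W b)) = 0 := by
      rw [h1, map_zero]
    rw [← CommRingCat.comp_apply, ← Functor.map_comp] at h2
    obtain ⟨l, hl⟩ := exists_pow_mul_eq_zero_of_res_basicOpen_eq_zero_of_isAffineOpen Z hZ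
      (i.app W b) (i.app W a) h2
    have h3 : a ^ l * b ∈ RingHom.ker (i.app W).hom := by
      rw [RingHom.mem_ker]
      show i.app W (a ^ l * b) = 0
      rw [map_mul, map_pow]; exact hl
    have h4 : algebraMap Γ(P, W) Γ(P, P.basicOpen a) (a ^ l * b) ∈
        (RingHom.ker (i.app W).hom).map (algebraMap Γ(P, W) Γ(P, P.basicOpen a)) :=
      Ideal.mem_map_of_mem _ h3
    have hua : IsUnit (algebraMap Γ(P, W) Γ(P, P.basicOpen a) a) :=
      IsLocalization.Away.algebraMap_isUnit a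
    have hus : IsUnit (algebraMap Γ(P, W) Γ(P, P.basicOpen a) s) :=
      IsLocalization.map_units _ s
    rw [map_mul, map_pow, ← hbs', Ideal.unit_mul_mem_iff_mem _ (hua.pow l),
      Ideal.mul_unit_mem_iff_mem _ hus] at h4
    exact h4
  · rw [Ideal.map_le_iff_le_comap]
    intro b hb
    rw [RingHom.mem_ker] at hb
    rw [Ideal.mem_comap, RingHom.mem_ker]
    show i.app (P.basicOpen a) (algebraMap Γ(P, W) Γ(P, P.basicOpen a) b) = 0
    rw [hnat]
    have : i.app W b = 0 := hb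
    rw [this, map_zero]

end CI

/-- The degree-one consequence of quasi-regularity. -/
theorem deg_one_of_quasi {R : Type u} [CommRing R] (l : List R) (hq : CAlgX.IsQuasiRegular l.get)
    {c : ℕ} (hc : l.length = c) (a : Fin c → R)
    (ha : ∑ k, a k * l.get (k.cast hc.symm) ∈ (Ideal.ofList l) ^ 2) (k : Fin c) :
    a k ∈ Ideal.ofList l := by
  classical
  subst hc
  have hrange : Ideal.span (Set.range l.get) = Ideal.ofList l := by
    congr 1
    ext x
    constructor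
    · rintro ⟨j, rfl⟩; exact List.get_mem l j
    · intro hx
      obtain ⟨j, rfl⟩ := List.mem_iff_get.mp hx
      exact ⟨j, rfl⟩
  let Q : MvPolynomial (Fin l.length) R := ∑ j, MvPolynomial.C (a j) * MvPolynomial.X j
  have hQ : Q.IsHomogeneous 1 := by
    apply MvPolynomial.IsHomogeneous.sum
    intro j _
    have := (MvPolynomial.isHomogeneous_C (Fin l.length) (a j)).mul
      (MvPolynomial.isHomogeneous_X R j)
    simpa using this
  have hev : MvPolynomial.eval l.get Q = ∑ j, a j * l.get j := by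
    simp [Q]
  have h1 := hq 1 Q hQ (by
    rw [hev, hrange]
    simpa using ha) (Finsupp.single k 1)
  rw [hrange] at h1
  have h2 : Q.coeff (Finsupp.single k 1) = a k := by
    simp only [Q, MvPolynomial.coeff_sum, MvPolynomial.coeff_C_mul, MvPolynomial.coeff_X']
    rw [Finset.sum_eq_single k]
    · simp
    · intro j _ hjk
      have : ¬ Finsupp.single j 1 = Finsupp.single k 1 := by
        intro h
        apply hjk
        have := Finsupp.single_left_injective (one_ne_zero) h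
        exact this
      simp [this]
    · simp
  rwa [h2] at h1

set_option maxHeartbeats 800000 in
/-- `Ω` of a basic open of a standard smooth chart of relative dimension `n` is free of rank `n`. -/
theorem nonempty_basis_basicOpen {P X : Scheme.{u}} (π : P ⟶ X) (n : ℕ) {V : X.Opens}
    {W₂ : P.Opens} (hW₂ : IsAffineOpen W₂) (e₂ : W₂ ≤ π ⁻¹ᵁ V)
    (hstd : RingHom.IsStandardSmoothOfRelativeDimension n (π.appLE V W₂ e₂).hom)
    (hne : Nonempty W₂) (g : Γ(P, W₂)) (O : P.Opens) (hO : O = P.basicOpen g)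
    (e : O ≤ π ⁻¹ᵁ V) :
    letI := (π.appLE V O e).hom.toAlgebra
    Nonempty (Module.Basis (Fin n) Γ(P, O) Ω[Γ(P, O)⁄Γ(X, V)]) := by
  subst hO
  letI alg₂ : Algebra Γ(X, V) Γ(P, W₂) := (π.appLE V W₂ e₂).hom.toAlgebra
  letI alg : Algebra Γ(X, V) Γ(P, P.basicOpen g) := (π.appLE V (P.basicOpen g) e).hom.toAlgebra
  haveI : Algebra.IsStandardSmoothOfRelativeDimension n Γ(X, V) Γ(P, W₂) := hstd
  haveI : Nontrivial Γ(P, W₂) := inferInstance
  haveI : Algebra.IsStandardSmooth Γ(X, V) Γ(P, W₂) :=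
    Algebra.IsStandardSmoothOfRelativeDimension.isStandardSmooth n
  have hrank := Algebra.IsStandardSmoothOfRelativeDimension.rank_kaehlerDifferential
    (R := Γ(X, V)) (S := Γ(P, W₂)) n
  have hfr : Module.finrank Γ(P, W₂) Ω[Γ(P, W₂)⁄Γ(X, V)] = n := Module.finrank_eq_of_rank_eq hrank
  let b₂ := Module.finBasisOfFinrankEq Γ(P, W₂) Ω[Γ(P, W₂)⁄Γ(X, V)] hfr
  haveI hloc : IsLocalization.Away g Γ(P, P.basicOpen g) := hW₂.isLocalization_basicOpen g
  haveI : IsScalarTower Γ(X, V) Γ(P, W₂) Γ(P, P.basicOpen g) := by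
    apply IsScalarTower.of_algebraMap_eq'
    show (π.appLE V (P.basicOpen g) e).hom =
      (P.presheaf.map (homOfLE (P.basicOpen_le g)).op).hom.comp (π.appLE V W₂ e₂).hom
    rw [← CommRingCat.hom_comp, Scheme.Hom.appLE_map]
  haveI : Algebra.FormallyEtale Γ(P, W₂) Γ(P, P.basicOpen g) :=
    Algebra.FormallyEtale.of_isLocalization (Submonoid.powers g)
  exact ⟨(b₂.baseChange Γ(P, P.basicOpen g)).map
    (KaehlerDifferential.tensorKaehlerEquivOfFormallyEtale Γ(X, V) Γ(P, W₂)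
      Γ(P, P.basicOpen g))⟩

set_option maxHeartbeats 1600000 in
/-- **Smoothness of a local complete intersection via the Fitting ideal of `Ω`.** -/
theorem smoothLocus_iff {Y X : Scheme.{u}} (f : Y ⟶ X) [LocallyOfFinitePresentation f]
    [QuasiSeparated f] (m : ℕ) (y : Y) (U : Y.Opens) (P : Scheme.{u})
    (i : (U : Scheme.{u}) ⟶ P) (π : P ⟶ X) (c : ℕ) (hyU : y ∈ U)
    (hreg : RegImm.IsRegularImmersionOfCodim RegImm.Kind.koszul c i)
    [SmoothOfRelativeDimension (m + c) π] (w : i ≫ π = U.ι ≫ f) :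
    y ∈ f.smoothLocus ↔ y ∉ (Fitt.sheafIdeal (Omega.sheaf f) m).support := by
  obtain ⟨V, hV, W₂, hW₂, hx₀W₂, e₂, hstd⟩ :=
    SmoothOfRelativeDimension.exists_isStandardSmoothOfRelativeDimension (n := m + c) (f := π)
      (i ⟨y, hyU⟩)
  obtain ⟨himm, hreg'⟩ := hreg
  obtain ⟨⟨W, hW⟩, hx₀W, hcl, rs, hlen, hrs, hker⟩ := hreg' ⟨y, hyU⟩
  haveI := hcl
  obtain ⟨a, g, hag, hx₀a⟩ :=
    exists_basicOpen_le_affine_inter hW hW₂ (i ⟨y, hyU⟩) ⟨hx₀W, hx₀W₂⟩
  have hW'W : P.basicOpen a ≤ W := P.basicOpen_le a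
  have hW'W₂ : P.basicOpen a ≤ W₂ := hag ▸ P.basicOpen_le g
  have hW' : IsAffineOpen (P.basicOpen a) := hW.basicOpen a
  have e' : P.basicOpen a ≤ π ⁻¹ᵁ V := hW'W₂.trans e₂
  letI algAR : Algebra Γ(X, V) Γ(P, P.basicOpen a) :=
    (π.appLE V (P.basicOpen a) e').hom.toAlgebra
  obtain ⟨bas⟩ := nonempty_basis_basicOpen π (m + c) hW₂ e₂ hstd ⟨⟨_, hx₀W₂⟩⟩ g
    (P.basicOpen a) hag e'
  haveI hsmR : Algebra.Smooth Γ(X, V) Γ(P, P.basicOpen a) := by
    haveI : Smooth π := SmoothOfRelativeDimension.smooth (m + c) π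
    exact HasRingHomProperty.appLE @Smooth π inferInstance ⟨V, hV⟩ ⟨P.basicOpen a, hW'⟩ e'
  haveI hcl' : IsClosedImmersion (i ∣_ P.basicOpen a) := isClosedImmersion_restrict_of_le i hW'W
  have hZW : IsAffineOpen (i ⁻¹ᵁ W) := isAffineOpen_preimage_of_restrict i hW
  have hZW' : IsAffineOpen (i ⁻¹ᵁ P.basicOpen a) := isAffineOpen_preimage_of_restrict i hW'
  have hsurj : Function.Surjective (i.app (P.basicOpen a)) := app_surjective_of_restrict i hW'
  have hkerW' := ker_app_basicOpen i hW hZW a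
  have hU₂ : IsAffineOpen (U.ι ''ᵁ (i ⁻¹ᵁ P.basicOpen a)) := hZW'.image_of_isOpenImmersion U.ι
  have hyU₂ : y ∈ U.ι ''ᵁ (i ⁻¹ᵁ P.basicOpen a) := ⟨⟨y, hyU⟩, hx₀a, rfl⟩
  have eW₁ : i ⁻¹ᵁ P.basicOpen a ≤ (i ≫ π) ⁻¹ᵁ V := fun y₁ hy₁ => e' hy₁
  have eW₁' : i ⁻¹ᵁ P.basicOpen a ≤ (U.ι ≫ f) ⁻¹ᵁ V := by rw [← w]; exact eW₁
  have e₁ : U.ι ''ᵁ (i ⁻¹ᵁ P.basicOpen a) ≤ f ⁻¹ᵁ V := by
    rintro _ ⟨y₁, hy₁, rfl⟩
    exact eW₁' hy₁
  letI algAC : Algebra Γ(X, V) Γ(Y, U.ι ''ᵁ (i ⁻¹ᵁ P.basicOpen a)) :=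
    (f.appLE V _ e₁).hom.toAlgebra
  have hcomm : f.appLE V _ e₁ ≫ (U.ι.appIso (i ⁻¹ᵁ P.basicOpen a)).hom =
      π.appLE V (P.basicOpen a) e' ≫ i.app (P.basicOpen a) := by
    rw [Scheme.Hom.appIso_hom', Scheme.Hom.appLE_comp_appLE, ← Scheme.Hom.appLE_eq_app,
      Scheme.Hom.appLE_comp_appLE]
    exact (Groth.Agent.H11.FittSmoothSch.appLE_congr_hom w V _ eW₁ eW₁').symm
  have hcomm' : f.appLE V _ e₁ = π.appLE V (P.basicOpen a) e' ≫ i.app (P.basicOpen a) ≫
      (U.ι.appIso (i ⁻¹ᵁ P.basicOpen a)).inv := by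
    rw [← Category.assoc, ← hcomm, Category.assoc, Iso.hom_inv_id, Category.comp_id]
  let φ : Γ(P, P.basicOpen a) →ₐ[Γ(X, V)] Γ(Y, U.ι ''ᵁ (i ⁻¹ᵁ P.basicOpen a)) :=
    { (i.app (P.basicOpen a) ≫ (U.ι.appIso (i ⁻¹ᵁ P.basicOpen a)).inv).hom with
      commutes' := fun a' => by
        have h2 := congrArg (fun ψ => ψ.hom a') hcomm'
        exact h2.symm }
  have hφapp : ∀ t, φ t = (U.ι.appIso (i ⁻¹ᵁ P.basicOpen a)).inv (i.app (P.basicOpen a) t) :=
    fun t => rfl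
  have hinj : Function.Injective (U.ι.appIso (i ⁻¹ᵁ P.basicOpen a)).inv :=
    (ConcreteCategory.bijective_of_isIso (U.ι.appIso (i ⁻¹ᵁ P.basicOpen a)).inv).1
  have hφ : Function.Surjective φ := by
    have h2 : Function.Surjective (U.ι.appIso (i ⁻¹ᵁ P.basicOpen a)).inv :=
      (ConcreteCategory.bijective_of_isIso (U.ι.appIso (i ⁻¹ᵁ P.basicOpen a)).inv).2
    exact h2.comp hsurj
  have hφker : RingHom.ker φ = RingHom.ker (i.app (P.basicOpen a)).hom := by
    ext t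
    rw [RingHom.mem_ker, RingHom.mem_ker, hφapp]
    constructor
    · intro h
      apply hinj
      rw [h, map_zero]
    · intro h
      have h' : i.app (P.basicOpen a) t = 0 := h
      rw [h', map_zero]
  -- the restricted sequence
  haveI hloc : IsLocalization.Away a Γ(P, P.basicOpen a) := hW.isLocalization_basicOpen a
  have hflat : (algebraMap Γ(P, W) Γ(P, P.basicOpen a)).Flat :=
    RingHom.flat_algebraMap_iff.mpr (IsLocalization.flat _ (Submonoid.powers a))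
  have hkerφ' : RingHom.ker φ =
      Ideal.ofList (rs.map (algebraMap Γ(P, W) Γ(P, P.basicOpen a))) := by
    rw [hφker, hkerW', hker, Ideal.map_ofList]
  haveI : Nonempty ↥(U.ι ''ᵁ (i ⁻¹ᵁ P.basicOpen a)) := ⟨⟨y, hyU₂⟩⟩
  haveI : Nontrivial Γ(Y, U.ι ''ᵁ (i ⁻¹ᵁ P.basicOpen a)) := inferInstance
  have hne : Ideal.ofList (rs.map (algebraMap Γ(P, W) Γ(P, P.basicOpen a))) ≠ ⊤ := by
    rw [← hkerφ']
    intro htop
    have h1 : (1 : Γ(P, P.basicOpen a)) ∈ RingHom.ker φ := htop ▸ Submodule.mem_top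
    rw [RingHom.mem_ker, map_one] at h1
    exact one_ne_zero h1
  have hquasi : CAlgX.IsQuasiRegular
      (rs.map (algebraMap Γ(P, W) Γ(P, P.basicOpen a))).get :=
    Groth.Agent.H94.KindFlat.kindSeq_map_of_flat .quasi _ hflat rs
      (Groth.Agent.H94.RegImmKinds.seq_quasi_of_h1 _ rs
        (Groth.Agent.H94.RegImmKinds.seq_h1_of_koszul _ rs hrs)) hne
  have hc : (rs.map (algebraMap Γ(P, W) Γ(P, P.basicOpen a))).length = c := by
    rw [List.length_map, hlen]
  let rs' : Fin c → Γ(P, P.basicOpen a) := fun k =>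
    (rs.map (algebraMap Γ(P, W) Γ(P, P.basicOpen a))).get (k.cast hc.symm)
  have hrange : Ideal.span (Set.range rs') =
      Ideal.ofList (rs.map (algebraMap Γ(P, W) Γ(P, P.basicOpen a))) := by
    congr 1
    ext x
    constructor
    · rintro ⟨k, rfl⟩
      exact List.get_mem _ _
    · intro hx
      obtain ⟨j, rfl⟩ := List.mem_iff_get.mp hx
      exact ⟨j.cast hc, by simp [rs']⟩
  have hmain := Groth.Agent.H11.LciFitt.main φ hφ (hU₂.primeIdealOf ⟨y, hyU₂⟩).asIdeal bas rs'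
    (by rw [hkerφ', hrange])
    (fun a' ha' k => by
      rw [hkerφ'] at ha' ⊢
      exact deg_one_of_quasi _ hquasi hc a' ha' k)
  rw [not_mem_support_iff f m y hU₂ hV e₁ hyU₂, ← hmain, Scheme.Hom.mem_smoothLocus,
    AlgebraicGeometry.formallySmooth_stalkMap_iff V hV _ hU₂ e₁ hyU₂]
  rfl

end Groth.Agent.H11.LciFittSch
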