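import Mathlib
import Groth.Agent.H11.LciFitt

/-!
# Smoothness descends along a nonzerodivisor (presentation level)

`core`: `P` formally smooth over `A`, `I ≤ Q` ideals with `Q` prime, `I` finitely generated,
`t ∈ Q` a nonzerodivisor modulo `I` (locally at `Q`). If `(P/(I + (t)))_Q` is formally smooth
over `A`, so is `(P/I)_Q`.
-/

set_option autoImplicit false

namespace Groth.Agent.H11.NzdSmooth

open TensorProduct Groth.Agent.H23.Jacobian

universe u

variable {A P : Type u} [CommRing A] [CommRing P] [Algebra A P]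

/-- Clearing denominators in a membership of a localized finitely generated ideal. -/
theorem exists_mul_eq_sum_of_mem_map (Q : Ideal P) [Q.IsPrime] {k : ℕ} (F : Fin k → P) (x : P)
    (hx : algebraMap P (Localization.AtPrime Q) x ∈
      Ideal.span (Set.range fun i => algebraMap P (Localization.AtPrime Q) (F i))) :
    ∃ s, s ∉ Q ∧ ∃ b : Fin k → P, s * x = ∑ i, b i * F i := by
  have h2 : (Set.range fun i => algebraMap P (Localization.AtPrime Q) (F i)) =
      (algebraMap P (Localization.AtPrime Q)) '' (Set.range F) := by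
    rw [← Set.range_comp]; rfl
  rw [h2, ← Ideal.map_span,
    IsLocalization.mem_map_algebraMap_iff Q.primeCompl (Localization.AtPrime Q)] at hx
  obtain ⟨⟨⟨y, hy⟩, s⟩, hys⟩ := hx
  simp only at hys
  rw [← map_mul, IsLocalization.eq_iff_exists Q.primeCompl (Localization.AtPrime Q)] at hys
  obtain ⟨t, ht⟩ := hys
  obtain ⟨b, hb⟩ := (Ideal.mem_span_range_iff_exists_fun).mp hy
  refine ⟨(t : P) * (s : P), fun h => (Ideal.IsPrime.mem_or_mem ‹Q.IsPrime› h).elim t.2 s.2,
    fun i => (t : P) * b i, ?_⟩
  rw [mul_assoc, mul_comm (s : P), ht, ← hb, Finset.mul_sum]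
  apply Finset.sum_congr rfl
  intro i _
  ring

set_option maxHeartbeats 1600000 in
/-- **Smoothness descends along a nonzerodivisor.** -/
theorem core [Algebra.FormallySmooth A P] (I J Q : Ideal P) [Q.IsPrime] (t : P) (htQ : t ∈ Q)
    (hIQ : I ≤ Q) (hI : I.FG)
    (hnzd : ∀ p : P, p * t ∈ I → ∃ s, s ∉ Q ∧ s * p ∈ I)
    (hJ : J = I ⊔ Ideal.span {t})
    [hpJ : (Q.map (Ideal.Quotient.mk J)).IsPrime] [hpI : (Q.map (Ideal.Quotient.mk I)).IsPrime]
    (hsm : Algebra.FormallySmooth A (Localization.AtPrime (Q.map (Ideal.Quotient.mk J)))) :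
    Algebra.FormallySmooth A (Localization.AtPrime (Q.map (Ideal.Quotient.mk I))) := by
  classical
  have htJ : t ∈ J := by rw [hJ]; exact Ideal.mem_sup_right (Ideal.mem_span_singleton_self t)
  have hIJ : I ≤ J := by rw [hJ]; exact le_sup_left
  have hJQ : J ≤ Q := by
    rw [hJ]; exact sup_le hIQ ((Ideal.span_singleton_le_iff_mem _).mpr htQ)
  have hJfg : J.FG := by rw [hJ]; exact Submodule.FG.sup hI (Submodule.fg_span_singleton t)
  have hinj : Function.Injective (UU (A := A) J Q) :=
    (Groth.Agent.H11.LciFitt.formallySmooth_iff_UU_injective (A := A) J Q hJfg).mp hsm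
  have hfin : Module.Finite (P ⧸ J) (PP (A := A) J).Cotangent :=
    Algebra.Extension.Cotangent.finite (by rw [ker_eq]; exact hJfg)
  -- a basis of the span of the classes of elements of `I`
  obtain ⟨S, hS⟩ : ∃ S : Set (κκ J Q ⊗[P ⧸ J] (PP (A := A) J).Cotangent),
      S = Set.range fun x : I => cl (A := A) J Q ⟨x.1, hIJ x.2⟩ := ⟨_, rfl⟩
  haveI : Module.Finite (κκ J Q) (Submodule.span (κκ J Q) S) := inferInstance
  obtain ⟨g, hg, hgspan, hgli⟩ := Submodule.exists_fun_fin_finrank_span_eq (κκ J Q) S
  have hg' : ∀ i, ∃ x : I, cl (A := A) J Q ⟨x.1, hIJ x.2⟩ = g i := by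
    intro i
    have := hg i
    rw [hS] at this
    exact this
  choose f' hf' using hg'
  have hf'I : ∀ i, (f' i).1 ∈ I := fun i => (f' i).2
  -- derivations with nonvanishing determinant
  have hw : LinearIndependent (κκ J Q) (fun a => UU (A := A) J Q (g a)) :=
    hgli.map' _ (LinearMap.ker_eq_bot.mpr hinj)
  obtain ⟨j, hj⟩ := exists_det_ne_zero (φφ (A := A) J Q) (φφ_sep (A := A) J Q) _ hw
  -- `J P_Q` is generated by `t` and the `f' i`
  obtain ⟨F, hF⟩ : ∃ F : Fin (Module.finrank (κκ J Q) (Submodule.span (κκ J Q) S) + 1) → P,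
      F = Fin.cons t (fun i => (f' i).1) := ⟨_, rfl⟩
  have hFJ : ∀ i, F i ∈ J := by
    intro i
    rw [hF]
    refine Fin.cases ?_ (fun i => ?_) i
    · simpa using htJ
    · simpa using hIJ (hf'I i)
  have hF0 : F 0 = t := by rw [hF]; rfl
  have hFs : ∀ i : Fin _, F i.succ = (f' i).1 := by intro i; rw [hF]; rfl
  have hspanF : Submodule.span (κκ J Q)
      (Set.range fun i => cl (A := A) J Q ⟨F i, hFJ i⟩) = ⊤ := by
    rw [eq_top_iff, ← span_cl (A := A) J Q, Submodule.span_le]
    rintro _ ⟨x, rfl⟩
    have hx : x.1 ∈ I ⊔ Ideal.span {t} := hJ ▸ x.2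
    obtain ⟨a, ha, b, hb, hab⟩ := Submodule.mem_sup.mp hx
    obtain ⟨p, rfl⟩ := Ideal.mem_span_singleton'.mp hb
    have hx' : x = (⟨a, hIJ ha⟩ : J) + p • (⟨t, htJ⟩ : J) := by
      ext
      simp only [Submodule.coe_add, Submodule.coe_smul, smul_eq_mul]
      exact hab.symm
    rw [hx', map_add, smul_cl]
    apply Submodule.add_mem
    · have h1 : cl (A := A) J Q ⟨a, hIJ ha⟩ ∈ Submodule.span (κκ J Q) S := by
        apply Submodule.subset_span
        rw [hS]
        exact ⟨⟨a, ha⟩, rfl⟩
      rw [← hgspan] at h1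
      refine Submodule.span_mono ?_ h1
      rintro _ ⟨i, rfl⟩
      refine ⟨i.succ, ?_⟩
      simp only
      rw [← hf' i]
      congr 1
      exact Subtype.ext (hFs i)
    · apply Submodule.smul_mem
      apply Submodule.subset_span
      refine ⟨0, ?_⟩
      simp only
      congr 1
      exact Subtype.ext hF0
  have hgenJ := gen_of_span (A := A) J Q hJQ F hFJ hJfg hspanF
  -- `I P_Q` is generated by the `f' i`
  set alg := algebraMap P (Localization.AtPrime Q) with halg
  have hgenI : I.map alg = Ideal.span (Set.range fun i => alg ((f' i).1)) := by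
    apply le_antisymm
    · have hfg : (I.map alg).FG := hI.map _
      have hQle : Q.map alg ≤ IsLocalRing.maximalIdeal (Localization.AtPrime Q) := by
        rw [← Localization.AtPrime.map_eq_maximalIdeal]
      apply Submodule.le_of_le_smul_of_le_jacobson_bot
        (I := IsLocalRing.maximalIdeal (Localization.AtPrime Q)) hfg
      · rw [IsLocalRing.jacobson_eq_maximalIdeal _ bot_ne_top]
      · rw [Ideal.map_le_iff_le_comap]
        intro x hx
        rw [Ideal.mem_comap]
        have h1 : alg x ∈ J.map alg := Ideal.mem_map_of_mem _ (hIJ hx)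
        rw [hgenJ] at h1
        obtain ⟨s, hs, b, hb⟩ := exists_mul_eq_sum_of_mem_map Q F x h1
        rw [Fin.sum_univ_succ, hF0] at hb
        simp only [hFs] at hb
        have hb0 : b 0 * t ∈ I := by
          have : b 0 * t = s * x - ∑ i : Fin _, b i.succ * (f' i).1 := by rw [hb]; ring
          rw [this]
          exact I.sub_mem (I.mul_mem_left _ hx)
            (I.sum_mem fun i _ => I.mul_mem_left _ (hf'I i))
        obtain ⟨s', hs', hs'b⟩ := hnzd (b 0) hb0
        have hunit : IsUnit (alg (s' * s)) :=
          IsLocalization.map_units (Localization.AtPrime Q)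
            (⟨s' * s, fun h => (Ideal.IsPrime.mem_or_mem ‹Q.IsPrime› h).elim hs' hs⟩ :
              Q.primeCompl)
        have h2 : alg (s' * s) * alg x ∈ Ideal.span (Set.range fun i => alg ((f' i).1)) ⊔
            IsLocalRing.maximalIdeal (Localization.AtPrime Q) • I.map alg := by
          have e : alg (s' * s) * alg x =
              ∑ i : Fin _, alg (s' * b i.succ) * alg ((f' i).1) + alg t * alg (s' * b 0) := by
            rw [← map_mul, mul_assoc, hb]
            simp only [map_add, map_sum, map_mul, mul_add, Finset.mul_sum]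
            rw [add_comm]
            congr 1
            · apply Finset.sum_congr rfl
              intro i _
              ring
            · ring
          rw [e]
          apply Submodule.add_mem
          · apply Submodule.mem_sup_left
            apply Submodule.sum_mem
            intro i _
            exact Ideal.mul_mem_left _ _ (Ideal.subset_span ⟨i, rfl⟩)
          · apply Submodule.mem_sup_right
            rw [smul_eq_mul]
            exact Ideal.mul_mem_mul (hQle (Ideal.mem_map_of_mem _ htQ))
              (Ideal.mem_map_of_mem _ hs'b)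
        obtain ⟨u, hu⟩ := hunit
        have e2 : alg x = ↑u⁻¹ * (alg (s' * s) * alg x) := by
          rw [← hu, ← mul_assoc, Units.inv_mul, one_mul]
        rw [e2]
        exact Ideal.mul_mem_left _ _ h2
    · rw [Ideal.span_le]
      rintro _ ⟨i, rfl⟩
      exact Ideal.mem_map_of_mem _ (hf'I i)
  refine (Groth.Agent.H23.Jacobian.main (A := A) I Q hIQ hI).mpr
    ⟨_, fun i => (f' i).1, fun b => (j b).compDer (KaehlerDifferential.D A P), hf'I, hgenI, ?_⟩
  intro hmem
  apply hj
  have e : (Matrix.of fun a b => φφ (A := A) J Q (j b) (UU (A := A) J Q (g a))) =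
      (algebraMap P (κκ J Q)).mapMatrix (Matrix.of fun i j' =>
        ((j j').compDer (KaehlerDifferential.D A P)) (f' i).1) := by
    ext a b
    simp only [Matrix.of_apply, RingHom.mapMatrix_apply, Matrix.map_apply]
    rw [← hf' a, UU_cl, φφ_tmul, mul_one]
    rfl
  rw [e, ← RingHom.map_det, res_eq_zero_iff J Q hJQ]
  exact hmem

end Groth.Agent.H11.NzdSmooth
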