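import Mathlib

/-!
# Permutable regular sequences and the sequence `f i * X i` in the polynomial ring
-/

set_option autoImplicit false

namespace Groth.Agent.H11.PermRegular

universe u

open RingTheory.Sequence MvPolynomial Pointwise

section General

/-- elementwise characterization of weakly regular sequences on the ring itself -/
theorem isWeaklyRegular_self_iff {B : Type u} [CommRing B] (bs : List B) :
    IsWeaklyRegular B bs ↔ ∀ i (h : i < bs.length), ∀ z : B,
      bs[i] * z ∈ Ideal.ofList (bs.take i) → z ∈ Ideal.ofList (bs.take i) := by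
  rw [isWeaklyRegular_iff]
  refine forall_congr' fun i => forall_congr' fun h => ?_
  rw [isSMulRegular_quotient_iff_mem_of_smul_mem]
  have : (Ideal.ofList (bs.take i) • ⊤ : Submodule B B) = Ideal.ofList (bs.take i) := by
    rw [smul_eq_mul, Ideal.mul_top]
  rw [this]
  rfl

theorem ofList_take_ofFn {B : Type u} [CommRing B] {r : ℕ} (b : Fin r → B) (k : ℕ) :
    Ideal.ofList ((List.ofFn b).take k) = Ideal.span (b '' {i : Fin r | i.val < k}) := by
  unfold Ideal.ofList
  congr 1
  ext x
  simp only [Set.mem_setOf_eq, Set.mem_image]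
  rw [List.mem_take_iff_getElem]
  constructor
  · rintro ⟨i, hi, rfl⟩
    rw [List.length_ofFn] at hi
    refine ⟨⟨i, (lt_min_iff.mp hi).2⟩, (lt_min_iff.mp hi).1, ?_⟩
    rw [List.getElem_ofFn]
  · rintro ⟨i, hi, rfl⟩
    refine ⟨i.val, ?_, ?_⟩
    · rw [List.length_ofFn]
      exact lt_min hi i.2
    · rw [List.getElem_ofFn]

theorem isWeaklyRegular_ofFn_iff {B : Type u} [CommRing B] {r : ℕ} (b : Fin r → B) :
    IsWeaklyRegular B (List.ofFn b) ↔ ∀ (k : ℕ) (h : k < r), ∀ z : B,
      b ⟨k, h⟩ * z ∈ Ideal.span (b '' {i : Fin r | i.val < k}) →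
        z ∈ Ideal.span (b '' {i : Fin r | i.val < k}) := by
  rw [isWeaklyRegular_self_iff]
  constructor
  · intro H k h z hz
    have := H k (by rw [List.length_ofFn]; exact h) z
    rw [ofList_take_ofFn, List.getElem_ofFn] at this
    exact this hz
  · intro H k h z hz
    have h' : k < r := by rw [List.length_ofFn] at h; exact h
    rw [ofList_take_ofFn] at hz ⊢
    rw [List.getElem_ofFn] at hz
    exact H k h' z hz

end General

section Comb

variable {R : Type u} [CommRing R] {r : ℕ} (f : Fin r → R)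

/-- the ideal generated by the `f i`, `i ∈ T` -/
def IT (T : Finset (Fin r)) : Ideal R := Ideal.span (f '' (T : Set (Fin r)))

theorem IT_mono {T T' : Finset (Fin r)} (h : T ⊆ T') : IT f T ≤ IT f T' :=
  Ideal.span_mono (Set.image_mono (Finset.coe_subset.mpr h))

theorem IT_insert [DecidableEq (Fin r)] (T : Finset (Fin r)) (j : Fin r) :
    IT f (insert j T) = IT f T ⊔ Ideal.span {f j} := by
  unfold IT
  rw [Finset.coe_insert, Set.image_insert_eq, Ideal.span_insert, sup_comm]

theorem mem_IT_of_mem {T : Finset (Fin r)} {j : Fin r} (h : j ∈ T) : f j ∈ IT f T :=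
  Ideal.subset_span ⟨j, Finset.mem_coe.mpr h, rfl⟩

/-- `f j` is a nonzerodivisor modulo `(f t, t ∈ T)` whenever `j ∉ T` -/
def NzdAll : Prop :=
  ∀ (T : Finset (Fin r)) (j : Fin r), j ∉ T → ∀ c : R, f j * c ∈ IT f T → c ∈ IT f T

/-- `f j` is a nonzerodivisor modulo `(f t, t ∈ T)` whenever all of `T` is below `j` -/
def NzdLt : Prop :=
  ∀ (T : Finset (Fin r)) (j : Fin r), (∀ t ∈ T, t < j) → ∀ c : R, f j * c ∈ IT f T → c ∈ IT f T

theorem nzdAll_of_nzdLt (h : NzdLt f) : NzdAll f := by
  classical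
  intro T
  induction hn : T.card using Nat.strong_induction_on generalizing T with
  | _ n ih =>
  intro j hj c hc
  by_cases hlt : ∀ t ∈ T, t < j
  · exact h T j hlt c hc
  · push Not at hlt
    obtain ⟨t₀, ht₀, ht₀j⟩ := hlt
    have hne : T.Nonempty := ⟨t₀, ht₀⟩
    obtain ⟨t, ht⟩ : ∃ t, t = T.max' hne := ⟨_, rfl⟩
    have htT : t ∈ T := ht ▸ Finset.max'_mem T hne
    have hjt : j < t := by
      have h1 : t₀ ≤ t := ht ▸ Finset.le_max' T t₀ ht₀
      have h2 : j ≠ t₀ := fun h => hj (h ▸ ht₀)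
      exact lt_of_lt_of_le (lt_of_le_of_ne ht₀j h2) h1
    obtain ⟨T', hT'⟩ : ∃ T', T' = T.erase t := ⟨_, rfl⟩
    have hTins : T = insert t T' := by rw [hT']; exact (Finset.insert_erase htT).symm
    have hcard : T'.card < n := by
      rw [← hn, hT', Finset.card_erase_of_mem htT]
      exact Nat.sub_lt (Finset.card_pos.mpr hne) one_pos
    have hjT' : j ∉ T' := fun hmem => hj (Finset.mem_of_mem_erase (hT' ▸ hmem))
    have hi := ih T'.card hcard T' rfl j hjT'
    have hiii : ∀ c : R, f t * c ∈ IT f (insert j T') → c ∈ IT f (insert j T') := by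
      apply h (insert j T') t
      intro s hs
      rcases Finset.mem_insert.mp hs with rfl | hs
      · exact hjt
      · rw [hT'] at hs
        have h1 : s ≤ t := ht ▸ Finset.le_max' T s (Finset.mem_of_mem_erase hs)
        exact lt_of_le_of_ne h1 (Finset.ne_of_mem_erase hs)
    rw [hTins, IT_insert] at hc ⊢
    obtain ⟨a, ha, b, hb, hab⟩ := Submodule.mem_sup.mp hc
    obtain ⟨v, rfl⟩ := Ideal.mem_span_singleton'.mp hb
    -- `f t * v ∈ IT T' ⊔ (f j)`
    have h1 : f t * v ∈ IT f (insert j T') := by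
      rw [IT_insert]
      have : f t * v = -a + c * f j := by linear_combination hab
      rw [this]
      exact Submodule.add_mem_sup (Ideal.neg_mem_iff _ |>.mpr ha)
        (Ideal.mem_span_singleton'.mpr ⟨c, rfl⟩)
    have h2 := hiii v h1
    rw [IT_insert] at h2
    obtain ⟨a', ha', b', hb', hab'⟩ := Submodule.mem_sup.mp h2
    obtain ⟨w, rfl⟩ := Ideal.mem_span_singleton'.mp hb'
    have h3 : f j * (c - f t * w) ∈ IT f T' := by
      have : f j * (c - f t * w) = a + f t * a' := by linear_combination (-1 : R) * hab - f t * hab'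
      rw [this]
      exact Ideal.add_mem _ ha (Ideal.mul_mem_left _ _ ha')
    have h4 := hi (c - f t * w) h3
    have : c = (c - f t * w) + w * f t := by ring
    rw [this]
    exact Submodule.add_mem_sup h4 (Ideal.mem_span_singleton'.mpr ⟨w, rfl⟩)

/-- the image of an initial segment under a permutation -/
def seg (σ : Equiv.Perm (Fin r)) (k : ℕ) : Finset (Fin r) :=
  (Finset.univ.filter fun i : Fin r => i.val < k).map σ.toEmbedding

theorem mem_seg (σ : Equiv.Perm (Fin r)) (k : ℕ) (x : Fin r) :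
    x ∈ seg σ k ↔ ∃ i : Fin r, i.val < k ∧ σ i = x := by
  unfold seg
  rw [Finset.mem_map]
  constructor
  · rintro ⟨i, hi, rfl⟩
    exact ⟨i, (Finset.mem_filter.mp hi).2, rfl⟩
  · rintro ⟨i, hi, rfl⟩
    exact ⟨i, Finset.mem_filter.mpr ⟨Finset.mem_univ _, hi⟩, rfl⟩

theorem span_image_comp (σ : Equiv.Perm (Fin r)) (k : ℕ) :
    Ideal.span ((f ∘ σ) '' {i : Fin r | i.val < k}) = IT f (seg σ k) := by
  unfold IT
  congr 1
  ext y
  simp only [Set.mem_image, Set.mem_ofPred_eq, Function.comp_apply, Finset.mem_coe, mem_seg]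
  constructor
  · rintro ⟨i, hi, rfl⟩
    exact ⟨σ i, ⟨i, hi, rfl⟩, rfl⟩
  · rintro ⟨x, ⟨i, hi, rfl⟩, rfl⟩
    exact ⟨i, hi, rfl⟩

/-- a permutation listing `T` first and then `j` -/
theorem exists_perm (T : Finset (Fin r)) (j : Fin r) (hj : j ∉ T) :
    ∃ (σ : Equiv.Perm (Fin r)) (h : T.card < r), seg σ T.card = T ∧ σ ⟨T.card, h⟩ = j := by
  classical
  have hlt : T.card < r := by
    have h1 : T.card < (Finset.univ : Finset (Fin r)).card :=
      Finset.card_lt_card ⟨Finset.subset_univ T, fun h => hj (h (Finset.mem_univ j))⟩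
    simpa using h1
  have hcard : Fintype.card {x : Fin r // x.val < T.card} = Fintype.card {x : Fin r // x ∈ T} := by
    rw [Fintype.card_subtype, Fintype.card_subtype, Fin.card_filter_val_lt,
      min_eq_right hlt.le]
    simp
  let e : {x : Fin r // x.val < T.card} ≃ {x : Fin r // x ∈ T} := Fintype.equivOfCardEq hcard
  let σ₀ : Equiv.Perm (Fin r) := e.extendSubtype
  have h1 : ∀ i : Fin r, i.val < T.card → σ₀ i ∈ T := fun i hi => e.extendSubtype_mem i hi
  have h2 : ∀ i : Fin r, ¬ i.val < T.card → σ₀ i ∉ T := fun i hi => e.extendSubtype_not_mem i hi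
  let k : Fin r := ⟨T.card, hlt⟩
  have hk : σ₀ k ∉ T := h2 k (lt_irrefl _)
  refine ⟨σ₀.trans (Equiv.swap j (σ₀ k)), hlt, ?_, ?_⟩
  · ext x
    rw [mem_seg]
    constructor
    · rintro ⟨i, hi, rfl⟩
      have hiT := h1 i hi
      rw [Equiv.trans_apply, Equiv.swap_apply_of_ne_of_ne]
      · exact hiT
      · exact fun h => hj (h ▸ hiT)
      · exact fun h => hk (h ▸ hiT)
    · intro hx
      refine ⟨σ₀.symm x, ?_, ?_⟩
      · by_contra hcon
        have := h2 (σ₀.symm x) hcon
        rw [Equiv.apply_symm_apply] at this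
        exact this hx
      · rw [Equiv.trans_apply, Equiv.apply_symm_apply, Equiv.swap_apply_of_ne_of_ne]
        · exact fun h => hj (h ▸ hx)
        · exact fun h => hk (h ▸ hx)
  · rw [Equiv.trans_apply]
    exact Equiv.swap_apply_right _ _

theorem perm_weaklyRegular_iff :
    (∀ σ : Equiv.Perm (Fin r), IsWeaklyRegular R (List.ofFn (f ∘ σ))) ↔ NzdAll f := by
  classical
  constructor
  · intro H T j hj c hc
    obtain ⟨σ, hlt, hseg, hσ⟩ := exists_perm T j hj
    have := (isWeaklyRegular_ofFn_iff (f ∘ σ)).mp (H σ) T.card hlt c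
    rw [span_image_comp, hseg, Function.comp_apply, hσ] at this
    exact this hc
  · intro H σ
    rw [isWeaklyRegular_ofFn_iff]
    intro k h z hz
    rw [span_image_comp] at hz ⊢
    refine H (seg σ k) (σ ⟨k, h⟩) ?_ z hz
    rw [mem_seg]
    rintro ⟨i, hi, hσi⟩
    have := σ.injective hσi
    rw [this] at hi
    exact lt_irrefl _ hi

end Comb

section Poly

variable {R : Type u} [CommRing R] {r : ℕ} (f : Fin r → R)

/-- the sequence `f i * X i` -/
noncomputable def g (i : Fin r) : MvPolynomial (Fin r) R := C (f i) * X i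

theorem g_eq_monomial (i : Fin r) : g f i = monomial (Finsupp.single i 1) (f i) := by
  unfold g
  rw [C_mul_X_eq_monomial]

/-- indices below `k` in the support of `α` -/
def Tk (k : ℕ) (α : Fin r →₀ ℕ) : Finset (Fin r) :=
  Finset.univ.filter fun i : Fin r => i.val < k ∧ α i ≠ 0

theorem mem_Tk (k : ℕ) (α : Fin r →₀ ℕ) (i : Fin r) : i ∈ Tk k α ↔ i.val < k ∧ α i ≠ 0 := by
  simp [Tk]

theorem Tk_mono (k : ℕ) {α β : Fin r →₀ ℕ} (h : α ≤ β) : Tk k α ⊆ Tk k β := by
  intro i hi
  rw [mem_Tk] at hi ⊢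
  refine ⟨hi.1, fun h0 => hi.2 ?_⟩
  have := h i
  omega

/-- the ideal `(f i X i, i < k)` -/
noncomputable def J (k : ℕ) : Ideal (MvPolynomial (Fin r) R) :=
  Ideal.span (g f '' {i : Fin r | i.val < k})

/-- the coefficientwise description of `J k` -/
def K (k : ℕ) : Ideal (MvPolynomial (Fin r) R) where
  carrier := {P | ∀ α, coeff α P ∈ IT f (Tk k α)}
  zero_mem' := fun α => by simp
  add_mem' := fun {P Q} hP hQ α => by
    rw [coeff_add]
    exact Ideal.add_mem _ (hP α) (hQ α)
  smul_mem' := fun Q P hP α => by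
    classical
    rw [smul_eq_mul, coeff_mul]
    refine Ideal.sum_mem _ fun x hx => ?_
    have hle : x.2 ≤ α := by
      have hx' := Finset.HasAntidiagonal.mem_antidiagonal.mp hx
      rw [← hx']
      exact le_add_self
    exact Ideal.mul_mem_left _ _ (IT_mono f (Tk_mono k hle) (hP x.2))

theorem mem_K (k : ℕ) (P : MvPolynomial (Fin r) R) :
    P ∈ K f k ↔ ∀ α, coeff α P ∈ IT f (Tk k α) := Iff.rfl

theorem J_le_K (k : ℕ) : J f k ≤ K f k := by
  classical
  unfold J
  rw [Ideal.span_le]
  rintro _ ⟨i, hi, rfl⟩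
  rw [SetLike.mem_coe, mem_K]
  intro α
  rw [g_eq_monomial, coeff_monomial]
  split_ifs with h
  · apply mem_IT_of_mem
    rw [mem_Tk]
    refine ⟨hi, ?_⟩
    rw [← h]
    simp
  · exact Ideal.zero_mem _

theorem monomial_mem_J (k : ℕ) (α : Fin r →₀ ℕ) (c : R) (hc : c ∈ IT f (Tk k α)) :
    monomial α c ∈ J f k := by
  classical
  unfold IT at hc
  induction hc using Submodule.span_induction with
  | mem c hc =>
    obtain ⟨i, hi, rfl⟩ := hc
    rw [Finset.mem_coe, mem_Tk] at hi
    have hle : Finsupp.single i 1 ≤ α := by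
      rw [Finsupp.single_le_iff]
      exact Nat.one_le_iff_ne_zero.mpr hi.2
    have : monomial α (f i) = g f i * monomial (α - Finsupp.single i 1) 1 := by
      rw [g_eq_monomial, monomial_mul, mul_one, add_tsub_cancel_of_le hle]
    rw [this]
    exact Ideal.mul_mem_right _ _ (Ideal.subset_span ⟨i, hi.1, rfl⟩)
  | zero => rw [map_zero]; exact Ideal.zero_mem _
  | add a b _ _ ha hb => rw [map_add]; exact Ideal.add_mem _ ha hb
  | smul a b _ hb =>
    rw [smul_eq_mul, ← C_mul_monomial]
    exact Ideal.mul_mem_left _ _ hb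

theorem K_le_J (k : ℕ) : K f k ≤ J f k := by
  intro P hP
  rw [mem_K] at hP
  rw [P.as_sum]
  exact Ideal.sum_mem _ fun α _ => monomial_mem_J f k α _ (hP α)

theorem J_eq_K (k : ℕ) : J f k = K f k := le_antisymm (J_le_K f k) (K_le_J f k)

theorem Tk_add_single (k : ℕ) (h : k < r) (β : Fin r →₀ ℕ) :
    Tk k (β + Finsupp.single ⟨k, h⟩ 1) = Tk k β := by
  ext i
  rw [mem_Tk, mem_Tk]
  constructor
  · rintro ⟨hi, hne⟩
    refine ⟨hi, ?_⟩
    rw [Finsupp.add_apply, Finsupp.single_eq_of_ne, add_zero] at hne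
    · exact hne
    · intro heq
      rw [heq] at hi
      exact lt_irrefl _ hi
  · rintro ⟨hi, hne⟩
    refine ⟨hi, ?_⟩
    rw [Finsupp.add_apply]
    omega

theorem poly_weaklyRegular_iff :
    IsWeaklyRegular (MvPolynomial (Fin r) R) (List.ofFn (g f)) ↔ NzdLt f := by
  classical
  rw [isWeaklyRegular_ofFn_iff]
  constructor
  · intro H T j hT c hc
    -- the indicator exponent of `T`
    let β : Fin r →₀ ℕ := Finsupp.indicator T (fun _ _ => 1)
    have hβ : ∀ i, β i ≠ 0 ↔ i ∈ T := by
      intro i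
      simp only [β, Finsupp.indicator_apply]
      split_ifs with hi
      · simp [hi]
      · simp [hi]
    have hTk : Tk j.val β = T := by
      ext i
      rw [mem_Tk, hβ]
      exact ⟨fun h => h.2, fun h => ⟨hT i h, h⟩⟩
    have h1 : g f ⟨j.val, j.2⟩ * monomial β c ∈ J f j.val := by
      rw [J_eq_K, mem_K]
      intro α
      rw [g_eq_monomial, monomial_mul, coeff_monomial]
      split_ifs with h
      · rw [← h, add_comm, Tk_add_single, hTk]
        exact hc
      · exact Ideal.zero_mem _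
    have h2 := H j.val j.2 (monomial β c) h1
    change monomial β c ∈ J f j.val at h2
    rw [J_eq_K, mem_K] at h2
    have := h2 β
    rwa [coeff_monomial, if_pos rfl, hTk] at this
  · intro H k h z hz
    change g f ⟨k, h⟩ * z ∈ J f k at hz
    change z ∈ J f k
    rw [J_eq_K, mem_K] at hz ⊢
    intro β
    have h1 := hz (β + Finsupp.single ⟨k, h⟩ 1)
    rw [Tk_add_single] at h1
    have h2 : coeff (β + Finsupp.single ⟨k, h⟩ 1) (g f ⟨k, h⟩ * z) = f ⟨k, h⟩ * coeff β z := by
      unfold g
      rw [mul_assoc, coeff_C_mul, mul_comm (X _) z, coeff_mul_X]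
    rw [h2] at h1
    refine H (Tk k β) ⟨k, h⟩ ?_ _ h1
    intro t ht
    rw [mem_Tk] at ht
    exact ht.1

theorem ofList_ofFn {B : Type u} [CommRing B] (b : Fin r → B) :
    Ideal.ofList (List.ofFn b) = Ideal.span (Set.range b) := by
  unfold Ideal.ofList
  congr 1
  ext x
  simp [List.mem_ofFn]

theorem main (hf : Ideal.span (Set.range f) ≠ ⊤) :
    (∀ σ : Equiv.Perm (Fin r), IsRegular R (List.ofFn (f ∘ σ))) ↔
      IsRegular (MvPolynomial (Fin r) R) (List.ofFn fun i => C (f i) * X i) := by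
  classical
  have hnt : Nontrivial R := by
    by_contra hcon
    rw [not_nontrivial_iff_subsingleton] at hcon
    exact hf (Subsingleton.elim _ _)
  constructor
  · intro H
    have h1 : NzdAll f := (perm_weaklyRegular_iff f).mp fun σ => (H σ).toIsWeaklyRegular
    have h2 : NzdLt f := fun T j hT c hc => h1 T j (fun hj => lt_irrefl _ (hT j hj)) c hc
    refine ⟨(poly_weaklyRegular_iff f).mpr h2, ?_⟩
    rw [smul_eq_mul, Ideal.mul_top]
    intro htop
    have h3 : (1 : MvPolynomial (Fin r) R) ∈ J f r := by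
      have : J f r = Ideal.ofList (List.ofFn (g f)) := by
        rw [ofList_ofFn]
        unfold J
        congr 1
        ext y
        simp
      rw [this]
      change (1 : MvPolynomial (Fin r) R) ∈ Ideal.ofList (List.ofFn fun i => C (f i) * X i)
      rw [← htop]
      trivial
    rw [J_eq_K, mem_K] at h3
    have h4 := h3 0
    have h5 : Tk r (0 : Fin r →₀ ℕ) = ∅ := by
      ext i
      rw [mem_Tk]
      simp
    rw [h5] at h4
    unfold IT at h4
    rw [Finset.coe_empty, Set.image_empty, Ideal.span_empty, Ideal.mem_bot] at h4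
    simp at h4
  · intro H σ
    have h2 : NzdLt f := (poly_weaklyRegular_iff f).mp H.toIsWeaklyRegular
    have h1 : NzdAll f := nzdAll_of_nzdLt f h2
    refine ⟨(perm_weaklyRegular_iff f).mpr h1 σ, ?_⟩
    rw [smul_eq_mul, Ideal.mul_top, ofList_ofFn, σ.surjective.range_comp]
    exact fun h => hf h.symm

end Poly

end Groth.Agent.H11.PermRegular
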