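import Mathlib
import Groth.Agent.H11.NzdSmooth
import Groth.Agent.H11.PermRegular

/-!
# Smoothness descends along a regular sequence

`formallySmooth_of_quotient_regular`: `B` a finitely presented `A`-algebra, `rs` a weakly regular
sequence contained in the prime `q`. If `(B/(rs))_q` is formally smooth over `A`, so is `B_q`.
-/

set_option autoImplicit false

namespace Groth.Agent.H11.NzdSmooth2

open TensorProduct

universe u

variable {A P : Type u} [CommRing A] [CommRing P] [Algebra A P]

/-- Formal smoothness over `A` of the localization of `P/I` at the image of `Q`. -/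
def SmAt (A : Type u) [CommRing A] {P : Type u} [CommRing P] [Algebra A P] (Q I : Ideal P) : Prop :=
  ∀ hp : (Q.map (Ideal.Quotient.mk I)).IsPrime,
    Algebra.FormallySmooth A (@Localization.AtPrime _ _ (Q.map (Ideal.Quotient.mk I)) hp)

theorem isPrime_map_mk (Q I : Ideal P) [Q.IsPrime] (hIQ : I ≤ Q) :
    (Q.map (Ideal.Quotient.mk I)).IsPrime :=
  Ideal.map_isPrime_of_surjective Ideal.Quotient.mk_surjective (by rw [Ideal.mk_ker]; exact hIQ)

set_option maxHeartbeats 800000 in
/-- **Smoothness descends along a chain of nonzerodivisors (presentation level).** -/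
theorem core_chain [Algebra.FormallySmooth A P] (I₀ Q : Ideal P) [Q.IsPrime] (hI₀Q : I₀ ≤ Q)
    (hI₀ : I₀.FG) (ts : List P) (hts : ∀ t ∈ ts, t ∈ Q)
    (hnzd : ∀ (k : ℕ) (hk : k < ts.length) (p : P),
      p * ts[k] ∈ I₀ ⊔ Ideal.ofList (ts.take k) →
        ∃ s, s ∉ Q ∧ s * p ∈ I₀ ⊔ Ideal.ofList (ts.take k))
    (hsm : SmAt A Q (I₀ ⊔ Ideal.ofList ts)) : SmAt A Q I₀ := by
  induction ts using List.reverseRecOn with
  | nil =>
    rw [Ideal.ofList_nil, sup_bot_eq] at hsm
    exact hsm
  | append_singleton l t ih =>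
    have htQ : t ∈ Q := hts t (by simp)
    have hlQ : ∀ t' ∈ l, t' ∈ Q := fun t' ht' => hts t' (by simp [ht'])
    have hIQ : I₀ ⊔ Ideal.ofList l ≤ Q :=
      sup_le hI₀Q (Ideal.span_le.mpr fun x hx => hlQ x hx)
    have hJQ : I₀ ⊔ Ideal.ofList (l ++ [t]) ≤ Q :=
      sup_le hI₀Q (Ideal.span_le.mpr fun x hx => hts x hx)
    have hJ : I₀ ⊔ Ideal.ofList (l ++ [t]) = (I₀ ⊔ Ideal.ofList l) ⊔ Ideal.span {t} := by
      rw [Ideal.ofList_append, Ideal.ofList_singleton, sup_assoc]
    have hIfg : (I₀ ⊔ Ideal.ofList l).FG :=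
      Submodule.FG.sup hI₀ (Submodule.fg_span (List.finite_toSet l))
    apply ih hlQ
    · intro k hk p hp
      have hk' : k < (l ++ [t]).length := by simp; omega
      have h1 := hnzd k hk' p
      have e1 : (l ++ [t])[k] = l[k] := List.getElem_append_left hk
      have e2 : (l ++ [t]).take k = l.take k := List.take_append_of_le_length (by omega)
      rw [e1, e2] at h1
      exact h1 hp
    · intro hpI
      haveI hpJ := isPrime_map_mk Q _ hJQ
      have h1 := hnzd l.length (by simp)
      have e1 : (l ++ [t])[l.length]'(by simp) = t := by simp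
      have e2 : (l ++ [t]).take l.length = l := by simp
      rw [e1, e2] at h1
      exact Groth.Agent.H11.NzdSmooth.core (A := A) (I₀ ⊔ Ideal.ofList l)
        (I₀ ⊔ Ideal.ofList (l ++ [t])) Q t htQ hIQ hIfg h1 hJ (hsm hpJ)

/-- Transfer of formal smoothness at a prime along the isomorphism `P/ker π ≃ C`. -/
theorem smAt_iff {C : Type u} [CommRing C] [Algebra A C] (π : P →ₐ[A] C)
    (hπ : Function.Surjective π) (K : Ideal P) (hK : K = RingHom.ker π) (Q : Ideal P) [Q.IsPrime]
    (qC : Ideal C) [qC.IsPrime] (hQ : Q = qC.comap π) :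
    SmAt A Q K ↔ Algebra.FormallySmooth A (Localization.AtPrime qC) := by
  have hKQ : K ≤ Q := by
    rw [hK, hQ]
    intro x hx
    rw [Ideal.mem_comap, RingHom.mem_ker.mp hx]
    exact qC.zero_mem
  haveI hp := isPrime_map_mk Q K hKQ
  let ε : (P ⧸ K) ≃ₐ[A] C :=
    (Ideal.quotientEquivAlgOfEq A hK).trans (Ideal.quotientKerAlgEquivOfSurjective hπ)
  have hε : ∀ p : P, ε (Ideal.Quotient.mk K p) = π p := fun p => rfl
  have h : Q.map (Ideal.Quotient.mk K) = qC.comap (ε : (P ⧸ K) →+* C) := by
    ext x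
    obtain ⟨p, rfl⟩ := Ideal.Quotient.mk_surjective x
    rw [Ideal.mem_quotient_iff_mem hKQ, Ideal.mem_comap]
    show p ∈ Q ↔ ε (Ideal.Quotient.mk K p) ∈ qC
    rw [hε, hQ, Ideal.mem_comap]
  have key := Groth.Agent.H11.LciFitt.formallySmooth_atPrime_iff_of_algEquiv (A := A) ε
    (Q.map (Ideal.Quotient.mk K)) qC h
  constructor
  · intro hs
    exact key.mp (hs hp)
  · intro hs _
    exact key.mpr hs

variable {B : Type u} [CommRing B] [Algebra A B]

set_option maxHeartbeats 800000 in
/-- **Smoothness descends along a regular sequence.** -/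
theorem formallySmooth_of_quotient_regular [Algebra.FinitePresentation A B] (rs : List B)
    (hreg : RingTheory.Sequence.IsWeaklyRegular B rs) (q : Ideal B) [q.IsPrime]
    (hq : ∀ r ∈ rs, r ∈ q) [hp : (q.map (Ideal.Quotient.mk (Ideal.ofList rs))).IsPrime]
    (hsm : Algebra.FormallySmooth A
      (Localization.AtPrime (q.map (Ideal.Quotient.mk (Ideal.ofList rs))))) :
    Algebra.FormallySmooth A (Localization.AtPrime q) := by
  classical
  obtain ⟨N, π, hπ, hker⟩ := Algebra.FinitePresentation.out (R := A) (A := B)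
  obtain ⟨ts, hts⟩ : ∃ ts : List (MvPolynomial (Fin N) A), ts.map π = rs :=
    List.map_surjective_iff.mpr hπ rs
  have hrsq : Ideal.ofList rs ≤ q := Ideal.span_le.mpr fun x hx => hq x hx
  have hmap : ∀ l : List (MvPolynomial (Fin N) A),
      (Ideal.ofList l ⊔ RingHom.ker π.toRingHom) =
        (Ideal.ofList (l.map π)).comap π.toRingHom := by
    intro l
    have h1 : Ideal.ofList (l.map π) = (Ideal.ofList l).map π.toRingHom := by
      rw [Ideal.map_ofList]; rfl
    rw [h1, Ideal.comap_map_of_surjective π.toRingHom hπ, ← RingHom.ker_eq_comap_bot]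
  have hQprime : (q.comap π.toRingHom).IsPrime := Ideal.comap_isPrime _ _
  -- the top of the chain
  have htop : SmAt A (q.comap π.toRingHom) (RingHom.ker π.toRingHom ⊔ Ideal.ofList ts) := by
    let π' : MvPolynomial (Fin N) A →ₐ[A] B ⧸ Ideal.ofList rs :=
      (Ideal.Quotient.mkₐ A (Ideal.ofList rs)).comp π
    have hπ' : Function.Surjective π' :=
      (Ideal.Quotient.mkₐ_surjective A (Ideal.ofList rs)).comp hπ
    have hK : RingHom.ker π.toRingHom ⊔ Ideal.ofList ts = RingHom.ker π' := by
      rw [sup_comm, hmap ts, hts]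
      ext x
      rw [Ideal.mem_comap, RingHom.mem_ker]
      show π x ∈ Ideal.ofList rs ↔ Ideal.Quotient.mk (Ideal.ofList rs) (π x) = 0
      rw [Ideal.Quotient.eq_zero_iff_mem]
    refine (smAt_iff (A := A) π' hπ' _ hK (q.comap π.toRingHom)
      (q.map (Ideal.Quotient.mk (Ideal.ofList rs))) ?_).mpr hsm
    ext x
    rw [Ideal.mem_comap, Ideal.mem_comap]
    show π x ∈ q ↔ Ideal.Quotient.mk (Ideal.ofList rs) (π x) ∈ _
    rw [Ideal.mem_quotient_iff_mem hrsq]
  have hbot := core_chain (A := A) (RingHom.ker π.toRingHom) (q.comap π.toRingHom)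
    (fun x hx => by
      rw [Ideal.mem_comap, RingHom.mem_ker.mp hx]; exact q.zero_mem)
    hker ts
    (fun t ht => by
      rw [Ideal.mem_comap]
      apply hq
      rw [← hts]
      exact List.mem_map_of_mem (f := π) ht)
    (fun k hk p hp => by
      refine ⟨1, fun h1 => hQprime.ne_top ((Ideal.eq_top_iff_one _).mpr h1), ?_⟩
      rw [one_mul]
      rw [sup_comm, hmap (ts.take k)] at hp ⊢
      rw [Ideal.mem_comap] at hp ⊢
      have hk' : k < rs.length := by rw [← hts]; simpa using hk
      have e1 : (ts.take k).map π = rs.take k := by rw [← hts, List.map_take]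
      have e2 : π ts[k] = rs[k] := by simp [← hts]
      rw [e1] at hp ⊢
      have h3 : rs[k] * π p ∈ Ideal.ofList (rs.take k) := by
        have : π.toRingHom (p * ts[k]) = rs[k] * π p := by
          show π (p * ts[k]) = _
          rw [map_mul, e2, mul_comm]
        rw [← this]; exact hp
      exact (Groth.Agent.H11.PermRegular.isWeaklyRegular_self_iff rs).mp hreg k hk' (π p) h3)
    htop
  exact (smAt_iff (A := A) π hπ (RingHom.ker π.toRingHom) rfl (q.comap π.toRingHom) q rfl).mp hbot

end Groth.Agent.H11.NzdSmooth2
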