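import Mathlib
import Groth.Agent.H11.PermRegular

/-!
# Distinct variables of a polynomial ring form a weakly regular sequence
-/

set_option autoImplicit false

namespace Groth.Agent.H11.RegVars

universe u v

open RingTheory.Sequence MvPolynomial

/-- For an injective family of indices `v`, the variables `X (v 0), …, X (v (n-1))` form a weakly
regular sequence in `MvPolynomial σ A`. -/
theorem isWeaklyRegular_X {A : Type u} [CommRing A] {σ : Type u} {n : ℕ} (v : Fin n → σ)
    (hv : Function.Injective v) :
    IsWeaklyRegular (MvPolynomial σ A)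
      (List.ofFn fun k : Fin n => (X (v k) : MvPolynomial σ A)) := by
  classical
  rw [Groth.Agent.H11.PermRegular.isWeaklyRegular_self_iff]
  intro i hi z hz
  have hin : i < n := by simpa using hi
  rw [Groth.Agent.H11.PermRegular.ofList_take_ofFn] at hz ⊢
  have himg : (fun k : Fin n => (X (v k) : MvPolynomial σ A)) '' {j : Fin n | j.val < i} =
      (X : σ → MvPolynomial σ A) '' (v '' {j : Fin n | j.val < i}) := by
    rw [Set.image_image]
  rw [himg] at hz ⊢
  rw [MvPolynomial.mem_ideal_span_X_image] at hz ⊢
  have hget : (List.ofFn fun k : Fin n => (X (v k) : MvPolynomial σ A))[i] =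
      X (v ⟨i, hin⟩) := by simp
  rw [hget] at hz
  intro m hm
  have hm' : m + Finsupp.single (v ⟨i, hin⟩) 1 ∈ (X (v ⟨i, hin⟩) * z).support := by
    rw [MvPolynomial.mem_support_iff, mul_comm, MvPolynomial.coeff_mul_X]
    exact MvPolynomial.mem_support_iff.mp hm
  obtain ⟨t, ⟨j, hj, rfl⟩, ht⟩ := hz _ hm'
  refine ⟨v j, ⟨j, hj, rfl⟩, ?_⟩
  have hne : v ⟨i, hin⟩ ≠ v j := by
    intro h
    have := hv h
    have hj' : j.val < i := hj
    rw [← this] at hj'
    exact lt_irrefl _ hj'
  rw [Finsupp.add_apply, Finsupp.single_apply, if_neg hne, add_zero] at ht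
  exact ht

end Groth.Agent.H11.RegVars
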