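import Mathlib
import Groth.Agent.H11.SmoothCartierMulti
import Groth.Agent.H11.RegVars

/-!
# Functions with independent differentials on a smooth algebra form a regular sequence

`core_multi_regular`: `A → B` smooth, `q` prime, `h 0, …, h (n-1)` with `1 ⊗ d(h k)` linearly
independent in `κ(q) ⊗ Ω`. Then for some `g ∉ q`, on every further localization `B' = B_{g g₂}`
the `h k` form a weakly regular sequence and `B'/(h)` is étale over a polynomial ring over `A` in
`dim κ ⊗ Ω - n` variables.
-/

set_option autoImplicit false

namespace Groth.Agent.H11.CoreReg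

open TensorProduct KaehlerDifferential IsLocalRing
open Groth.Agent.H11.SmoothCartier Groth.Agent.H11.SmoothCartierMulti

universe u

variable {A B : Type u} [CommRing A] [CommRing B] [Algebra A B]

open MvPolynomial in
set_option maxHeartbeats 3200000 in
set_option backward.isDefEq.respectTransparency false in
/-- **Core with chart and regular sequence.** -/
theorem core_multi_regular (q : Ideal B) [q.IsPrime] [Algebra.Smooth A B] (T : Type u) [CommRing T]
    [Algebra B T] [IsLocalization.AtPrime T q] [Algebra A T] [IsScalarTower A B T] [IsLocalRing T]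
    {n : ℕ} (h : Fin n → B)
    (hli : LinearIndependent (ResidueField T)
      (fun k => (1 : ResidueField T) ⊗ₜ[T] D A T (algebraMap B T (h k)))) :
    ∃ g ∉ q, ∀ (g₂ : B) (B' : Type u) [CommRing B'] [Algebra B B']
      [IsLocalization.Away (g * g₂) B'] [Algebra A B'] [IsScalarTower A B B'],
      RingTheory.Sequence.IsWeaklyRegular B' (List.ofFn fun k => algebraMap B B' (h k)) ∧
      ∃ (I' : Type u) (_ : Fintype I')
        (ψ : MvPolynomial I' A →ₐ[A]
          (B' ⧸ Ideal.span (Set.range fun k => algebraMap B B' (h k)))),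
        ψ.toRingHom.Etale ∧
        Fintype.card I' + n =
          Module.finrank (ResidueField T) (ResidueField T ⊗[T] Ω[T⁄A]) := by
  classical
  haveI : Algebra.FormallySmooth B T := Algebra.FormallySmooth.of_isLocalization q.primeCompl
  haveI : Algebra.FormallySmooth A T := Algebra.FormallySmooth.comp A B T
  haveI : Algebra.EssFiniteType B T := Algebra.EssFiniteType.of_isLocalization T q.primeCompl
  haveI : Algebra.EssFiniteType A T := Algebra.EssFiniteType.comp A B T
  haveI : Module.Finite T Ω[T⁄A] := inferInstance
  haveI : Module.Projective T Ω[T⁄A] := inferInstance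
  have hspan := Groth.Agent.H11.EtaleDiff2.span_one_tmul_eq_top (ResidueField T)
    (fun b : B => D A T (algebraMap B T b)) (span_D_algebraMap (A := A) q.primeCompl T)
  obtain ⟨I, _, c, j, bas, hj, hcj, hbas⟩ := exists_basis_of_spanning_family
    (K := ResidueField T) (fun b : B => (1 : ResidueField T) ⊗ₜ[T] D A T (algebraMap B T b))
    hspan h hli
  let φ : MvPolynomial I A →ₐ[A] B := aeval c
  letI algQB : Algebra (MvPolynomial I A) B := φ.toRingHom.toAlgebra
  haveI : IsScalarTower A (MvPolynomial I A) B :=
    IsScalarTower.of_algebraMap_eq' φ.comp_algebraMap.symm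
  letI algQT : Algebra (MvPolynomial I A) T :=
    ((algebraMap B T).comp (algebraMap (MvPolynomial I A) B)).toAlgebra
  haveI : IsScalarTower (MvPolynomial I A) B T := IsScalarTower.of_algebraMap_eq' rfl
  haveI : IsScalarTower A (MvPolynomial I A) T := IsScalarTower.of_algebraMap_eq' (by
    rw [IsScalarTower.algebraMap_eq A B T, IsScalarTower.algebraMap_eq A (MvPolynomial I A) B,
      ← RingHom.comp_assoc]; rfl)
  let w : I → Ω[T⁄A] := fun i => D A T (algebraMap B T (c i))
  have hw1 : ∀ i, (1 : ResidueField T) ⊗ₜ[T] w i = bas i := fun i => (hbas i).symm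
  have hli : LinearIndependent T w := by
    apply Module.IsLocalRing.linearIndependent_of_flat
    have : (TensorProduct.mk T (ResidueField T) Ω[T⁄A] 1 ∘ w) = bas := funext hw1
    rw [this]; exact bas.linearIndependent
  have hsp : Submodule.span T (Set.range w) = ⊤ :=
    IsLocalRing.span_eq_top_of_tmul_eq_basis w bas hw1
  let bT : Module.Basis I T Ω[T⁄A] := Module.Basis.mk hli hsp.ge
  let bQ : Module.Basis I T (T ⊗[MvPolynomial I A] Ω[MvPolynomial I A⁄A]) :=
    (KaehlerDifferential.mvPolynomialBasis A I).baseChange T
  have hmap : ∀ i, KaehlerDifferential.mapBaseChange A (MvPolynomial I A) T (bQ i) = bT i := by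
    intro i
    rw [Module.Basis.baseChange_apply, KaehlerDifferential.mvPolynomialBasis_apply,
      KaehlerDifferential.mapBaseChange_tmul, one_smul, KaehlerDifferential.map_D,
      Module.Basis.mk_apply]
    congr 1
    show algebraMap B T (φ (X i)) = _
    simp [φ]
  have hbij : Function.Bijective (KaehlerDifferential.mapBaseChange A (MvPolynomial I A) T) := by
    have : (KaehlerDifferential.mapBaseChange A (MvPolynomial I A) T) =
        (bQ.equiv bT (Equiv.refl I)).toLinearMap := by
      apply bQ.ext
      intro i
      rw [hmap]; simp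
    rw [this]; exact (bQ.equiv bT (Equiv.refl I)).bijective
  haveI : Algebra.FormallyEtale (MvPolynomial I A) T :=
    Groth.Agent.H11.EtaleDiff.formallyEtale_of_bijective_mapBaseChange A (MvPolynomial I A) T hbij
  haveI : Algebra.FinitePresentation (MvPolynomial I A) B :=
    Algebra.FinitePresentation.of_restrict_scalars_finitePresentation A (MvPolynomial I A) B
  let e₁ : T ≃ₐ[MvPolynomial I A] Localization.AtPrime q :=
    (IsLocalization.algEquiv q.primeCompl T (Localization.AtPrime q)).restrictScalars
      (MvPolynomial I A)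
  haveI : Algebra.IsEtaleAt (MvPolynomial I A) q := Algebra.FormallyEtale.of_equiv e₁
  obtain ⟨g, hg, hét⟩ := Algebra.exists_etale_of_isEtaleAt (R := MvPolynomial I A) q
  refine ⟨g, hg, ?_⟩
  intro g₂ B' _ _ _ _ _
  letI algQB' : Algebra (MvPolynomial I A) B' :=
    ((algebraMap B B').comp (algebraMap (MvPolynomial I A) B)).toAlgebra
  haveI : IsScalarTower (MvPolynomial I A) B B' := IsScalarTower.of_algebraMap_eq' rfl
  haveI : IsScalarTower A (MvPolynomial I A) B' := IsScalarTower.of_algebraMap_eq' (by
    rw [IsScalarTower.algebraMap_eq A B B', IsScalarTower.algebraMap_eq A (MvPolynomial I A) B,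
      ← RingHom.comp_assoc]; rfl)
  -- the intermediate localization `B₁ = (B_g)_{g₂}`
  haveI : Algebra.Etale (MvPolynomial I A) (Localization.Away g) := hét
  haveI : Algebra.Etale (Localization.Away g)
      (Localization.Away (algebraMap B (Localization.Away g) g₂)) :=
    Algebra.Etale.of_isLocalizationAway (algebraMap B (Localization.Away g) g₂)
  haveI : IsScalarTower (MvPolynomial I A) (Localization.Away g)
      (Localization.Away (algebraMap B (Localization.Away g) g₂)) := inferInstance
  haveI : IsScalarTower (MvPolynomial I A) B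
      (Localization.Away (algebraMap B (Localization.Away g) g₂)) := inferInstance
  haveI : Algebra.Etale (MvPolynomial I A)
      (Localization.Away (algebraMap B (Localization.Away g) g₂)) :=
    Algebra.Etale.comp (MvPolynomial I A) (Localization.Away g) _
  haveI : IsLocalization.Away (g * g₂)
      (Localization.Away (algebraMap B (Localization.Away g) g₂)) :=
    mul_comm g₂ g ▸ (inferInstance : IsLocalization.Away (g₂ * g)
      (Localization.Away (algebraMap B (Localization.Away g) g₂)))
  let e₂ : Localization.Away (algebraMap B (Localization.Away g) g₂) ≃ₐ[MvPolynomial I A] B' :=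
    (IsLocalization.algEquiv (Submonoid.powers (g * g₂))
      (Localization.Away (algebraMap B (Localization.Away g) g₂)) B').restrictScalars
      (MvPolynomial I A)
  haveI : Algebra.Etale (MvPolynomial I A) B' := Algebra.Etale.of_equiv e₂
  haveI : Algebra.Smooth (MvPolynomial I A) B' := ⟨inferInstance, inferInstance⟩
  haveI : Module.Flat (MvPolynomial I A) B' := Algebra.Smooth.flat _ _
  have hX : ∀ k, algebraMap (MvPolynomial I A) B' (X (j k)) = algebraMap B B' (h k) := by
    intro k
    show algebraMap B B' (φ (X (j k))) = _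
    simp [φ, hcj]
  refine ⟨?_, ?_⟩
  · have h1 := (Groth.Agent.H11.RegVars.isWeaklyRegular_X (A := A) j hj).of_flat (S := B')
    have h2 : (List.ofFn fun k : Fin n => (X (j k) : MvPolynomial I A)).map
        (algebraMap (MvPolynomial I A) B') = List.ofFn fun k => algebraMap B B' (h k) := by
      rw [List.map_ofFn]
      congr 1
      funext k
      exact hX k
    rw [h2] at h1
    exact h1
  obtain ⟨e₀⟩ := nonempty_quotient_X_equiv A I (Set.range j)
  obtain ⟨J, hJ⟩ : ∃ J : Ideal (MvPolynomial I A),
    J = Ideal.span ((fun i => (X i : MvPolynomial I A)) '' (Set.range j)) := ⟨_, rfl⟩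
  rw [← hJ] at e₀
  haveI : Algebra.Etale (MvPolynomial I A ⧸ J) ((MvPolynomial I A ⧸ J) ⊗[MvPolynomial I A] B') :=
    inferInstance
  let e₃ := Algebra.TensorProduct.quotIdealMapEquivQuotTensor B' J
  haveI : Algebra.Etale (MvPolynomial I A ⧸ J) (B' ⧸ J.map (algebraMap (MvPolynomial I A) B')) :=
    Algebra.Etale.of_equiv (A := (MvPolynomial I A ⧸ J) ⊗[MvPolynomial I A] B') e₃.symm
  haveI : IsScalarTower A (MvPolynomial I A ⧸ J)
      (B' ⧸ J.map (algebraMap (MvPolynomial I A) B')) := by
    have key : ∀ a : A, algebraMap A (B' ⧸ J.map (algebraMap (MvPolynomial I A) B')) a =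
        algebraMap (MvPolynomial I A ⧸ J) (B' ⧸ J.map (algebraMap (MvPolynomial I A) B'))
          (algebraMap A (MvPolynomial I A ⧸ J) a) := by
      intro a
      have h0 := IsScalarTower.algebraMap_apply A (MvPolynomial I A) B' a
      show Ideal.Quotient.mk (J.map (algebraMap (MvPolynomial I A) B')) (algebraMap A B' a) =
        Ideal.Quotient.mk (J.map (algebraMap (MvPolynomial I A) B'))
          (algebraMap (MvPolynomial I A) B' (algebraMap A (MvPolynomial I A) a))
      rw [h0]
    exact IsScalarTower.of_algebraMap_eq key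
  have hJ' : J.map (algebraMap (MvPolynomial I A) B') =
      Ideal.span (Set.range fun k => algebraMap B B' (h k)) := by
    rw [hJ, Ideal.map_span]
    congr 1
    ext b
    constructor
    · rintro ⟨_, ⟨_, ⟨k, rfl⟩, rfl⟩, rfl⟩
      exact ⟨k, (hX k).symm⟩
    · rintro ⟨k, rfl⟩
      exact ⟨X (j k), ⟨j k, ⟨k, rfl⟩, rfl⟩, hX k⟩
  let ψ : MvPolynomial {i // i ∉ Set.range j} A →ₐ[A]
      (B' ⧸ Ideal.span (Set.range fun k => algebraMap B B' (h k))) :=
    ((Ideal.quotientEquivAlgOfEq A hJ').toAlgHom.comp
      (IsScalarTower.toAlgHom A (MvPolynomial I A ⧸ J)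
        (B' ⧸ J.map (algebraMap (MvPolynomial I A) B')))).comp e₀.toAlgHom
  refine ⟨{i // i ∉ Set.range j}, inferInstance, ψ, ?_, ?_⟩
  · have hψ : ψ.toRingHom = ((Ideal.quotientEquivAlgOfEq A hJ').toRingEquiv.toRingHom.comp
        (algebraMap (MvPolynomial I A ⧸ J) (B' ⧸ J.map (algebraMap (MvPolynomial I A) B')))).comp
        e₀.toRingEquiv.toRingHom := RingHom.ext fun x => rfl
    rw [hψ]
    refine RingHom.Etale.stableUnderComposition _ _ ?_
      (RingHom.Etale.stableUnderComposition _ _ ?_ ?_)
    · exact RingHom.Etale.of_bijective e₀.bijective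
    · exact RingHom.etale_algebraMap.mpr inferInstance
    · exact RingHom.Etale.of_bijective (Ideal.quotientEquivAlgOfEq A hJ').bijective
  · have h1 : Fintype.card {i // i ∈ Set.range j} = n := by
      rw [← Fintype.card_congr (Equiv.ofInjective j hj), Fintype.card_fin]
    have h2 := Fintype.card_subtype_compl (fun i => i ∈ Set.range j)
    have h3 : Fintype.card {i // i ∈ Set.range j} ≤ Fintype.card I := Fintype.card_subtype_le _
    rw [Module.finrank_eq_card_basis bas]
    omega

end Groth.Agent.H11.CoreReg
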