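import Mathlib
import Groth.Agent.H11.SmoothCartierMulti

/-!
# Étale charts of smooth algebras

`exists_etale_chart`: `A → B` smooth, `q` prime, `T = B_q`, `h : ι → B` with the `1 ⊗ d(h i)` a basis
of `κ ⊗ Ω[T/A]`. Then for some `g ∉ q` the map `A[X_i] → B_g`, `X_i ↦ h i`, is étale.

`exists_etale_chart_of_section`: if moreover `σ : B → A` is a retraction of `A → B`, the `h i` can be
chosen in `ker σ`.
-/

set_option autoImplicit false

namespace Groth.Agent.H11.SmoothChart

open TensorProduct KaehlerDifferential IsLocalRing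

universe u

section
open Groth.Agent.H11.SmoothCartier
variable {A B : Type u} [CommRing A] [CommRing B] [Algebra A B]

open MvPolynomial in
set_option maxHeartbeats 1600000 in
set_option backward.isDefEq.respectTransparency false in
/-- **Étale chart.** -/
theorem exists_etale_chart (q : Ideal B) [q.IsPrime] [Algebra.Smooth A B] (T : Type u) [CommRing T]
    [Algebra B T] [IsLocalization.AtPrime T q] [Algebra A T] [IsScalarTower A B T] [IsLocalRing T]
    {ι : Type u} [Fintype ι] (h : ι → B)
    (bas : Module.Basis ι (ResidueField T) (ResidueField T ⊗[T] Ω[T⁄A]))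
    (hbas : ∀ i, bas i = (1 : ResidueField T) ⊗ₜ[T] D A T (algebraMap B T (h i))) :
    ∃ g ∉ q, ∀ (B' : Type u) [CommRing B'] [Algebra B B'] [IsLocalization.Away g B']
      [Algebra A B'] [IsScalarTower A B B'],
      ((aeval (fun i => algebraMap B B' (h i)) : MvPolynomial ι A →ₐ[A] B').toRingHom).Etale := by
  classical
  haveI : Algebra.FormallySmooth B T := Algebra.FormallySmooth.of_isLocalization q.primeCompl
  haveI : Algebra.FormallySmooth A T := Algebra.FormallySmooth.comp A B T
  haveI : Algebra.EssFiniteType B T := Algebra.EssFiniteType.of_isLocalization T q.primeCompl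
  haveI : Algebra.EssFiniteType A T := Algebra.EssFiniteType.comp A B T
  haveI : Module.Finite T Ω[T⁄A] := inferInstance
  haveI : Module.Projective T Ω[T⁄A] := inferInstance
  let φ : MvPolynomial ι A →ₐ[A] B := aeval h
  letI algQB : Algebra (MvPolynomial ι A) B := φ.toRingHom.toAlgebra
  haveI : IsScalarTower A (MvPolynomial ι A) B :=
    IsScalarTower.of_algebraMap_eq' φ.comp_algebraMap.symm
  letI algQT : Algebra (MvPolynomial ι A) T :=
    ((algebraMap B T).comp (algebraMap (MvPolynomial ι A) B)).toAlgebra
  haveI : IsScalarTower (MvPolynomial ι A) B T := IsScalarTower.of_algebraMap_eq' rfl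
  haveI : IsScalarTower A (MvPolynomial ι A) T := IsScalarTower.of_algebraMap_eq' (by
    rw [IsScalarTower.algebraMap_eq A B T, IsScalarTower.algebraMap_eq A (MvPolynomial ι A) B,
      ← RingHom.comp_assoc]; rfl)
  let w : ι → Ω[T⁄A] := fun i => D A T (algebraMap B T (h i))
  have hw1 : ∀ i, (1 : ResidueField T) ⊗ₜ[T] w i = bas i := fun i => (hbas i).symm
  have hli : LinearIndependent T w := by
    apply Module.IsLocalRing.linearIndependent_of_flat
    have : (TensorProduct.mk T (ResidueField T) Ω[T⁄A] 1 ∘ w) = bas := funext hw1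
    rw [this]; exact bas.linearIndependent
  have hsp : Submodule.span T (Set.range w) = ⊤ :=
    IsLocalRing.span_eq_top_of_tmul_eq_basis w bas hw1
  let bT : Module.Basis ι T Ω[T⁄A] := Module.Basis.mk hli hsp.ge
  let bQ : Module.Basis ι T (T ⊗[MvPolynomial ι A] Ω[MvPolynomial ι A⁄A]) :=
    (KaehlerDifferential.mvPolynomialBasis A ι).baseChange T
  have hmap : ∀ i, KaehlerDifferential.mapBaseChange A (MvPolynomial ι A) T (bQ i) = bT i := by
    intro i
    rw [Module.Basis.baseChange_apply, KaehlerDifferential.mvPolynomialBasis_apply,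
      KaehlerDifferential.mapBaseChange_tmul, one_smul, KaehlerDifferential.map_D,
      Module.Basis.mk_apply]
    congr 1
    show algebraMap B T (φ (X i)) = _
    simp [φ]
  have hbij : Function.Bijective (KaehlerDifferential.mapBaseChange A (MvPolynomial ι A) T) := by
    have : (KaehlerDifferential.mapBaseChange A (MvPolynomial ι A) T) =
        (bQ.equiv bT (Equiv.refl ι)).toLinearMap := by
      apply bQ.ext
      intro i
      rw [hmap]; simp
    rw [this]; exact (bQ.equiv bT (Equiv.refl ι)).bijective
  haveI : Algebra.FormallyEtale (MvPolynomial ι A) T :=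
    Groth.Agent.H11.EtaleDiff.formallyEtale_of_bijective_mapBaseChange A (MvPolynomial ι A) T hbij
  haveI : Algebra.FinitePresentation (MvPolynomial ι A) B :=
    Algebra.FinitePresentation.of_restrict_scalars_finitePresentation A (MvPolynomial ι A) B
  let e₁ : T ≃ₐ[MvPolynomial ι A] Localization.AtPrime q :=
    (IsLocalization.algEquiv q.primeCompl T (Localization.AtPrime q)).restrictScalars
      (MvPolynomial ι A)
  haveI : Algebra.IsEtaleAt (MvPolynomial ι A) q := Algebra.FormallyEtale.of_equiv e₁
  obtain ⟨g, hg, hét⟩ := Algebra.exists_etale_of_isEtaleAt (R := MvPolynomial ι A) q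
  refine ⟨g, hg, ?_⟩
  intro B' _ _ _ _ _
  letI algQB' : Algebra (MvPolynomial ι A) B' :=
    ((algebraMap B B').comp (algebraMap (MvPolynomial ι A) B)).toAlgebra
  haveI : IsScalarTower (MvPolynomial ι A) B B' := IsScalarTower.of_algebraMap_eq' rfl
  let e₂ : Localization.Away g ≃ₐ[MvPolynomial ι A] B' :=
    (IsLocalization.algEquiv (Submonoid.powers g) (Localization.Away g) B').restrictScalars
      (MvPolynomial ι A)
  haveI hE : Algebra.Etale (MvPolynomial ι A) B' := Algebra.Etale.of_equiv e₂
  have heq : ((aeval (fun i => algebraMap B B' (h i)) : MvPolynomial ι A →ₐ[A] B').toRingHom) =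
      algebraMap (MvPolynomial ι A) B' := by
    have h2 : (aeval (fun i => algebraMap B B' (h i)) : MvPolynomial ι A →ₐ[A] B') =
        (IsScalarTower.toAlgHom A B B').comp φ := by
      apply MvPolynomial.algHom_ext
      intro i
      simp [φ]
    rw [h2]
    rfl
  rw [heq]
  exact RingHom.etale_algebraMap.mpr hE

/-- With a retraction `σ` of `A → B`, `κ ⊗ Ω[T/A]` is spanned by the `1 ⊗ d b`, `b ∈ ker σ`. -/
theorem span_one_tmul_D_ker (q : Ideal B) [q.IsPrime] (T : Type u) [CommRing T]
    [Algebra B T] [IsLocalization.AtPrime T q] [Algebra A T] [IsScalarTower A B T] [IsLocalRing T]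
    (σ : B →+* A) (hσ : ∀ a, σ (algebraMap A B a) = a) :
    Submodule.span (ResidueField T) (Set.range fun b : RingHom.ker σ =>
      (1 : ResidueField T) ⊗ₜ[T] D A T (algebraMap B T (b : B))) = ⊤ := by
  have hspan := Groth.Agent.H11.EtaleDiff2.span_one_tmul_eq_top (ResidueField T)
    (fun b : B => D A T (algebraMap B T b)) (span_D_algebraMap (A := A) q.primeCompl T)
  rw [eq_top_iff, ← hspan, Submodule.span_le]
  rintro _ ⟨b, rfl⟩
  have hmem : b - algebraMap A B (σ b) ∈ RingHom.ker σ := by
    rw [RingHom.mem_ker, map_sub, hσ, sub_self]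
  have h0 : D A T (algebraMap B T (algebraMap A B (σ b))) = 0 := by
    rw [← IsScalarTower.algebraMap_apply A B T]
    exact Derivation.map_algebraMap _ _
  have h1 : (1 : ResidueField T) ⊗ₜ[T] D A T (algebraMap B T b) =
      (1 : ResidueField T) ⊗ₜ[T] D A T (algebraMap B T (b - algebraMap A B (σ b))) := by
    rw [map_sub, map_sub, h0, sub_zero]
  show (1 : ResidueField T) ⊗ₜ[T] D A T (algebraMap B T b) ∈ _
  rw [h1]
  exact Submodule.subset_span ⟨⟨_, hmem⟩, rfl⟩

set_option maxHeartbeats 800000 in
/-- **Étale chart adapted to a section.** -/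
theorem exists_etale_chart_of_section (q : Ideal B) [q.IsPrime] [Algebra.Smooth A B] (T : Type u)
    [CommRing T] [Algebra B T] [IsLocalization.AtPrime T q] [Algebra A T] [IsScalarTower A B T]
    [IsLocalRing T] (σ : B →+* A) (hσ : ∀ a, σ (algebraMap A B a) = a) :
    ∃ (m : ℕ) (h : ULift.{u} (Fin m) → B), (∀ j, σ (h j) = 0) ∧ ∃ g ∉ q,
      ∀ (B' : Type u) [CommRing B'] [Algebra B B'] [IsLocalization.Away g B']
        [Algebra A B'] [IsScalarTower A B B'],
        ((MvPolynomial.aeval (fun i => algebraMap B B' (h i)) :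
          MvPolynomial (ULift.{u} (Fin m)) A →ₐ[A] B').toRingHom).Etale := by
  haveI : Algebra.FormallySmooth B T := Algebra.FormallySmooth.of_isLocalization q.primeCompl
  haveI : Algebra.FormallySmooth A T := Algebra.FormallySmooth.comp A B T
  haveI : Algebra.EssFiniteType B T := Algebra.EssFiniteType.of_isLocalization T q.primeCompl
  haveI : Algebra.EssFiniteType A T := Algebra.EssFiniteType.comp A B T
  haveI : Module.Finite T Ω[T⁄A] := inferInstance
  have hspan := span_one_tmul_D_ker (A := A) q T σ hσ
  obtain ⟨I, _, c, j, bas, -, -, hbas⟩ :=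
    Groth.Agent.H11.SmoothCartierMulti.exists_basis_of_spanning_family
    (K := ResidueField T)
    (fun b : RingHom.ker σ => (1 : ResidueField T) ⊗ₜ[T] D A T (algebraMap B T (b : B)))
    hspan (ι := PEmpty.{1}) (fun e => e.elim) (linearIndependent_empty_type)
  let e : I ≃ ULift.{u} (Fin (Fintype.card I)) := (Fintype.equivFin I).trans Equiv.ulift.symm
  obtain ⟨g, hg, hét⟩ := exists_etale_chart (A := A) q T
    (fun k : ULift.{u} (Fin (Fintype.card I)) => ((c (e.symm k) : RingHom.ker σ) : B))
    (bas.reindex e) (fun k => by rw [Module.Basis.reindex_apply, hbas])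
  exact ⟨Fintype.card I, fun k => ((c (e.symm k) : RingHom.ker σ) : B),
    fun k => (c (e.symm k)).2, g, hg, hét⟩

end

end Groth.Agent.H11.SmoothChart
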