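import Mathlib
import Groth.Agent.H11.SmoothChart
import Groth.Agent.H11.JacLI
import Groth.Agent.H23.Jacobian

/-!
# Étale charts adapted to a smooth closed subscheme (algebra)

`A → B` smooth, `J ≤ q` with `J` finitely generated, `(B/J)_q` formally smooth over `A`. Then there
are coordinates `h : Fin m ⊕ Fin n → B` with `h (inr k) ∈ J` and `g ∉ q` such that `A[X] → B_g` is
étale and `J B_g` is generated by the `h (inr k)`.
-/

set_option autoImplicit false

namespace Groth.Agent.H11.SmoothPair

open TensorProduct KaehlerDifferential IsLocalRing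

universe u

variable {A B : Type u} [CommRing A] [CommRing B] [Algebra A B]

/-- Spreading out generators of a localized ideal. -/
theorem exists_notMem_map_eq_span (J q : Ideal B) [q.IsPrime] (hJ : J.FG) {n : ℕ} (f : Fin n → B)
    (hf : ∀ k, f k ∈ J)
    (hgen : J.map (algebraMap B (Localization.AtPrime q)) =
      Ideal.span (Set.range fun i => algebraMap B (Localization.AtPrime q) (f i))) :
    ∃ g₂ ∉ q, ∀ (g₁ : B) (B' : Type u) [CommRing B'] [Algebra B B']
      [IsLocalization.Away (g₁ * g₂) B'],
      J.map (algebraMap B B') = Ideal.span (Set.range fun k => algebraMap B B' (f k)) := by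
  classical
  obtain ⟨S, hS⟩ := hJ
  have hF : Ideal.span (Set.range fun i => algebraMap B (Localization.AtPrime q) (f i)) =
      (Ideal.span (Set.range f)).map (algebraMap B (Localization.AtPrime q)) := by
    rw [Ideal.map_span, ← Set.range_comp]; rfl
  have hex : ∀ x ∈ S, ∃ s ∈ q.primeCompl, s * x ∈ Ideal.span (Set.range f) := by
    intro x hx
    have hxJ : x ∈ J := hS ▸ Ideal.subset_span hx
    have h1 : algebraMap B (Localization.AtPrime q) x ∈
        J.map (algebraMap B (Localization.AtPrime q)) := Ideal.mem_map_of_mem _ hxJ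
    rw [hgen, hF] at h1
    exact (IsLocalization.algebraMap_mem_map_algebraMap_iff q.primeCompl
      (Localization.AtPrime q) _ x).mp h1
  choose! s hs hsx using hex
  refine ⟨∏ x ∈ S, s x, ?_, ?_⟩
  · intro hmem
    obtain ⟨x, hx, hsx'⟩ := (Ideal.IsPrime.prod_mem_iff).mp hmem
    exact hs x hx hsx'
  · intro g₁ B' _ _ _
    apply le_antisymm
    · rw [← hS, Ideal.map_span, Ideal.span_le]
      rintro _ ⟨x, hx, rfl⟩
      have hu : IsUnit (algebraMap B B' (g₁ * ∏ x ∈ S, s x)) :=
        IsLocalization.Away.algebraMap_isUnit _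
      have hdvd : s x ∣ g₁ * ∏ x ∈ S, s x :=
        Dvd.dvd.mul_left (Finset.dvd_prod_of_mem s hx) g₁
      have hu' : IsUnit (algebraMap B B' (s x)) := isUnit_of_dvd_unit (map_dvd _ hdvd) hu
      have h2 : algebraMap B B' (s x * x) ∈
          (Ideal.span (Set.range f)).map (algebraMap B B') := Ideal.mem_map_of_mem _ (hsx x hx)
      rw [map_mul, Ideal.unit_mul_mem_iff_mem _ hu', Ideal.map_span, ← Set.range_comp] at h2
      exact h2
    · rw [Ideal.span_le]
      rintro _ ⟨k, rfl⟩
      exact Ideal.mem_map_of_mem _ (hf k)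

set_option maxHeartbeats 1600000 in
/-- **Étale chart adapted to a smooth closed subscheme.** -/
theorem exists_etale_chart_pair (J q : Ideal B) [q.IsPrime] (hJq : J ≤ q) (hJ : J.FG)
    [hp : (q.map (Ideal.Quotient.mk J)).IsPrime] [Algebra.Smooth A B]
    (hsm : Algebra.FormallySmooth A (Localization.AtPrime (q.map (Ideal.Quotient.mk J))))
    (T : Type u) [CommRing T] [Algebra B T] [IsLocalization.AtPrime T q] [Algebra A T]
    [IsScalarTower A B T] [IsLocalRing T] :
    ∃ (m n : ℕ) (h : ULift.{u} (Fin m ⊕ Fin n) → B), (∀ k, h ⟨Sum.inr k⟩ ∈ J) ∧ ∃ g ∉ q,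
      ∀ (B' : Type u) [CommRing B'] [Algebra B B'] [IsLocalization.Away g B']
        [Algebra A B'] [IsScalarTower A B B'],
        ((MvPolynomial.aeval (fun i => algebraMap B B' (h i)) :
          MvPolynomial (ULift.{u} (Fin m ⊕ Fin n)) A →ₐ[A] B').toRingHom).Etale ∧
        J.map (algebraMap B B') =
          Ideal.span (Set.range fun k : Fin n => algebraMap B B' (h ⟨Sum.inr k⟩)) := by
  classical
  haveI : Algebra.FormallySmooth A B := inferInstance
  obtain ⟨n, f, d, hf, hgen, hdet⟩ := (Groth.Agent.H23.Jacobian.main (A := A) J q hJq hJ).mp hsm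
  have hli := Groth.Agent.H11.JacLI.linearIndependent_of_det (A := A) q T f d hdet
  haveI : Algebra.FormallySmooth B T := Algebra.FormallySmooth.of_isLocalization q.primeCompl
  haveI : Algebra.FormallySmooth A T := Algebra.FormallySmooth.comp A B T
  haveI : Algebra.EssFiniteType B T := Algebra.EssFiniteType.of_isLocalization T q.primeCompl
  haveI : Algebra.EssFiniteType A T := Algebra.EssFiniteType.comp A B T
  haveI : Module.Finite T Ω[T⁄A] := inferInstance
  have hspan := Groth.Agent.H11.EtaleDiff2.span_one_tmul_eq_top (ResidueField T)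
    (fun b : B => D A T (algebraMap B T b))
    (Groth.Agent.H11.SmoothCartier.span_D_algebraMap (A := A) q.primeCompl T)
  obtain ⟨I, _, c, j, bas, hj, hcj, hbas⟩ :=
    Groth.Agent.H11.SmoothCartierMulti.exists_basis_of_spanning_family
    (K := ResidueField T) (fun b : B => (1 : ResidueField T) ⊗ₜ[T] D A T (algebraMap B T b))
    hspan f hli
  -- reindex `I` by `Fin m ⊕ Fin n` with `j` the right summand
  let e₁ : Fin n ≃ Set.range j := Equiv.ofInjective j hj
  let e₂ : ↥(Set.range j)ᶜ ≃ Fin (Fintype.card ↥(Set.range j)ᶜ) := Fintype.equivFin _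
  let e : I ≃ ULift.{u} (Fin (Fintype.card ↥(Set.range j)ᶜ) ⊕ Fin n) :=
    ((Equiv.Set.sumCompl (Set.range j)).symm.trans
      ((Equiv.sumComm _ _).trans (Equiv.sumCongr e₂ e₁.symm))).trans Equiv.ulift.symm
  have he : ∀ k : Fin n, e.symm ⟨Sum.inr k⟩ = j k := by
    intro k
    simp [e, e₁]
  obtain ⟨g₁, hg₁, hét⟩ := Groth.Agent.H11.SmoothChart.exists_etale_chart (A := A) q T
    (fun i : ULift.{u} (Fin (Fintype.card ↥(Set.range j)ᶜ) ⊕ Fin n) => c (e.symm i))
    (bas.reindex e) (fun i => by rw [Module.Basis.reindex_apply, hbas])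
  obtain ⟨g₂, hg₂, hgen₂⟩ := exists_notMem_map_eq_span J q hJ f hf hgen
  refine ⟨Fintype.card ↥(Set.range j)ᶜ, n, fun i => c (e.symm i), fun k => ?_, g₁ * g₂,
    Ideal.IsPrime.mul_notMem inferInstance hg₁ hg₂, ?_⟩
  · show c (e.symm ⟨Sum.inr k⟩) ∈ J
    rw [he, hcj]; exact hf k
  · intro B' _ _ _ _ _
    constructor
    · -- étale: factor through `B_{g₁}`
      have h1 := hét (Localization.Away g₁)
      have h2 : (algebraMap (Localization.Away g₁)
          (Localization.Away (algebraMap B (Localization.Away g₁) g₂))).Etale :=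
        RingHom.etale_algebraMap.mpr
          (Algebra.Etale.of_isLocalizationAway (algebraMap B (Localization.Away g₁) g₂))
      haveI : IsLocalization.Away (g₁ * g₂)
          (Localization.Away (algebraMap B (Localization.Away g₁) g₂)) :=
        mul_comm g₂ g₁ ▸ (inferInstance : IsLocalization.Away (g₂ * g₁)
          (Localization.Away (algebraMap B (Localization.Away g₁) g₂)))
      let ε : Localization.Away (algebraMap B (Localization.Away g₁) g₂) ≃ₐ[B] B' :=
        IsLocalization.algEquiv (Submonoid.powers (g₁ * g₂)) _ B'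
      have h3 : (ε : Localization.Away (algebraMap B (Localization.Away g₁) g₂) →+* B').Etale :=
        RingHom.Etale.of_bijective ε.bijective
      have h4 := RingHom.Etale.stableUnderComposition _ _
        (RingHom.Etale.stableUnderComposition _ _ h1 h2) h3
      have heq : ((MvPolynomial.aeval (fun i => algebraMap B B' (c (e.symm i))) :
          MvPolynomial (ULift.{u} (Fin (Fintype.card ↥(Set.range j)ᶜ) ⊕ Fin n)) A →ₐ[A]
            B').toRingHom) =
          (ε : Localization.Away (algebraMap B (Localization.Away g₁) g₂) →+* B').comp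
            ((algebraMap (Localization.Away g₁)
              (Localization.Away (algebraMap B (Localization.Away g₁) g₂))).comp
            ((MvPolynomial.aeval (fun i => algebraMap B (Localization.Away g₁) (c (e.symm i))) :
              MvPolynomial (ULift.{u} (Fin (Fintype.card ↥(Set.range j)ᶜ) ⊕ Fin n)) A →ₐ[A]
                Localization.Away g₁).toRingHom)) := by
        apply MvPolynomial.ringHom_ext
        · intro a
          simp only [AlgHom.toRingHom_eq_coe, RingHom.coe_coe, MvPolynomial.aeval_C,
            RingHom.comp_apply]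
          rw [IsScalarTower.algebraMap_apply A B B', IsScalarTower.algebraMap_apply A B
            (Localization.Away g₁), ← IsScalarTower.algebraMap_apply B (Localization.Away g₁)
            (Localization.Away (algebraMap B (Localization.Away g₁) g₂))]
          exact (ε.commutes _).symm
        · intro i
          simp only [AlgHom.toRingHom_eq_coe, RingHom.coe_coe, MvPolynomial.aeval_X,
            RingHom.comp_apply]
          rw [← IsScalarTower.algebraMap_apply B (Localization.Away g₁)
            (Localization.Away (algebraMap B (Localization.Away g₁) g₂))]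
          exact (ε.commutes _).symm
      rw [heq]
      exact h4
    · have h5 := hgen₂ g₁ B'
      rw [h5]
      congr 1
      ext b
      constructor
      · rintro ⟨k, rfl⟩
        exact ⟨k, by show algebraMap B B' (c (e.symm ⟨Sum.inr k⟩)) = _; rw [he, hcj]⟩
      · rintro ⟨k, rfl⟩
        exact ⟨k, by show _ = algebraMap B B' (c (e.symm ⟨Sum.inr k⟩)); rw [he, hcj]⟩

end Groth.Agent.H11.SmoothPair
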