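import Mathlib
import Groth.Agent.H11.CoreReg
import Groth.Agent.H11.SmoothPair

/-!
# A smooth closed subscheme of a smooth scheme is cut out by a regular sequence (ring level)

`exists_regular_chart`: `A → B` smooth, `J ≤ q`, `(B/J)_q` formally smooth over `A`. Then there
are `h 0, …, h (n-1) ∈ J` and `g ∉ q` such that in `B' = B_g` the `h k` form a weakly regular
sequence generating `J B'`, and `B'/(h)` is étale over a polynomial ring over `A` in
`dim κ(q) ⊗ Ω - n` variables.

`exists_regular_of_formallyEtale_quotient`: if moreover `B/J` is formally étale over `A` (e.g. `J`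
is the ideal of a section), then `n = dim κ(q) ⊗ Ω`.
-/

set_option autoImplicit false

namespace Groth.Agent.H11.RegChart

open TensorProduct KaehlerDifferential IsLocalRing

universe u

variable {A B : Type u} [CommRing A] [CommRing B] [Algebra A B]

set_option maxHeartbeats 1600000 in
/-- **Smooth pairs are regular (ring level).** -/
theorem exists_regular_chart (J q : Ideal B) [q.IsPrime] (hJq : J ≤ q) (hJ : J.FG)
    [hp : (q.map (Ideal.Quotient.mk J)).IsPrime] [Algebra.Smooth A B]
    (hsm : Algebra.FormallySmooth A (Localization.AtPrime (q.map (Ideal.Quotient.mk J))))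
    (T : Type u) [CommRing T] [Algebra B T] [IsLocalization.AtPrime T q] [Algebra A T]
    [IsScalarTower A B T] [IsLocalRing T] :
    ∃ (n : ℕ) (h : Fin n → B), (∀ k, h k ∈ J) ∧ ∃ g ∉ q,
      ∀ (B' : Type u) [CommRing B'] [Algebra B B'] [IsLocalization.Away g B']
        [Algebra A B'] [IsScalarTower A B B'],
        RingTheory.Sequence.IsWeaklyRegular B' (List.ofFn fun k => algebraMap B B' (h k)) ∧
        J.map (algebraMap B B') = Ideal.span (Set.range fun k => algebraMap B B' (h k)) ∧
        ∃ (I' : Type u) (_ : Fintype I')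
          (ψ : MvPolynomial I' A →ₐ[A]
            (B' ⧸ Ideal.span (Set.range fun k => algebraMap B B' (h k)))),
          ψ.toRingHom.Etale ∧
          Fintype.card I' + n =
            Module.finrank (ResidueField T) (ResidueField T ⊗[T] Ω[T⁄A]) := by
  classical
  haveI : Algebra.FormallySmooth A B := inferInstance
  obtain ⟨n, f, d, hf, hgen, hdet⟩ := (Groth.Agent.H23.Jacobian.main (A := A) J q hJq hJ).mp hsm
  have hli := Groth.Agent.H11.JacLI.linearIndependent_of_det (A := A) q T f d hdet
  obtain ⟨g₁, hg₁, hcore⟩ := Groth.Agent.H11.CoreReg.core_multi_regular (A := A) q T f hli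
  obtain ⟨g₂, hg₂, hgen₂⟩ := Groth.Agent.H11.SmoothPair.exists_notMem_map_eq_span J q hJ f hf hgen
  refine ⟨n, f, hf, g₁ * g₂, Ideal.IsPrime.mul_notMem inferInstance hg₁ hg₂, ?_⟩
  intro B' _ _ _ _ _
  obtain ⟨hreg, I', hI', ψ, hψ, hcard⟩ := hcore g₂ B'
  exact ⟨hreg, hgen₂ g₁ B', I', hI', ψ, hψ, hcard⟩

/-- An algebra that is étale over a polynomial ring over `A` and formally unramified over `A` is
étale over the polynomial ring in no variables. -/
theorem card_eq_zero_of_etale_of_formallyUnramified {C : Type u} [CommRing C] [Algebra A C]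
    [Nontrivial C] [Algebra.FormallyUnramified A C] (I' : Type u) [Fintype I']
    (ψ : MvPolynomial I' A →ₐ[A] C) (hψ : ψ.toRingHom.Etale) : Fintype.card I' = 0 := by
  classical
  letI : Algebra (MvPolynomial I' A) C := ψ.toRingHom.toAlgebra
  haveI : IsScalarTower A (MvPolynomial I' A) C :=
    IsScalarTower.of_algebraMap_eq fun a => (ψ.commutes a).symm
  haveI : Algebra.Etale (MvPolynomial I' A) C := hψ
  haveI : Algebra.FormallyEtale (MvPolynomial I' A) C := inferInstance
  let b := ((KaehlerDifferential.mvPolynomialBasis A I').baseChange C).map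
    (tensorKaehlerEquivOfFormallyEtale A (MvPolynomial I' A) C)
  haveI : Subsingleton Ω[C⁄A] := inferInstance
  rw [Fintype.card_eq_zero_iff]
  refine ⟨fun i => ?_⟩
  exact b.ne_zero i (Subsingleton.elim _ _)

/-- Formal unramifiedness of `B/J` over `A` passes to `B'/JB'` for `B'` formally unramified over
`B`. -/
theorem formallyUnramified_quotient_map (J : Ideal B) [Algebra.FormallyUnramified A (B ⧸ J)]
    (B' : Type u) [CommRing B'] [Algebra B B'] [Algebra A B'] [IsScalarTower A B B']
    [Algebra.FormallyUnramified B B'] :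
    Algebra.FormallyUnramified A (B' ⧸ J.map (algebraMap B B')) := by
  haveI : Algebra.FormallyUnramified (B ⧸ J) ((B ⧸ J) ⊗[B] B') := inferInstance
  let e₃ := Algebra.TensorProduct.quotIdealMapEquivQuotTensor B' J
  haveI : Algebra.FormallyUnramified (B ⧸ J) (B' ⧸ J.map (algebraMap B B')) :=
    Algebra.FormallyUnramified.of_equiv (A := (B ⧸ J) ⊗[B] B') e₃.symm
  haveI : IsScalarTower A (B ⧸ J) (B' ⧸ J.map (algebraMap B B')) := by
    have key : ∀ a : A, algebraMap A (B' ⧸ J.map (algebraMap B B')) a =
        algebraMap (B ⧸ J) (B' ⧸ J.map (algebraMap B B')) (algebraMap A (B ⧸ J) a) := by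
      intro a
      have h0 := IsScalarTower.algebraMap_apply A B B' a
      show Ideal.Quotient.mk (J.map (algebraMap B B')) (algebraMap A B' a) =
        Ideal.Quotient.mk (J.map (algebraMap B B')) (algebraMap B B' (algebraMap A B a))
      rw [h0]
    exact IsScalarTower.of_algebraMap_eq key
  exact Algebra.FormallyUnramified.comp A (B ⧸ J) _

set_option maxHeartbeats 1600000 in
/-- **The ideal of an étale closed subscheme (e.g. a section) of a smooth scheme is generated by a
regular sequence of length the relative dimension (ring level).** -/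
theorem exists_regular_of_formallyEtale_quotient (J q : Ideal B) [q.IsPrime] (hJq : J ≤ q)
    (hJ : J.FG) [Algebra.Smooth A B] [Algebra.FormallyEtale A (B ⧸ J)]
    (T : Type u) [CommRing T] [Algebra B T] [IsLocalization.AtPrime T q] [Algebra A T]
    [IsScalarTower A B T] [IsLocalRing T] (d : ℕ)
    (hd : Module.finrank (ResidueField T) (ResidueField T ⊗[T] Ω[T⁄A]) = d) :
    ∃ (h : Fin d → B), (∀ k, h k ∈ J) ∧ ∃ g ∉ q,
      ∀ (B' : Type u) [CommRing B'] [Algebra B B'] [IsLocalization.Away g B']
        [Algebra A B'] [IsScalarTower A B B'],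
        RingTheory.Sequence.IsWeaklyRegular B' (List.ofFn fun k => algebraMap B B' (h k)) ∧
        J.map (algebraMap B B') = Ideal.span (Set.range fun k => algebraMap B B' (h k)) := by
  classical
  haveI hp : (q.map (Ideal.Quotient.mk J)).IsPrime :=
    Ideal.map_isPrime_of_surjective Ideal.Quotient.mk_surjective (by rw [Ideal.mk_ker]; exact hJq)
  have hsm : Algebra.FormallySmooth A (Localization.AtPrime (q.map (Ideal.Quotient.mk J))) := by
    haveI : Algebra.FormallySmooth A (B ⧸ J) := inferInstance
    haveI : Algebra.FormallySmooth (B ⧸ J) (Localization.AtPrime (q.map (Ideal.Quotient.mk J))) :=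
      Algebra.FormallySmooth.of_isLocalization (q.map (Ideal.Quotient.mk J)).primeCompl
    exact Algebra.FormallySmooth.comp _ (B ⧸ J) _
  obtain ⟨n, h, hh, g, hg, H⟩ := exists_regular_chart (A := A) J q hJq hJ hsm T
  -- compute `n` on `B_g`
  obtain ⟨-, hJB', I', hI', ψ, hψ, hcard⟩ := H (Localization.Away g)
  haveI : Algebra.FormallyUnramified A (B ⧸ J) := inferInstance
  haveI : Algebra.FormallyUnramified B (Localization.Away g) :=
    Algebra.FormallyUnramified.of_isLocalization (Submonoid.powers g)
  haveI hunr := formallyUnramified_quotient_map (A := A) J (Localization.Away g)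
  haveI : Algebra.FormallyUnramified A (Localization.Away g ⧸
      Ideal.span (Set.range fun k => algebraMap B (Localization.Away g) (h k))) :=
    Algebra.FormallyUnramified.of_equiv (Ideal.quotientEquivAlgOfEq A hJB')
  have hne : J.map (algebraMap B (Localization.Away g)) ≠ ⊤ := by
    rw [IsLocalization.map_algebraMap_ne_top_iff_disjoint (Submonoid.powers g)]
    rw [Set.disjoint_left]
    rintro x ⟨k, rfl⟩ hx
    exact hg (Ideal.IsPrime.mem_of_pow_mem inferInstance k (hJq hx))
  haveI : Nontrivial (Localization.Away g ⧸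
      Ideal.span (Set.range fun k => algebraMap B (Localization.Away g) (h k))) := by
    rw [← hJB']
    exact Ideal.Quotient.nontrivial_iff.mpr hne
  have h0 := card_eq_zero_of_etale_of_formallyUnramified (A := A) I' ψ hψ
  have hn : n = d := by omega
  subst hn
  exact ⟨h, hh, g, hg, fun B' _ _ _ _ _ => ⟨(H B').1, (H B').2.1⟩⟩

end Groth.Agent.H11.RegChart
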