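import Mathlib
import Groth.Agent.H11.RegChart
import Groth.Agent.H11.LciFittSch
import Groth.Agent.H7.LocalStd

/-!
# Étale closed subschemes (e.g. sections) of smooth schemes are regularly immersed

`exists_regular_of_etale`: `pX : X → S` smooth of relative dimension `d`, `pY : Y → S` étale,
`i : Y → X` a closed immersion over `S`. Around every point of `Y` there is an affine open `U` of
`X` on which the ideal of `Y` is generated by a weakly regular sequence of length `d`.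
-/

set_option autoImplicit false

namespace Groth.Agent.H11.SectionReg

open AlgebraicGeometry CategoryTheory Limits TensorProduct IsLocalRing KaehlerDifferential

universe u

/-- The fibre of `Ω[T/A]` at a localization `T` of `B`, when `Ω[B/A]` is free of rank `d`. -/
theorem finrank_fibre_of_basis {A B : Type u} [CommRing A] [CommRing B] [Algebra A B] {d : ℕ}
    (b : Module.Basis (Fin d) B Ω[B⁄A]) (q : Ideal B) [q.IsPrime] (T : Type u)
    [CommRing T] [Algebra B T] [IsLocalization.AtPrime T q] [Algebra A T]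
    [IsScalarTower A B T] [IsLocalRing T] :
    Module.finrank (ResidueField T) (ResidueField T ⊗[T] Ω[T⁄A]) = d := by
  haveI : Algebra.FormallyEtale B T := Algebra.FormallyEtale.of_isLocalization q.primeCompl
  let b₁ := (b.baseChange T).map (tensorKaehlerEquivOfFormallyEtale A B T)
  rw [Module.finrank_eq_card_basis (b₁.baseChange (ResidueField T)), Fintype.card_fin]

set_option maxHeartbeats 3200000 in
/-- **Étale closed subschemes of smooth schemes are regularly immersed.** -/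
theorem exists_regular_of_etale {S X Y : Scheme.{u}} (pX : X ⟶ S) (pY : Y ⟶ S) (d : ℕ)
    [SmoothOfRelativeDimension d pX] [Etale pY]
    (i : Y ⟶ X) [IsClosedImmersion i] (w : i ≫ pX = pY) (y : Y) :
    ∃ (U : X.Opens), IsAffineOpen U ∧ i.base y ∈ U ∧
      ∃ rs : Fin d → Γ(X, U), RingTheory.Sequence.IsWeaklyRegular Γ(X, U) (List.ofFn rs) ∧
        RingHom.ker (i.app U).hom = Ideal.span (Set.range rs) := by
  subst w
  obtain ⟨V₀, hV₀, U₀, hU₀, hxU₀, e₀, hstd⟩ :=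
    SmoothOfRelativeDimension.exists_isStandardSmoothOfRelativeDimension (n := d) (f := pX)
      (i.base y)
  letI algAB : Algebra Γ(S, V₀) Γ(X, U₀) := (pX.appLE V₀ U₀ e₀).hom.toAlgebra
  haveI : Algebra.IsStandardSmoothOfRelativeDimension d Γ(S, V₀) Γ(X, U₀) := hstd
  haveI : Nonempty U₀ := ⟨⟨_, hxU₀⟩⟩
  haveI : Nontrivial Γ(X, U₀) := inferInstance
  haveI : Algebra.IsStandardSmooth Γ(S, V₀) Γ(X, U₀) :=
    Algebra.IsStandardSmoothOfRelativeDimension.isStandardSmooth d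
  haveI hsmA : Algebra.Smooth Γ(S, V₀) Γ(X, U₀) := inferInstance
  have hrank := Algebra.IsStandardSmoothOfRelativeDimension.rank_kaehlerDifferential
    (R := Γ(S, V₀)) (S := Γ(X, U₀)) d
  have hfr : Module.finrank Γ(X, U₀) Ω[Γ(X, U₀)⁄Γ(S, V₀)] = d := Module.finrank_eq_of_rank_eq hrank
  let b₂ := Module.finBasisOfFinrankEq Γ(X, U₀) Ω[Γ(X, U₀)⁄Γ(S, V₀)] hfr
  -- `A → C` étale
  have hY₀ : IsAffineOpen (i ⁻¹ᵁ U₀) := hU₀.preimage i
  have eY : i ⁻¹ᵁ U₀ ≤ (i ≫ pX) ⁻¹ᵁ V₀ := fun z hz => e₀ hz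
  have hetY : Etale ((i ⁻¹ᵁ U₀).ι ≫ i ≫ pX) := inferInstance
  have : IsAffine (i ⁻¹ᵁ U₀).toScheme := hY₀
  have hQ' := HasRingHomProperty.appLE @Etale ((i ⁻¹ᵁ U₀).ι ≫ i ≫ pX) hetY ⟨V₀, hV₀⟩
    ⟨⊤, isAffineOpen_top _⟩
    (by rw [Scheme.Hom.comp_preimage]; intro z _; exact eY z.2)
  rw [Groth.Agent.H7.ι_comp_appLE_top (i ≫ pX) (i ⁻¹ᵁ U₀) V₀ eY, CommRingCat.hom_comp,
    RingHom.Etale.respectsIso.cancel_right_isIso] at hQ'
  letI algAC : Algebra Γ(S, V₀) Γ(Y, i ⁻¹ᵁ U₀) :=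
    ((i ≫ pX).appLE V₀ (i ⁻¹ᵁ U₀) eY).hom.toAlgebra
  haveI hetC : Algebra.Etale Γ(S, V₀) Γ(Y, i ⁻¹ᵁ U₀) := hQ'
  -- the surjection `B → C`
  have hcomm : ∀ a : Γ(S, V₀), (i.app U₀).hom (algebraMap Γ(S, V₀) Γ(X, U₀) a) =
      algebraMap Γ(S, V₀) Γ(Y, i ⁻¹ᵁ U₀) a := by
    intro a
    have h1 := Scheme.Hom.appLE_comp_appLE i pX V₀ U₀ (i ⁻¹ᵁ U₀) e₀ le_rfl
    rw [Scheme.Hom.appLE_eq_app] at h1
    have h2 := congrArg (fun φ => φ.hom a) h1
    exact h2
  let φ : Γ(X, U₀) →ₐ[Γ(S, V₀)] Γ(Y, i ⁻¹ᵁ U₀) :=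
    { (i.app U₀).hom with commutes' := hcomm }
  have hφ : ∀ b, φ b = (i.app U₀).hom b := fun b => rfl
  have hφsurj : Function.Surjective φ := i.app_surjective U₀ hU₀
  obtain ⟨J, hJdef⟩ : ∃ J : Ideal Γ(X, U₀), J = RingHom.ker φ := ⟨_, rfl⟩
  have hJmem : ∀ b, b ∈ J ↔ (i.app U₀).hom b = 0 := fun b => by
    rw [hJdef, RingHom.mem_ker]; rfl
  have hJker : J = RingHom.ker (i.app U₀).hom := by
    ext b; rw [hJmem, RingHom.mem_ker]
  have hJfg : J.FG := by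
    rw [hJdef]; exact Algebra.FinitePresentation.ker_fG_of_surjective φ hφsurj
  have hJq : J ≤ (hU₀.primeIdealOf ⟨i.base y, hxU₀⟩).asIdeal := by
    intro b hb
    by_contra hnot
    have h1 : i.base y ∈ X.basicOpen b :=
      (Groth.Agent.H7.mem_basicOpen_iff_notMem_primeIdealOf hU₀ _ hxU₀ b).mpr hnot
    have h2 : y ∈ i ⁻¹ᵁ X.basicOpen b := h1
    have h3 : i.app U₀ b = 0 := (hJmem b).mp hb
    rw [Scheme.preimage_basicOpen, h3, Scheme.basicOpen_zero] at h2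
    exact h2.elim
  haveI hetQ : Algebra.FormallyEtale Γ(S, V₀) (Γ(X, U₀) ⧸ J) := by
    let ε : (Γ(X, U₀) ⧸ J) ≃ₐ[Γ(S, V₀)] Γ(Y, i ⁻¹ᵁ U₀) :=
      (Ideal.quotientEquivAlgOfEq _ hJdef).trans (Ideal.quotientKerAlgEquivOfSurjective hφsurj)
    exact Algebra.FormallyEtale.of_equiv ε.symm
  -- the stalk
  letI algBT := X.presheaf.algebra_section_stalk ⟨i.base y, hxU₀⟩
  haveI locT := hU₀.isLocalization_stalk ⟨i.base y, hxU₀⟩
  letI algAT : Algebra Γ(S, V₀) (X.presheaf.stalk (i.base y)) :=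
    ((algebraMap Γ(X, U₀) (X.presheaf.stalk (i.base y))).comp
      (algebraMap Γ(S, V₀) Γ(X, U₀))).toAlgebra
  haveI : IsScalarTower Γ(S, V₀) Γ(X, U₀) (X.presheaf.stalk (i.base y)) :=
    IsScalarTower.of_algebraMap_eq' rfl
  have hd := finrank_fibre_of_basis (A := Γ(S, V₀)) b₂
    (hU₀.primeIdealOf ⟨i.base y, hxU₀⟩).asIdeal (X.presheaf.stalk (i.base y))
  obtain ⟨h, hJh, g, hg, H⟩ := Groth.Agent.H11.RegChart.exists_regular_of_formallyEtale_quotient
    (A := Γ(S, V₀)) J (hU₀.primeIdealOf ⟨i.base y, hxU₀⟩).asIdeal hJq hJfg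
    (X.presheaf.stalk (i.base y)) d hd
  have hxU : i.base y ∈ X.basicOpen g :=
    (Groth.Agent.H7.mem_basicOpen_iff_notMem_primeIdealOf hU₀ (i.base y) hxU₀ g).mpr hg
  have hU : IsAffineOpen (X.basicOpen g) := hU₀.basicOpen g
  have hUle : X.basicOpen g ≤ U₀ := X.basicOpen_le g
  haveI hloc : IsLocalization.Away g Γ(X, X.basicOpen g) := hU₀.isLocalization_basicOpen g
  letI algAB' : Algebra Γ(S, V₀) Γ(X, X.basicOpen g) :=
    (pX.appLE V₀ (X.basicOpen g) (hUle.trans e₀)).hom.toAlgebra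
  haveI : IsScalarTower Γ(S, V₀) Γ(X, U₀) Γ(X, X.basicOpen g) := by
    apply IsScalarTower.of_algebraMap_eq'
    show (pX.appLE V₀ (X.basicOpen g) (hUle.trans e₀)).hom =
      (X.presheaf.map (homOfLE hUle).op).hom.comp (pX.appLE V₀ U₀ e₀).hom
    rw [← CommRingCat.hom_comp, Scheme.Hom.appLE_map]
  obtain ⟨hreg, hJB'⟩ := H Γ(X, X.basicOpen g)
  refine ⟨X.basicOpen g, hU, hxU, fun k => algebraMap Γ(X, U₀) Γ(X, X.basicOpen g) (h k), hreg, ?_⟩
  rw [Groth.Agent.H11.LciFittSch.ker_app_basicOpen i hU₀ hY₀ g, ← hJker]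
  exact hJB'

end Groth.Agent.H11.SectionReg
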