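import Mathlib
import Groth.Prelude.Def_Flat
import Groth.Agent.H11.SmoothDim1

/-!
# Fibres of standard smooth algebras of relative dimension `n` have local dimension `n`
-/

set_option autoImplicit false

namespace Groth.Agent.H11.StdSmoothFibre

open TensorProduct

universe u

/-- A standard smooth algebra of relative dimension `n` over a field has local dimension `n` at
every point. -/
theorem localDim_eq_of_isStandardSmoothOfRelativeDimension (κ T : Type u) [Field κ] [CommRing T]
    [Algebra κ T] (n : ℕ) [Algebra.IsStandardSmoothOfRelativeDimension n κ T]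
    (Q : PrimeSpectrum T) :
    FlatMor.localDim (PrimeSpectrum T) Q = (n : WithBot ℕ∞) := by
  haveI : Nontrivial T := Q.nontrivial
  haveI : Algebra.IsStandardSmooth κ T :=
    Algebra.IsStandardSmoothOfRelativeDimension.isStandardSmooth n
  haveI : Algebra.Smooth κ T := inferInstance
  haveI : Algebra.FiniteType κ T := inferInstance
  haveI : Q.asIdeal.IsPrime := Q.2
  haveI : Algebra.FormallyEtale T (Localization.AtPrime Q.asIdeal) :=
    Algebra.FormallyEtale.of_isLocalization Q.asIdeal.primeCompl
  haveI : Algebra.IsSmoothAt κ Q.asIdeal :=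
    Algebra.FormallySmooth.comp κ T (Localization.AtPrime Q.asIdeal)
  have h := Groth.Agent.H11.SmoothDim1.localDim_eq_finrank_of_isSmoothAt κ Q.asIdeal
  have h2 : Module.finrank Q.asIdeal.ResidueField (Q.asIdeal.ResidueField ⊗[T] Ω[T⁄κ]) = n := by
    rw [Module.finrank_baseChange]
    exact Module.finrank_eq_of_rank_eq
      (Algebra.IsStandardSmoothOfRelativeDimension.rank_kaehlerDifferential n)
  rw [h2] at h
  exact h

/-- Fibres of a standard smooth algebra of relative dimension `n` have local dimension `n` at
every point. -/
theorem localDim_fiber_eq (R S : Type u) [CommRing R] [CommRing S] [Algebra R S] (n : ℕ)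
    [Algebra.IsStandardSmoothOfRelativeDimension n R S] (p : Ideal R) [p.IsPrime]
    (Q : PrimeSpectrum (p.Fiber S)) :
    FlatMor.localDim (PrimeSpectrum (p.Fiber S)) Q = (n : WithBot ℕ∞) :=
  localDim_eq_of_isStandardSmoothOfRelativeDimension p.ResidueField (p.Fiber S) n Q

end Groth.Agent.H11.StdSmoothFibre
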