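import Mathlib
import Groth.Agent.H11.RegChart
import Groth.Agent.H11.NzdSmooth2
import Groth.Agent.H11.LciFittSch
import Groth.Agent.H11.SectionReg
import Groth.Agent.H11.SmoothRelDim
import Groth.Agent.H7.LocalStd
import Groth.Agent.H44.ConormalH1
import Groth.Agent.H44.AffineFree
import Groth.Agent.H51.SmoothFibreDim
import Groth.Agent.H79.KoszulCone
import Groth.Agent.H94.KoszulH1

/-!
# Conormal sheaf of a smooth pair: free of rank the difference of fibre dimensions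

`main`: `f : X → Y` smooth, `j : X' → X` a quasi-compact immersion with `j ≫ f` smooth. Around
every point of `X'` the conormal sheaf of `j` is free of rank `n`, with
`dim_{j x} X_{f(j x)} = dim_x X'_{f(j x)} + n`.
-/

set_option autoImplicit false

namespace Groth.Agent.H11.ConormalRank

open AlgebraicGeometry CategoryTheory Limits TensorProduct IsLocalRing KaehlerDifferential

universe u

/-- The local fibre dimension of a smooth morphism of relative dimension `n` is `n`. -/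
theorem fibreDimAt_eq_of_smoothOfRelativeDimension {X Y : Scheme.{u}} (g : X ⟶ Y) (n : ℕ)
    [SmoothOfRelativeDimension n g] (x : X) : FlatMor.fibreDimAt g x = (n : WithBot ℕ∞) := by
  obtain ⟨V₀, hV₀, U₀, hU₀, hxU₀, e₀, hstd⟩ :=
    SmoothOfRelativeDimension.exists_isStandardSmoothOfRelativeDimension (n := n) (f := g) x
  exact Groth.Agent.H51.fibreDimAt_eq_of_isStandardSmoothOfRelativeDimension g n hV₀ hU₀ e₀ hstd
    x hxU₀

/-- A weakly regular sequence is `H_1`-regular. -/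
theorem isH1Regular_of_isWeaklyRegular {R : Type u} [CommRing R] {n : ℕ} (h : Fin n → R)
    (hreg : RingTheory.Sequence.IsWeaklyRegular R (List.ofFn h)) : CAlgX.IsH1Regular h := by
  have hk : LCI.IsKoszulRegularSeq R (List.ofFn h) := fun i hi =>
    Groth.Agent.H79.KoszulCone.isZero_homology_of_isWeaklyRegular (List.ofFn h) hreg i hi
  have h1 := Groth.Agent.H94.KoszulH1.isH1Regular_of_isKoszulRegularSeq (List.ofFn h) hk
  exact Groth.Agent.H39.RelRegAlg.isH1Regular_congr (List.length_ofFn (f := h)).symm _ h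
    (fun i => by simp) h1

open Groth.Agent.H44 in
set_option maxHeartbeats 6400000 in
/-- **Conormal sheaf of a smooth pair.** -/
theorem main {X' X Y : Scheme.{u}} (f : X ⟶ Y) [Smooth f]
    (j : X' ⟶ X) [IsImmersion j] [QuasiCompact j] [Smooth (j ≫ f)] (x : X') :
    ∃ (U : X'.Opens) (n : ℕ), x ∈ U ∧
      Nonempty ((Omega.conormal j).restrict U.ι ≅ FlatMod.freeMod (↑U) n) ∧
      FlatMor.fibreDimAt f (j.base x) = FlatMor.fibreDimAt (j ≫ f) x + (n : WithBot ℕ∞) := by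
  -- standard smooth chart at `j x`
  obtain ⟨V₀, hV₀, U₁, hU₁, hxU₁, e₁, hstd₁⟩ := Smooth.exists_isStandardSmooth f (j.base x)
  obtain ⟨d, hd⟩ := Groth.Agent.H51.exists_isStandardSmoothOfRelativeDimension _ hstd₁
  have hfd := Groth.Agent.H51.fibreDimAt_eq_of_isStandardSmoothOfRelativeDimension f d hV₀ hU₁ e₁
    hd (j.base x) hxU₁
  have hxc : j.base x ∈ j.coborderRange := subset_coborder ⟨x, rfl⟩
  obtain ⟨s, hsle, hxU₀⟩ := hU₁.exists_basicOpen_le ⟨j.base x, hxc⟩ hxU₁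
  replace hxU₀ : j.base x ∈ X.basicOpen s := hxU₀
  have hU₀ : IsAffineOpen (X.basicOpen s) := hU₁.basicOpen s
  have hU₀₁ : X.basicOpen s ≤ U₁ := X.basicOpen_le s
  have e₀ : X.basicOpen s ≤ f ⁻¹ᵁ V₀ := hU₀₁.trans e₁
  letI algAB₁ : Algebra Γ(Y, V₀) Γ(X, U₁) := (f.appLE V₀ U₁ e₁).hom.toAlgebra
  letI algAB : Algebra Γ(Y, V₀) Γ(X, X.basicOpen s) := (f.appLE V₀ (X.basicOpen s) e₀).hom.toAlgebra
  haveI : IsScalarTower Γ(Y, V₀) Γ(X, U₁) Γ(X, X.basicOpen s) := by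
    apply IsScalarTower.of_algebraMap_eq'
    show (f.appLE V₀ (X.basicOpen s) e₀).hom =
      (X.presheaf.map (homOfLE hU₀₁).op).hom.comp (f.appLE V₀ U₁ e₁).hom
    rw [← CommRingCat.hom_comp, Scheme.Hom.appLE_map]
  haveI hloc₀ : IsLocalization.Away s Γ(X, X.basicOpen s) := hU₁.isLocalization_basicOpen s
  haveI hsmA : Algebra.Smooth Γ(Y, V₀) Γ(X, X.basicOpen s) :=
    HasRingHomProperty.appLE @Smooth f inferInstance ⟨V₀, hV₀⟩ ⟨X.basicOpen s, hU₀⟩ e₀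
  -- differentials free of rank `d`
  haveI : Algebra.IsStandardSmoothOfRelativeDimension d Γ(Y, V₀) Γ(X, U₁) := hd
  haveI : Nonempty U₁ := ⟨⟨_, hxU₁⟩⟩
  haveI : Nontrivial Γ(X, U₁) := inferInstance
  haveI : Algebra.IsStandardSmooth Γ(Y, V₀) Γ(X, U₁) :=
    Algebra.IsStandardSmoothOfRelativeDimension.isStandardSmooth d
  have hrank := Algebra.IsStandardSmoothOfRelativeDimension.rank_kaehlerDifferential
    (R := Γ(Y, V₀)) (S := Γ(X, U₁)) d
  have hfr : Module.finrank Γ(X, U₁) Ω[Γ(X, U₁)⁄Γ(Y, V₀)] = d := Module.finrank_eq_of_rank_eq hrank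
  let b₁ := Module.finBasisOfFinrankEq Γ(X, U₁) Ω[Γ(X, U₁)⁄Γ(Y, V₀)] hfr
  haveI : Algebra.FormallyEtale Γ(X, U₁) Γ(X, X.basicOpen s) :=
    Algebra.FormallyEtale.of_isLocalization (Submonoid.powers s)
  let b₂ : Module.Basis (Fin d) Γ(X, X.basicOpen s) Ω[Γ(X, X.basicOpen s)⁄Γ(Y, V₀)] :=
    (b₁.baseChange Γ(X, X.basicOpen s)).map
      (tensorKaehlerEquivOfFormallyEtale Γ(Y, V₀) Γ(X, U₁) Γ(X, X.basicOpen s))
  -- the closed subscheme on the chart
  have hY₀ : IsAffineOpen (j ⁻¹ᵁ X.basicOpen s) :=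
    isAffineOpen_preimage_of_le_coborderRange j hU₀ hsle
  have eY : j ⁻¹ᵁ X.basicOpen s ≤ (j ≫ f) ⁻¹ᵁ V₀ := fun z hz => e₀ hz
  letI algAC : Algebra Γ(Y, V₀) Γ(X', j ⁻¹ᵁ X.basicOpen s) :=
    ((j ≫ f).appLE V₀ (j ⁻¹ᵁ X.basicOpen s) eY).hom.toAlgebra
  haveI : Algebra.FinitePresentation Γ(Y, V₀) Γ(X', j ⁻¹ᵁ X.basicOpen s) :=
    HasRingHomProperty.appLE @LocallyOfFinitePresentation (j ≫ f) inferInstance ⟨V₀, hV₀⟩
      ⟨j ⁻¹ᵁ X.basicOpen s, hY₀⟩ eY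
  have hcomm : ∀ a : Γ(Y, V₀), (j.app (X.basicOpen s)).hom
      (algebraMap Γ(Y, V₀) Γ(X, X.basicOpen s) a) =
      algebraMap Γ(Y, V₀) Γ(X', j ⁻¹ᵁ X.basicOpen s) a := by
    intro a
    have h1 := Scheme.Hom.appLE_comp_appLE j f V₀ (X.basicOpen s) (j ⁻¹ᵁ X.basicOpen s) e₀ le_rfl
    rw [Scheme.Hom.appLE_eq_app] at h1
    have h2 := congrArg (fun φ => φ.hom a) h1
    exact h2
  let φ : Γ(X, X.basicOpen s) →ₐ[Γ(Y, V₀)] Γ(X', j ⁻¹ᵁ X.basicOpen s) :=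
    { (j.app (X.basicOpen s)).hom with commutes' := hcomm }
  have hφsurj : Function.Surjective φ := app_surjective_of_le_coborderRange j hU₀ hsle
  obtain ⟨J, hJdef⟩ : ∃ J : Ideal Γ(X, X.basicOpen s), J = RingHom.ker φ := ⟨_, rfl⟩
  have hJker : J = RingHom.ker (j.app (X.basicOpen s)).hom := by rw [hJdef]; rfl
  have hJfg : J.FG := by
    rw [hJdef]; exact Algebra.FinitePresentation.ker_fG_of_surjective φ hφsurj
  have hyU₀ : x ∈ j ⁻¹ᵁ X.basicOpen s := hxU₀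
  have hqq : (hU₀.primeIdealOf ⟨j.base x, hxU₀⟩).asIdeal =
      (hY₀.primeIdealOf ⟨x, hyU₀⟩).asIdeal.comap φ := by
    have := IsAffineOpen.comap_primeIdealOf_appLE (X.basicOpen s) hU₀ (j ⁻¹ᵁ X.basicOpen s) hY₀
      le_rfl hyU₀ (f := j)
    rw [Scheme.Hom.appLE_eq_app] at this
    exact congrArg PrimeSpectrum.asIdeal this.symm
  have hJq : J ≤ (hU₀.primeIdealOf ⟨j.base x, hxU₀⟩).asIdeal := by
    intro b hb
    rw [hqq, Ideal.mem_comap]
    rw [hJdef, RingHom.mem_ker] at hb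
    rw [hb]
    exact Ideal.zero_mem _
  haveI hp : ((hU₀.primeIdealOf ⟨j.base x, hxU₀⟩).asIdeal.map (Ideal.Quotient.mk J)).IsPrime :=
    Groth.Agent.H11.NzdSmooth2.isPrime_map_mk _ _ hJq
  have hy : x ∈ (j ≫ f).smoothLocus := by
    rw [(Scheme.Hom.smoothLocus_eq_top_iff (f := j ≫ f)).mpr inferInstance]; trivial
  have hsmC : Algebra.FormallySmooth Γ(Y, V₀)
      (Localization.AtPrime (hY₀.primeIdealOf ⟨x, hyU₀⟩).asIdeal) :=
    (formallySmooth_stalkMap_iff V₀ hV₀ (j ⁻¹ᵁ X.basicOpen s) hY₀ eY hyU₀).mp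
      (Scheme.Hom.mem_smoothLocus.mp hy)
  have hsmQ : Algebra.FormallySmooth Γ(Y, V₀) (Localization.AtPrime
      ((hU₀.primeIdealOf ⟨j.base x, hxU₀⟩).asIdeal.map (Ideal.Quotient.mk J))) :=
    (Groth.Agent.H11.NzdSmooth2.smAt_iff (A := Γ(Y, V₀)) φ hφsurj J hJdef
      (hU₀.primeIdealOf ⟨j.base x, hxU₀⟩).asIdeal (hY₀.primeIdealOf ⟨x, hyU₀⟩).asIdeal
      hqq).mpr hsmC hp
  -- the stalk
  letI algBT := X.presheaf.algebra_section_stalk ⟨j.base x, hxU₀⟩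
  haveI locT := hU₀.isLocalization_stalk ⟨j.base x, hxU₀⟩
  letI algAT : Algebra Γ(Y, V₀) (X.presheaf.stalk (j.base x)) :=
    ((algebraMap Γ(X, X.basicOpen s) (X.presheaf.stalk (j.base x))).comp
      (algebraMap Γ(Y, V₀) Γ(X, X.basicOpen s))).toAlgebra
  haveI : IsScalarTower Γ(Y, V₀) Γ(X, X.basicOpen s) (X.presheaf.stalk (j.base x)) :=
    IsScalarTower.of_algebraMap_eq' rfl
  have hdT := Groth.Agent.H11.SectionReg.finrank_fibre_of_basis (A := Γ(Y, V₀)) b₂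
    (hU₀.primeIdealOf ⟨j.base x, hxU₀⟩).asIdeal (X.presheaf.stalk (j.base x))
  obtain ⟨n, h, hJh, g, hg, H⟩ := Groth.Agent.H11.RegChart.exists_regular_chart
    (A := Γ(Y, V₀)) J (hU₀.primeIdealOf ⟨j.base x, hxU₀⟩).asIdeal hJq hJfg hsmQ
    (X.presheaf.stalk (j.base x))
  have hxU : j.base x ∈ X.basicOpen g :=
    (Groth.Agent.H7.mem_basicOpen_iff_notMem_primeIdealOf hU₀ (j.base x) hxU₀ g).mpr hg
  have hU : IsAffineOpen (X.basicOpen g) := hU₀.basicOpen g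
  have hUle : X.basicOpen g ≤ X.basicOpen s := X.basicOpen_le g
  haveI hloc : IsLocalization.Away g Γ(X, X.basicOpen g) := hU₀.isLocalization_basicOpen g
  letI algAB' : Algebra Γ(Y, V₀) Γ(X, X.basicOpen g) :=
    (f.appLE V₀ (X.basicOpen g) (hUle.trans e₀)).hom.toAlgebra
  haveI : IsScalarTower Γ(Y, V₀) Γ(X, X.basicOpen s) Γ(X, X.basicOpen g) := by
    apply IsScalarTower.of_algebraMap_eq'
    show (f.appLE V₀ (X.basicOpen g) (hUle.trans e₀)).hom =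
      (X.presheaf.map (homOfLE hUle).op).hom.comp (f.appLE V₀ (X.basicOpen s) e₀).hom
    rw [← CommRingCat.hom_comp, Scheme.Hom.appLE_map]
  obtain ⟨hreg, hJB', I', hI', ψ, hψ, hcard⟩ := H Γ(X, X.basicOpen g)
  have hkerU : RingHom.ker (j.app (X.basicOpen g)).hom =
      Ideal.span (Set.range fun k =>
        algebraMap Γ(X, X.basicOpen s) Γ(X, X.basicOpen g) (h k)) := by
    rw [Groth.Agent.H11.LciFittSch.ker_app_basicOpen j hU₀ hY₀ g, ← hJker]
    exact hJB'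
  have hUc : X.basicOpen g ≤ j.coborderRange := hUle.trans hsle
  have hU' : IsAffineOpen (j ⁻¹ᵁ X.basicOpen g) :=
    isAffineOpen_preimage_of_le_coborderRange j hU hUc
  have hxU' : x ∈ j ⁻¹ᵁ X.basicOpen g := hxU
  refine ⟨j ⁻¹ᵁ X.basicOpen g, n, hxU', ?_, ?_⟩
  · -- the conormal sheaf is free of rank `n`
    letI algB'C' : Algebra Γ(X, X.basicOpen g) Γ(X', j ⁻¹ᵁ X.basicOpen g) :=
      (j.appLE (X.basicOpen g) (j ⁻¹ᵁ X.basicOpen g) le_rfl).hom.toAlgebra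
    have hAB' : Function.Surjective
        (algebraMap Γ(X, X.basicOpen g) Γ(X', j ⁻¹ᵁ X.basicOpen g)) := by
      change Function.Surjective (j.appLE (X.basicOpen g) (j ⁻¹ᵁ X.basicOpen g) le_rfl).hom
      rw [Scheme.Hom.appLE_eq_app]
      exact app_surjective_of_le_coborderRange j hU hUc
    have hI : RingHom.ker (algebraMap Γ(X, X.basicOpen g) Γ(X', j ⁻¹ᵁ X.basicOpen g)) =
        Ideal.span (Set.range fun k =>
          algebraMap Γ(X, X.basicOpen s) Γ(X, X.basicOpen g) (h k)) := by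
      change RingHom.ker (j.appLE (X.basicOpen g) (j ⁻¹ᵁ X.basicOpen g) le_rfl).hom = _
      rw [Scheme.Hom.appLE_eq_app]
      exact hkerU
    have hH1 := isH1Regular_of_isWeaklyRegular _ hreg
    let Φ : (Fin n → Γ(X', j ⁻¹ᵁ X.basicOpen g)) ≃ₗ[Γ(X', j ⁻¹ᵁ X.basicOpen g)]
        Γ(X', j ⁻¹ᵁ X.basicOpen g) ⊗[Γ(X, X.basicOpen g)]
          (RingHom.ker (algebraMap Γ(X, X.basicOpen g) Γ(X', j ⁻¹ᵁ X.basicOpen g))) :=
      LinearEquiv.ofBijective (kerGenMap _ hI)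
        ⟨kerGenMap_injective hAB' _ hH1 hI, kerGenMap_surjective hAB' _ hI⟩
    let E := conormalEquiv j hU hU' le_rfl le_rfl
    let b : Module.Basis (Fin n) Γ(X', j ⁻¹ᵁ X.basicOpen g)
        Γ(Omega.conormal j, j ⁻¹ᵁ X.basicOpen g) :=
      (Pi.basisFun Γ(X', j ⁻¹ᵁ X.basicOpen g) (Fin n)).map (Φ ≪≫ₗ E.symm)
    haveI : (Omega.conormal j).IsQuasicoherent := isQuasicoherent_conormal j
    exact nonempty_iso_freeMod_of_basis (Omega.conormal j) hU' b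
  · -- the dimension formula
    rw [hfd]
    have eY' : j ⁻¹ᵁ X.basicOpen g ≤ (j ≫ f) ⁻¹ᵁ V₀ := fun z hz => e₀ (hUle hz)
    letI algAC' : Algebra Γ(Y, V₀) Γ(X', j ⁻¹ᵁ X.basicOpen g) :=
      ((j ≫ f).appLE V₀ (j ⁻¹ᵁ X.basicOpen g) eY').hom.toAlgebra
    have hcomm' : ∀ a : Γ(Y, V₀), (j.app (X.basicOpen g)).hom
        (algebraMap Γ(Y, V₀) Γ(X, X.basicOpen g) a) =
        algebraMap Γ(Y, V₀) Γ(X', j ⁻¹ᵁ X.basicOpen g) a := by
      intro a
      have h1 := Scheme.Hom.appLE_comp_appLE j f V₀ (X.basicOpen g) (j ⁻¹ᵁ X.basicOpen g)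
        (hUle.trans e₀) le_rfl
      rw [Scheme.Hom.appLE_eq_app] at h1
      have h2 := congrArg (fun φ => φ.hom a) h1
      exact h2
    let φ' : Γ(X, X.basicOpen g) →ₐ[Γ(Y, V₀)] Γ(X', j ⁻¹ᵁ X.basicOpen g) :=
      { (j.app (X.basicOpen g)).hom with commutes' := hcomm' }
    have hφ'surj : Function.Surjective φ' := app_surjective_of_le_coborderRange j hU hUc
    have hkerφ' : Ideal.span (Set.range fun k =>
        algebraMap Γ(X, X.basicOpen s) Γ(X, X.basicOpen g) (h k)) = RingHom.ker φ' := by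
      rw [← hkerU]; rfl
    let ε : (Γ(X, X.basicOpen g) ⧸ Ideal.span (Set.range fun k =>
        algebraMap Γ(X, X.basicOpen s) Γ(X, X.basicOpen g) (h k))) ≃ₐ[Γ(Y, V₀)]
        Γ(X', j ⁻¹ᵁ X.basicOpen g) :=
      (Ideal.quotientEquivAlgOfEq _ hkerφ').trans (Ideal.quotientKerAlgEquivOfSurjective hφ'surj)
    let ψ' : MvPolynomial I' Γ(Y, V₀) →ₐ[Γ(Y, V₀)] Γ(X', j ⁻¹ᵁ X.basicOpen g) :=
      ε.toAlgHom.comp ψ
    have hψ' : ψ'.toRingHom.Etale :=
      RingHom.Etale.respectsIso.1 ψ.toRingHom ε.toRingEquiv hψ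
    haveI hsd : SmoothOfRelativeDimension (Fintype.card I')
        (Spec.map ((j ≫ f).appLE V₀ (j ⁻¹ᵁ X.basicOpen g) eY')) :=
      Groth.Agent.H11.SmoothRelDim.smoothOfRelativeDimension_of_etale_chart I' ψ' hψ'
    have h1 := Groth.Agent.H17.Chev.fibreDimAt_eq_of_isOpenImmersion (j ≫ f)
      (Spec.map ((j ≫ f).appLE V₀ (j ⁻¹ᵁ X.basicOpen g) eY'))
      hU'.fromSpec hV₀.fromSpec hV₀.fromSpec.isOpenEmbedding.injective
      (hV₀.SpecMap_appLE_fromSpec (j ≫ f) hU' eY') (hU'.primeIdealOf ⟨x, hxU'⟩)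
    rw [hU'.fromSpec_primeIdealOf ⟨x, hxU'⟩] at h1
    rw [← h1, fibreDimAt_eq_of_smoothOfRelativeDimension _ (Fintype.card I')]
    rw [hdT] at hcard
    rw [← hcard]
    push_cast
    rfl

end Groth.Agent.H11.ConormalRank
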