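import Mathlib

/-!
# Formal smoothness of a local homomorphism via the cotangent map

`k → R → S` with `R`, `S` formally smooth over the field `k`, `S` local with residue field `k`,
`R → S` a local homomorphism.  Then `S` is formally smooth over `R` iff the cotangent map
`m_R/m_R² → m_S/m_S²` is injective (`formallySmooth_iff_forall_mem_sq`).
-/

set_option autoImplicit false
universe u
open TensorProduct KaehlerDifferential IsLocalRing

namespace Groth.Agent.H11.CotSmooth

section general

variable (k R S : Type u) [Field k] [CommRing R] [CommRing S] [Algebra k R] [Algebra k S]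
  [Algebra R S] [IsScalarTower k R S]

theorem subsingleton_h1Cotangent_of_injective [Algebra.FormallySmooth k S]
    (hψ : Function.Injective (mapBaseChange k R S)) : Subsingleton (Algebra.H1Cotangent R S) := by
  have h1 : Function.Exact (Algebra.H1Cotangent.map k R S S) (Algebra.H1Cotangent.δ k R S) :=
    Algebra.H1Cotangent.exact_map_δ k R S
  have h2 : Function.Exact (Algebra.H1Cotangent.δ k R S) (mapBaseChange k R S) :=
    Algebra.H1Cotangent.exact_δ_mapBaseChange k R S
  have hδ0 : ∀ x, Algebra.H1Cotangent.δ k R S x = 0 := by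
    intro x
    apply hψ
    rw [map_zero]
    exact h2.apply_apply_eq_zero x
  have hδinj : Function.Injective (Algebra.H1Cotangent.δ k R S) := by
    rw [← LinearMap.ker_eq_bot, LinearMap.exact_iff.mp h1]
    rw [LinearMap.range_eq_bot]
    ext x
    rw [Subsingleton.elim x 0, map_zero, map_zero]
  constructor
  intro x y
  apply hδinj
  rw [hδ0 x, hδ0 y]

/-- `S` is formally smooth over `R` iff `S ⊗ Ω[R/k] → Ω[S/k]` is a split injection. -/
theorem formallySmooth_iff_split [Algebra.FormallySmooth k S] :
    Algebra.FormallySmooth R S ↔ ∃ l', l' ∘ₗ (mapBaseChange k R S) = LinearMap.id := by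
  have hex : Function.Exact (mapBaseChange k R S) (KaehlerDifferential.map k R S S) :=
    KaehlerDifferential.exact_mapBaseChange_map k R S
  have hsurj : Function.Surjective (KaehlerDifferential.map k R S S) :=
    KaehlerDifferential.map_surjective k R S
  constructor
  · intro h
    have hinj : Function.Injective (mapBaseChange k R S) := by
      have h2 := Algebra.H1Cotangent.exact_δ_mapBaseChange k R S
      rw [injective_iff_map_eq_zero]
      intro x hx
      obtain ⟨y, rfl⟩ := (h2 x).mp hx
      rw [Subsingleton.elim y 0, map_zero]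
    obtain ⟨s, hs⟩ := Module.projective_lifting_property (KaehlerDifferential.map k R S S)
      LinearMap.id hsurj
    have htfae := (hex.split_tfae hinj hsurj).out 0 1
    exact htfae.mp ⟨s, hs⟩
  · rintro ⟨l', hl'⟩
    have hinj : Function.Injective (mapBaseChange k R S) :=
      Function.HasLeftInverse.injective ⟨l', LinearMap.congr_fun hl'⟩
    have htfae := (hex.split_tfae hinj hsurj).out 0 1
    obtain ⟨s, hs⟩ := htfae.mpr ⟨l', hl'⟩
    exact ⟨Module.Projective.of_split s (KaehlerDifferential.map k R S S) hs,
      subsingleton_h1Cotangent_of_injective k R S hinj⟩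

end general

section loc

variable (k R S : Type u) [Field k] [CommRing R] [CommRing S] [Algebra k R] [Algebra k S]
  [Algebra R S] [IsScalarTower k R S] [IsLocalRing S]

theorem formallySmooth_iff_injective_lTensor [Algebra.FormallySmooth k R]
    [Algebra.FormallySmooth k S] [Module.Finite R Ω[R⁄k]] [Module.Finite S Ω[S⁄k]] :
    Algebra.FormallySmooth R S ↔
      Function.Injective ((mapBaseChange k R S).lTensor (ResidueField S)) := by
  rw [formallySmooth_iff_split k R S]
  haveI : Module.Free S Ω[S⁄k] := Module.free_of_flat_of_isLocalRing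
  exact IsLocalRing.split_injective_iff_lTensor_residueField_injective _

/-- the map `κ ⊗_R Ω[R/k] → κ ⊗_S Ω[S/k]`, `κ` the residue field of `S`. -/
noncomputable def Ψ : (ResidueField S) ⊗[R] Ω[R⁄k] →ₗ[ResidueField S] (ResidueField S) ⊗[S] Ω[S⁄k] :=
  ((mapBaseChange k R S).baseChange (ResidueField S)) ∘ₗ
    (TensorProduct.AlgebraTensorModule.cancelBaseChange R S (ResidueField S) (ResidueField S)
      Ω[R⁄k]).symm.toLinearMap

theorem Ψ_tmul (c : ResidueField S) (a : R) :
    Ψ k R S (c ⊗ₜ D k R a) = c ⊗ₜ D k S (algebraMap R S a) := by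
  simp [Ψ]

theorem injective_lTensor_iff :
    Function.Injective ((mapBaseChange k R S).lTensor (ResidueField S)) ↔
      Function.Injective (Ψ k R S) := by
  have h1 : (Ψ k R S : _ → _) = ((mapBaseChange k R S).lTensor (ResidueField S)) ∘
      (TensorProduct.AlgebraTensorModule.cancelBaseChange R S (ResidueField S) (ResidueField S)
        Ω[R⁄k]).symm := by
    ext z
    simp [Ψ, LinearMap.baseChange_eq_ltensor]
  rw [h1]
  exact (Function.Injective.of_comp_iff' _ (LinearEquiv.bijective _)).symm

end loc

section pt

variable (k P κ : Type u) [Field k] [CommRing P] [Field κ] [Algebra k P] [Algebra k κ]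
  [Algebra P κ] [IsScalarTower k P κ] [Algebra.FormallySmooth k P]

include k in
theorem tmul_D_eq_zero_iff (hk : Function.Bijective (algebraMap k κ))
    (hP : Function.Surjective (algebraMap P κ)) (a : P) (ha : a ∈ RingHom.ker (algebraMap P κ)) :
    (1 : κ) ⊗ₜ[P] D k P a = 0 ↔ a ∈ (RingHom.ker (algebraMap P κ)) ^ 2 := by
  haveI : Algebra.FormallySmooth k κ :=
    Algebra.FormallySmooth.of_equiv (AlgEquiv.ofBijective (Algebra.ofId k κ) hk)
  have hinj : Function.Injective (kerCotangentToTensor k P κ) :=
    (Algebra.FormallySmooth.kerCotangentToTensor_injective_iff hP).mpr inferInstance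
  rw [← Ideal.toCotangent_eq_zero _ ⟨a, ha⟩, ← kerCotangentToTensor_toCotangent k P κ ⟨a, ha⟩]
  exact ⟨fun h => hinj (by rw [h, map_zero]), fun h => by rw [h, map_zero]⟩

omit [Algebra.FormallySmooth k P] in
include k in
theorem exists_tmul_D_eq (hk : Function.Bijective (algebraMap k κ))
    (hP : Function.Surjective (algebraMap P κ)) (z : κ ⊗[P] Ω[P⁄k]) :
    ∃ a : P, a ∈ RingHom.ker (algebraMap P κ) ∧ z = (1 : κ) ⊗ₜ[P] D k P a := by
  haveI : Subsingleton Ω[κ⁄k] := KaehlerDifferential.subsingleton_of_surjective k κ hk.2
  have hex := exact_kerCotangentToTensor_mapBaseChange k P κ hP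
  obtain ⟨t, ht⟩ := (hex z).mp (Subsingleton.elim _ _)
  obtain ⟨a, rfl⟩ := Ideal.toCotangent_surjective _ t
  exact ⟨a.1, a.2, by rw [← ht, kerCotangentToTensor_toCotangent]⟩

end pt

section main

variable (k R S : Type u) [Field k] [CommRing R] [CommRing S] [Algebra k R] [Algebra k S]
  [Algebra R S] [IsScalarTower k R S] [IsLocalRing R] [IsLocalRing S]
  [IsLocalHom (algebraMap R S)]

theorem ker_algebraMap_residueField_S :
    RingHom.ker (algebraMap S (ResidueField S)) = maximalIdeal S := by
  rw [ResidueField.algebraMap_eq, ker_residue]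

theorem ker_algebraMap_residueField_R :
    RingHom.ker (algebraMap R (ResidueField S)) = maximalIdeal R := by
  ext a
  rw [RingHom.mem_ker, IsScalarTower.algebraMap_apply R S (ResidueField S),
    ResidueField.algebraMap_eq, residue_eq_zero_iff, mem_maximalIdeal, mem_maximalIdeal,
    mem_nonunits_iff, mem_nonunits_iff, not_iff_not]
  exact ⟨fun h => isUnit_of_map_unit (algebraMap R S) a h, fun h => h.map _⟩

/-- **Formal smoothness via the cotangent map.** -/
theorem formallySmooth_iff_forall_mem_sq [Algebra.FormallySmooth k R]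
    [Algebra.FormallySmooth k S] [Module.Finite R Ω[R⁄k]] [Module.Finite S Ω[S⁄k]]
    (hk : Function.Bijective (algebraMap k (ResidueField S))) :
    Algebra.FormallySmooth R S ↔
      ∀ a ∈ maximalIdeal R, algebraMap R S a ∈ maximalIdeal S ^ 2 → a ∈ maximalIdeal R ^ 2 := by
  rw [formallySmooth_iff_injective_lTensor k R S, injective_lTensor_iff k R S]
  have hS : Function.Surjective (algebraMap S (ResidueField S)) := by
    rw [ResidueField.algebraMap_eq]; exact residue_surjective
  have hR : Function.Surjective (algebraMap R (ResidueField S)) := by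
    intro c
    obtain ⟨c', rfl⟩ := hk.2 c
    exact ⟨algebraMap k R c', by rw [← IsScalarTower.algebraMap_apply]⟩
  have kS := ker_algebraMap_residueField_S S
  have kR := ker_algebraMap_residueField_R R S
  constructor
  · intro hΨ a ha hφa
    have ha' : a ∈ RingHom.ker (algebraMap R (ResidueField S)) := by rw [kR]; exact ha
    have hφa' : algebraMap R S a ∈ RingHom.ker (algebraMap S (ResidueField S)) := by
      rw [kS]; exact Ideal.pow_le_self two_ne_zero hφa
    have h1 : (1 : ResidueField S) ⊗ₜ[S] D k S (algebraMap R S a) = 0 := by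
      rw [tmul_D_eq_zero_iff k S (ResidueField S) hk hS _ hφa', kS]
      exact hφa
    have h2 : (1 : ResidueField S) ⊗ₜ[R] D k R a = 0 := by
      apply hΨ
      rw [Ψ_tmul, h1, map_zero]
    rw [tmul_D_eq_zero_iff k R (ResidueField S) hk hR _ ha', kR] at h2
    exact h2
  · intro h
    rw [injective_iff_map_eq_zero]
    intro z hz
    obtain ⟨a, ha, rfl⟩ := exists_tmul_D_eq k R (ResidueField S) hk hR z
    rw [Ψ_tmul] at hz
    have ha' : a ∈ maximalIdeal R := by rw [← kR]; exact ha
    have hφa' : algebraMap R S a ∈ RingHom.ker (algebraMap S (ResidueField S)) := by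
      rw [kS, mem_maximalIdeal, mem_nonunits_iff]
      rw [mem_maximalIdeal, mem_nonunits_iff] at ha'
      exact fun hu => ha' (isUnit_of_map_unit _ a hu)
    rw [tmul_D_eq_zero_iff k S (ResidueField S) hk hS _ hφa', kS] at hz
    have := h a ha' hz
    rw [tmul_D_eq_zero_iff k R (ResidueField S) hk hR _ ha, kR]
    exact this

end main

end Groth.Agent.H11.CotSmooth
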