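import Mathlib
import Groth.Prelude.Def_Flat
import Groth.Agent.H48.FieldDim2

/-!
# Local dimension of equidimensional schemes locally of finite type over a field

`localDim_eq_of_equidim`: if every irreducible component of `X` (locally of finite type over a
field) has dimension `n`, then the local dimension of `X` at every point is `n`.
-/

set_option autoImplicit false
universe u
open CategoryTheory CategoryTheory.Limits AlgebraicGeometry TopologicalSpace

namespace Groth.Agent.H11.Equidim

open Groth.Agent.H48.FieldDim Groth.Agent.H48.FieldDim2

variable {k : Type u} [Field k] {X : Scheme.{u}} (g : X ⟶ Spec (CommRingCat.of k))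
  [LocallyOfFiniteType g]

/-- every point lies in the closure of a point `η` whose closure is an irreducible component. -/
theorem exists_generic_component (x : X) :
    ∃ η : X, closure ({η} : Set X) ∈ irreducibleComponents (X : Type u) ∧ η ⤳ x := by
  have hirr : IsIrreducible (irreducibleComponent x) := isIrreducible_irreducibleComponent
  have hcl : IsClosed (irreducibleComponent x) := isClosed_irreducibleComponent
  obtain ⟨η, hη⟩ := QuasiSober.sober hirr hcl
  refine ⟨η, ?_, ?_⟩
  · rw [hη.def]
    exact irreducibleComponent_mem_irreducibleComponents x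
  · rw [specializes_iff_mem_closure, hη.def]
    exact mem_irreducibleComponent

include g in
theorem localDim_eq_of_equidim (n : ℕ)
    (h : ∀ Z ∈ irreducibleComponents (X : Type u), topologicalKrullDim Z = n) (x : X) :
    FlatMor.localDim X x = n := by
  haveI : JacobsonSpace X := LocallyOfFiniteType.jacobsonSpace g
  have hgen : ∀ η : X, closure ({η} : Set X) ∈ irreducibleComponents (X : Type u) →
      (((δ g η).toNat : ℕ∞) : WithBot ℕ∞) = n := by
    intro η hη
    rw [← topologicalKrullDim_closure_eq g η]
    exact h _ hη
  have hdim : ∀ U : Opens X, x ∈ U → topologicalKrullDim ↥(U : Set X) = n := by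
    intro U hxU
    rw [topologicalKrullDim_eq_iSup_of_isLocallyClosed g (U : Set X) U.2.isLocallyClosed]
    apply le_antisymm
    · refine iSup_le fun z => ?_
      obtain ⟨η, hη, hsp⟩ := exists_generic_component z.1
      rw [← hgen η hη]
      have h1 := Groth.Agent.H48.CycDim6.delta_mono X (δ g) (isDimFun g) hsp
      have h2 : (δ g z.1).toNat ≤ (δ g η).toNat := Int.toNat_le_toNat h1
      exact_mod_cast h2
    · obtain ⟨η, hη, hsp⟩ := exists_generic_component x
      rw [← hgen η hη]
      exact le_iSup (fun z : (U : Set X) => (((δ g z.1).toNat : ℕ∞) : WithBot ℕ∞))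
        ⟨η, hsp.mem_open U.2 hxU⟩
  unfold FlatMor.localDim
  apply le_antisymm
  · exact (iInf_le _ (⟨⊤, trivial⟩ : {U : Opens X // x ∈ U})).trans (hdim ⊤ trivial).le
  · exact le_iInf fun U => (hdim U.1 U.2).ge

end Groth.Agent.H11.Equidim
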