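import Mathlib

/-!
# Smoothness of `A → B` from ranks of differentials (Jacobi–Zariski)

`formallySmooth_of_finrank`: `k → A → B`, `A`, `B` formally smooth over `k`, `B → L` injective into a
field, `Ω[B/A]` free of rank `n`, `dim_L L ⊗ Ω[B/k] = a + n`, `dim_L L ⊗_A Ω[A/k] = a`.  Then `B` is
formally smooth over `A`.
-/

set_option autoImplicit false
universe u
open TensorProduct KaehlerDifferential

namespace Groth.Agent.H11.JZSmooth

variable (k A B L : Type u) [Field k] [CommRing A] [CommRing B] [Algebra k A] [Algebra k B]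
  [Algebra A B] [IsScalarTower k A B] [Field L] [Algebra B L] [Algebra A L] [IsScalarTower A B L]

/-- injectivity of `mapBaseChange` from a dimension count over a field `L ⊇ B`. -/
theorem injective_mapBaseChange [Algebra.FormallySmooth k A]
    (hinj : Function.Injective (algebraMap B L)) (n a : ℕ)
    [Module.Finite B Ω[B⁄k]] [Module.Finite A Ω[A⁄k]]
    (b : Module.Basis (Fin n) B Ω[B⁄A])
    (hB : Module.finrank L (L ⊗[B] Ω[B⁄k]) = a + n)
    (hA : Module.finrank L (L ⊗[A] Ω[A⁄k]) = a) :
    Function.Injective (mapBaseChange k A B) := by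
  set ψ : B ⊗[A] Ω[A⁄k] →ₗ[B] Ω[B⁄k] := mapBaseChange k A B with hψ
  set π : Ω[B⁄k] →ₗ[B] Ω[B⁄A] := KaehlerDifferential.map k A B B with hπ
  have hex : Function.Exact ψ π := KaehlerDifferential.exact_mapBaseChange_map k A B
  have hsurj : Function.Surjective π := KaehlerDifferential.map_surjective k A B
  let ψL : L ⊗[B] (B ⊗[A] Ω[A⁄k]) →ₗ[L] L ⊗[B] Ω[B⁄k] := ψ.baseChange L
  let πL : L ⊗[B] Ω[B⁄k] →ₗ[L] L ⊗[B] Ω[B⁄A] := π.baseChange L
  have hexL : Function.Exact ψL πL := by
    have := lTensor_exact L hex hsurj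
    intro y
    have h1 := this y
    simpa [ψL, πL, LinearMap.baseChange_eq_ltensor] using h1
  have hsurjL : Function.Surjective πL := by
    have := LinearMap.lTensor_surjective L hsurj
    intro y
    obtain ⟨z, hz⟩ := this y
    exact ⟨z, by simpa [πL, LinearMap.baseChange_eq_ltensor] using hz⟩
  -- dimensions
  haveI : Nontrivial B := (algebraMap B L).domain_nontrivial
  haveI : Module.Free B Ω[B⁄A] := Module.Free.of_basis b
  have hC : Module.finrank L (L ⊗[B] Ω[B⁄A]) = n := by
    rw [Module.finrank_baseChange, Module.finrank_eq_card_basis b, Fintype.card_fin]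
  have hM : Module.finrank L (L ⊗[B] (B ⊗[A] Ω[A⁄k])) = a := by
    rw [← hA]
    exact (TensorProduct.AlgebraTensorModule.cancelBaseChange A B L L Ω[A⁄k]).finrank_eq
  have hrn := LinearMap.finrank_range_add_finrank_ker πL
  have hr : Module.finrank L (LinearMap.range πL) = n := by
    rw [LinearMap.range_eq_top.mpr hsurjL, finrank_top, hC]
  have hk : Module.finrank L (LinearMap.ker πL) = a := by omega
  have hk' : LinearMap.ker πL = LinearMap.range ψL := (LinearMap.exact_iff.mp hexL)
  have hrn2 := LinearMap.finrank_range_add_finrank_ker ψL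
  rw [← hk', hk, hM] at hrn2
  have hker0 : Module.finrank L (LinearMap.ker ψL) = 0 := by omega
  have hψL : Function.Injective ψL := by
    rw [← LinearMap.ker_eq_bot]
    exact Submodule.finrank_eq_zero.mp hker0
  -- descend to `B`
  haveI : Module.Projective A Ω[A⁄k] := inferInstance
  haveI : Module.Flat B (B ⊗[A] Ω[A⁄k]) := inferInstance
  have hincl : Function.Injective
      (TensorProduct.mk B L (B ⊗[A] Ω[A⁄k]) 1) := by
    have h1 : Function.Injective
        (LinearMap.rTensor (B ⊗[A] Ω[A⁄k]) (Algebra.linearMap B L)) :=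
      Module.Flat.rTensor_preserves_injective_linearMap _ hinj
    have h2 : (TensorProduct.mk B L (B ⊗[A] Ω[A⁄k]) 1 : _ → _) =
        (LinearMap.rTensor (B ⊗[A] Ω[A⁄k]) (Algebra.linearMap B L)) ∘
          (TensorProduct.lid B (B ⊗[A] Ω[A⁄k])).symm := by
      ext m
      simp
    rw [h2]
    exact h1.comp (LinearEquiv.injective _)
  intro m₁ m₂ h
  apply hincl
  apply hψL
  simp only [ψL, TensorProduct.mk_apply, LinearMap.baseChange_tmul]
  rw [h]

/-- `B` is formally smooth over `A`. -/
theorem formallySmooth_of_finrank [Algebra.FormallySmooth k A] [Algebra.FormallySmooth k B]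
    (hinj : Function.Injective (algebraMap B L)) (n a : ℕ)
    [Module.Finite B Ω[B⁄k]] [Module.Finite A Ω[A⁄k]]
    (b : Module.Basis (Fin n) B Ω[B⁄A])
    (hB : Module.finrank L (L ⊗[B] Ω[B⁄k]) = a + n)
    (hA : Module.finrank L (L ⊗[A] Ω[A⁄k]) = a) :
    Algebra.FormallySmooth A B := by
  have hψ := injective_mapBaseChange k A B L hinj n a b hB hA
  refine ⟨Module.Projective.of_basis b, ?_⟩
  have h1 : Function.Exact (Algebra.H1Cotangent.map k A B B) (Algebra.H1Cotangent.δ k A B) :=
    Algebra.H1Cotangent.exact_map_δ k A B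
  have h2 : Function.Exact (Algebra.H1Cotangent.δ k A B) (mapBaseChange k A B) :=
    Algebra.H1Cotangent.exact_δ_mapBaseChange k A B
  have hδ0 : ∀ x, Algebra.H1Cotangent.δ k A B x = 0 := by
    intro x
    apply hψ
    rw [map_zero]
    exact h2.apply_apply_eq_zero x
  have hδinj : Function.Injective (Algebra.H1Cotangent.δ k A B) := by
    rw [← LinearMap.ker_eq_bot, LinearMap.exact_iff.mp h1]
    rw [LinearMap.range_eq_bot]
    ext x
    rw [Subsingleton.elim x 0, map_zero, map_zero]
  constructor
  intro x y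
  apply hδinj
  rw [hδ0 x, hδ0 y]

end Groth.Agent.H11.JZSmooth
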