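import Mathlib
import Groth.Agent.H11.FtDim

/-!
# Closed points with separable residue field on smooth algebras over a field
-/

set_option autoImplicit false

namespace Groth.Agent.H11.SepPoints

open MvPolynomial

universe u

section transfer

variable (k : Type*) [Field k]

/-- A domain quotient embedding into a finite separable field extension is a finite separable
field extension. -/
theorem isMaximal_of_injective {A : Type*} [CommRing A] [Algebra k A] (Q : Ideal A) [Q.IsPrime]
    {K : Type*} [Field K] [Algebra k K] [Module.Finite k K] [Algebra.IsSeparable k K]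
    (ψ : (A ⧸ Q) →ₐ[k] K) (hψ : Function.Injective ψ) :
    Q.IsMaximal ∧ Module.Finite k (A ⧸ Q) ∧ Algebra.IsSeparable k (A ⧸ Q) := by
  haveI : Algebra.IsIntegral k (A ⧸ Q) := Algebra.IsIntegral.of_injective ψ hψ
  have hfield : IsField (A ⧸ Q) := isField_of_isIntegral_of_isField' (Field.toIsField k)
  refine ⟨Ideal.Quotient.maximal_of_isField Q hfield, ?_, ?_⟩
  · exact Module.Finite.of_injective ψ.toLinearMap hψ
  · refine ⟨fun x => ?_⟩
    have h1 := Algebra.IsSeparable.isSeparable k (ψ x)
    unfold IsSeparable at h1 ⊢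
    rwa [minpoly.algHom_eq ψ hψ] at h1

end transfer

section poly

variable (k : Type u) [Field k] (n : ℕ)

/-- Closed points of affine space with separable residue field are dense. -/
theorem exists_maximal_mvPolynomial (h : MvPolynomial (Fin n) k) (hh : h ≠ 0) :
    ∃ 𝔫 : Ideal (MvPolynomial (Fin n) k), 𝔫.IsMaximal ∧ h ∉ 𝔫 ∧
      Module.Finite k (MvPolynomial (Fin n) k ⧸ 𝔫) ∧
      Algebra.IsSeparable k (MvPolynomial (Fin n) k ⧸ 𝔫) := by
  rcases finite_or_infinite k with hfin | hinf
  · obtain ⟨𝔫, h𝔫, -, hn⟩ := Groth.Agent.H11.FtDim.exists_maximal_not_mem (k := k)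
      (⊥ : Ideal (MvPolynomial (Fin n) k)) h (by simpa using hh)
    haveI := h𝔫
    letI := Ideal.Quotient.field 𝔫
    haveI : Module.Finite k (MvPolynomial (Fin n) k ⧸ 𝔫) :=
      finite_of_finite_type_of_isJacobsonRing k _
    haveI : Algebra.IsAlgebraic k (MvPolynomial (Fin n) k ⧸ 𝔫) := Algebra.IsAlgebraic.of_finite _ _
    exact ⟨𝔫, h𝔫, hn, inferInstance, Algebra.IsAlgebraic.isSeparable_of_perfectField⟩
  · have hex : ∃ a : Fin n → k, MvPolynomial.eval a h ≠ 0 := by
      by_contra hcon
      push Not at hcon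
      exact hh (MvPolynomial.funext fun a => by rw [hcon a, map_zero])
    obtain ⟨a, ha⟩ := hex
    let φ : MvPolynomial (Fin n) k →ₐ[k] k := MvPolynomial.aeval a
    have hsurj : Function.Surjective φ := fun c => ⟨C c, by simp [φ]⟩
    have hmax : (RingHom.ker φ.toRingHom).IsMaximal :=
      RingHom.ker_isMaximal_of_surjective φ.toRingHom hsurj
    let e : (MvPolynomial (Fin n) k ⧸ RingHom.ker φ.toRingHom) ≃ₐ[k] k :=
      Ideal.quotientKerAlgEquivOfSurjective hsurj
    refine ⟨RingHom.ker φ.toRingHom, hmax, ?_, ?_, ?_⟩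
    · intro hmem
      apply ha
      have : φ h = 0 := hmem
      have h2 : φ h = MvPolynomial.eval a h := by
        change MvPolynomial.aeval a h = _
        rw [MvPolynomial.aeval_def, Algebra.algebraMap_self]
        rfl
      rwa [h2] at this
    · exact Module.Finite.equiv e.symm.toLinearEquiv
    · refine ⟨fun x => ?_⟩
      have h1 := Algebra.IsSeparable.isSeparable k (e x)
      unfold IsSeparable at h1 ⊢
      rwa [minpoly.algEquiv_eq e x] at h1

end poly

section etale

variable (k : Type u) [Field k] (n : ℕ) (A : Type u) [CommRing A] [Algebra k A]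
  [Algebra (MvPolynomial (Fin n) k) A] [IsScalarTower k (MvPolynomial (Fin n) k) A]

/-- A nonzero étale algebra over a polynomial ring has a maximal ideal with finite separable
residue field. -/
theorem exists_maximal_of_etale [Algebra.Etale (MvPolynomial (Fin n) k) A] [Nontrivial A] :
    ∃ M : Ideal A, M.IsMaximal ∧ Module.Finite k (A ⧸ M) ∧ Algebra.IsSeparable k (A ⧸ M) := by
  classical
  have hopen : IsOpenMap (PrimeSpectrum.comap (algebraMap (MvPolynomial (Fin n) k) A)) :=
    PrimeSpectrum.isOpenMap_comap_of_hasGoingDown_of_finitePresentation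
  have hr : IsOpen (Set.range (PrimeSpectrum.comap (algebraMap (MvPolynomial (Fin n) k) A))) :=
    hopen.isOpen_range
  obtain ⟨p₀⟩ := (inferInstance : Nonempty (PrimeSpectrum A))
  obtain ⟨_, ⟨_, ⟨r, rfl⟩, rfl⟩, hp₀r, hrsub⟩ :=
    PrimeSpectrum.isBasis_basic_opens.exists_subset_of_mem_open
      (Set.mem_range_self p₀) hr
  have hr0 : r ≠ 0 := by
    rintro rfl
    exact hp₀r (zero_mem _)
  obtain ⟨𝔫, h𝔫, hr𝔫, hfin, hsep⟩ := exists_maximal_mvPolynomial k n r hr0
  haveI := h𝔫
  obtain ⟨Q, hQ⟩ := hrsub (show (⟨𝔫, h𝔫.isPrime⟩ : PrimeSpectrum _) ∈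
    (PrimeSpectrum.basicOpen r : Set _) from hr𝔫)
  haveI : Q.asIdeal.LiesOver 𝔫 := ⟨by
    have := congrArg PrimeSpectrum.asIdeal hQ
    exact this.symm⟩
  letI := Ideal.Quotient.field 𝔫
  haveI : Algebra.FormallyUnramified (MvPolynomial (Fin n) k) (A ⧸ Q.asIdeal) :=
    Algebra.FormallyUnramified.comp _ A _
  haveI : Algebra.FormallyUnramified (MvPolynomial (Fin n) k ⧸ 𝔫) (A ⧸ Q.asIdeal) :=
    Algebra.FormallyUnramified.of_restrictScalars (MvPolynomial (Fin n) k) _ _
  haveI : Algebra.FiniteType (MvPolynomial (Fin n) k) (A ⧸ Q.asIdeal) :=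
    Algebra.FiniteType.trans (inferInstance : Algebra.FiniteType (MvPolynomial (Fin n) k) A)
      inferInstance
  haveI : Algebra.FiniteType (MvPolynomial (Fin n) k ⧸ 𝔫) (A ⧸ Q.asIdeal) :=
    Algebra.FiniteType.of_restrictScalars_finiteType (MvPolynomial (Fin n) k) _ _
  haveI : Module.Finite (MvPolynomial (Fin n) k ⧸ 𝔫) (A ⧸ Q.asIdeal) :=
    Algebra.FormallyUnramified.finite_of_free _ _
  haveI : Algebra.IsIntegral (MvPolynomial (Fin n) k ⧸ 𝔫) (A ⧸ Q.asIdeal) :=
    Algebra.IsIntegral.of_finite _ _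
  have hfield : IsField (A ⧸ Q.asIdeal) :=
    isField_of_isIntegral_of_isField' (Field.toIsField (MvPolynomial (Fin n) k ⧸ 𝔫))
  have hQmax : Q.asIdeal.IsMaximal := Ideal.Quotient.maximal_of_isField _ hfield
  haveI := hQmax
  letI := Ideal.Quotient.field Q.asIdeal
  haveI : Algebra.IsSeparable (MvPolynomial (Fin n) k ⧸ 𝔫) (A ⧸ Q.asIdeal) :=
    Algebra.FormallyUnramified.isSeparable _ _
  haveI : IsScalarTower k (MvPolynomial (Fin n) k ⧸ 𝔫) (A ⧸ Q.asIdeal) := inferInstance
  refine ⟨Q.asIdeal, hQmax, ?_, ?_⟩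
  · exact Module.Finite.trans (MvPolynomial (Fin n) k ⧸ 𝔫) _
  · exact Algebra.IsSeparable.trans k (MvPolynomial (Fin n) k ⧸ 𝔫) _

end etale

section smooth

variable (k : Type u) [Field k] (A : Type u) [CommRing A] [Algebra k A]

/-- A nonzero smooth algebra over a field has a maximal ideal with finite separable residue
field. -/
theorem exists_maximal_of_smooth [Algebra.Smooth k A] [Nontrivial A] :
    ∃ M : Ideal A, M.IsMaximal ∧ Module.Finite k (A ⧸ M) ∧ Algebra.IsSeparable k (A ⧸ M) := by
  obtain ⟨p⟩ := (inferInstance : Nonempty (PrimeSpectrum A))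
  obtain ⟨g, hg, hstd⟩ := Algebra.IsSmoothAt.exists_notMem_isStandardSmooth k p.asIdeal
  obtain ⟨ι, σ, _, _, ⟨P⟩⟩ := hstd
  haveI : Algebra.IsStandardSmoothOfRelativeDimension P.dimension k (Localization.Away g) :=
    ⟨ι, σ, inferInstance, inferInstance, P, rfl⟩
  obtain ⟨φ, hφ⟩ := Algebra.IsStandardSmoothOfRelativeDimension.exists_etale_mvPolynomial
    P.dimension k (Localization.Away g)
  letI : Algebra (MvPolynomial (Fin P.dimension) k) (Localization.Away g) :=
    φ.toRingHom.toAlgebra
  haveI : IsScalarTower k (MvPolynomial (Fin P.dimension) k) (Localization.Away g) :=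
    IsScalarTower.of_algebraMap_eq fun x => (φ.commutes x).symm
  haveI : Algebra.Etale (MvPolynomial (Fin P.dimension) k) (Localization.Away g) := hφ
  haveI : Nontrivial (Localization.Away g) := by
    have hdisj : Disjoint (Submonoid.powers g : Set A) (p.asIdeal : Set A) := by
      rw [Ideal.disjoint_powers_iff_notMem_of_isPrime]
      exact hg
    have := IsLocalization.isPrime_of_isPrime_disjoint (Submonoid.powers g)
      (Localization.Away g) p.asIdeal p.2 hdisj
    exact ⟨⟨0, 1, fun h01 => this.ne_top ((Ideal.eq_top_iff_one _).2 (h01 ▸ zero_mem _))⟩⟩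
  obtain ⟨M, hM, hfin, hsep⟩ := exists_maximal_of_etale k P.dimension (Localization.Away g)
  haveI := hM
  letI := Ideal.Quotient.field M
  haveI : (M.comap (algebraMap A (Localization.Away g))).IsPrime := Ideal.comap_isPrime _ M
  let ψ : (A ⧸ M.comap (algebraMap A (Localization.Away g))) →ₐ[k] (Localization.Away g ⧸ M) :=
    Ideal.quotientMapₐ M (IsScalarTower.toAlgHom k A (Localization.Away g)) le_rfl
  have hψ : Function.Injective ψ := Ideal.quotientMap_injective
  exact ⟨_, isMaximal_of_injective k _ ψ hψ⟩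

end smooth

end Groth.Agent.H11.SepPoints
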