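import Mathlib
import Groth.Prelude.Def_Flat
import Groth.Prelude.Def_CurvBase
import Groth.Agent.H11.FtChart
import Groth.Agent.H11.SepPoints

/-!
# Density of closed points with separable residue field on a smooth scheme over a field
-/

set_option autoImplicit false
open CategoryTheory CategoryTheory.Limits AlgebraicGeometry TopologicalSpace Topology

universe u

namespace Groth.Agent.H11.SepPointsSch

open Groth.Agent.H11.FtChart

section transfer

variable (k : Type*) [Field k]

theorem finite_sep_of_algEquiv {K L : Type*} [CommRing K] [CommRing L] [Algebra k K] [Algebra k L]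
    (e : K ≃ₐ[k] L) (h1 : Module.Finite k K) (h2 : Algebra.IsSeparable k K) :
    Module.Finite k L ∧ Algebra.IsSeparable k L := by
  refine ⟨Module.Finite.equiv e.toLinearEquiv, ⟨fun y => ?_⟩⟩
  have h3 := Algebra.IsSeparable.isSeparable k (e.symm y)
  unfold _root_.IsSeparable at h3 ⊢
  rwa [minpoly.algEquiv_eq e.symm y] at h3

end transfer

variable (k : Type u) [Field k] (X : Scheme.{u}) [X.Over (Spec (CommRingCat.of k))]

variable {X} {U : X.Opens} (hU : IsAffineOpen U) (x : X) (hx : x ∈ U)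

include hU in
/-- The residue field of `X` at `x` is the residue field of the prime of `x` on an affine chart,
as `k`-algebras. -/
theorem nonempty_resEquiv :
    letI := secAlgebra k X U
    letI := Curv2.resAlgebra k X x
    Nonempty ((hU.primeIdealOf ⟨x, hx⟩).asIdeal.ResidueField ≃ₐ[k] X.residueField x) := by
  letI := secAlgebra k X U
  letI := Curv2.resAlgebra k X x
  letI algA := X.presheaf.algebra_section_stalk ⟨x, hx⟩
  haveI := hU.isLocalization_stalk ⟨x, hx⟩
  let e₁ : Localization.AtPrime (hU.primeIdealOf ⟨x, hx⟩).asIdeal ≃ₐ[Γ(X, U)] X.presheaf.stalk x :=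
    IsLocalization.algEquiv (hU.primeIdealOf ⟨x, hx⟩).asIdeal.primeCompl _ _
  let e₂ : (hU.primeIdealOf ⟨x, hx⟩).asIdeal.ResidueField ≃+* X.residueField x :=
    IsLocalRing.ResidueField.mapEquiv e₁.toRingEquiv
  have hcomm : ∀ c : k, e₂ (algebraMap k (hU.primeIdealOf ⟨x, hx⟩).asIdeal.ResidueField c) =
      algebraMap k (X.residueField x) c := by
    intro c
    rw [IsScalarTower.algebraMap_apply k Γ(X, U) (hU.primeIdealOf ⟨x, hx⟩).asIdeal.ResidueField]
    have h1 : algebraMap Γ(X, U) (hU.primeIdealOf ⟨x, hx⟩).asIdeal.ResidueField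
        (algebraMap k Γ(X, U) c) =
        IsLocalRing.residue _ (algebraMap Γ(X, U)
          (Localization.AtPrime (hU.primeIdealOf ⟨x, hx⟩).asIdeal) (algebraMap k Γ(X, U) c)) := rfl
    rw [h1]
    have h2 : ∀ y : Localization.AtPrime (hU.primeIdealOf ⟨x, hx⟩).asIdeal,
        e₂ (IsLocalRing.residue _ y) = IsLocalRing.residue _ (e₁ y) := fun y => rfl
    rw [h2, e₁.commutes]
    have h3 : algebraMap Γ(X, U) (X.presheaf.stalk x) (algebraMap k Γ(X, U) c) =
        Curv2.stalkMap k X x c := by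
      change (X.presheaf.germ U x hx).hom ((X.presheaf.map (homOfLE (le_top : U ≤ ⊤)).op).hom
        (Coh.toGlobal (X ↘ Spec (CommRingCat.of k)) c)) =
        (X.presheaf.germ ⊤ x trivial).hom (Coh.toGlobal (X ↘ Spec (CommRingCat.of k)) c)
      exact TopCat.Presheaf.germ_res_apply X.presheaf (homOfLE (le_top : U ≤ ⊤)) x hx _
    rw [h3]
    rfl
  exact ⟨AlgEquiv.ofRingEquiv (f := e₂) hcomm⟩

/-- A point with residue field finite over `k` is closed. -/
theorem isClosed_singleton_of_finite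
    (hfin : letI := Curv2.resAlgebra k X x; Module.Finite k (X.residueField x)) :
    IsClosed ({x} : Set X) := by
  letI := Curv2.resAlgebra k X x
  rw [← closure_subset_iff_isClosed]
  intro y hy
  have hsp : x ⤳ y := specializes_iff_mem_closure.2 hy
  obtain ⟨V, hV, hyV, -⟩ := Opens.isBasis_iff_nbhd.mp X.isBasis_affineOpens
    (show y ∈ (⊤ : X.Opens) from trivial)
  have hV : IsAffineOpen V := hV
  have hxV : x ∈ V := hsp.mem_open V.2 hyV
  letI := secAlgebra k X V
  obtain ⟨e⟩ := nonempty_resEquiv k hV x hxV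
  haveI : Algebra.IsIntegral k (X.residueField x) := Algebra.IsIntegral.of_finite _ _
  haveI : Algebra.IsIntegral k (hV.primeIdealOf ⟨x, hxV⟩).asIdeal.ResidueField :=
    Algebra.IsIntegral.of_injective e.toAlgHom e.injective
  haveI : Algebra.IsIntegral k (Γ(X, V) ⧸ (hV.primeIdealOf ⟨x, hxV⟩).asIdeal) :=
    Algebra.IsIntegral.of_injective
      (IsScalarTower.toAlgHom k (Γ(X, V) ⧸ (hV.primeIdealOf ⟨x, hxV⟩).asIdeal)
        (hV.primeIdealOf ⟨x, hxV⟩).asIdeal.ResidueField)
      (Ideal.injective_algebraMap_quotient_residueField _)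
  have hfield : IsField (Γ(X, V) ⧸ (hV.primeIdealOf ⟨x, hxV⟩).asIdeal) :=
    isField_of_isIntegral_of_isField' (Field.toIsField k)
  have hmax : (hV.primeIdealOf ⟨x, hxV⟩).asIdeal.IsMaximal :=
    Ideal.Quotient.maximal_of_isField _ hfield
  have hle : hV.primeIdealOf ⟨x, hxV⟩ ≤ hV.primeIdealOf ⟨y, hyV⟩ :=
    (le_iff_specializes hV x hxV y hyV).mpr hsp
  have heq : hV.primeIdealOf ⟨x, hxV⟩ = hV.primeIdealOf ⟨y, hyV⟩ :=
    PrimeSpectrum.ext (hmax.eq_of_le (hV.primeIdealOf ⟨y, hyV⟩).2.ne_top hle)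
  have h1 := hV.fromSpec_primeIdealOf ⟨x, hxV⟩
  have h2 := hV.fromSpec_primeIdealOf ⟨y, hyV⟩
  rw [heq] at h1
  rw [Set.mem_singleton_iff]
  exact h2.symm.trans h1

include hU in
theorem smooth_sec [Smooth (X ↘ Spec (CommRingCat.of k))] :
    letI := secAlgebra k X U
    Algebra.Smooth k Γ(X, U) := by
  have h1 : ((X ↘ Spec (CommRingCat.of k)).appLE ⊤ U le_top).hom.Smooth :=
    (X ↘ Spec (CommRingCat.of k)).smooth_appLE (isAffineOpen_top _) hU le_top
  have h2 : (secMap k X U).Smooth := by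
    rw [secMap_eq]
    exact (RingHom.Smooth.of_bijective
      (ConcreteCategory.bijective_of_isIso (Scheme.ΓSpecIso (CommRingCat.of k)).inv)).comp h1
  exact h2

variable (X)

/-- **Closed points with finite separable residue field are dense in a smooth `k`-scheme.** -/
theorem dense_sep [Smooth (X ↘ Spec (CommRingCat.of k))] :
    Dense {x : X | IsClosed ({x} : Set X) ∧
      (letI := Curv2.resAlgebra k X x; Module.Finite k (X.residueField x)) ∧
      (letI := Curv2.resAlgebra k X x; Algebra.IsSeparable k (X.residueField x))} := by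
  rw [dense_iff_inter_open]
  intro W hW ⟨x₀, hx₀⟩
  obtain ⟨V, hV, hx₀V, hVW⟩ := Opens.isBasis_iff_nbhd.mp X.isBasis_affineOpens
    (show x₀ ∈ (⟨W, hW⟩ : X.Opens) from hx₀)
  have hV : IsAffineOpen V := hV
  letI := secAlgebra k X V
  haveI : Algebra.Smooth k Γ(X, V) := smooth_sec k hV
  haveI : Nontrivial Γ(X, V) := (hV.primeIdealOf ⟨x₀, hx₀V⟩).nontrivial
  obtain ⟨M, hM, hfin, hsep⟩ := Groth.Agent.H11.SepPoints.exists_maximal_of_smooth k Γ(X, V)
  haveI := hM
  let q : PrimeSpectrum Γ(X, V) := ⟨M, hM.isPrime⟩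
  have hxV : hV.fromSpec q ∈ V := fromSpec_mem hV q
  have hq : hV.primeIdealOf ⟨hV.fromSpec q, hxV⟩ = q := primeIdealOf_fromSpec hV q
  letI := Curv2.resAlgebra k X (hV.fromSpec q)
  obtain ⟨e⟩ := nonempty_resEquiv k hV (hV.fromSpec q) hxV
  let e0 : (Γ(X, V) ⧸ M) ≃ₐ[k] M.ResidueField :=
    AlgEquiv.ofBijective (IsScalarTower.toAlgHom k (Γ(X, V) ⧸ M) M.ResidueField)
      (Ideal.bijective_algebraMap_quotient_residueField M)
  obtain ⟨hf1, hs1⟩ := finite_sep_of_algEquiv k e0 hfin hsep
  have key : Module.Finite k (X.residueField (hV.fromSpec q)) ∧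
      Algebra.IsSeparable k (X.residueField (hV.fromSpec q)) := by
    rw [hq] at e
    exact finite_sep_of_algEquiv k e hf1 hs1
  refine ⟨hV.fromSpec q, hVW hxV, ?_, key.1, key.2⟩
  exact isClosed_singleton_of_finite k (hV.fromSpec q) key.1

end Groth.Agent.H11.SepPointsSch
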