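import Mathlib
import Groth.Prelude.Def_Flat
import Groth.Prelude.Def_FlatMod2
import Groth.Prelude.Def_Omega2
import Groth.Agent.H44.OmegaSections
import Groth.Agent.H44.AffineFree
import Groth.Agent.H44.OmegaFitting
import Groth.Agent.H11.FtChart
import Groth.Agent.H11.SepPointsSch
import Groth.Agent.H11.SmoothDim1
import Groth.Agent.H11.Equidim
import Groth.Agent.H11.JZSmooth

/-!
# Smooth of relative dimension `n` iff `Ω_{X/Y}` locally free of rank `n`
(for smooth integral schemes of finite type over a field, `dim X = dim Y + n`)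
-/

set_option autoImplicit false
universe u
open CategoryTheory CategoryTheory.Limits AlgebraicGeometry TopologicalSpace TensorProduct
  KaehlerDifferential

namespace Groth.Agent.H11.OmegaSmooth

open Groth.Agent.H11.FtChart Groth.Agent.H44

section alg

/-- A smooth algebra over `A` which is a domain, with `Ω` free of rank `n`, is locally standard
smooth of relative dimension `n`. -/
theorem locally_isStandardSmoothOfRelativeDimension {A B : Type u} [CommRing A] [CommRing B]
    [IsDomain B] [Algebra A B] [Algebra.Smooth A B] (n : ℕ) (b : Module.Basis (Fin n) B Ω[B⁄A]) :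
    RingHom.Locally (RingHom.IsStandardSmoothOfRelativeDimension n) (algebraMap A B) := by
  obtain ⟨s, hs, h⟩ := Algebra.Smooth.exists_span_eq_top_isStandardSmooth A B
  refine ⟨s \ {0}, by rw [Ideal.span_sdiff_singleton_zero, hs], fun t ht => ?_⟩
  haveI := h t ht.1
  have ht0 : t ≠ 0 := fun h0 => ht.2 (by simpa using h0)
  haveI : Nontrivial (Localization.Away t) := by
    have hinj : Function.Injective (algebraMap B (Localization.Away t)) :=
      IsLocalization.injective (Localization.Away t)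
        (powers_le_nonZeroDivisors_of_noZeroDivisors ht0)
    exact hinj.nontrivial
  rw [← IsScalarTower.algebraMap_eq A B (Localization.Away t)]
  change RingHom.IsStandardSmoothOfRelativeDimension n (algebraMap A (Localization.Away t))
  rw [RingHom.isStandardSmoothOfRelativeDimension_algebraMap,
    Algebra.IsStandardSmoothOfRelativeDimension.iff_of_isStandardSmooth]
  haveI : Algebra.FormallyEtale B (Localization.Away t) :=
    Algebra.FormallyEtale.of_isLocalization (Submonoid.powers t)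
  let e := KaehlerDifferential.tensorKaehlerEquivOfFormallyEtale A B (Localization.Away t)
  let b' := (b.baseChange (Localization.Away t)).map e
  rw [rank_eq_card_basis b']
  simp

end alg

section sch

variable (k : Type u) [Field k]

/-- compatibility of the `k`-structures with a `k`-morphism on affine charts. -/
theorem secMap_comp {X Y : Scheme.{u}} [X.Over (Spec (CommRingCat.of k))]
    [Y.Over (Spec (CommRingCat.of k))] (f : X ⟶ Y)
    (hf : f ≫ (Y ↘ Spec (CommRingCat.of k)) = X ↘ Spec (CommRingCat.of k))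
    (V : Y.Opens) (U : X.Opens) (e : U ≤ f ⁻¹ᵁ V) :
    secMap k X U = (f.appLE V U e).hom.comp (secMap k Y V) := by
  rw [secMap_eq, secMap_eq, ← RingHom.comp_assoc]
  congr 1
  have h1 : (Y ↘ Spec (CommRingCat.of k)).appLE ⊤ V le_top ≫ f.appLE V U e =
      (f ≫ (Y ↘ Spec (CommRingCat.of k))).appLE ⊤ U (by simp) :=
    Scheme.Hom.appLE_comp_appLE _ _ _ _ _ _ _
  have h2 : (X ↘ Spec (CommRingCat.of k)).appLE ⊤ U le_top =
      (f ≫ (Y ↘ Spec (CommRingCat.of k))).appLE ⊤ U (by simp) := by
    congr 1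
    exact hf.symm
  rw [h2, ← h1]
  rfl

end sch

section fwd

/-- `Ω_{X/S}` is locally free of rank `n` for `f` smooth of relative dimension `n`. -/
theorem isFinLocFreeOfRank_of_smooth {X S : Scheme.{u}} (f : X ⟶ S) [QuasiSeparated f] (n : ℕ)
    [SmoothOfRelativeDimension n f] : FlatMod.IsFinLocFreeOfRank n (Omega.sheaf f) := by
  intro x
  obtain ⟨V, hV, U, hU, hxU, e, hstd⟩ :=
    SmoothOfRelativeDimension.exists_isStandardSmoothOfRelativeDimension (n := n) (f := f) x
  letI := (f.appLE V U e).hom.toAlgebra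
  haveI : Algebra.IsStandardSmoothOfRelativeDimension n Γ(S, V) Γ(X, U) := hstd
  haveI : Nonempty U := ⟨⟨x, hxU⟩⟩
  haveI : Nontrivial Γ(X, U) := inferInstance
  haveI : Algebra.IsStandardSmooth Γ(S, V) Γ(X, U) :=
    Algebra.IsStandardSmoothOfRelativeDimension.isStandardSmooth n
  have hrank := Algebra.IsStandardSmoothOfRelativeDimension.rank_kaehlerDifferential
    (R := Γ(S, V)) (S := Γ(X, U)) n
  have hfr : Module.finrank Γ(X, U) Ω[Γ(X, U)⁄Γ(S, V)] = n := Module.finrank_eq_of_rank_eq hrank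
  let b := Module.finBasisOfFinrankEq Γ(X, U) Ω[Γ(X, U)⁄Γ(S, V)] hfr
  let b' := b.map (omegaSectionsEquiv f hU hV e).symm
  obtain ⟨i⟩ := nonempty_iso_freeMod_of_basis (Omega.sheaf f) hU b'
  exact ⟨U, hxU, ⟨i⟩⟩

end fwd

section bwd

variable (k : Type u) [Field k]

theorem smoothOfRelativeDimension_of_isFinLocFreeOfRank {X Y : Scheme.{u}}
    [X.Over (Spec (CommRingCat.of k))] [Y.Over (Spec (CommRingCat.of k))]
    [LocallyOfFiniteType (X ↘ Spec (CommRingCat.of k))] [Smooth (X ↘ Spec (CommRingCat.of k))]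
    [IsIntegral X]
    [LocallyOfFiniteType (Y ↘ Spec (CommRingCat.of k))] [Smooth (Y ↘ Spec (CommRingCat.of k))]
    (f : X ⟶ Y) [QuasiSeparated f]
    (hf : f ≫ (Y ↘ Spec (CommRingCat.of k)) = X ↘ Spec (CommRingCat.of k)) (n dY : ℕ)
    (hY : ∀ y : Y, FlatMor.localDim Y y = dY) (hX : ∀ x : X, FlatMor.localDim X x = (dY + n : ℕ))
    (hΩ : FlatMod.IsFinLocFreeOfRank n (Omega.sheaf f)) : SmoothOfRelativeDimension n f := by
  rw [HasRingHomProperty.iff_exists_appLE (P := @SmoothOfRelativeDimension n)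
    (RingHom.locally_stableUnderCompositionWithLocalizationAwaySource
      (RingHom.isStandardSmoothOfRelativeDimension_stableUnderCompositionWithLocalizationAway
        n).left)]
  intro x
  obtain ⟨U₀, hxU₀, ⟨e₀⟩⟩ := hΩ x
  obtain ⟨V, hV, hfxV, -⟩ := Opens.isBasis_iff_nbhd.mp Y.isBasis_affineOpens
    (show f x ∈ (⊤ : Y.Opens) from trivial)
  have hV : IsAffineOpen V := hV
  obtain ⟨U, hU, hxU, hUle⟩ := Opens.isBasis_iff_nbhd.mp X.isBasis_affineOpens
    (show x ∈ U₀ ⊓ f ⁻¹ᵁ V from ⟨hxU₀, hfxV⟩)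
  have hU : IsAffineOpen U := hU
  have hUU₀ : U ≤ U₀ := hUle.trans inf_le_left
  have e : U ≤ f ⁻¹ᵁ V := hUle.trans inf_le_right
  refine ⟨⟨V, hV⟩, ⟨U, hU⟩, hxU, e, ?_⟩
  letI algA := secAlgebra k Y V
  letI algB := secAlgebra k X U
  letI algAB : Algebra Γ(Y, V) Γ(X, U) := (f.appLE V U e).hom.toAlgebra
  haveI : IsScalarTower k Γ(Y, V) Γ(X, U) :=
    IsScalarTower.of_algebraMap_eq' (secMap_comp k f hf V U e)
  haveI smA : Algebra.Smooth k Γ(Y, V) := Groth.Agent.H11.SepPointsSch.smooth_sec k hV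
  haveI smB : Algebra.Smooth k Γ(X, U) := Groth.Agent.H11.SepPointsSch.smooth_sec k hU
  haveI ftA : Algebra.FiniteType k Γ(Y, V) := finiteType_sec k Y hV
  haveI ftB : Algebra.FiniteType k Γ(X, U) := finiteType_sec k X hU
  haveI : Nonempty U := ⟨⟨x, hxU⟩⟩
  haveI : IsDomain Γ(X, U) := inferInstance
  obtain ⟨b₀⟩ := nonempty_basis_of_iso_freeMod (Omega.sheaf f) hU hUU₀ e₀
  let b : Module.Basis (Fin n) Γ(X, U) Ω[Γ(X, U)⁄Γ(Y, V)] :=
    b₀.map (omegaSectionsEquiv f hU hV e)
  -- the generic point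
  let q0 : Ideal Γ(X, U) := ⊥
  haveI hq0 : q0.IsPrime := Ideal.isPrime_bot
  let p : Ideal Γ(Y, V) := q0.comap (algebraMap Γ(Y, V) Γ(X, U))
  haveI hp : p.IsPrime := Ideal.comap_isPrime _ _
  have hinj : Function.Injective (algebraMap Γ(X, U) q0.ResidueField) := by
    rw [RingHom.injective_iff_ker_eq_bot, Ideal.ker_algebraMap_residueField]
  letI algκL : Algebra p.ResidueField q0.ResidueField :=
    (Ideal.ResidueField.map p q0 (algebraMap Γ(Y, V) Γ(X, U)) rfl).toAlgebra
  haveI : IsScalarTower Γ(Y, V) p.ResidueField q0.ResidueField := by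
    refine IsScalarTower.of_algebraMap_eq fun a => ?_
    rw [RingHom.algebraMap_toAlgebra, Ideal.ResidueField.map_algebraMap,
      ← IsScalarTower.algebraMap_apply]
  -- smoothness at the primes
  haveI : Algebra.FormallyEtale Γ(X, U) (Localization.AtPrime q0) :=
    Algebra.FormallyEtale.of_isLocalization q0.primeCompl
  haveI : Algebra.IsSmoothAt k q0 := Algebra.FormallySmooth.comp k Γ(X, U) (Localization.AtPrime q0)
  haveI : Algebra.FormallyEtale Γ(Y, V) (Localization.AtPrime p) :=
    Algebra.FormallyEtale.of_isLocalization p.primeCompl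
  haveI : Algebra.IsSmoothAt k p := Algebra.FormallySmooth.comp k Γ(Y, V) (Localization.AtPrime p)
  -- ranks
  have hB : Module.finrank q0.ResidueField (q0.ResidueField ⊗[Γ(X, U)] Ω[Γ(X, U)⁄k]) = dY + n := by
    have h1 := Groth.Agent.H11.SmoothDim1.localDim_eq_finrank_of_isSmoothAt k q0
    have h2 := localDim_eq hU (hU.fromSpec ⟨q0, hq0⟩) (fromSpec_mem hU _)
    rw [primeIdealOf_fromSpec, h1, hX] at h2
    exact_mod_cast h2.symm
  have hA : Module.finrank q0.ResidueField (q0.ResidueField ⊗[Γ(Y, V)] Ω[Γ(Y, V)⁄k]) = dY := by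
    have h1 := Groth.Agent.H11.SmoothDim1.localDim_eq_finrank_of_isSmoothAt k p
    have h2 := localDim_eq hV (hV.fromSpec ⟨p, hp⟩) (fromSpec_mem hV _)
    rw [primeIdealOf_fromSpec, h1, hY] at h2
    have h3 : Module.finrank p.ResidueField (p.ResidueField ⊗[Γ(Y, V)] Ω[Γ(Y, V)⁄k]) = dY := by
      exact_mod_cast h2.symm
    rw [← h3, ← Module.finrank_baseChange (R := q0.ResidueField)
      (M' := p.ResidueField ⊗[Γ(Y, V)] Ω[Γ(Y, V)⁄k])]
    exact (TensorProduct.AlgebraTensorModule.cancelBaseChange Γ(Y, V) p.ResidueField q0.ResidueField q0.ResidueField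
      Ω[Γ(Y, V)⁄k]).symm.finrank_eq
  have fs : Algebra.FormallySmooth Γ(Y, V) Γ(X, U) :=
    Groth.Agent.H11.JZSmooth.formallySmooth_of_finrank k Γ(Y, V) Γ(X, U) q0.ResidueField hinj n dY b hB hA
  haveI : IsNoetherianRing Γ(Y, V) := Algebra.FiniteType.isNoetherianRing k Γ(Y, V)
  haveI : Algebra.FiniteType Γ(Y, V) Γ(X, U) :=
    Algebra.FiniteType.of_restrictScalars_finiteType k Γ(Y, V) Γ(X, U)
  haveI : Algebra.FinitePresentation Γ(Y, V) Γ(X, U) :=
    Algebra.FinitePresentation.of_finiteType.mp inferInstance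
  haveI : Algebra.Smooth Γ(Y, V) Γ(X, U) := ⟨fs, inferInstance⟩
  exact locally_isStandardSmoothOfRelativeDimension n b

end bwd

section wrap

variable (k : Type u) [Field k]

/-- local dimension of an irreducible scheme locally of finite type over a field. -/
theorem localDim_eq_of_irreducible {X : Scheme.{u}} (g : X ⟶ Spec (CommRingCat.of k))
    [LocallyOfFiniteType g] [IrreducibleSpace X] (d : ℕ) (hd : topologicalKrullDim ↥X = d)
    (x : X) : FlatMor.localDim X x = d := by
  refine Groth.Agent.H11.Equidim.localDim_eq_of_equidim g d ?_ x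
  intro Z hZ
  rw [irreducibleComponents_eq_singleton, Set.mem_singleton_iff] at hZ
  rw [hZ, ← hd]
  exact (Homeomorph.Set.univ X).isHomeomorph.topologicalKrullDim_eq

theorem smoothOfRelativeDimension_iff_omega {X Y : Scheme.{u}}
    (qX : X ⟶ Spec (CommRingCat.of k)) (qY : Y ⟶ Spec (CommRingCat.of k))
    [IsIntegral X] [IsSeparated qX] [LocallyOfFiniteType qX] [Smooth qX]
    [IsIntegral Y] [LocallyOfFiniteType qY] [Smooth qY]
    (f : X ⟶ Y) (hf : f ≫ qY = qX) (n dY : ℕ) (hY : topologicalKrullDim ↥Y = dY)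
    (hX : topologicalKrullDim ↥X = ((dY + n : ℕ) : WithBot ℕ∞)) :
    SmoothOfRelativeDimension n f ↔ FlatMod.IsFinLocFreeOfRank n (Omega.sheaf f) := by
  letI : X.Over (Spec (CommRingCat.of k)) := ⟨qX⟩
  letI : Y.Over (Spec (CommRingCat.of k)) := ⟨qY⟩
  haveI : LocallyOfFiniteType (X ↘ Spec (CommRingCat.of k)) := ‹LocallyOfFiniteType qX›
  haveI : LocallyOfFiniteType (Y ↘ Spec (CommRingCat.of k)) := ‹LocallyOfFiniteType qY›
  haveI : Smooth (X ↘ Spec (CommRingCat.of k)) := ‹Smooth qX›
  haveI : Smooth (Y ↘ Spec (CommRingCat.of k)) := ‹Smooth qY›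
  haveI : QuasiSeparated (f ≫ qY) := by rw [hf]; infer_instance
  haveI : QuasiSeparated f := QuasiSeparated.of_comp f qY
  constructor
  · intro h
    exact isFinLocFreeOfRank_of_smooth f n
  · intro h
    exact smoothOfRelativeDimension_of_isFinLocFreeOfRank k f hf n dY
      (localDim_eq_of_irreducible k qY dY hY) (localDim_eq_of_irreducible k qX (dY + n) hX) h

end wrap

end Groth.Agent.H11.OmegaSmooth
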