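import Mathlib
import Groth.Prelude.Def_Flat
import Groth.Prelude.Def_CurvBase
import Groth.Prelude.Def_FixPt
import Groth.Agent.H7.FieldResidue
import Groth.Agent.H21.ClImmTangent
import Groth.Agent.H51.SmoothFibreDim
import Groth.Agent.H11.FtChart
import Groth.Agent.H11.SepPointsSch
import Groth.Agent.H11.CotSmooth
import Groth.Agent.H11.OmegaSmooth

/-!
# Smoothness of a morphism of smooth varieties via cotangent maps at closed points
-/

set_option autoImplicit false
universe u
open CategoryTheory CategoryTheory.Limits AlgebraicGeometry TopologicalSpace IsLocalRing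

namespace Groth.Agent.H11.CotSmoothSch

open Groth.Agent.H11.FtChart

section cot

/-- injectivity of a cotangent map, elementwise. -/
theorem injective_mapCotangent_iff {A B : Type*} [CommRing A] [CommRing B] (I : Ideal A)
    (J : Ideal B) (f : A →ₐ[ℤ] B) (h : I ≤ J.comap f) :
    Function.Injective (Ideal.mapCotangent I J f h) ↔ ∀ a ∈ I, f a ∈ J ^ 2 → a ∈ I ^ 2 := by
  constructor
  · intro hinj a ha hfa
    have h1 : Ideal.mapCotangent I J f h (I.toCotangent ⟨a, ha⟩) = 0 := by
      rw [Ideal.mapCotangent_toCotangent, Ideal.toCotangent_eq_zero]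
      exact hfa
    have h2 := hinj (h1.trans (map_zero _).symm)
    rwa [Ideal.toCotangent_eq_zero] at h2
  · intro H
    rw [injective_iff_map_eq_zero]
    intro z hz
    obtain ⟨a, rfl⟩ := I.toCotangent_surjective z
    rw [Ideal.mapCotangent_toCotangent, Ideal.toCotangent_eq_zero] at hz
    rw [Ideal.toCotangent_eq_zero]
    exact H a.1 a.2 hz

theorem stalkMapAt_rfl {X Y : Scheme.{u}} (f : X ⟶ Y) (x : X) :
    FixPt.stalkMapAt f x (f x) rfl = (f.stalkMap x).hom := by
  unfold FixPt.stalkMapAt
  have : (Y.presheaf.stalkCongr (Inseparable.of_eq (rfl : f x = f x))).inv = 𝟙 _ := by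
    simp [TopCat.Presheaf.stalkCongr]
  rw [this, Category.id_comp]

theorem injective_cotangentMapAt_iff {X Y : Scheme.{u}} (f : X ⟶ Y) (x : X) :
    Function.Injective (FixPt.cotangentMapAt f x (f x) rfl) ↔
      ∀ a ∈ maximalIdeal (Y.presheaf.stalk (f x)),
        (f.stalkMap x).hom a ∈ maximalIdeal (X.presheaf.stalk x) ^ 2 →
          a ∈ maximalIdeal (Y.presheaf.stalk (f x)) ^ 2 := by
  unfold FixPt.cotangentMapAt
  rw [injective_mapCotangent_iff]
  have h := stalkMapAt_rfl f x
  constructor
  · intro H a ha hfa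
    refine H a ha ?_
    have : (FixPt.stalkMapAt f x (f x) rfl).toIntAlgHom a = (f.stalkMap x).hom a := by
      rw [← h]; rfl
    rw [this]
    exact hfa
  · intro H a ha hfa
    refine H a ha ?_
    have : (FixPt.stalkMapAt f x (f x) rfl).toIntAlgHom a = (f.stalkMap x).hom a := by
      rw [← h]; rfl
    rw [← this]
    exact hfa

end cot

section stalk

variable (k : Type u) [Field k] (X : Scheme.{u}) [X.Over (Spec (CommRingCat.of k))]

theorem isScalarTower_sec_stalk {U : X.Opens} (x : X) (hx : x ∈ U) :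
    letI := secAlgebra k X U
    letI := Curv2.stalkAlgebra k X x
    letI := X.presheaf.algebra_section_stalk ⟨x, hx⟩
    IsScalarTower k Γ(X, U) (X.presheaf.stalk x) := by
  letI := secAlgebra k X U
  letI := Curv2.stalkAlgebra k X x
  letI := X.presheaf.algebra_section_stalk ⟨x, hx⟩
  refine IsScalarTower.of_algebraMap_eq fun c => ?_
  symm
  change (X.presheaf.germ U x hx).hom ((X.presheaf.map (homOfLE (le_top : U ≤ ⊤)).op).hom
    (Coh.toGlobal (X ↘ Spec (CommRingCat.of k)) c)) =
    (X.presheaf.germ ⊤ x trivial).hom (Coh.toGlobal (X ↘ Spec (CommRingCat.of k)) c)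
  exact TopCat.Presheaf.germ_res_apply X.presheaf (homOfLE (le_top : U ≤ ⊤)) x hx _

theorem essFiniteType_stalk [LocallyOfFiniteType (X ↘ Spec (CommRingCat.of k))] (x : X) :
    letI := Curv2.stalkAlgebra k X x
    Algebra.EssFiniteType k (X.presheaf.stalk x) := by
  obtain ⟨U, hU, hxU, -⟩ := Opens.isBasis_iff_nbhd.mp X.isBasis_affineOpens
    (show x ∈ (⊤ : X.Opens) from trivial)
  have hU : IsAffineOpen U := hU
  letI := secAlgebra k X U
  letI := Curv2.stalkAlgebra k X x
  letI := X.presheaf.algebra_section_stalk ⟨x, hxU⟩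
  haveI := isScalarTower_sec_stalk k X x hxU
  haveI := hU.isLocalization_stalk ⟨x, hxU⟩
  haveI : Algebra.FiniteType k Γ(X, U) := finiteType_sec k X hU
  haveI : Algebra.EssFiniteType Γ(X, U) (X.presheaf.stalk x) :=
    Algebra.EssFiniteType.of_isLocalization _ (hU.primeIdealOf ⟨x, hxU⟩).asIdeal.primeCompl
  exact Algebra.EssFiniteType.comp k Γ(X, U) _

theorem formallySmooth_stalk [LocallyOfFiniteType (X ↘ Spec (CommRingCat.of k))]
    [Smooth (X ↘ Spec (CommRingCat.of k))] (x : X) :
    letI := Curv2.stalkAlgebra k X x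
    Algebra.FormallySmooth k (X.presheaf.stalk x) := by
  obtain ⟨U, hU, hxU, -⟩ := Opens.isBasis_iff_nbhd.mp X.isBasis_affineOpens
    (show x ∈ (⊤ : X.Opens) from trivial)
  have hU : IsAffineOpen U := hU
  letI := secAlgebra k X U
  letI := Curv2.stalkAlgebra k X x
  letI := X.presheaf.algebra_section_stalk ⟨x, hxU⟩
  haveI := isScalarTower_sec_stalk k X x hxU
  haveI := hU.isLocalization_stalk ⟨x, hxU⟩
  haveI : Algebra.Smooth k Γ(X, U) := Groth.Agent.H11.SepPointsSch.smooth_sec k hU
  haveI : Algebra.FormallyEtale Γ(X, U) (X.presheaf.stalk x) :=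
    Algebra.FormallyEtale.of_isLocalization (hU.primeIdealOf ⟨x, hxU⟩).asIdeal.primeCompl
  exact Algebra.FormallySmooth.comp k Γ(X, U) _

/-- compatibility of `k`-structures on stalks with a `k`-morphism. -/
theorem stalkMap_comp {Y : Scheme.{u}} [Y.Over (Spec (CommRingCat.of k))] (f : X ⟶ Y)
    (hf : f ≫ (Y ↘ Spec (CommRingCat.of k)) = X ↘ Spec (CommRingCat.of k)) (x : X) :
    Curv2.stalkMap k X x = (f.stalkMap x).hom.comp (Curv2.stalkMap k Y (f x)) := by
  ext c
  change (X.presheaf.germ ⊤ x trivial).hom (Coh.toGlobal (X ↘ Spec (CommRingCat.of k)) c) =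
    (f.stalkMap x).hom ((Y.presheaf.germ ⊤ (f x) trivial).hom
      (Coh.toGlobal (Y ↘ Spec (CommRingCat.of k)) c))
  have h1 := Scheme.Hom.germ_stalkMap_apply f ⊤ x trivial
    (Coh.toGlobal (Y ↘ Spec (CommRingCat.of k)) c)
  have h2 : (f.app ⊤).hom (Coh.toGlobal (Y ↘ Spec (CommRingCat.of k)) c) =
      Coh.toGlobal (X ↘ Spec (CommRingCat.of k)) c := by
    unfold Coh.toGlobal
    rw [← hf]
    simp
    rfl
  erw [h1, h2]
  rfl

theorem bijective_algebraMap_residueField [IsAlgClosed k]
    [LocallyOfFiniteType (X ↘ Spec (CommRingCat.of k))] (x : X) (hx : IsClosed ({x} : Set X)) :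
    letI := Curv2.stalkAlgebra k X x
    Function.Bijective (algebraMap k (ResidueField (X.presheaf.stalk x))) := by
  letI := Curv2.stalkAlgebra k X x
  have h1 : (algebraMap k (ResidueField (X.presheaf.stalk x)) : k → _) =
      Curv2.resMap k X x := rfl
  rw [h1, Groth.Agent.H7.resMap_eq]
  haveI : LocallyOfFiniteType ((X ↘ Spec (CommRingCat.of k)) ≫ 𝟙 (Spec (CommRingCat.of k))) := by
    rw [Category.comp_id]; infer_instance
  have h2 := Groth.Agent.H21.ClImmTangent.residueFieldMap_bijective k
    (X ↘ Spec (CommRingCat.of k)) (𝟙 (Spec (CommRingCat.of k))) x hx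
    (by
      have : ({(X ↘ Spec (CommRingCat.of k)) x} : Set (Spec (CommRingCat.of k))) = Set.univ :=
        Set.eq_univ_of_forall fun y => Subsingleton.elim _ _
      rw [this]; exact isClosed_univ)
  exact h2.comp (Groth.Agent.H7.fieldToResidue_bijective k _)

end stalk

section glob

/-- A smooth morphism with the right local dimensions is smooth of relative dimension `n`. -/
theorem smoothOfRelativeDimension_of_smooth {X Y : Scheme.{u}} [IsLocallyNoetherian X]
    [IsLocallyNoetherian Y] (f : X ⟶ Y) [Smooth f] (n dY : ℕ)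
    (hY : ∀ y : Y, FlatMor.localDim Y y = dY) (hX : ∀ x : X, FlatMor.localDim X x = (dY + n : ℕ)) :
    SmoothOfRelativeDimension n f := by
  constructor
  intro x
  obtain ⟨U, hU, V, hV, hxV, e, hstd⟩ := Smooth.exists_isStandardSmooth f x
  obtain ⟨m, hm⟩ := Groth.Agent.H51.exists_isStandardSmoothOfRelativeDimension _ hstd
  have h1 := Groth.Agent.H51.fibreDimAt_eq_of_isStandardSmoothOfRelativeDimension f m hU hV e hm
    x hxV
  have h2 := Groth.Agent.H51.localDim_eq_add_fibreDimAt_of_smooth f x
  rw [hX, hY, h1] at h2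
  have h3 : dY + n = dY + m := by exact_mod_cast h2
  have h4 : m = n := by omega
  subst h4
  exact ⟨U, hU, V, hV, hxV, e, hm⟩

/-- A morphism locally of finite presentation of a Jacobson scheme whose stalk maps at closed
points are formally smooth is smooth. -/
theorem smooth_of_closedPoints {X Y : Scheme.{u}} (f : X ⟶ Y) [LocallyOfFinitePresentation f]
    [JacobsonSpace X]
    (H : ∀ x : X, IsClosed ({x} : Set X) → (f.stalkMap x).hom.FormallySmooth) : Smooth f := by
  rw [← Scheme.Hom.smoothLocus_eq_top_iff]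
  by_contra hne
  have hne' : ((f.smoothLocus : Set X)ᶜ).Nonempty := by
    rw [Set.nonempty_compl]
    intro h
    exact hne (Opens.ext h)
  obtain ⟨z, hz1, hz2⟩ := nonempty_inter_closedPoints hne'
    f.smoothLocus.isOpen.isClosed_compl.isLocallyClosed
  exact hz1 (H z hz2)

end glob

section main

variable (k : Type u) [Field k] [IsAlgClosed k]

theorem formallySmooth_stalkMap_iff_cot {X Y : Scheme.{u}}
    [X.Over (Spec (CommRingCat.of k))] [Y.Over (Spec (CommRingCat.of k))]
    [LocallyOfFiniteType (X ↘ Spec (CommRingCat.of k))] [Smooth (X ↘ Spec (CommRingCat.of k))]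
    [LocallyOfFiniteType (Y ↘ Spec (CommRingCat.of k))] [Smooth (Y ↘ Spec (CommRingCat.of k))]
    (f : X ⟶ Y) (hf : f ≫ (Y ↘ Spec (CommRingCat.of k)) = X ↘ Spec (CommRingCat.of k))
    (x : X) (hx : IsClosed ({x} : Set X)) :
    (f.stalkMap x).hom.FormallySmooth ↔
      Function.Injective (FixPt.cotangentMapAt f x (f x) rfl) := by
  rw [injective_cotangentMapAt_iff]
  letI algR := Curv2.stalkAlgebra k Y (f x)
  letI algS := Curv2.stalkAlgebra k X x
  letI algRS : Algebra (Y.presheaf.stalk (f x)) (X.presheaf.stalk x) :=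
    (f.stalkMap x).hom.toAlgebra
  haveI : IsScalarTower k (Y.presheaf.stalk (f x)) (X.presheaf.stalk x) :=
    IsScalarTower.of_algebraMap_eq' (stalkMap_comp k X f hf x)
  haveI : IsLocalHom (algebraMap (Y.presheaf.stalk (f x)) (X.presheaf.stalk x)) :=
    (inferInstance : IsLocalHom (f.stalkMap x).hom)
  haveI := formallySmooth_stalk k X x
  haveI := formallySmooth_stalk k Y (f x)
  haveI := essFiniteType_stalk k X x
  haveI := essFiniteType_stalk k Y (f x)
  have hk := bijective_algebraMap_residueField k X x hx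
  exact Groth.Agent.H11.CotSmooth.formallySmooth_iff_forall_mem_sq k (Y.presheaf.stalk (f x))
    (X.presheaf.stalk x) hk

theorem smoothOfRelativeDimension_iff_cot {X Y : Scheme.{u}}
    (qX : X ⟶ Spec (CommRingCat.of k)) (qY : Y ⟶ Spec (CommRingCat.of k))
    [IsIntegral X] [LocallyOfFiniteType qX] [Smooth qX]
    [IsIntegral Y] [LocallyOfFiniteType qY] [Smooth qY]
    (f : X ⟶ Y) (hf : f ≫ qY = qX) (n dY : ℕ) (hY : topologicalKrullDim ↥Y = dY)
    (hX : topologicalKrullDim ↥X = ((dY + n : ℕ) : WithBot ℕ∞)) :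
    SmoothOfRelativeDimension n f ↔
      ∀ x : X, IsClosed ({x} : Set ↥X) →
        Function.Injective (FixPt.cotangentMapAt f x (f.base x) rfl) := by
  letI : X.Over (Spec (CommRingCat.of k)) := ⟨qX⟩
  letI : Y.Over (Spec (CommRingCat.of k)) := ⟨qY⟩
  haveI : LocallyOfFiniteType (X ↘ Spec (CommRingCat.of k)) := ‹LocallyOfFiniteType qX›
  haveI : LocallyOfFiniteType (Y ↘ Spec (CommRingCat.of k)) := ‹LocallyOfFiniteType qY›
  haveI : Smooth (X ↘ Spec (CommRingCat.of k)) := ‹Smooth qX›
  haveI : Smooth (Y ↘ Spec (CommRingCat.of k)) := ‹Smooth qY›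
  haveI : IsLocallyNoetherian X := LocallyOfFiniteType.isLocallyNoetherian qX
  haveI : IsLocallyNoetherian Y := LocallyOfFiniteType.isLocallyNoetherian qY
  haveI : JacobsonSpace X := LocallyOfFiniteType.jacobsonSpace qX
  haveI : LocallyOfFiniteType (f ≫ qY) := by rw [hf]; infer_instance
  haveI : LocallyOfFiniteType f := locallyOfFiniteType_of_comp f qY
  haveI : LocallyOfFinitePresentation f :=
    LocallyOfFinitePresentation.iff_locallyOfFiniteType.mpr inferInstance
  constructor
  · intro h x hx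
    haveI : Smooth f := SmoothOfRelativeDimension.smooth n f
    have h1 : x ∈ f.smoothLocus := by rw [f.smoothLocus_eq_top]; trivial
    exact (formallySmooth_stalkMap_iff_cot k f hf x hx).mp h1
  · intro h
    haveI : Smooth f := smooth_of_closedPoints f fun x hx =>
      (formallySmooth_stalkMap_iff_cot k f hf x hx).mpr (h x hx)
    exact smoothOfRelativeDimension_of_smooth f n dY
      (Groth.Agent.H11.OmegaSmooth.localDim_eq_of_irreducible k qY dY hY)
      (Groth.Agent.H11.OmegaSmooth.localDim_eq_of_irreducible k qX (dY + n) hX)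

end main

end Groth.Agent.H11.CotSmoothSch
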