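import Mathlib
import Groth.Prelude.Def_Flat
import Groth.Prelude.Def_CurvBase
import Groth.Agent.H11.FtChart
import Groth.Agent.H11.SepPointsSch
import Groth.Agent.H47.RegSmoothField
import Groth.Agent.H47.GeomRegSep
import Groth.Agent.H17.Chev.Irreducible
import Groth.Agent.S1617

/-!
# Smooth locus of a scheme over a field on affine charts; DVR iff smooth on curves
-/

set_option autoImplicit false
open CategoryTheory CategoryTheory.Limits AlgebraicGeometry TopologicalSpace Topology

universe u

namespace Groth.Agent.H11.CurveDVR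

open Groth.Agent.H11.FtChart Groth.Agent.H11.SepPointsSch

variable (k : Type u) [Field k] (X : Scheme.{u}) [X.Over (Spec (CommRingCat.of k))]

variable {X} {V : X.Opens} (hV : IsAffineOpen V) (x : X) (hx : x ∈ V)

include hV in
/-- Membership in the smooth locus over a field, on an affine chart. -/
theorem mem_smoothLocus_iff [LocallyOfFinitePresentation (X ↘ Spec (CommRingCat.of k))] :
    letI := secAlgebra k X V
    x ∈ (X ↘ Spec (CommRingCat.of k)).smoothLocus ↔
      Algebra.IsSmoothAt k (hV.primeIdealOf ⟨x, hx⟩).asIdeal := by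
  letI := secAlgebra k X V
  rw [Scheme.Hom.mem_smoothLocus,
    formallySmooth_stalkMap_iff ⊤ (isAffineOpen_top _) V hV le_top hx]
  letI algΓ : Algebra Γ(Spec (CommRingCat.of k), ⊤) Γ(X, V) :=
    ((X ↘ Spec (CommRingCat.of k)).appLE ⊤ V le_top).hom.toAlgebra
  letI algk : Algebra k Γ(Spec (CommRingCat.of k), ⊤) :=
    (Scheme.ΓSpecIso (CommRingCat.of k)).inv.hom.toAlgebra
  haveI : IsScalarTower k Γ(Spec (CommRingCat.of k), ⊤) Γ(X, V) :=
    IsScalarTower.of_algebraMap_eq fun c => rfl
  haveI : IsScalarTower k Γ(Spec (CommRingCat.of k), ⊤)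
      (Localization.AtPrime (hV.primeIdealOf ⟨x, hx⟩).asIdeal) :=
    IsScalarTower.of_algebraMap_eq fun c => by
      rw [IsScalarTower.algebraMap_apply k Γ(X, V) (Localization.AtPrime _),
        IsScalarTower.algebraMap_apply k Γ(Spec (CommRingCat.of k), ⊤) Γ(X, V),
        ← IsScalarTower.algebraMap_apply Γ(Spec (CommRingCat.of k), ⊤) Γ(X, V)
          (Localization.AtPrime _)]
  have hbij : Function.Bijective (algebraMap k Γ(Spec (CommRingCat.of k), ⊤)) :=
    ConcreteCategory.bijective_of_isIso (Scheme.ΓSpecIso (CommRingCat.of k)).inv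
  haveI : Algebra.FormallyEtale k Γ(Spec (CommRingCat.of k), ⊤) :=
    Algebra.FormallyEtale.of_equiv
      (AlgEquiv.ofBijective (Algebra.ofId k Γ(Spec (CommRingCat.of k), ⊤)) hbij)
  exact (Algebra.FormallySmooth.iff_restrictScalars (R := k)
    (A := Γ(Spec (CommRingCat.of k), ⊤))
    (B := Localization.AtPrime (hV.primeIdealOf ⟨x, hx⟩).asIdeal)).symm

variable (X)

/-- On an integral curve over `k`, at a closed point with separable residue field, the local ring
is a DVR iff the point is smooth. -/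
theorem dvr_iff [IsIntegral X] [LocallyOfFinitePresentation (X ↘ Spec (CommRingCat.of k))]
    (hdim : topologicalKrullDim X = 1) (x : X) (hx : IsClosed ({x} : Set X))
    (hsep : letI := Curv2.resAlgebra k X x; Algebra.IsSeparable k (X.residueField x)) :
    IsDiscreteValuationRing (X.presheaf.stalk x) ↔
      x ∈ (X ↘ Spec (CommRingCat.of k)).smoothLocus := by
  letI := Curv2.resAlgebra k X x
  obtain ⟨V, hV, hxV, -⟩ := Opens.isBasis_iff_nbhd.mp X.isBasis_affineOpens
    (show x ∈ (⊤ : X.Opens) from trivial)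
  have hV : IsAffineOpen V := hV
  letI := secAlgebra k X V
  haveI := finiteType_sec k X hV
  rw [mem_smoothLocus_iff k hV x hxV]
  -- the local ring
  letI algA := X.presheaf.algebra_section_stalk ⟨x, hxV⟩
  haveI := hV.isLocalization_stalk ⟨x, hxV⟩
  let e₁ : Localization.AtPrime (hV.primeIdealOf ⟨x, hxV⟩).asIdeal ≃ₐ[Γ(X, V)]
      X.presheaf.stalk x :=
    IsLocalization.algEquiv (hV.primeIdealOf ⟨x, hxV⟩).asIdeal.primeCompl _ _
  -- dimension one
  have hdim1 : ringKrullDim (X.presheaf.stalk x) = 1 := by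
    rw [← Groth.Agent.S1617.result k X x hx,
      ← Groth.Agent.H17.Chev.topologicalKrullDim_eq_localDim_of_irreducible k
        (X ↘ Spec (CommRingCat.of k)) x, hdim]
  -- separability
  obtain ⟨e⟩ := nonempty_resEquiv k hV x hxV
  haveI : Algebra.IsSeparable k (hV.primeIdealOf ⟨x, hxV⟩).asIdeal.ResidueField := by
    refine ⟨fun y => ?_⟩
    have h3 := Algebra.IsSeparable.isSeparable k (e y)
    unfold _root_.IsSeparable at h3 ⊢
    rwa [minpoly.algEquiv_eq e y] at h3
  haveI : Algebra.IsGeometricallyReduced k (hV.primeIdealOf ⟨x, hxV⟩).asIdeal.ResidueField :=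
    Groth.Agent.H47.GRS.isGeometricallyReduced_of_isSeparable k _
  rw [Groth.Agent.H47.RSF.isSmoothAt_iff_isRegularLocalRing k Γ(X, V)
    (hV.primeIdealOf ⟨x, hxV⟩).asIdeal]
  haveI : IsLocallyNoetherian X :=
    LocallyOfFiniteType.isLocallyNoetherian (X ↘ Spec (CommRingCat.of k))
  have hreg : IsRegularLocalRing (Localization.AtPrime (hV.primeIdealOf ⟨x, hxV⟩).asIdeal) ↔
      IsRegularLocalRing (X.presheaf.stalk x) :=
    ⟨fun h => IsRegularLocalRing.of_ringEquiv e₁.toRingEquiv,
      fun h => IsRegularLocalRing.of_ringEquiv e₁.toRingEquiv.symm⟩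
  rw [hreg, IsRegularLocalRing.iff_finrank_cotangentSpace, hdim1,
    ← IsLocalRing.finrank_CotangentSpace_eq_one_iff]
  norm_cast

end Groth.Agent.H11.CurveDVR
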