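import Mathlib
import Groth.Prelude.Def_Flat
import Groth.Agent.H11.CurveDVR
import Groth.Agent.H11.CotSmoothSch
import Groth.Agent.H17.Chev.TopLocalDim

/-!
# Étaleness of a morphism of smooth curves at a closed point
-/

set_option autoImplicit false
universe u
open CategoryTheory CategoryTheory.Limits AlgebraicGeometry TopologicalSpace IsLocalRing

namespace Groth.Agent.H11.CurveEtale

section dvr

variable {A : Type*} [CommRing A] [IsDomain A] [IsDiscreteValuationRing A]

theorem notMem_sq_of_span_eq {a : A} (h : maximalIdeal A = Ideal.span {a}) :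
    a ∉ maximalIdeal A ^ 2 := by
  intro ha
  rw [h, Ideal.span_singleton_pow, Ideal.mem_span_singleton'] at ha
  obtain ⟨c, hc⟩ := ha
  have ha0 : a ≠ 0 := by
    rintro rfl
    apply IsDiscreteValuationRing.not_a_field A
    rw [h]; simp
  have h1 : a * (c * a - 1) = 0 := by
    have : a * (c * a - 1) = c * a ^ 2 - a := by ring
    rw [this, hc, sub_self]
  have h2 : c * a = 1 := by
    rcases mul_eq_zero.mp h1 with h | h
    · exact absurd h ha0
    · exact sub_eq_zero.mp h
  have hu : IsUnit a := IsUnit.of_mul_eq_one c (by rw [mul_comm]; exact h2)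
  have hm : a ∈ maximalIdeal A := by rw [h]; exact Ideal.mem_span_singleton_self a
  exact (mem_maximalIdeal a).mp hm hu

theorem span_eq_of_notMem_sq {a : A} (ha : a ∈ maximalIdeal A) (h : a ∉ maximalIdeal A ^ 2) :
    maximalIdeal A = Ideal.span {a} := by
  obtain ⟨ϖ, hϖ⟩ := IsDiscreteValuationRing.exists_irreducible A
  have hm := (IsDiscreteValuationRing.irreducible_iff_uniformizer ϖ).mp hϖ
  rw [hm, Ideal.mem_span_singleton'] at ha
  obtain ⟨b, rfl⟩ := ha
  by_cases hb : IsUnit b
  · rw [hm]
    exact (Ideal.span_singleton_eq_span_singleton.mpr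
      ⟨hb.unit, by rw [IsUnit.unit_spec, mul_comm]⟩)
  · exfalso
    apply h
    have hb' : b ∈ maximalIdeal A := (mem_maximalIdeal b).mpr hb
    rw [hm, Ideal.mem_span_singleton'] at hb'
    obtain ⟨c, rfl⟩ := hb'
    rw [hm, Ideal.span_singleton_pow, Ideal.mem_span_singleton']
    exact ⟨c, by ring⟩

end dvr

section hom

variable {R S : Type*} [CommRing R] [IsDomain R] [IsDiscreteValuationRing R]
  [CommRing S] [IsDomain S] [IsDiscreteValuationRing S] (φ : R →+* S) [IsLocalHom φ]

/-- For a local homomorphism of DVRs: the cotangent map is injective iff `m_R S = m_S`. -/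
theorem cot_iff_map_eq :
    (∀ a ∈ maximalIdeal R, φ a ∈ maximalIdeal S ^ 2 → a ∈ maximalIdeal R ^ 2) ↔
      Ideal.map φ (maximalIdeal R) = maximalIdeal S := by
  have hloc : ∀ a ∈ maximalIdeal R, φ a ∈ maximalIdeal S := by
    intro a ha
    rw [mem_maximalIdeal, mem_nonunits_iff] at ha ⊢
    exact fun hu => ha (isUnit_of_map_unit φ a hu)
  constructor
  · intro H
    obtain ⟨t, ht⟩ := IsDiscreteValuationRing.exists_irreducible R
    have hm := (IsDiscreteValuationRing.irreducible_iff_uniformizer t).mp ht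
    have htm : t ∈ maximalIdeal R := by rw [hm]; exact Ideal.mem_span_singleton_self t
    have h1 : φ t ∉ maximalIdeal S ^ 2 := fun h => notMem_sq_of_span_eq hm (H t htm h)
    have h2 := span_eq_of_notMem_sq (hloc t htm) h1
    rw [h2, hm, Ideal.map_span, Set.image_singleton]
  · intro H a ha hφa
    by_contra hna
    have h1 := span_eq_of_notMem_sq ha hna
    rw [h1, Ideal.map_span, Set.image_singleton] at H
    exact notMem_sq_of_span_eq H.symm hφa

end hom

section sch

variable (k : Type u) [Field k] [IsAlgClosed k]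

theorem isDiscreteValuationRing_stalk {X : Scheme.{u}} [X.Over (Spec (CommRingCat.of k))]
    [IsIntegral X] [LocallyOfFiniteType (X ↘ Spec (CommRingCat.of k))]
    [Smooth (X ↘ Spec (CommRingCat.of k))] (hd : topologicalKrullDim X = 1) (x : X)
    (hx : IsClosed ({x} : Set X)) : IsDiscreteValuationRing (X.presheaf.stalk x) := by
  haveI : IsLocallyNoetherian (Spec (CommRingCat.of k)) := inferInstance
  haveI : LocallyOfFinitePresentation (X ↘ Spec (CommRingCat.of k)) :=
    LocallyOfFinitePresentation.iff_locallyOfFiniteType.mpr inferInstance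
  have hbij := Groth.Agent.H11.CotSmoothSch.bijective_algebraMap_residueField k X x hx
  have hsurj : Function.Surjective (Curv2.resMap k X x) := hbij.2
  have hsep : (letI := Curv2.resAlgebra k X x; Algebra.IsSeparable k (X.residueField x)) := by
    letI := Curv2.resAlgebra k X x
    exact ⟨fun z => by obtain ⟨t, rfl⟩ := hsurj z; exact isSeparable_algebraMap t⟩
  rw [Groth.Agent.H11.CurveDVR.dvr_iff k X hd x hx hsep,
    (X ↘ Spec (CommRingCat.of k)).smoothLocus_eq_top]
  trivial

theorem etale_iff_map_maximalIdeal {X Y : Scheme.{u}}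
    (pX : X ⟶ Spec (CommRingCat.of k)) (pY : Y ⟶ Spec (CommRingCat.of k)) (φ : X ⟶ Y)
    (w : φ ≫ pY = pX)
    [IsIntegral X] [Smooth pX] (hdX : topologicalKrullDim X = 1)
    [IsIntegral Y] [Smooth pY] (hdY : topologicalKrullDim Y = 1)
    (x : X) (hx : IsClosed ({x} : Set X)) :
    (∃ U : X.Opens, x ∈ U ∧ Etale (U.ι ≫ φ)) ↔
      Ideal.map (φ.stalkMap x).hom (IsLocalRing.maximalIdeal (Y.presheaf.stalk (φ.base x))) =
        IsLocalRing.maximalIdeal (X.presheaf.stalk x) := by
  letI : X.Over (Spec (CommRingCat.of k)) := ⟨pX⟩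
  letI : Y.Over (Spec (CommRingCat.of k)) := ⟨pY⟩
  haveI : LocallyOfFiniteType pX := inferInstance
  haveI : LocallyOfFiniteType pY := inferInstance
  haveI : LocallyOfFiniteType (X ↘ Spec (CommRingCat.of k)) := ‹LocallyOfFiniteType pX›
  haveI : LocallyOfFiniteType (Y ↘ Spec (CommRingCat.of k)) := ‹LocallyOfFiniteType pY›
  haveI : Smooth (X ↘ Spec (CommRingCat.of k)) := ‹Smooth pX›
  haveI : Smooth (Y ↘ Spec (CommRingCat.of k)) := ‹Smooth pY›
  haveI : IsLocallyNoetherian X := LocallyOfFiniteType.isLocallyNoetherian pX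
  haveI : IsLocallyNoetherian Y := LocallyOfFiniteType.isLocallyNoetherian pY
  haveI : JacobsonSpace X := LocallyOfFiniteType.jacobsonSpace pX
  haveI : JacobsonSpace Y := LocallyOfFiniteType.jacobsonSpace pY
  haveI : LocallyOfFiniteType (φ ≫ pY) := by rw [w]; infer_instance
  haveI : LocallyOfFiniteType φ := locallyOfFiniteType_of_comp φ pY
  haveI : LocallyOfFinitePresentation φ :=
    LocallyOfFinitePresentation.iff_locallyOfFiniteType.mpr inferInstance
  -- `φ x` is closed
  have hy : IsClosed ({φ x} : Set Y) := by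
    let p' : Spec (CommRingCat.of k) ⟶ Y := pointOfClosedPoint pX x hx ≫ φ
    have hp' : p' ≫ pY = 𝟙 _ := by
      rw [Category.assoc, w, pointOfClosedPoint_comp]
    have h1 := (pointEquivClosedPoint pY ⟨p', hp'⟩).2
    have h2 : ((pointEquivClosedPoint pY ⟨p', hp'⟩) : closedPoints Y).1 = φ x := by
      change (pointOfClosedPoint pX x hx ≫ φ) (IsLocalRing.closedPoint k) = φ x
      rw [Scheme.Hom.comp_apply, pointOfClosedPoint_apply]
    rw [h2] at h1
    exact h1
  haveI := isDiscreteValuationRing_stalk k hdX x hx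
  haveI := isDiscreteValuationRing_stalk k hdY (φ x) hy
  have key : x ∈ φ.smoothLocus ↔
      Ideal.map (φ.stalkMap x).hom (IsLocalRing.maximalIdeal (Y.presheaf.stalk (φ.base x))) =
        IsLocalRing.maximalIdeal (X.presheaf.stalk x) := by
    rw [Scheme.Hom.mem_smoothLocus,
      Groth.Agent.H11.CotSmoothSch.formallySmooth_stalkMap_iff_cot k φ w x hx,
      Groth.Agent.H11.CotSmoothSch.injective_cotangentMapAt_iff]
    exact cot_iff_map_eq (φ.stalkMap x).hom
  rw [← key]
  constructor
  · rintro ⟨U, hxU, hU⟩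
    haveI : Smooth (U.ι ≫ φ) := inferInstance
    have h1 := Scheme.Hom.preimage_smoothLocus_eq U.ι φ
    rw [(U.ι ≫ φ).smoothLocus_eq_top] at h1
    have h2 : (⟨x, hxU⟩ : U) ∈ U.ι ⁻¹ᵁ φ.smoothLocus := by rw [h1]; trivial
    exact h2
  · intro hxW
    refine ⟨φ.smoothLocus, hxW, ?_⟩
    have h1 := Scheme.Hom.preimage_smoothLocus_eq φ.smoothLocus.ι φ
    have h2 : φ.smoothLocus.ι ⁻¹ᵁ φ.smoothLocus = ⊤ := by
      rw [eq_top_iff]
      intro z _
      exact z.2
    rw [h2] at h1
    haveI : Smooth (φ.smoothLocus.ι ≫ φ) := Scheme.Hom.smoothLocus_eq_top_iff.mp h1.symm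
    rw [Etale.iff_smoothOfRelativeDimension_zero]
    refine Groth.Agent.H11.CotSmoothSch.smoothOfRelativeDimension_of_smooth
      (φ.smoothLocus.ι ≫ φ) 0 1
      (Groth.Agent.H11.OmegaSmooth.localDim_eq_of_irreducible k pY 1 hdY) ?_
    intro z
    rw [Groth.Agent.H17.Chev.localDim_eq_of_isOpenEmbedding φ.smoothLocus.ι.isOpenEmbedding z]
    exact Groth.Agent.H11.OmegaSmooth.localDim_eq_of_irreducible k pX 1 hdX _

end sch

end Groth.Agent.H11.CurveEtale
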