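import Mathlib

/-!
# Extending derivations to localizations (via dual numbers)

`D₁ : Derivation ℤ R L` with `L` a localization of `R` extends uniquely to a derivation of `L`.
-/

set_option autoImplicit false
universe u v

namespace Groth.Agent.H11.DerivLoc

open TrivSqZeroExt

variable {R : Type u} [CommRing R] {L : Type v} [CommRing L] [Algebra R L]

/-- The ring hom `r ↦ (r, D r)` into the dual numbers of `L`. -/
noncomputable def twist (D : Derivation ℤ R L) : R →+* TrivSqZeroExt L L where
  toFun r := (algebraMap R L r, D r)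
  map_one' := by
    ext <;> simp
  map_mul' a b := by
    ext
    · simp
    · simp [Derivation.leibniz, Algebra.smul_def]
      ring
  map_zero' := by ext <;> simp
  map_add' a b := by ext <;> simp

@[simp] theorem fst_twist (D : Derivation ℤ R L) (r : R) : (twist D r).fst = algebraMap R L r := rfl
@[simp] theorem snd_twist (D : Derivation ℤ R L) (r : R) : (twist D r).snd = D r := rfl

variable (M : Submonoid R) [IsLocalization M L]

theorem isUnit_twist (D : Derivation ℤ R L) (y : M) : IsUnit (twist D (y : R)) := by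
  rw [TrivSqZeroExt.isUnit_iff_isUnit_fst, fst_twist]
  exact IsLocalization.map_units L y

/-- The lifted ring hom `L → L[ε]`. -/
noncomputable def liftHom (D : Derivation ℤ R L) : L →+* TrivSqZeroExt L L :=
  IsLocalization.lift (M := M) (g := twist D) (isUnit_twist M D)

theorem liftHom_algebraMap (D : Derivation ℤ R L) (r : R) :
    liftHom M D (algebraMap R L r) = twist D r :=
  IsLocalization.lift_eq _ r

theorem fst_liftHom (D : Derivation ℤ R L) (x : L) : (liftHom M D x).fst = x := by
  have h : ((TrivSqZeroExt.fstHom L L L).toRingHom.comp (liftHom M D)) = RingHom.id L := by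
    apply IsLocalization.ringHom_ext M
    ext r
    simp [liftHom_algebraMap]
  exact RingHom.congr_fun h x

/-- The extension of a derivation `R → L` to the localization `L`. -/
noncomputable def extend (D : Derivation ℤ R L) : Derivation ℤ L L :=
  Derivation.mk'
    (((TrivSqZeroExt.sndHom L L).toAddMonoidHom.comp (liftHom M D).toAddMonoidHom).toIntLinearMap)
    (by
      intro a b
      simp [fst_liftHom, mul_comm])

theorem extend_apply (D : Derivation ℤ R L) (x : L) : extend M D x = (liftHom M D x).snd := rfl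

@[simp] theorem extend_algebraMap (D : Derivation ℤ R L) (r : R) :
    extend M D (algebraMap R L r) = D r := by
  rw [extend_apply, liftHom_algebraMap, snd_twist]


section Ext

/-- Stacks-style extension of derivations along a finite type modification `R ⊆ R'` with
`R_g = R'_g`: some `g ^ N • D` extends to `R'`. -/
theorem exists_extension {R R' : Type u} [CommRing R] [CommRing R'] [Algebra R R']
    [Algebra.FiniteType R R'] (L : Type u) [CommRing L] [Algebra R' L] [Algebra R L]
    [IsScalarTower R R' L]
    (hinj : Function.Injective (algebraMap R R')) (g : R)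
    [IsLocalization.Away (algebraMap R R' g) L]
    (hg : IsSMulRegular R' (algebraMap R R' g))
    (hloc : ∀ x : R', ∃ n : ℕ, (algebraMap R R' g) ^ n * x ∈ Set.range (algebraMap R R'))
    (D : Derivation ℤ R R) :
    ∃ (N : ℕ) (D' : Derivation ℤ R' R'),
      ∀ r : R, D' (algebraMap R R' r) = algebraMap R R' (g ^ N * D r) := by
  classical
  obtain ⟨g', hg'⟩ : ∃ g' : R', g' = algebraMap R R' g := ⟨_, rfl⟩
  haveI : IsLocalization.Away g' L := hg' ▸ inferInstance
  rw [← hg'] at hg hloc
  let ι : R' →+* L := algebraMap R' L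
  have hιR : ∀ r : R, algebraMap R L r = ι (algebraMap R R' r) :=
    fun r => IsScalarTower.algebraMap_apply R R' L r
  have hgnzd : g' ∈ nonZeroDivisors R' := by
    have h2 : IsLeftRegular g' := hg
    exact (isLeftRegular_iff_isRegular.mp h2).mem_nonZeroDivisors
  have hιinj : Function.Injective ι :=
    IsLocalization.injective L (M := Submonoid.powers g')
      (Submonoid.powers_le.mpr hgnzd)
  -- `L` is a localization of `R` away from `g`
  haveI hLoc : IsLocalization (Submonoid.powers g) L := by
    refine ⟨?_, ?_, ?_⟩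
    · rintro ⟨_, n, rfl⟩
      rw [hιR, map_pow, ← hg']
      exact IsLocalization.map_units L (⟨g' ^ n, n, rfl⟩ : Submonoid.powers g')
    · intro z
      obtain ⟨⟨x, ⟨_, n, rfl⟩⟩, hx⟩ := IsLocalization.surj (Submonoid.powers g') z
      obtain ⟨k, r, hr⟩ := hloc x
      refine ⟨(r, ⟨g ^ (n + k), n + k, rfl⟩), ?_⟩
      have hx' : z * ι (g' ^ n) = ι x := hx
      change z * algebraMap R L (g ^ (n + k)) = algebraMap R L r
      rw [hιR, hιR, hr, map_pow, ← hg', pow_add, map_mul ι (g' ^ n) (g' ^ k), ← mul_assoc, hx',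
        ← map_mul, mul_comm]
    · intro x y hxy
      rw [hιR, hιR] at hxy
      obtain ⟨⟨_, n, rfl⟩, hc⟩ := (IsLocalization.eq_iff_exists (Submonoid.powers g') L).mp hxy
      refine ⟨⟨g ^ n, n, rfl⟩, ?_⟩
      apply hinj
      simp only [map_mul, map_pow]
      rw [← hg']
      exact hc
  let D₁ : Derivation ℤ R L := (Algebra.linearMap R L).compDer D
  have hD₁ : ∀ r, D₁ r = algebraMap R L (D r) := fun r => rfl
  let Dg : Derivation ℤ L L := Groth.Agent.H11.DerivLoc.extend (Submonoid.powers g) D₁
  have hDg : ∀ r : R, Dg (ι (algebraMap R R' r)) = ι (algebraMap R R' (D r)) := by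
    intro r
    rw [← hιR, ← hιR]
    exact Groth.Agent.H11.DerivLoc.extend_algebraMap _ D₁ r
  -- bounded denominators
  have hmono : ∀ (N N' : ℕ) (x : L), N ≤ N' → ι (g' ^ N) * x ∈ ι.range → ι (g' ^ N') * x ∈ ι.range := by
    intro N N' x hNN' hx
    obtain ⟨k, rfl⟩ := Nat.exists_eq_add_of_le hNN'
    rw [pow_add, map_mul, mul_comm (ι (g' ^ N)), mul_assoc]
    exact ι.range.mul_mem ⟨_, rfl⟩ hx
  have hden : ∀ x : L, ∃ n : ℕ, ι (g' ^ n) * x ∈ ι.range := by
    intro x
    obtain ⟨⟨y, ⟨_, n, rfl⟩⟩, hy⟩ := IsLocalization.surj (Submonoid.powers g') x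
    refine ⟨n, y, ?_⟩
    rw [mul_comm]
    exact hy.symm
  obtain ⟨s, hs⟩ := (Algebra.FiniteType.out : (⊤ : Subalgebra R R').FG)
  have hfin : ∀ t : Finset R', ∃ N : ℕ, ∀ x ∈ t, ι (g' ^ N) * Dg (ι x) ∈ ι.range := by
    intro t
    induction t using Finset.induction_on with
    | empty => exact ⟨0, fun x hx => absurd hx (Finset.notMem_empty x)⟩
    | insert a t _ ih =>
      obtain ⟨N, hN⟩ := ih
      obtain ⟨n, hn⟩ := hden (Dg (ι a))
      refine ⟨max N n, fun x hx => ?_⟩
      rcases Finset.mem_insert.mp hx with rfl | hx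
      · exact hmono n _ _ (le_max_right _ _) hn
      · exact hmono N _ _ (le_max_left _ _) (hN x hx)
  obtain ⟨N, hN⟩ := hfin s
  have hall : ∀ x : R', ι (g' ^ N) * Dg (ι x) ∈ ι.range := by
    intro x
    have hx : x ∈ Algebra.adjoin R (s : Set R') := by rw [hs]; exact Algebra.mem_top
    induction hx using Algebra.adjoin_induction with
    | mem x hx => exact hN x hx
    | algebraMap r =>
      rw [hDg]
      exact ι.range.mul_mem ⟨_, rfl⟩ ⟨_, rfl⟩
    | add x y _ _ hx hy =>
      rw [map_add, map_add, mul_add]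
      exact ι.range.add_mem hx hy
    | mul x y _ _ hx hy =>
      rw [map_mul, Derivation.leibniz, smul_eq_mul, smul_eq_mul, mul_add, mul_left_comm,
        mul_left_comm (ι (g' ^ N)) (ι y)]
      exact ι.range.add_mem (ι.range.mul_mem ⟨_, rfl⟩ hy) (ι.range.mul_mem ⟨_, rfl⟩ hx)
  choose D'fun hD'fun using hall
  have hadd : ∀ x y, D'fun (x + y) = D'fun x + D'fun y := by
    intro x y
    apply hιinj
    rw [map_add, hD'fun, hD'fun, hD'fun, map_add, map_add, mul_add]
  have hleib : ∀ x y, D'fun (x * y) = x • D'fun y + y • D'fun x := by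
    intro x y
    apply hιinj
    rw [smul_eq_mul, smul_eq_mul, map_add, map_mul, map_mul, hD'fun, hD'fun, hD'fun, map_mul,
      Derivation.leibniz, smul_eq_mul, smul_eq_mul]
    ring
  let D' : Derivation ℤ R' R' :=
    Derivation.mk' (AddMonoidHom.mk' D'fun hadd).toIntLinearMap hleib
  refine ⟨N, D', fun r => ?_⟩
  apply hιinj
  change ι (D'fun (algebraMap R R' r)) = _
  rw [hD'fun, hDg, ← map_mul, map_mul (algebraMap R R'), map_pow, ← hg']

end Ext

end Groth.Agent.H11.DerivLoc
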