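import Mathlib
import Groth.Prelude.Def_Flat
import Groth.Prelude.Def_CurvBase
import Groth.Prelude.Def_Dual3
import Groth.Agent.S1621
import Groth.Agent.H7.FieldResidue
import Groth.Agent.H17.DimIneq
import Groth.Agent.H51.ResTrdeg
import Groth.Agent.H53.FibreDimThick
import Groth.Agent.H49.FibreDepth
import Groth.Agent.H49.FibreDimAtBC
import Groth.Agent.H72.FlatCM
import Groth.Agent.H11.FtChart

/-!
# Dimension formula for a flat morphism to a scheme locally of finite type over a field

`localDim_eq_add_fibreDimAt`: for `h : P ⟶ X` flat and locally of finite type, `X` locally of finite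
type over a field `k`, `dim_z P = dim_{h z} X + dim_z (fibre of h through z)`.
-/

set_option autoImplicit false
universe u
open CategoryTheory CategoryTheory.Limits AlgebraicGeometry TopologicalSpace

namespace Groth.Agent.H11.DimFormula

open Groth.Agent.H11.FtChart

section trdeg

variable (k : Type u) [Field k] (X : Scheme.{u}) [X.Over (Spec (CommRingCat.of k))]

/-- `trdeg_k κ(x)` is the residue transcendence degree of the structure morphism at `x`. -/
theorem trdeg_eq_resTrdeg (x : X) :
    (letI := Curv2.resAlgebra k X x; Algebra.trdeg k (X.residueField x)) =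
      Dual3.resTrdeg (X ↘ Spec (CommRingCat.of k)) x := by
  letI i1 := Curv2.resAlgebra k X x
  letI i2 : Algebra ((Spec (CommRingCat.of k)).residueField ((X ↘ Spec (CommRingCat.of k)) x))
      (X.residueField x) := ((X ↘ Spec (CommRingCat.of k)).residueFieldMap x).hom.toAlgebra
  haveI : FaithfulSMul ((Spec (CommRingCat.of k)).residueField ((X ↘ Spec (CommRingCat.of k)) x))
      (X.residueField x) :=
    (faithfulSMul_iff_algebraMap_injective _ _).mpr (RingHom.injective _)
  unfold Dual3.resTrdeg
  let α : k ≃+* (Spec (CommRingCat.of k)).residueField ((X ↘ Spec (CommRingCat.of k)) x) :=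
    RingEquiv.ofBijective (Groth.Agent.H7.fieldToResidue k ((X ↘ Spec (CommRingCat.of k)) x)).hom
      (Groth.Agent.H7.fieldToResidue_bijective k ((X ↘ Spec (CommRingCat.of k)) x))
  refine Groth.Agent.H17.DimIneq.trdeg_eq_of_ringEquiv_square
    (A := (Spec (CommRingCat.of k)).residueField ((X ↘ Spec (CommRingCat.of k)) x))
    (B := X.residueField x) (A' := k) (B' := X.residueField x) α (RingEquiv.refl _) ?_
  intro a
  have := congrArg (fun φ : k →+* X.residueField x => φ a) (Groth.Agent.H7.resMap_eq k X x)
  exact this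

/-- Residue fields of a scheme locally of finite type over `k` have finite transcendence degree. -/
theorem exists_nat_trdeg_eq [LocallyOfFiniteType (X ↘ Spec (CommRingCat.of k))] (x : X) :
    ∃ a : ℕ, (letI := Curv2.resAlgebra k X x; Algebra.trdeg k (X.residueField x)) = a := by
  obtain ⟨U, hU, hxU, -⟩ := Opens.isBasis_iff_nbhd.mp X.isBasis_affineOpens
    (show x ∈ (⊤ : X.Opens) from trivial)
  have hU : IsAffineOpen U := hU
  letI := secAlgebra k X U
  haveI := finiteType_sec k X hU
  rw [← trdeg_eq k hU x hxU]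
  haveI : Algebra.EssFiniteType k (hU.primeIdealOf ⟨x, hxU⟩).asIdeal.ResidueField :=
    .comp k Γ(X, U) _
  have hlt : Algebra.trdeg k (hU.primeIdealOf ⟨x, hxU⟩).asIdeal.ResidueField < Cardinal.aleph0 :=
    trdeg_lt_aleph0 k _
  exact Cardinal.lt_aleph0.mp hlt

end trdeg

section pre

theorem resTrdeg_eq_zero_of_isPreimmersion {V V' : Scheme.{u}} (j : V ⟶ V') [IsPreimmersion j]
    (v : V) : Dual3.resTrdeg j v = 0 := by
  refine Groth.Agent.H51.resTrdeg_eq_zero_of_finite j v ?_
  letI := (j.residueFieldMap v).hom.toAlgebra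
  haveI := Groth.Agent.H53.isIso_residueFieldMap_of_isPreimmersion j v
  have hsurj : Function.Surjective (algebraMap (V'.residueField (j v)) (V.residueField v)) :=
    (ConcreteCategory.bijective_of_isIso (j.residueFieldMap v)).2
  exact (Algebra.isIntegral_of_surjective hsurj).isAlgebraic

end pre

section main

/-- **Dimension formula** for a flat morphism locally of finite type to a scheme locally of finite
type over a field. -/
theorem localDim_eq_add_fibreDimAt (k : Type u) [Field k] (X : Scheme.{u})
    [X.Over (Spec (CommRingCat.of k))] [LocallyOfFiniteType (X ↘ Spec (CommRingCat.of k))]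
    {P : Scheme.{u}} (h : P ⟶ X) [Flat h] [LocallyOfFiniteType h]
    (z : P) :
    FlatMor.localDim P z = FlatMor.localDim X (h z) + FlatMor.fibreDimAt h z := by
  letI ovP : P.Over (Spec (CommRingCat.of k)) := ⟨h ≫ (X ↘ Spec (CommRingCat.of k))⟩
  haveI : LocallyOfFiniteType (P ↘ Spec (CommRingCat.of k)) :=
    (inferInstance : LocallyOfFiniteType (h ≫ (X ↘ Spec (CommRingCat.of k))))
  haveI : IsLocallyNoetherian X :=
    LocallyOfFiniteType.isLocallyNoetherian (X ↘ Spec (CommRingCat.of k))
  haveI : IsLocallyNoetherian P :=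
    LocallyOfFiniteType.isLocallyNoetherian (P ↘ Spec (CommRingCat.of k))
  letI ovF : (h.fiber (h z)).Over (Spec (CommRingCat.of (X.residueField (h z)))) :=
    ⟨h.fiberToSpecResidueField (h z)⟩
  haveI : LocallyOfFiniteType ((h.fiber (h z)) ↘ Spec (CommRingCat.of (X.residueField (h z)))) :=
    (inferInstance : LocallyOfFiniteType (pullback.snd h (X.fromSpecResidueField (h z))))
  haveI : IsLocallyNoetherian (h.fiber (h z)) :=
    LocallyOfFiniteType.isLocallyNoetherian
      ((h.fiber (h z)) ↘ Spec (CommRingCat.of (X.residueField (h z))))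
  -- transcendence degrees
  obtain ⟨az, haz⟩ := exists_nat_trdeg_eq k P z
  have hadd : (letI := Curv2.resAlgebra k P z; Algebra.trdeg k (P.residueField z)) =
      (letI := Curv2.resAlgebra k X (h z); Algebra.trdeg k (X.residueField (h z))) +
      (letI := Curv2.resAlgebra (X.residueField (h z)) (h.fiber (h z)) (h.asFiber z);
        Algebra.trdeg (X.residueField (h z)) ((h.fiber (h z)).residueField (h.asFiber z))) := by
    rw [trdeg_eq_resTrdeg k P z, trdeg_eq_resTrdeg k X (h z),
      trdeg_eq_resTrdeg (X.residueField (h z)) (h.fiber (h z)) (h.asFiber z)]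
    have e0 : Dual3.resTrdeg (P ↘ Spec (CommRingCat.of k)) z =
        Dual3.resTrdeg (X ↘ Spec (CommRingCat.of k)) (h z) + Dual3.resTrdeg h z :=
      Groth.Agent.H51.resTrdeg_comp h (X ↘ Spec (CommRingCat.of k)) z
    rw [e0]
    congr 1
    have e1 := Groth.Agent.H51.resTrdeg_comp (h.fiberι (h z)) h (h.asFiber z)
    have e2 := Groth.Agent.H51.resTrdeg_comp (h.fiberToSpecResidueField (h z))
      (X.fromSpecResidueField (h z)) (h.asFiber z)
    rw [h.fiber_fac (h z), e2, resTrdeg_eq_zero_of_isPreimmersion (X.fromSpecResidueField (h z)),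
      resTrdeg_eq_zero_of_isPreimmersion (h.fiberι (h z)), zero_add, add_zero,
      h.fiberι_asFiber z] at e1
    exact e1.symm
  obtain ⟨ax, hax⟩ : ∃ ax : ℕ, (letI := Curv2.resAlgebra k X (h z);
      Algebra.trdeg k (X.residueField (h z))) = ax := exists_nat_trdeg_eq k X (h z)
  obtain ⟨aw, haw⟩ : ∃ aw : ℕ,
      (letI := Curv2.resAlgebra (X.residueField (h z)) (h.fiber (h z)) (h.asFiber z);
        Algebra.trdeg (X.residueField (h z)) ((h.fiber (h z)).residueField (h.asFiber z))) = aw :=
    exists_nat_trdeg_eq (X.residueField (h z)) (h.fiber (h z)) (h.asFiber z)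
  rw [haz, hax, haw] at hadd
  have hadd' : az = ax + aw := by exact_mod_cast hadd
  -- dimensions of the local rings
  obtain ⟨bz, hbz⟩ := Groth.Agent.H72.FlatCM.exists_ringKrullDim_eq_natCast (P.presheaf.stalk z)
  obtain ⟨bx, hbx⟩ := Groth.Agent.H72.FlatCM.exists_ringKrullDim_eq_natCast
    (X.presheaf.stalk (h z))
  obtain ⟨bw, hbw⟩ := Groth.Agent.H72.FlatCM.exists_ringKrullDim_eq_natCast
    ((h.fiber (h z)).presheaf.stalk (h.asFiber z))
  have hA := Groth.Agent.S1621.result k P z az bz haz hbz
  have hB := Groth.Agent.S1621.result k X (h z) ax bx hax hbx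
  have hC := Groth.Agent.S1621.result (X.residueField (h z)) (h.fiber (h z)) (h.asFiber z) aw bw
    haw hbw
  have hD := Groth.Agent.H49.FibreDepth.ringKrullDim_stalk_eq_add h z (Flat.stalkMap h z)
  have hD' : ringKrullDim (CInt.fiberStalk h z) = bw := hbw
  rw [hbz, hbx, hD'] at hD
  have hD'' : bz = bx + bw := by exact_mod_cast hD
  have hE := Groth.Agent.H49.FibreDimAtBC.localDim_fiber_eq h (h z) (h.asFiber z)
  rw [h.fiberι_asFiber z] at hE
  rw [hA, hB, ← hE, hC]
  have : az + bz = (ax + bx) + (aw + bw) := by omega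
  exact_mod_cast this

end main

end Groth.Agent.H11.DimFormula
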