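import Groth.Agent.H11.DiscEtale

set_option autoImplicit false
open TensorProduct

namespace Groth.Agent.H11

universe u v

namespace DiscFree

variable {A : Type u} {B : Type v} [CommRing A] [CommRing B] [Algebra A B]
variable {ι : Type*} [Fintype ι] [DecidableEq ι] (b : Module.Basis ι A B)
include b

omit [Fintype ι] [DecidableEq ι] in
/-- `ω` is a faithful `B`-module. -/
theorem eq_zero_of_smul_eq_zero (a : B) (h : ∀ l : Disc.Omega A B, a • l = 0) : a = 0 := by
  apply b.repr.injective
  ext i
  have := congr_arg (fun l : Disc.Omega A B => l.toLinearMap 1) (h (cd b i))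
  simpa [cd] using this

/-- Symmetry: `λ (Φ τ) = Tr (Φ λ)`. -/
theorem apply_phi_trace [Module.Free A B] [Module.Finite A B] (Φ : Disc.Omega A B →ₗ[B] B)
    (l : Disc.Omega A B) :
    l.toLinearMap (Φ (Disc.Omega.trace A B)) = Algebra.trace A B (Φ l) := by
  -- reduce to `l = cd b i`
  have key : ∀ i, (b.coord i) (Φ (Disc.Omega.trace A B)) = Algebra.trace A B (Φ (cd b i)) := by
    intro i
    -- LHS
    have hL : (b.coord i) (Φ (Disc.Omega.trace A B)) =
        ∑ j, ∑ k, b.repr (Φ (cd b j)) k * b.repr (b j * b k) i := by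
      rw [trace_decomp b, map_sum, map_sum]
      refine Finset.sum_congr rfl (fun j _ => ?_)
      rw [map_smul, smul_eq_mul]
      conv_lhs => rw [← b.sum_repr (Φ (cd b j)), Finset.mul_sum, map_sum]
      refine Finset.sum_congr rfl (fun k _ => ?_)
      rw [mul_smul_comm, map_smul, smul_eq_mul, Module.Basis.coord_apply]
    have hR : Algebra.trace A B (Φ (cd b i)) =
        ∑ j, ∑ k, b.repr (b j * b k) i * b.repr (Φ (cd b k)) j := by
      rw [Algebra.trace_eq_matrix_trace b, Matrix.trace]
      refine Finset.sum_congr rfl (fun j _ => ?_)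
      rw [Matrix.diag_apply, Algebra.leftMulMatrix_eq_repr_mul]
      -- Φ (cd b i) * b j = Φ (b j • cd b i)
      have h1 : Φ (cd b i) * b j = Φ (b j • cd b i) := by
        rw [map_smul, smul_eq_mul, mul_comm]
      have h2 : b j • cd b i = ∑ k, (algebraMap A B (b.repr (b j * b k) i)) • cd b k := by
        have := omega_decomp b (b j • cd b i)
        simpa [cd] using this
      rw [h1, h2, map_sum, map_sum, Finsupp.coe_finsetSum, Finset.sum_apply]
      refine Finset.sum_congr rfl (fun k _ => ?_)
      rw [map_smul, smul_eq_mul, ← Algebra.smul_def, map_smul, Finsupp.smul_apply, smul_eq_mul]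
    rw [hL, hR, Finset.sum_comm]
    refine Finset.sum_congr rfl (fun j _ => Finset.sum_congr rfl (fun k _ => ?_))
    rw [mul_comm (b k) (b j), mul_comm]
  conv_lhs => rw [omega_decomp b l]
  conv_rhs => rw [omega_decomp b l]
  rw [toLinearMap_sum, LinearMap.sum_apply, map_sum, map_sum]
  refine Finset.sum_congr rfl (fun i _ => ?_)
  rw [map_smul, smul_eq_mul, ← Algebra.smul_def, map_smul, smul_eq_mul, ← key i]
  simp [cd, ← Algebra.smul_def]

/-- `Φ τ • λ = Φ λ • τ`. -/
theorem phi_trace_smul [Module.Free A B] [Module.Finite A B] (Φ : Disc.Omega A B →ₗ[B] B)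
    (l : Disc.Omega A B) :
    Φ (Disc.Omega.trace A B) • l = Φ l • Disc.Omega.trace A B := by
  apply Disc.Omega.ext
  apply LinearMap.ext
  intro x
  rw [smul_trace_apply, Disc.Omega.smul_toLinearMap_apply]
  have h1 := apply_phi_trace b Φ (x • l)
  rw [Disc.Omega.smul_toLinearMap_apply, map_smul, smul_eq_mul] at h1
  rw [mul_comm, h1, mul_comm]

/-- Values `Φ τ` lie in the different set. -/
theorem phi_trace_mem_differentSet [Module.Free A B] [Module.Finite A B]
    (Φ : Disc.Omega A B →ₗ[B] B) :
    Φ (Disc.Omega.trace A B) ∈ Disc.differentSet A B := by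
  intro φ
  refine ⟨Φ ⟨φ⟩, fun x => ?_⟩
  have := congr_arg (fun l : Disc.Omega A B => l.toLinearMap x) (phi_trace_smul b Φ ⟨φ⟩)
  simpa [smul_trace_apply] using this

omit [DecidableEq ι] in
/-- The square of an element of the different set is a value `Φ τ`. -/
theorem exists_phi_trace_eq_sq [Module.Free A B] [Module.Finite A B] (d : B)
    (hd : d ∈ Disc.differentSet A B) :
    ∃ Φ : Disc.Omega A B →ₗ[B] B, Φ (Disc.Omega.trace A B) = d * d := by
  choose c hc using fun i : ι => hd (b.coord i)
  have hc' : ∀ i, d • cd b i = c i • Disc.Omega.trace A B := by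
    intro i
    apply Disc.Omega.ext
    apply LinearMap.ext
    intro x
    rw [smul_trace_apply, Disc.Omega.smul_toLinearMap_apply]
    exact hc i x
  let C : Disc.Omega A B → B := fun l => ∑ i, (l.toLinearMap (b i)) • c i
  have hC : ∀ l, d • l = C l • Disc.Omega.trace A B := by
    intro l
    conv_lhs => rw [omega_decomp b l, Finset.smul_sum]
    simp only [C, Finset.sum_smul]
    refine Finset.sum_congr rfl (fun i _ => ?_)
    rw [smul_comm, hc', ← mul_smul, Algebra.smul_def]
  have hann : ∀ a : B, a • Disc.Omega.trace A B = 0 → d * a = 0 := by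
    intro a ha
    apply eq_zero_of_smul_eq_zero b
    intro l
    rw [mul_comm, mul_smul, hC l, smul_comm, ha, smul_zero]
  have hsub : ∀ a a' : B, a • Disc.Omega.trace A B = a' • Disc.Omega.trace A B →
      d * a = d * a' := by
    intro a a' h
    have := hann (a - a') (by rw [sub_smul, h, sub_self])
    rw [mul_sub, sub_eq_zero] at this
    exact this
  refine ⟨{ toFun := fun l => d * C l
            map_add' := fun l l' => ?_
            map_smul' := fun s l => ?_ }, ?_⟩
  · rw [← mul_add]
    apply hsub
    rw [← hC, add_smul, ← hC, ← hC, smul_add]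
  · rw [RingHom.id_apply, smul_eq_mul, mul_left_comm]
    apply hsub
    rw [← hC, mul_smul, ← hC, smul_comm]
  · change d * C (Disc.Omega.trace A B) = d * d
    apply hsub
    rw [← hC]

end DiscFree

end Groth.Agent.H11
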