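import Groth.Agent.H11.DiscFree
import Mathlib.RingTheory.Discriminant
import Mathlib.RingTheory.Unramified.Finite
import Mathlib.RingTheory.Smooth.Fiber
import Mathlib.RingTheory.Finiteness.ModuleFinitePresentation
import Mathlib.RingTheory.Etale.Basic
import Mathlib.Tactic

set_option autoImplicit false
open TensorProduct

namespace Groth.Agent.H11

universe u v

namespace DiscFree

variable {A : Type u} {B : Type v} [CommRing A] [CommRing B] [Algebra A B]
variable {ι : Type} [Fintype ι] [DecidableEq ι] (b : Module.Basis ι A B)

@[simp] theorem trace_toLinearMap [Module.Free A B] [Module.Finite A B] :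
    (Disc.Omega.trace A B).toLinearMap = Algebra.trace A B := rfl

/-- `c • τ` evaluated: the trace form. -/
theorem smul_trace_apply [Module.Free A B] [Module.Finite A B] (c y : B) :
    (c • Disc.Omega.trace A B).toLinearMap y = Algebra.trace A B (c * y) := rfl

/-- If some `B`-linear `Φ : ω → B` has `Φ τ = 1`, the discriminant is a unit. -/
theorem isUnit_discr_of_retraction [Module.Free A B] [Module.Finite A B]
    (Φ : Disc.Omega A B →ₗ[B] B) (hΦ : Φ (Disc.Omega.trace A B) = 1) :
    IsUnit (Algebra.discr A b) := by
  let L' : ι → ι → A := fun i j => b.repr (Φ (cd b j)) i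
  have hTL' : ∀ k i, ∑ j, Algebra.trace A B (b k * b j) * L' i j = if k = i then 1 else 0 := by
    intro k i
    have h1 : b k • Disc.Omega.trace A B =
        ∑ j, (algebraMap A B (Algebra.trace A B (b k * b j))) • cd b j := by
      have := omega_decomp b (b k • Disc.Omega.trace A B)
      simpa [smul_trace_apply] using this
    have h2 : Φ (b k • Disc.Omega.trace A B) = b k := by
      rw [map_smul, hΦ, smul_eq_mul, mul_one]
    rw [h1, map_sum] at h2
    have h3 := congr_arg (fun z => b.repr z i) h2
    simp only [map_sum, Finsupp.coe_finsetSum, Finset.sum_apply, map_smul] at h3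
    have h4 : (b.repr (b k)) i = if k = i then 1 else 0 := by
      rw [b.repr_self, Finsupp.single_apply]
    rw [← h4, ← h3]
    refine Finset.sum_congr rfl (fun j _ => ?_)
    rw [smul_eq_mul, ← Algebra.smul_def, map_smul]
    simp [L', smul_eq_mul]
  have hTL : Algebra.traceMatrix A b * (Matrix.of L').transpose = 1 := by
    ext k i
    rw [Matrix.mul_apply, Matrix.one_apply, ← hTL' k i]
    refine Finset.sum_congr rfl (fun j _ => ?_)
    rw [Algebra.traceMatrix_apply, Algebra.traceForm_apply, Matrix.transpose_apply,
      Matrix.of_apply]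
  have hdet := congr_arg Matrix.det hTL
  rw [Matrix.det_mul, Matrix.det_one] at hdet
  rw [Algebra.discr_def]
  exact IsUnit.of_mul_eq_one _ hdet

/-- If the discriminant is a unit there is a `B`-linear retraction `ω → B` of `c ↦ c • τ`. -/
theorem exists_retraction_of_isUnit_discr [Module.Free A B] [Module.Finite A B]
    (h : IsUnit (Algebra.discr A b)) :
    ∃ Φ : Disc.Omega A B →ₗ[B] B, Φ (Disc.Omega.trace A B) = 1 := by
  have hdet : IsUnit (Algebra.traceMatrix A b).det := h
  let U : ι → ι → A := fun j i => (Algebra.traceMatrix A b)⁻¹ j i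
  have hUT : ∀ j k, ∑ i, U j i * Algebra.trace A B (b i * b k) = if j = k then 1 else 0 := by
    intro j k
    have := congr_fun (congr_fun (Matrix.nonsing_inv_mul (Algebra.traceMatrix A b) hdet) j) k
    rw [Matrix.mul_apply, Matrix.one_apply] at this
    rw [← this]
    refine Finset.sum_congr rfl (fun i _ => ?_)
    rw [Algebra.traceMatrix_apply, Algebra.traceForm_apply]
  have hTU : ∀ j k, ∑ i, Algebra.trace A B (b j * b i) * U i k = if j = k then 1 else 0 := by
    intro j k
    have := congr_fun (congr_fun (Matrix.mul_nonsing_inv (Algebra.traceMatrix A b) hdet) j) k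
    rw [Matrix.mul_apply, Matrix.one_apply] at this
    rw [← this]
    refine Finset.sum_congr rfl (fun i _ => ?_)
    rw [Algebra.traceMatrix_apply, Algebra.traceForm_apply]
  let Ψ : Disc.Omega A B → B := fun l => ∑ i, (∑ j, l.toLinearMap (b j) * U j i) • b i
  -- θ ∘ Ψ = id
  have h1 : ∀ l : Disc.Omega A B, Ψ l • Disc.Omega.trace A B = l := by
    intro l
    apply Disc.Omega.ext
    apply b.ext
    intro k
    rw [smul_trace_apply]
    simp only [Ψ, Finset.sum_mul, map_sum, smul_mul_assoc, map_smul, smul_eq_mul]
    have : ∀ i, (∑ j, l.toLinearMap (b j) * U j i) * Algebra.trace A B (b i * b k) =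
        ∑ j, l.toLinearMap (b j) * (U j i * Algebra.trace A B (b i * b k)) := by
      intro i
      rw [Finset.sum_mul]
      refine Finset.sum_congr rfl (fun j _ => ?_)
      ring
    rw [Finset.sum_comm]
    have h3 : ∀ j, ∑ i, l.toLinearMap (b j) * U j i * Algebra.trace A B (b i * b k) =
        l.toLinearMap (b j) * (if j = k then 1 else 0) := fun j => by
      rw [← hUT, Finset.mul_sum]
      refine Finset.sum_congr rfl (fun i _ => ?_)
      ring
    simp only [h3, mul_ite, mul_one, mul_zero, Finset.sum_ite_eq', Finset.mem_univ, if_true]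
  -- θ injective
  have h2 : ∀ c : B, c • Disc.Omega.trace A B = 0 → c = 0 := by
    intro c hc
    have hk : ∀ k, Algebra.trace A B (c * b k) = 0 := by
      intro k
      have := congr_arg (fun l : Disc.Omega A B => l.toLinearMap (b k)) hc
      simpa [smul_trace_apply] using this
    have hv : ∀ k, ∑ m, b.repr c m * Algebra.trace A B (b m * b k) = 0 := by
      intro k
      rw [← hk k]
      conv_rhs => rw [← b.sum_repr c, Finset.sum_mul, map_sum]
      refine Finset.sum_congr rfl (fun m _ => ?_)
      rw [smul_mul_assoc, map_smul, smul_eq_mul]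
    have hv' : ∀ m, b.repr c m = 0 := by
      intro m
      have e1 : ∑ k, (∑ m', b.repr c m' * Algebra.trace A B (b m' * b k)) * U k m = 0 := by
        simp [hv]
      have e2 : ∑ k, (∑ m', b.repr c m' * Algebra.trace A B (b m' * b k)) * U k m =
          ∑ m', b.repr c m' * ∑ k, Algebra.trace A B (b m' * b k) * U k m := by
        simp only [Finset.sum_mul, Finset.mul_sum]
        rw [Finset.sum_comm]
        refine Finset.sum_congr rfl (fun m' _ => Finset.sum_congr rfl (fun k _ => ?_))
        ring
      rw [e2] at e1
      simpa [hTU] using e1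
    apply b.repr.injective
    ext m
    simpa using hv' m
  have hinj : ∀ c c' : B, c • Disc.Omega.trace A B = c' • Disc.Omega.trace A B → c = c' := by
    intro c c' hcc
    rw [← sub_eq_zero]
    apply h2
    rw [sub_smul, hcc, sub_self]
  refine ⟨{ toFun := Ψ
            map_add' := fun l l' => hinj _ _ (by rw [h1, add_smul, h1, h1])
            map_smul' := fun s l => hinj _ _ (by
              rw [h1, RingHom.id_apply, smul_eq_mul, mul_smul, h1]) }, ?_⟩
  change Ψ (Disc.Omega.trace A B) = 1
  apply hinj
  rw [h1, one_smul]

theorem etale_iff_isUnit_discr : Algebra.Etale A B ↔ IsUnit (Algebra.discr A b) := by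
  have : Module.Finite A B := Module.Finite.of_basis b
  have : Module.Free A B := Module.Free.of_basis b
  constructor
  · intro hE
    have : Algebra.FormallyUnramified A B := inferInstance
    obtain ⟨t, ht1, ht2⟩ := Algebra.FormallyUnramified.iff_exists_tensorProduct.mp
      (inferInstance : Algebra.FormallyUnramified A B)
    have htann : t ∈ Submodule.annihilator
        (RingHom.ker (Algebra.TensorProduct.lmul' (S := B) A)) := by
      rw [mem_annihilator_iff]
      intro s
      have := ht1 s
      rw [sub_mul, sub_eq_zero] at this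
      exact this.symm
    refine isUnit_discr_of_retraction b (phiOf t htann) ?_
    rw [trace_decomp b, map_sum]
    have h := lmul_eq_sum b t
    rw [ht2] at h
    rw [h]
    refine Finset.sum_congr rfl (fun i _ => ?_)
    rw [map_smul, smul_eq_mul]
    rfl
  · intro h
    obtain ⟨Φ, hΦ⟩ := exists_retraction_of_isUnit_discr b h
    have : Algebra.FormallyUnramified A B := by
      rw [Algebra.FormallyUnramified.iff_exists_tensorProduct]
      refine ⟨xi b Φ, ?_, ?_⟩
      · intro s
        have := (mem_annihilator_iff (xi b Φ)).1 (xi_mem_annihilator b Φ) s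
        rw [sub_mul, this, sub_self]
      · have h1 := lmul_eq_sum b (xi b Φ)
        rw [h1, ← hΦ, trace_decomp b, map_sum]
        refine Finset.sum_congr rfl (fun i _ => ?_)
        rw [map_smul, smul_eq_mul]
        congr 1
        exact pair_xi b Φ (cd b i)
    have : Module.FinitePresentation A B := Module.finitePresentation_of_projective A B
    exact Algebra.Etale.of_formallyUnramified_of_flat

end DiscFree

end Groth.Agent.H11
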