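import Groth.Prelude.Def_Disc
import Mathlib.RingTheory.Kaehler.Basic
import Mathlib.RingTheory.Trace.Basic
import Mathlib.LinearAlgebra.FreeModule.Basic
import Mathlib.Tactic

set_option autoImplicit false
open TensorProduct

namespace Groth.Agent.H11

universe u v

namespace DiscFree

variable {A : Type u} {B : Type v} [CommRing A] [CommRing B] [Algebra A B]

/-- The pairing of a functional with a tensor: `x ⊗ y ↦ l x • y`. -/
noncomputable def pair (l : B →ₗ[A] A) : B ⊗[A] B →ₗ[A] B :=
  TensorProduct.lift ((LinearMap.lsmul A B).comp l)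

@[simp] theorem pair_tmul (l : B →ₗ[A] A) (x y : B) : pair l (x ⊗ₜ[A] y) = l x • y := by
  simp [pair]

theorem pair_mul_left (l : B →ₗ[A] A) (s : B) (η : B ⊗[A] B) :
    pair l ((s ⊗ₜ[A] (1 : B)) * η) = pair (l ∘ₗ LinearMap.mulLeft A s) η := by
  induction η with
  | zero => simp
  | tmul x y => simp [Algebra.TensorProduct.tmul_mul_tmul]
  | add x y hx hy => rw [mul_add, map_add, map_add, hx, hy]

theorem pair_mul_right (l : B →ₗ[A] A) (s : B) (η : B ⊗[A] B) :
    pair l (((1 : B) ⊗ₜ[A] s) * η) = s * pair l η := by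
  induction η with
  | zero => simp
  | tmul x y => simp [Algebra.TensorProduct.tmul_mul_tmul]
  | add x y hx hy => rw [mul_add, map_add, map_add, hx, hy, mul_add]

theorem pair_add (l l' : B →ₗ[A] A) (η : B ⊗[A] B) : pair (l + l') η = pair l η + pair l' η := by
  induction η with
  | zero => simp
  | tmul x y => simp [add_smul]
  | add x y hx hy => rw [map_add, map_add, map_add, hx, hy]; abel

/-- `toLinearMap` as an additive map. -/
def toLinHom : Disc.Omega A B →+ (B →ₗ[A] A) where
  toFun := Disc.Omega.toLinearMap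
  map_zero' := rfl
  map_add' _ _ := rfl

theorem toLinearMap_sum {ι : Type*} (s : Finset ι) (f : ι → Disc.Omega A B) :
    (∑ i ∈ s, f i).toLinearMap = ∑ i ∈ s, (f i).toLinearMap :=
  map_sum (toLinHom (A := A) (B := B)) f s

variable {ι : Type*} [Fintype ι] (b : Module.Basis ι A B)

/-- The coordinate functionals as elements of `ω`. -/
noncomputable def cd (i : ι) : Disc.Omega A B := ⟨b.coord i⟩

theorem recon (η : B ⊗[A] B) : η = ∑ i, b i ⊗ₜ[A] pair (b.coord i) η := by
  induction η with
  | zero => simp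
  | tmul x y =>
    simp only [pair_tmul]
    conv_lhs => rw [← b.sum_repr x, TensorProduct.sum_tmul]
    refine Finset.sum_congr rfl (fun i _ => ?_)
    rw [TensorProduct.smul_tmul, Module.Basis.coord_apply]
  | add x y hx hy =>
    conv_lhs => rw [hx, hy]
    rw [← Finset.sum_add_distrib]
    refine Finset.sum_congr rfl (fun i _ => ?_)
    rw [map_add, TensorProduct.tmul_add]

theorem omega_decomp (l : Disc.Omega A B) :
    l = ∑ i, (algebraMap A B (l.toLinearMap (b i))) • cd b i := by
  apply Disc.Omega.ext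
  apply LinearMap.ext
  intro x
  rw [toLinearMap_sum, LinearMap.sum_apply]
  simp only [Disc.Omega.smul_toLinearMap_apply, cd]
  conv_lhs => rw [← b.sum_repr x, map_sum]
  refine Finset.sum_congr rfl (fun i _ => ?_)
  rw [map_smul, ← Algebra.smul_def, map_smul, Module.Basis.coord_apply, smul_eq_mul, smul_eq_mul,
    mul_comm]

/-- The tensor attached to a `B`-linear map `ω → B`. -/
noncomputable def xi (Φ : Disc.Omega A B →ₗ[B] B) : B ⊗[A] B := ∑ i, b i ⊗ₜ[A] Φ (cd b i)

theorem pair_xi (Φ : Disc.Omega A B →ₗ[B] B) (l : Disc.Omega A B) :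
    pair l.toLinearMap (xi b Φ) = Φ l := by
  conv_rhs => rw [omega_decomp b l, map_sum]
  rw [xi, map_sum]
  refine Finset.sum_congr rfl (fun i _ => ?_)
  rw [pair_tmul, map_smul, Algebra.smul_def, smul_eq_mul]

theorem eq_of_pair_eq (η η' : B ⊗[A] B) (h : ∀ i, pair (b.coord i) η = pair (b.coord i) η') :
    η = η' := by
  rw [recon b η, recon b η']
  exact Finset.sum_congr rfl (fun i _ => by rw [h i])

theorem mem_annihilator_iff (η : B ⊗[A] B) :
    η ∈ Submodule.annihilator (RingHom.ker (Algebra.TensorProduct.lmul' (S := B) A)) ↔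
      ∀ s : B, (s ⊗ₜ[A] (1 : B)) * η = ((1 : B) ⊗ₜ[A] s) * η := by
  rw [Submodule.mem_annihilator]
  constructor
  · intro h s
    have hmem : (1 : B) ⊗ₜ[A] s - s ⊗ₜ[A] (1 : B) ∈
        RingHom.ker (Algebra.TensorProduct.lmul' (S := B) A) := by
      rw [RingHom.mem_ker]; simp
    have := h _ hmem
    rw [smul_eq_mul, mul_comm, sub_mul, sub_eq_zero] at this
    exact this.symm
  · intro h n hn
    have hn' : n ∈ KaehlerDifferential.ideal A B := hn
    rw [← KaehlerDifferential.span_range_eq_ideal] at hn'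
    rw [smul_eq_mul]
    clear hn
    induction hn' using Submodule.span_induction with
    | mem x hx =>
      obtain ⟨s, rfl⟩ := hx
      rw [mul_comm, sub_mul, h s, sub_self]
    | zero => simp
    | add x y _ _ hx hy => rw [mul_add, hx, hy, add_zero]
    | smul a x _ hx => rw [smul_eq_mul, mul_left_comm, hx, mul_zero]

theorem xi_mem_annihilator (Φ : Disc.Omega A B →ₗ[B] B) :
    xi b Φ ∈ Submodule.annihilator (RingHom.ker (Algebra.TensorProduct.lmul' (S := B) A)) := by
  rw [mem_annihilator_iff]
  intro s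
  apply eq_of_pair_eq b
  intro i
  rw [pair_mul_left, pair_mul_right]
  have h1 : pair (b.coord i ∘ₗ LinearMap.mulLeft A s) (xi b Φ) = Φ (s • cd b i) :=
    pair_xi b Φ (s • cd b i)
  rw [h1, map_smul, smul_eq_mul]
  congr 1
  exact (pair_xi b Φ (cd b i)).symm

/-- The map `ω → B` attached to an element of the annihilator. -/
noncomputable def phiOf (η : B ⊗[A] B)
    (hη : η ∈ Submodule.annihilator (RingHom.ker (Algebra.TensorProduct.lmul' (S := B) A))) :
    Disc.Omega A B →ₗ[B] B where
  toFun l := pair l.toLinearMap η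
  map_add' l l' := by
    exact pair_add l.toLinearMap l'.toLinearMap η
  map_smul' s l := by
    change pair (l.toLinearMap ∘ₗ LinearMap.mulLeft A s) η = s * pair l.toLinearMap η
    rw [← pair_mul_left, ← pair_mul_right, (mem_annihilator_iff η).1 hη s]

theorem trace_decomp [DecidableEq ι] [Module.Free A B] [Module.Finite A B] :
    Disc.Omega.trace A B = ∑ i, b i • cd b i := by
  apply Disc.Omega.ext
  apply LinearMap.ext
  intro x
  rw [toLinearMap_sum, LinearMap.sum_apply]
  simp only [Disc.Omega.smul_toLinearMap_apply, cd, Disc.Omega.trace]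
  rw [Algebra.trace_eq_matrix_trace b x, Matrix.trace]
  refine Finset.sum_congr rfl (fun i _ => ?_)
  rw [Matrix.diag_apply, Algebra.leftMulMatrix_eq_repr_mul, Module.Basis.coord_apply, mul_comm]

theorem lmul_eq_sum (η : B ⊗[A] B) :
    Algebra.TensorProduct.lmul' (S := B) A η = ∑ i, b i * pair (b.coord i) η := by
  conv_lhs => rw [recon b η, map_sum]
  simp

end DiscFree

end Groth.Agent.H11
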