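import Mathlib

/-!
# Formally unramified over an algebraically closed field via dual-number points (ring level)

`formallyUnramified_of_dualNumber`: `k` algebraically closed, `B` a `k`-algebra of finite type such
that two `k`-algebra maps `B → k[ε]` agreeing modulo `ε` are equal. Then `B` is formally
unramified over `k`.
-/

set_option autoImplicit false

namespace Groth.Agent.H11.DualNumUnram

open KaehlerDifferential

universe u

variable (k B : Type u) [Field k] [IsAlgClosed k] [CommRing B] [Algebra k B]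
  [Algebra.FiniteType k B]

set_option maxHeartbeats 1600000 in
theorem formallyUnramified_of_dualNumber
    (H : ∀ φ₁ φ₂ : B →ₐ[k] DualNumber k,
      (TrivSqZeroExt.fstHom k k k).comp φ₁ = (TrivSqZeroExt.fstHom k k k).comp φ₂ → φ₁ = φ₂) :
    Algebra.FormallyUnramified k B := by
  classical
  refine ⟨?_⟩
  by_contra hns
  rw [not_subsingleton_iff_nontrivial] at hns
  obtain ⟨ω, hω⟩ := exists_ne (0 : Ω[B⁄k])
  -- a maximal ideal containing the annihilator of `ω`
  have hann : (Submodule.span B {ω}).annihilator ≠ ⊤ := by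
    intro h
    have h1 : (1 : B) ∈ (Submodule.span B {ω}).annihilator := by rw [h]; trivial
    rw [Submodule.mem_annihilator_span_singleton, one_smul] at h1
    exact hω h1
  obtain ⟨m, hm, hle⟩ := Ideal.exists_le_maximal _ hann
  haveI := hm
  have hne : (m • ⊤ : Submodule B Ω[B⁄k]) ≠ ⊤ := by
    intro h
    obtain ⟨r, hr1, hr⟩ := Submodule.exists_sub_one_mem_and_smul_eq_zero_of_fg_of_le_smul m
      (⊤ : Submodule B Ω[B⁄k]) (Module.finite_def.mp inferInstance) h.ge
    have h2 : r ∈ m := hle (by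
      rw [Submodule.mem_annihilator_span_singleton]; exact hr ω trivial)
    have h3 : (1 : B) ∈ m := by
      have := m.sub_mem h2 hr1
      rwa [sub_sub_cancel] at this
    exact hm.ne_top ((Ideal.eq_top_iff_one m).mpr h3)
  obtain ⟨ω₁, hω₁⟩ : ∃ ω₁ : Ω[B⁄k], ω₁ ∉ (m • ⊤ : Submodule B Ω[B⁄k]) := by
    by_contra hall
    push_neg at hall
    exact hne (eq_top_iff.mpr fun x _ => hall x)
  -- the residue field is `k`
  letI : Field (B ⧸ m) := Ideal.Quotient.field m
  haveI : Module.Finite k (B ⧸ m) := finite_of_finite_type_of_isJacobsonRing k (B ⧸ m)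
  haveI : Algebra.IsIntegral k (B ⧸ m) := Algebra.IsIntegral.of_finite k (B ⧸ m)
  have hbij : Function.Bijective (algebraMap k (B ⧸ m)) :=
    IsAlgClosed.algebraMap_bijective_of_isIntegral
  let e : k ≃ₐ[k] (B ⧸ m) := AlgEquiv.ofBijective (Algebra.ofId k (B ⧸ m)) hbij
  let ev : B →ₐ[k] k := (e.symm : (B ⧸ m) →ₐ[k] k).comp (Ideal.Quotient.mkₐ k m)
  have hev : ∀ b, ev b = 0 ↔ b ∈ m := by
    intro b
    change e.symm (Ideal.Quotient.mk m b) = 0 ↔ _
    rw [map_eq_zero_iff _ e.symm.injective, Ideal.Quotient.eq_zero_iff_mem]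
  have hsub : ∀ b, b - algebraMap k B (ev b) ∈ m := by
    intro b
    rw [← hev, map_sub, AlgHom.commutes, Algebra.algebraMap_self_apply, sub_self]
  -- a functional on `Ω / mΩ`
  have hv : Submodule.Quotient.mk (p := (m • ⊤ : Submodule B Ω[B⁄k])) ω₁ ≠ 0 := by
    rwa [Ne, Submodule.Quotient.mk_eq_zero]
  obtain ⟨φ, hφ⟩ : ∃ φ : Module.Dual k (Ω[B⁄k] ⧸ (m • ⊤ : Submodule B Ω[B⁄k])),
      φ (Submodule.Quotient.mk ω₁) ≠ 0 := by
    by_contra hall
    push_neg at hall
    exact hv ((Module.forall_dual_apply_eq_zero_iff k _).mp hall)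
  let lam : Ω[B⁄k] →ₗ[k] k := φ ∘ₗ ((m • ⊤ : Submodule B Ω[B⁄k]).mkQ.restrictScalars k)
  have hlam : ∀ (b : B) (x : Ω[B⁄k]), lam (b • x) = ev b * lam x := by
    intro b x
    have h1 : b • x = (b - algebraMap k B (ev b)) • x + (ev b) • x := by
      rw [sub_smul, algebraMap_smul, sub_add_cancel]
    have h2 : (m • ⊤ : Submodule B Ω[B⁄k]).mkQ ((b - algebraMap k B (ev b)) • x) = 0 := by
      rw [Submodule.mkQ_apply, Submodule.Quotient.mk_eq_zero]
      exact Submodule.smul_mem_smul (hsub b) trivial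
    change φ ((m • ⊤ : Submodule B Ω[B⁄k]).mkQ (b • x)) = _
    rw [h1, map_add, h2, zero_add]
    change lam (ev b • x) = _
    rw [map_smul, smul_eq_mul]
  -- the two dual-number points
  let φ₁ : B →ₐ[k] DualNumber k := (Algebra.ofId k (DualNumber k)).comp ev
  let φ₂ : B →ₐ[k] DualNumber k := AlgHom.ofLinearMap
    ((Algebra.ofId k (DualNumber k)).toLinearMap ∘ₗ ev.toLinearMap +
      (TrivSqZeroExt.inrHom k k) ∘ₗ lam ∘ₗ (D k B).toLinearMap)
    (by
      ext <;> simp [lam])
    (by
      intro a b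
      ext
      · simp
      · simp only [LinearMap.add_apply, LinearMap.coe_comp, Function.comp_apply,
          TrivSqZeroExt.snd_add, TrivSqZeroExt.snd_mul, TrivSqZeroExt.fst_add]
        simp only [AlgHom.toLinearMap_apply, Algebra.ofId_apply, TrivSqZeroExt.algebraMap_eq_inl,
          TrivSqZeroExt.snd_inl, TrivSqZeroExt.fst_inl, TrivSqZeroExt.inrHom_apply,
          TrivSqZeroExt.snd_inr, TrivSqZeroExt.fst_inr, zero_add, add_zero]
        have hD : (D k B).toLinearMap (a * b) = a • D k B b + b • D k B a :=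
          (D k B).leibniz a b
        rw [hD, map_add, hlam, hlam]
        simp [mul_comm])
  have h12 : (TrivSqZeroExt.fstHom k k k).comp φ₁ = (TrivSqZeroExt.fstHom k k k).comp φ₂ := by
    ext b
    simp [φ₁, φ₂, TrivSqZeroExt.algebraMap_eq_inl]
  have heq := H φ₁ φ₂ h12
  have hzero : ∀ b, lam (D k B b) = 0 := by
    intro b
    have h1 := congrArg (fun ψ : B →ₐ[k] DualNumber k => TrivSqZeroExt.snd (ψ b)) heq
    simpa [φ₁, φ₂] using h1.symm
  have hlam0 : ∀ x : Ω[B⁄k], lam x = 0 := by
    intro x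
    have hx : x ∈ Submodule.span B (Set.range (D k B)) := by
      rw [KaehlerDifferential.span_range_derivation]; trivial
    induction hx using Submodule.span_induction with
    | mem y hy => obtain ⟨b, rfl⟩ := hy; exact hzero b
    | zero => exact map_zero _
    | add y z _ _ hy hz => rw [map_add, hy, hz, add_zero]
    | smul b y _ hy => rw [hlam, hy, mul_zero]
  exact hφ (hlam0 ω₁)

end Groth.Agent.H11.DualNumUnram
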