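import Mathlib
import Groth.Agent.H11.DualNumUnram

/-!
# Formally unramified over an algebraically closed field via dual-number points
-/

set_option autoImplicit false

namespace Groth.Agent.H11.DualNumUnramSch

open AlgebraicGeometry CategoryTheory

universe u

/-- A surjection of rings with square-zero kernel gives a nilpotent closed immersion. -/
theorem isNilpotent_ker_SpecMap {R S : CommRingCat.{u}} (φ : R ⟶ S)
    (hφ : RingHom.ker φ.hom ^ 2 = ⊥) : IsNilpotent (Spec.map φ).ker := by
  refine ⟨2, Scheme.IdealSheafData.ext_of_isAffine ?_⟩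
  rw [Scheme.IdealSheafData.ideal_pow]
  simp only [Pi.pow_apply, Scheme.Hom.ker_apply]
  change _ = (⊥ : Ideal _)
  rw [eq_bot_iff, pow_two, Ideal.mul_le]
  intro x hx y hy
  rw [RingHom.mem_ker] at hx hy
  have hnat : ∀ z, φ.hom ((Scheme.ΓSpecIso R).hom.hom z) =
      (Scheme.ΓSpecIso S).hom.hom ((Spec.map φ).appTop.hom z) := by
    intro z
    have := Scheme.ΓSpecIso_naturality φ
    exact (congrArg (fun ψ => ψ.hom z) this).symm
  have hx' : (Scheme.ΓSpecIso R).hom.hom x ∈ RingHom.ker φ.hom := by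
    rw [RingHom.mem_ker, hnat]
    change (Scheme.ΓSpecIso S).hom.hom (((Spec.map φ).app ⊤).hom x) = 0
    rw [hx]; exact map_zero _
  have hy' : (Scheme.ΓSpecIso R).hom.hom y ∈ RingHom.ker φ.hom := by
    rw [RingHom.mem_ker, hnat]
    change (Scheme.ΓSpecIso S).hom.hom (((Spec.map φ).app ⊤).hom y) = 0
    rw [hy]; exact map_zero _
  have hxy : (Scheme.ΓSpecIso R).hom.hom x * (Scheme.ΓSpecIso R).hom.hom y ∈
      RingHom.ker φ.hom ^ 2 := by
    rw [pow_two]; exact Ideal.mul_mem_mul hx' hy'
  rw [hφ, Ideal.mem_bot, ← map_mul] at hxy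
  rw [Ideal.mem_bot]
  have hinj : Function.Injective (Scheme.ΓSpecIso R).hom.hom :=
    ((ConcreteCategory.isIso_iff_bijective (Scheme.ΓSpecIso R).hom).mp inferInstance).1
  exact hinj (hxy.trans (map_zero _).symm)

theorem ker_fstHom_sq (k : Type u) [Field k] :
    RingHom.ker (TrivSqZeroExt.fstHom k k k).toRingHom ^ 2 = ⊥ := by
  rw [eq_bot_iff, pow_two, Ideal.mul_le]
  intro x hx y hy
  rw [RingHom.mem_ker] at hx hy
  have hx' : TrivSqZeroExt.fst x = 0 := hx
  have hy' : TrivSqZeroExt.fst y = 0 := hy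
  rw [Ideal.mem_bot]
  ext
  · simp [hx']
  · simp [hx', hy']

set_option maxHeartbeats 1600000 in
theorem main (k : Type u) [Field k] [IsAlgClosed k]
    {X : Scheme.{u}} (p : X ⟶ Spec (CommRingCat.of k)) [LocallyOfFiniteType p] :
    FormallyUnramified p ↔
      ∀ v₁ v₂ : Spec (CommRingCat.of (DualNumber k)) ⟶ X,
        v₁ ≫ p = Spec.map (CommRingCat.ofHom (algebraMap k (DualNumber k))) →
        v₂ ≫ p = Spec.map (CommRingCat.ofHom (algebraMap k (DualNumber k))) →
        Spec.map (CommRingCat.ofHom (TrivSqZeroExt.fstHom k k k).toRingHom) ≫ v₁ =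
          Spec.map (CommRingCat.ofHom (TrivSqZeroExt.fstHom k k k).toRingHom) ≫ v₂ →
        v₁ = v₂ := by
  constructor
  · intro hp v₁ v₂ h1 h2 h3
    haveI : IsClosedImmersion
        (Spec.map (CommRingCat.ofHom (TrivSqZeroExt.fstHom k k k).toRingHom)) :=
      IsClosedImmersion.spec_of_surjective _ TrivSqZeroExt.fst_surjective
    exact FormallyUnramified.hom_ext
      (Spec.map (CommRingCat.ofHom (TrivSqZeroExt.fstHom k k k).toRingHom))
      (isNilpotent_ker_SpecMap _ (ker_fstHom_sq k)) p h3 (h1.trans h2.symm)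
  · intro H
    rw [IsZariskiLocalAtSource.iff_of_openCover (P := @FormallyUnramified)
      X.affineOpenCover.openCover]
    intro i
    change FormallyUnramified (X.affineOpenCover.f i ≫ p)
    obtain ⟨ψ, hψ⟩ := Spec.map_surjective (X.affineOpenCover.f i ≫ p)
    haveI hlft : LocallyOfFiniteType (X.affineOpenCover.f i ≫ p) := inferInstance
    rw [← hψ] at hlft ⊢
    rw [HasRingHomProperty.Spec_iff (P := @FormallyUnramified)]
    rw [HasRingHomProperty.Spec_iff (P := @LocallyOfFiniteType)] at hlft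
    letI : Algebra k (X.affineOpenCover.X i) := ψ.hom.toAlgebra
    haveI : Algebra.FiniteType k (X.affineOpenCover.X i) := hlft
    change Algebra.FormallyUnramified k (X.affineOpenCover.X i)
    apply Groth.Agent.H11.DualNumUnram.formallyUnramified_of_dualNumber
    intro φ₁ φ₂ h12
    have hcomp : ∀ φ : (X.affineOpenCover.X i) →ₐ[k] DualNumber k,
        (Spec.map (CommRingCat.ofHom φ.toRingHom) ≫ X.affineOpenCover.f i) ≫ p =
          Spec.map (CommRingCat.ofHom (algebraMap k (DualNumber k))) := by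
      intro φ
      rw [Category.assoc, ← hψ, ← Spec.map_comp]
      congr 1
      refine CommRingCat.hom_ext (RingHom.ext fun a => ?_)
      exact φ.commutes a
    have h3 : Spec.map (CommRingCat.ofHom (TrivSqZeroExt.fstHom k k k).toRingHom) ≫
        (Spec.map (CommRingCat.ofHom φ₁.toRingHom) ≫ X.affineOpenCover.f i) =
        Spec.map (CommRingCat.ofHom (TrivSqZeroExt.fstHom k k k).toRingHom) ≫
        (Spec.map (CommRingCat.ofHom φ₂.toRingHom) ≫ X.affineOpenCover.f i) := by
      rw [← Category.assoc, ← Category.assoc, ← Spec.map_comp, ← Spec.map_comp]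
      congr 2
      ext a
      exact congrArg (fun χ : (X.affineOpenCover.X i) →ₐ[k] k => χ a) h12
    have h4 := H _ _ (hcomp φ₁) (hcomp φ₂) h3
    rw [cancel_mono, Spec.map_inj] at h4
    refine AlgHom.ext fun a => ?_
    exact congrArg (fun χ => χ.hom a) h4

end Groth.Agent.H11.DualNumUnramSch
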