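import Mathlib
import Groth.Agent.H11.EtaleDiff2

/-!
# Étaleness over a polynomial ring at a point with finite separable residue field
-/

set_option autoImplicit false
set_option linter.unusedSectionVars false

namespace Groth.Agent.H11.EtaleDiff3

open TensorProduct MvPolynomial IsLocalRing Groth.Agent.H11.EtaleDiff2

universe u

variable (k A : Type u) [Field k] [CommRing A] [Algebra k A] [Algebra.FiniteType k A] (n : ℕ)
  [Algebra (MvPolynomial (Fin n) k) A] [IsScalarTower k (MvPolynomial (Fin n) k) A]
  (p : Ideal A) [p.IsPrime]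

/-- At a point with residue field algebraic over `k`, the local ring has dimension `localDim`. -/
theorem ringKrullDim_localization_of_isAlgebraic [Algebra.IsAlgebraic k p.ResidueField]
    (hn : FlatMor.localDim (PrimeSpectrum A) ⟨p, inferInstance⟩ = (n : WithBot ℕ∞)) :
    ringKrullDim (Localization.AtPrime p) = (n : WithBot ℕ∞) := by
  have e1 := Groth.Agent.H11.FtDim.localDim_eq_height_add_coheight (k := k)
    (⟨p, inferInstance⟩ : PrimeSpectrum A)
  have e0 : Order.coheight (⟨p, inferInstance⟩ : PrimeSpectrum A) = ((0 : ℕ) : ℕ∞) :=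
    Groth.Agent.H11.FtDim.coheight_eq_trdeg (k := k) p 0 (by
      rw [trdeg_eq_zero]; rfl)
  have e2 : ringKrullDim (Localization.AtPrime p) = p.height :=
    IsLocalization.AtPrime.ringKrullDim_eq_height p (Localization.AtPrime p)
  have e3 : p.height = Order.height (⟨p, inferInstance⟩ : PrimeSpectrum A) :=
    PrimeSpectrum.height_eq_orderHeight ⟨p, inferInstance⟩
  rw [e0, Nat.cast_zero, add_zero, ← e3, hn] at e1
  rw [e2, e1]

/-- EGA IV 17.15.x at a point with finite separable residue field. -/
theorem isEtaleAt_iff_span_eq_maximalIdeal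
    (hn : FlatMor.localDim (PrimeSpectrum A) ⟨p, inferInstance⟩ = (n : WithBot ℕ∞))
    [Module.Finite k p.ResidueField] [Algebra.IsSeparable k p.ResidueField]
    (hg : ∀ i : Fin n, algebraMap (MvPolynomial (Fin n) k) A (X i) ∈ p) :
    Algebra.IsEtaleAt (MvPolynomial (Fin n) k) p ↔
      Ideal.span (Set.range fun i : Fin n => gg k A n p i) =
        maximalIdeal (Localization.AtPrime p) := by
  have hr := ringKrullDim_localization_of_isAlgebraic k A n p hn
  rw [isEtaleAt_iff_generators k A n p n hn hr (fun i _ => hg i)]
  have h1 : {i : Fin n | (i : ℕ) < n} = Set.univ := by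
    ext i; simp
  have h2 : {i : Fin n | n ≤ (i : ℕ)} = ∅ := by
    ext i; simp
  rw [h1, h2, Set.image_univ, Set.image_empty, Submodule.span_empty]
  haveI : Algebra.FormallyUnramified k p.ResidueField := Algebra.FormallyUnramified.of_isSeparable _ _
  constructor
  · exact fun h => h.1
  · exact fun h => ⟨h, Subsingleton.elim _ _⟩

end Groth.Agent.H11.EtaleDiff3
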