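import Mathlib

/-!
# Idempotent matrices: polynomial projectors, base change of ranges
-/

set_option autoImplicit false
universe u v

namespace Groth.Agent.H11.IdemMatrix

open Polynomial

section Poly

/-- evaluation of an integer polynomial at an idempotent -/
theorem aeval_idem {S : Type*} [Ring S] (x : S) (hx : x * x = x) (Q : ℤ[X]) :
    aeval x Q = (Q.eval 0) • (1 - x) + (Q.eval 1) • x := by
  induction Q using Polynomial.induction_on' with
  | add p q hp hq =>
    rw [map_add, hp, hq, eval_add, eval_add, add_smul, add_smul]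
    abel
  | monomial k c =>
    rw [aeval_monomial, eval_monomial, eval_monomial, one_pow, mul_one]
    rcases Nat.eq_zero_or_pos k with rfl | hk
    · simp only [pow_zero, mul_one]
      rw [Algebra.algebraMap_eq_smul_one, ← smul_add, sub_add_cancel]
    · have hxk : x ^ k = x := by
        obtain ⟨k, rfl⟩ : ∃ j, k = j + 1 := ⟨k - 1, by omega⟩
        induction k with
        | zero => simp
        | succ k ih => rw [pow_succ, ih (by omega), hx]
      rw [hxk, zero_pow (by omega), mul_zero, zero_smul, zero_add, Algebra.algebraMap_eq_smul_one,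
        smul_mul_assoc, one_mul]

/-- the projector polynomial `1 - (1 - X^n)^n` -/
noncomputable def Q0 (n : ℕ) : ℤ[X] := 1 - (1 - X ^ n) ^ n

theorem Q0_eval_zero (n : ℕ) (hn : 0 < n) : (Q0 n).eval 0 = 0 := by
  simp [Q0, zero_pow (by omega : n ≠ 0)]

theorem Q0_eval_one (n : ℕ) (hn : 0 < n) : (Q0 n).eval 1 = 1 := by
  simp [Q0, zero_pow (by omega : n ≠ 0)]

theorem Q0_sq_sub (n : ℕ) : ∃ w : ℤ[X], Q0 n * Q0 n - Q0 n = (X ^ 2 - X) ^ n * w := by
  have h1 : (X : ℤ[X]) ^ n ∣ Q0 n := by
    have := sub_dvd_pow_sub_pow (1 : ℤ[X]) (1 - X ^ n) n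
    rw [one_pow, sub_sub_cancel] at this
    exact this
  have h2 : ((1 : ℤ[X]) - X) ^ n ∣ (1 - X ^ n) ^ n := by
    apply pow_dvd_pow_of_dvd
    have := sub_dvd_pow_sub_pow (1 : ℤ[X]) X n
    rwa [one_pow] at this
  obtain ⟨u, hu⟩ := h1
  obtain ⟨v, hv⟩ := h2
  refine ⟨(-1) ^ (n + 1) * u * v, ?_⟩
  have h3 : Q0 n * Q0 n - Q0 n = - (Q0 n * (1 - X ^ n) ^ n) := by
    unfold Q0; ring
  rw [h3, hv]
  conv_lhs => rw [hu]
  have h4 : ((X : ℤ[X]) ^ 2 - X) ^ n = (-1) ^ n * (X ^ n * (1 - X) ^ n) := by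
    rw [← mul_pow, ← mul_pow]
    congr 1
    ring
  rw [h4]
  have h5 : ((-1 : ℤ[X]) ^ n) * (-1) ^ (n + 1) = -1 := by
    rw [← pow_add]
    have : n + (n + 1) = 2 * n + 1 := by ring
    rw [this, pow_succ, pow_mul]
    simp
  calc -(X ^ n * u * ((1 - X) ^ n * v)) = (-1) * (X ^ n * (1 - X) ^ n) * (u * v) := by ring
    _ = ((-1 : ℤ[X]) ^ n * (-1) ^ (n + 1)) * (X ^ n * (1 - X) ^ n) * (u * v) := by rw [h5]
    _ = _ := by ring

end Poly


section BaseChange

open TensorProduct

variable {R : Type u} [CommRing R] {n : ℕ}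

/-- range of (the linear map of) a matrix -/
abbrev rg (E : Matrix (Fin n) (Fin n) R) : Submodule R (Fin n → R) :=
  LinearMap.range (Matrix.toLin' E)

theorem finite_rg (E : Matrix (Fin n) (Fin n) R) : Module.Finite R (rg E) :=
  Module.Finite.range _

theorem projective_rg (E : Matrix (Fin n) (Fin n) R) (hE : E * E = E) :
    Module.Projective R (rg E) := by
  refine Module.Projective.of_split (rg E).subtype (Matrix.toLin' E).rangeRestrict ?_
  refine LinearMap.ext fun x => ?_
  obtain ⟨v, w, rfl⟩ := x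
  apply Subtype.ext
  change Matrix.toLin' E (Matrix.toLin' E w) = Matrix.toLin' E w
  rw [← LinearMap.comp_apply, ← Matrix.toLin'_mul, hE]

theorem exists_idem_matrix (P : Type v) [AddCommGroup P] [Module R P] [Module.Finite R P]
    [Module.Projective R P] :
    ∃ (n : ℕ) (E : Matrix (Fin n) (Fin n) R), E * E = E ∧ Nonempty (P ≃ₗ[R] rg E) := by
  obtain ⟨n, π, hπ⟩ := Module.Finite.exists_fin' R P
  obtain ⟨s, hs⟩ := Module.projective_lifting_property π LinearMap.id hπ
  have hsinj : Function.Injective s := by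
    intro x y hxy
    have := congrArg π hxy
    rwa [← LinearMap.comp_apply, ← LinearMap.comp_apply, hs] at this
  refine ⟨n, LinearMap.toMatrix' (s ∘ₗ π), ?_, ?_⟩
  · rw [← LinearMap.toMatrix'_comp]
    congr 1
    rw [LinearMap.comp_assoc, ← LinearMap.comp_assoc π s π, hs, LinearMap.id_comp]
  · have hr : rg (LinearMap.toMatrix' (s ∘ₗ π)) = LinearMap.range s := by
      unfold rg
      rw [Matrix.toLin'_toMatrix', LinearMap.range_comp_of_range_eq_top _
        (LinearMap.range_eq_top.mpr hπ)]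
    exact ⟨(LinearEquiv.ofInjective s hsinj).trans (LinearEquiv.ofEq _ _ hr.symm)⟩

variable {R' : Type v} [CommRing R'] [Algebra R R']

theorem baseChange_rg (E : Matrix (Fin n) (Fin n) R) (hE : E * E = E) :
    Nonempty ((R' ⊗[R] rg E) ≃ₗ[R'] rg (E.map (algebraMap R R'))) := by
  classical
  let ι : rg E →ₗ[R] (Fin n → R) := (rg E).subtype
  let ρ : (Fin n → R) →ₗ[R] rg E := (Matrix.toLin' E).rangeRestrict
  have hρι : ρ ∘ₗ ι = LinearMap.id := by
    refine LinearMap.ext fun x => ?_
    obtain ⟨v, w, rfl⟩ := x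
    apply Subtype.ext
    change Matrix.toLin' E (Matrix.toLin' E w) = Matrix.toLin' E w
    rw [← LinearMap.comp_apply, ← Matrix.toLin'_mul, hE]
  let e₀ : R' ⊗[R] (Fin n → R) ≃ₗ[R'] (Fin n → R') := TensorProduct.piScalarRight R R' R' (Fin n)
  let Ψ : R' ⊗[R] rg E →ₗ[R'] (Fin n → R') := e₀.toLinearMap ∘ₗ (ι.baseChange R')
  have hΨinj : Function.Injective Ψ := by
    refine e₀.injective.comp ?_
    have : (ρ.baseChange R') ∘ₗ (ι.baseChange R') = LinearMap.id := by
      rw [← LinearMap.baseChange_comp, hρι, LinearMap.baseChange_id]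
    exact Function.LeftInverse.injective (g := ρ.baseChange R') (fun x => by
      rw [← LinearMap.comp_apply, this, LinearMap.id_apply])
  have hΨt : ∀ (r' : R') (v : rg E), Ψ (r' ⊗ₜ[R] v) = fun k => (v : Fin n → R) k • r' := by
    intro r' v
    simp [Ψ, e₀, ι]
  have hE' : ∀ (w : Fin n → R) (r' : R'),
      (fun k => (Matrix.toLin' E w) k • r') =
        Matrix.toLin' (E.map (algebraMap R R')) (fun l => w l • r') := by
    intro w r'
    funext k
    simp only [Matrix.toLin'_apply, Matrix.mulVec, dotProduct, Matrix.map_apply]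
    rw [Finset.sum_smul]
    refine Finset.sum_congr rfl fun l _ => ?_
    rw [Algebra.smul_def, Algebra.smul_def, map_mul]
    ring
  have hrange : LinearMap.range Ψ = rg (E.map (algebraMap R R')) := by
    apply le_antisymm
    · rintro _ ⟨t, rfl⟩
      induction t using TensorProduct.induction_on with
      | zero => rw [map_zero]; exact Submodule.zero_mem _
      | tmul r' v =>
        obtain ⟨v, w, rfl⟩ := v
        rw [hΨt]
        exact ⟨_, (hE' w r').symm⟩
      | add x y hx hy => rw [map_add]; exact Submodule.add_mem _ hx hy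
    · rintro _ ⟨w', rfl⟩
      have hw' : w' = ∑ l, (fun k => (Pi.single l (1 : R) : Fin n → R) k • w' l) := by
        funext k
        simp [Finset.sum_apply, Pi.single_apply]
      rw [hw', map_sum]
      refine Submodule.sum_mem _ fun l _ => ?_
      rw [← hE' (Pi.single l 1) (w' l)]
      exact ⟨w' l ⊗ₜ[R] ⟨Matrix.toLin' E (Pi.single l 1), ⟨_, rfl⟩⟩, hΨt _ _⟩
  exact ⟨(LinearEquiv.ofInjective Ψ hΨinj).trans (LinearEquiv.ofEq _ _ hrange)⟩

end BaseChange

end Groth.Agent.H11.IdemMatrix
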