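import Mathlib
import Groth.Agent.H11.IdemMatrix
import Groth.Agent.S2041

/-!
# Étale-local lifting of idempotent matrices / finite projective modules modulo an ideal
-/

set_option autoImplicit false
universe u

namespace Groth.Agent.H11.EtaleProjLift

open Polynomial TensorProduct Groth.Agent.H11.IdemMatrix

/-- ring homs commute with evaluation of integer polynomials -/
theorem map_aeval_int {S T : Type*} [Ring S] [Ring T] (f : S →+* T) (x : S) (Q : ℤ[X]) :
    f (aeval x Q) = aeval (f x) Q :=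
  (Polynomial.aeval_algHom_apply f.toIntAlgHom x Q).symm

/-- Cayley–Hamilton: if a commutative algebra `B` embeds into `n × n` matrices and the image of `φ`
vanishes modulo `I`, then `φ ^ n ∈ I B`. -/
theorem pow_mem_map {A : Type u} [CommRing A] (I : Ideal A) {n : ℕ} {B : Type u} [CommRing B]
    [Algebra A B] (ι : B →ₐ[A] Matrix (Fin n) (Fin n) A) (hι : Function.Injective ι) (φ : B)
    (hφ : (ι φ).map (Ideal.Quotient.mk I) = 0) : φ ^ n ∈ I.map (algebraMap A B) := by
  rcases subsingleton_or_nontrivial A with hA | hA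
  · have : Subsingleton B := by
      refine ⟨fun a b => ?_⟩
      have h1 : (1 : B) = 0 := by
        rw [← map_one (algebraMap A B), Subsingleton.elim (1 : A) 0, map_zero]
      rw [← mul_one a, ← mul_one b, h1, mul_zero, mul_zero]
    rw [Subsingleton.elim (φ ^ n) 0]
    exact Ideal.zero_mem _
  obtain ⟨M, hM⟩ : ∃ M, M = ι φ := ⟨_, rfl⟩
  obtain ⟨p, hp⟩ : ∃ p, p = M.charpoly := ⟨_, rfl⟩
  have h0 : aeval φ p = 0 := by
    apply hι
    rw [map_zero, ← Polynomial.aeval_algHom_apply, ← hM, hp]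
    exact Matrix.aeval_self_charpoly M
  have hpm : p.map (Ideal.Quotient.mk I) = X ^ n := by
    rw [hp, ← Matrix.charpoly_map, hM, hφ, Matrix.charpoly_zero, Fintype.card_fin]
  have hdeg : p.natDegree = n := by
    rw [hp, Matrix.charpoly_natDegree_eq_dim, Fintype.card_fin]
  have hmon : p.coeff n = 1 := by
    have := Matrix.charpoly_monic M
    rw [← hdeg, hp]; exact this
  have hcoef : ∀ k, k < n → p.coeff k ∈ I := by
    intro k hk
    have := congrArg (fun q => q.coeff k) hpm
    simp only [coeff_map, coeff_X_pow] at this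
    rw [if_neg (by omega)] at this
    exact Ideal.Quotient.eq_zero_iff_mem.mp this
  rw [aeval_eq_sum_range, hdeg, Finset.sum_range_succ, hmon, one_smul] at h0
  have : φ ^ n = - ∑ k ∈ Finset.range n, p.coeff k • φ ^ k := by
    rw [eq_neg_iff_add_eq_zero, add_comm]; exact h0
  rw [this]
  refine (Ideal.neg_mem_iff _).mpr (Ideal.sum_mem _ fun k hk => ?_)
  rw [Algebra.smul_def]
  exact Ideal.mul_mem_right _ _ (Ideal.mem_map_of_mem _ (hcoef k (Finset.mem_range.mp hk)))

/-- étale-local lifting of idempotent matrices modulo an ideal -/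
theorem exists_etale_lift_idem_matrix {A : Type u} [CommRing A] (I : Ideal A) (n : ℕ)
    (ebar : Matrix (Fin n) (Fin n) (A ⧸ I)) (hebar : ebar * ebar = ebar) :
    ∃ (A' : Type u) (_ : CommRing A') (_ : Algebra A A'), Algebra.Etale A A' ∧
      Function.Bijective (algebraMap (A ⧸ I) (A' ⧸ I.map (algebraMap A A'))) ∧
      ∃ E' : Matrix (Fin n) (Fin n) A', E' * E' = E' ∧
        E'.map (Ideal.Quotient.mk (I.map (algebraMap A A'))) =
          ebar.map (algebraMap (A ⧸ I) (A' ⧸ I.map (algebraMap A A'))) := by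
  classical
  obtain ⟨e, he⟩ : ∃ e : Matrix (Fin n) (Fin n) A, e.map (Ideal.Quotient.mk I) = ebar := by
    choose f hf using fun i j => Ideal.Quotient.mk_surjective (ebar i j)
    exact ⟨Matrix.of f, by ext i j; simp [hf]⟩
  let B := Algebra.adjoin A ({e} : Set (Matrix (Fin n) (Fin n) A))
  letI : CommRing B := Algebra.adjoinCommRingOfComm A (by
    intro a ha b hb
    rw [Set.mem_singleton_iff] at ha hb
    rw [ha, hb])
  haveI : Algebra.IsIntegral A B := by
    refine ⟨fun x => ?_⟩
    have h1 : IsIntegral A (x : Matrix (Fin n) (Fin n) A) := Algebra.IsIntegral.isIntegral _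
    exact (isIntegral_algHom_iff B.val Subtype.val_injective).mp h1
  let x : B := ⟨e, Algebra.subset_adjoin (Set.mem_singleton e)⟩
  have hφ : (x * x - x) ^ n ∈ I.map (algebraMap A B) := by
    apply pow_mem_map I B.val Subtype.val_injective
    change (Ideal.Quotient.mk I).mapMatrix (e * e - e) = 0
    rw [map_sub, map_mul]
    change e.map (Ideal.Quotient.mk I) * e.map (Ideal.Quotient.mk I) - e.map (Ideal.Quotient.mk I) = 0
    rw [he, hebar, sub_self]
  -- the projector element
  obtain ⟨ε, hε⟩ : ∃ ε : B, ε = aeval x (Q0 (n + 1)) := ⟨_, rfl⟩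
  have hεI : ε * ε - ε ∈ I.map (algebraMap A B) := by
    obtain ⟨w, hw⟩ := Q0_sq_sub (n + 1)
    have : ε * ε - ε = (x * x - x) ^ (n + 1) * aeval x w := by
      rw [hε, ← map_mul, ← map_sub, hw, map_mul, map_pow, map_sub, map_pow, aeval_X, sq]
    rw [this, pow_succ, mul_assoc]
    exact Ideal.mul_mem_right _ _ hφ
  have hidem : IsIdempotentElem (Ideal.Quotient.mk (I.map (algebraMap A B)) ε) := by
    unfold IsIdempotentElem
    rw [← map_mul, ← sub_eq_zero, ← map_sub]
    exact Ideal.Quotient.eq_zero_iff_mem.mpr hεI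
  obtain ⟨A', _, _, hEt, hbij, e', he'idem, he'⟩ :=
    Groth.Agent.S2041.result (A := A) (B := B) I _ hidem
  refine ⟨A', inferInstance, inferInstance, hEt, hbij, ?_⟩
  have he'ε := he' ε rfl
  -- the evaluation map into matrices over `A'`
  let g : B →ₐ[A] Matrix (Fin n) (Fin n) A' := (AlgHom.mapMatrix (Algebra.ofId A A')).comp B.val
  let ψ : A' ⊗[A] B →ₐ[A'] Matrix (Fin n) (Fin n) A' :=
    Algebra.TensorProduct.lift (Algebra.ofId A' (Matrix (Fin n) (Fin n) A')) g
      (fun a b => Algebra.commutes a (g b))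
  refine ⟨ψ e', ?_, ?_⟩
  · rw [← map_mul, he'idem.eq]
  · let ρ : Matrix (Fin n) (Fin n) A' →+* Matrix (Fin n) (Fin n) (A' ⧸ I.map (algebraMap A A')) :=
      (Ideal.Quotient.mk (I.map (algebraMap A A'))).mapMatrix
    have hker : I.map (algebraMap A (A' ⊗[A] B)) ≤ RingHom.ker (ρ.comp ψ.toRingHom) := by
      rw [Ideal.map_le_iff_le_comap]
      intro a ha
      rw [Ideal.mem_comap, RingHom.mem_ker]
      have h1 : ψ (algebraMap A (A' ⊗[A] B) a) =
          algebraMap A' (Matrix (Fin n) (Fin n) A') (algebraMap A A' a) := by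
        rw [IsScalarTower.algebraMap_apply A A' (A' ⊗[A] B), AlgHom.commutes]
      change ρ (ψ (algebraMap A (A' ⊗[A] B) a)) = 0
      rw [h1]
      ext i j
      have : Ideal.Quotient.mk (I.map (algebraMap A A')) (algebraMap A A' a) = 0 :=
        Ideal.Quotient.eq_zero_iff_mem.mpr (Ideal.mem_map_of_mem _ ha)
      by_cases hij : i = j
      · subst hij
        simp [ρ, Matrix.algebraMap_matrix_apply, this]
      · simp [ρ, Matrix.algebraMap_matrix_apply, hij]
    have h1 : ρ (ψ e') = ρ (ψ (1 ⊗ₜ ε)) := by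
      have := hker he'ε
      rw [RingHom.mem_ker, map_sub] at this
      exact sub_eq_zero.mp this
    change ρ (ψ e') = _
    rw [h1]
    have h2 : ψ (1 ⊗ₜ ε) = g ε := by
      simp [ψ]
    rw [h2]
    have h3 : ρ (g ε) = aeval (ρ (g x)) (Q0 (n + 1)) := by
      rw [hε]
      exact map_aeval_int (ρ.comp g.toRingHom) x (Q0 (n + 1))
    have h4 : ρ (g x) = ebar.map (algebraMap (A ⧸ I) (A' ⧸ I.map (algebraMap A A'))) := by
      ext i j
      simp [ρ, g, x, ← he]
    have h5 : ebar.map (algebraMap (A ⧸ I) (A' ⧸ I.map (algebraMap A A'))) *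
        ebar.map (algebraMap (A ⧸ I) (A' ⧸ I.map (algebraMap A A'))) =
        ebar.map (algebraMap (A ⧸ I) (A' ⧸ I.map (algebraMap A A'))) := by
      rw [← Matrix.map_mul, hebar]
    rw [h3, h4]
    refine (aeval_idem _ h5 _).trans ?_
    rw [Q0_eval_zero _ (by omega), Q0_eval_one _ (by omega), zero_smul, one_smul, zero_add]

/-- étale-local lifting of finite projective modules modulo an ideal -/
theorem exists_etale_lift_finite_projective {A : Type u} [CommRing A] (I : Ideal A) (P : Type u)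
    [AddCommGroup P] [Module (A ⧸ I) P] [Module.Finite (A ⧸ I) P] [Module.Projective (A ⧸ I) P] :
    ∃ (A' : Type u) (_ : CommRing A') (_ : Algebra A A'), Algebra.Etale A A' ∧
      Function.Bijective (algebraMap (A ⧸ I) (A' ⧸ I.map (algebraMap A A'))) ∧
      ∃ (P' : Type u) (_ : AddCommGroup P') (_ : Module A' P'), Module.Finite A' P' ∧
        Module.Projective A' P' ∧
        Nonempty (((A' ⧸ I.map (algebraMap A A')) ⊗[A'] P') ≃ₗ[A' ⧸ I.map (algebraMap A A')]
          ((A' ⧸ I.map (algebraMap A A')) ⊗[A ⧸ I] P)) := by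
  obtain ⟨n, ebar, hebar, ⟨φ⟩⟩ := exists_idem_matrix (R := A ⧸ I) P
  obtain ⟨A', _, _, hEt, hbij, E', hE', hmap⟩ := exists_etale_lift_idem_matrix I n ebar hebar
  refine ⟨A', inferInstance, inferInstance, hEt, hbij, rg E', inferInstance, inferInstance,
    finite_rg E', projective_rg E' hE', ?_⟩
  obtain ⟨ψ1⟩ := baseChange_rg (R' := A' ⧸ I.map (algebraMap A A')) E' hE'
  obtain ⟨ψ2⟩ := baseChange_rg (R' := A' ⧸ I.map (algebraMap A A')) ebar hebar
  have heq : rg (E'.map (algebraMap A' (A' ⧸ I.map (algebraMap A A')))) =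
      rg (ebar.map (algebraMap (A ⧸ I) (A' ⧸ I.map (algebraMap A A')))) := by
    rw [← hmap]
    rfl
  exact ⟨ψ1.trans ((LinearEquiv.ofEq _ _ heq).trans (ψ2.symm.trans
    (LinearEquiv.baseChange (A ⧸ I) (A' ⧸ I.map (algebraMap A A')) _ _ φ.symm)))⟩

end Groth.Agent.H11.EtaleProjLift
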