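import Mathlib
import Groth.Prelude.Def_Flat
import Groth.Agent.H17.Chev.TopLocalDim
import Groth.Agent.H17.Chev.FibreLocal

/-!
# Bridge between scheme-theoretic fibre dimension and the fibre rings

`fibreDimAt (Spec.map (algebraMap R S)) x` is the local dimension of `Spec (κ(p) ⊗[R] S)` at some
point, `p` the image of `x`.
-/

set_option autoImplicit false
open CategoryTheory CategoryTheory.Limits AlgebraicGeometry TopologicalSpace Topology

universe u

namespace Groth.Agent.H11.FibreBridge

/-- The local fibre dimension of `Spec S ⟶ Spec R` at `x` is the local dimension of the spectrum of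
the fibre ring at some point. -/
theorem exists_fibreDimAt_Spec_eq (R S : Type u) [CommRing R] [CommRing S] [Algebra R S]
    (x : ↥(Spec (CommRingCat.of S))) (p : PrimeSpectrum R)
    (hp : (Spec.map (CommRingCat.ofHom (algebraMap R S))) x = p) :
    ∃ Q : PrimeSpectrum (p.asIdeal.Fiber S),
      FlatMor.fibreDimAt (Spec.map (CommRingCat.ofHom (algebraMap R S))) x =
        FlatMor.localDim (PrimeSpectrum (p.asIdeal.Fiber S)) Q := by
  subst hp
  set f := Spec.map (CommRingCat.ofHom (algebraMap R S)) with hf
  let e := Arrow.leftFunc.mapIso (Spec.fiberToSpecResidueFieldIso R S (f x))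
  refine ⟨e.hom (f.asFiber x), ?_⟩
  exact Groth.Agent.H17.Chev.localDim_eq_of_isOpenEmbedding
    e.hom.homeomorph.isOpenEmbedding (f.asFiber x)

end Groth.Agent.H11.FibreBridge
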