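import Mathlib
import Groth.Agent.H2.LocalCrit

/-!
# Flatness at a prime from flatness modulo a regular element (helper11)

`A → B` Noetherian, `π ∈ A` acting regularly on `B`, `q` a prime of `B` containing `π`.  If
`(A / π) ⊗ B` is flat over `A / π`, then `B_q` is flat over `A`.
-/

set_option autoImplicit false
universe u

namespace Groth.Agent.H11.FlatPrincipalAlg

open TensorProduct

/-- If `π` acts regularly on `M` then `(π) ⊗ M → M` is injective. -/
theorem rTensor_span_singleton_injective {A M : Type*} [CommRing A] [AddCommGroup M] [Module A M]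
    (π : A) (hπ : IsSMulRegular M π) :
    Function.Injective ((Ideal.span {π} : Ideal A).subtype.rTensor M) := by
  rw [injective_iff_map_eq_zero]
  intro z hz
  have key : ∀ z : (Ideal.span {π} : Ideal A) ⊗[A] M,
      ∃ m : M, z = (⟨π, Ideal.mem_span_singleton_self π⟩ : (Ideal.span {π} : Ideal A)) ⊗ₜ[A] m := by
    intro z
    induction z using TensorProduct.induction_on with
    | zero => exact ⟨0, by simp⟩
    | tmul a m =>
      obtain ⟨a, ha⟩ := a
      obtain ⟨c, rfl⟩ := Ideal.mem_span_singleton'.mp ha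
      refine ⟨c • m, ?_⟩
      rw [TensorProduct.tmul_smul, TensorProduct.smul_tmul']
      congr 1
    | add x y hx hy =>
      obtain ⟨m₁, rfl⟩ := hx
      obtain ⟨m₂, rfl⟩ := hy
      exact ⟨m₁ + m₂, (TensorProduct.tmul_add _ _ _).symm⟩
  obtain ⟨m, rfl⟩ := key z
  have h1 : (TensorProduct.lid A M) ((Ideal.span {π} : Ideal A).subtype.rTensor M
      ((⟨π, Ideal.mem_span_singleton_self π⟩ : (Ideal.span {π} : Ideal A)) ⊗ₜ[A] m)) = π • m := by
    simp
  rw [hz, map_zero] at h1
  have hm : m = 0 := hπ (by simpa using h1.symm)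
  rw [hm, TensorProduct.tmul_zero]

theorem flat_atPrime_of_flat_quotient_span_singleton {A B : Type u} [CommRing A] [CommRing B]
    [Algebra A B] [IsNoetherianRing A] [IsNoetherianRing B] (π : A) (q : Ideal B) [q.IsPrime]
    (hπq : algebraMap A B π ∈ q) (hreg : IsSMulRegular B π)
    (Bq : Type u) [CommRing Bq] [Algebra B Bq] [Algebra A Bq] [IsScalarTower A B Bq]
    [IsLocalization.AtPrime Bq q]
    [Module.Flat (A ⧸ (Ideal.span {π} : Ideal A)) ((A ⧸ (Ideal.span {π} : Ideal A)) ⊗[A] B)] :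
    Module.Flat A Bq := by
  haveI : IsNoetherianRing Bq := IsLocalization.isNoetherianRing q.primeCompl Bq inferInstance
  haveI : IsLocalRing Bq := IsLocalization.AtPrime.isLocalRing Bq q
  set I : Ideal A := Ideal.span {π} with hI
  have hregq : IsSMulRegular Bq π := by
    haveI : Module.Flat B Bq := IsLocalization.flat Bq q.primeCompl
    have h0 : IsSMulRegular B (algebraMap A B π) := by
      intro x y hxy
      refine hreg ?_
      simpa [Algebra.smul_def] using hxy
    have h1 : IsSMulRegular Bq (algebraMap B Bq (algebraMap A B π)) := h0.of_flat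
    intro x y hxy
    refine h1 ?_
    simpa [Algebra.smul_def, IsScalarTower.algebraMap_apply A B Bq] using hxy
  haveI : Module.Flat (A ⧸ I) ((A ⧸ I) ⊗[A] Bq) := by
    letI algT : Algebra ((A ⧸ I) ⊗[A] B) ((A ⧸ I) ⊗[A] Bq) :=
      (Algebra.TensorProduct.map (AlgHom.id (A ⧸ I) (A ⧸ I))
        (IsScalarTower.toAlgHom A B Bq)).toRingHom.toAlgebra
    haveI : IsScalarTower (A ⧸ I) ((A ⧸ I) ⊗[A] B) ((A ⧸ I) ⊗[A] Bq) := by
      refine IsScalarTower.of_algebraMap_eq (R := A ⧸ I) (S := (A ⧸ I) ⊗[A] B)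
        (A := (A ⧸ I) ⊗[A] Bq) (fun c => ?_)
      change c ⊗ₜ[A] (1 : Bq) = (Algebra.TensorProduct.map (AlgHom.id (A ⧸ I) (A ⧸ I))
        (IsScalarTower.toAlgHom A B Bq)) (c ⊗ₜ[A] (1 : B))
      simp
    haveI : IsLocalization (q.primeCompl.map
        (Algebra.TensorProduct.includeRight (R := A) (A := A ⧸ I)))
        ((A ⧸ I) ⊗[A] Bq) :=
      IsLocalization.tensorProduct_tensorProduct_right A (A ⧸ I) q.primeCompl Bq (by
        ext b
        change (Algebra.TensorProduct.map (AlgHom.id (A ⧸ I) (A ⧸ I))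
          (IsScalarTower.toAlgHom A B Bq)) ((1 : A ⧸ I) ⊗ₜ[A] b) = (1 : A ⧸ I) ⊗ₜ[A] _
        simp)
    haveI : Module.Flat ((A ⧸ I) ⊗[A] B) ((A ⧸ I) ⊗[A] Bq) :=
      IsLocalization.flat _ (q.primeCompl.map
        (Algebra.TensorProduct.includeRight (R := A) (A := A ⧸ I)))
    exact Module.Flat.trans (A ⧸ I) ((A ⧸ I) ⊗[A] B) ((A ⧸ I) ⊗[A] Bq)
  refine Groth.Agent.H2.flat_of_rTensor_injective_of_flat_quotient (R := A) (S := Bq) (M := Bq) I
    ?_ (rTensor_span_singleton_injective π hregq)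
  rw [IsLocalRing.jacobson_eq_maximalIdeal ⊥ bot_ne_top, IsScalarTower.algebraMap_eq A B Bq,
    ← Ideal.map_map, ← IsLocalization.AtPrime.map_eq_maximalIdeal q Bq]
  refine Ideal.map_mono ?_
  rw [hI, Ideal.map_span, Set.image_singleton, Ideal.span_singleton_le_iff_mem]
  exact hπq

end Groth.Agent.H11.FlatPrincipalAlg
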