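import Mathlib
import Groth.Agent.H11.FlatModPowSch
import Groth.Agent.H11.FlatPrincipalAlg
import Groth.Agent.H25.FlatBCpt
import Groth.Agent.S0386

/-!
# Flatness of a proper morphism after completion along a principal ideal (helper11)
-/

set_option autoImplicit false
universe u

namespace Groth.Agent.H11.FlatComplSch

open AlgebraicGeometry CategoryTheory Limits TensorProduct
open Groth.Agent.H11.FlatModPowSch

variable (A : Type u) [CommRing A] {X : Scheme.{u}} (h : X ⟶ Spec (CommRingCat.of A))

theorem comap_sec_primeIdealOf {W : X.Opens} (hW : IsAffineOpen W) (x : X) (hx : x ∈ W) :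
    Ideal.comap (sec A h W).hom (hW.primeIdealOf ⟨x, hx⟩).asIdeal = (h x).asIdeal := by
  have h1 : (Spec.map (sec A h W)) (hW.primeIdealOf ⟨x, hx⟩) = h x := by
    rw [← fromSpec_comp A h hW, Scheme.Hom.comp_apply, hW.fromSpec_primeIdealOf]
  exact congrArg PrimeSpectrum.asIdeal h1

/-- Flatness at the points over `V(π)` from flatness modulo `π`. -/
theorem flat_stalkMap_of_flat_quotient_span_singleton [IsNoetherianRing A]
    [LocallyOfFiniteType h] (π : A)
    (hflat : Flat (pullback.snd h
      (Spec.map (CommRingCat.ofHom (Ideal.Quotient.mk (Ideal.span {π} : Ideal A))))))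
    (hreg : ∀ (W : X.Opens), IsAffineOpen W → ∀ s : Γ(X, W), (sec A h W).hom π * s = 0 → s = 0)
    (x : X) (hx : π ∈ (h x).asIdeal) : (h.stalkMap x).hom.Flat := by
  obtain ⟨_, ⟨W, hW, rfl⟩, hxW, -⟩ :=
    X.isBasis_affineOpens.exists_subset_of_mem_open (Set.mem_univ x) isOpen_univ
  refine flat_stalkMap_of_flat_stalk A h x hxW ?_
  letI algAB := (sec A h W).hom.toAlgebra
  letI algBO := TopCat.Presheaf.algebra_section_stalk X.presheaf (⟨x, hxW⟩ : W)
  letI algAO := (sec A h W ≫ X.presheaf.germ W x hxW).hom.toAlgebra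
  haveI : IsScalarTower A Γ(X, W) (X.presheaf.stalk x) := .of_algebraMap_eq fun _ => rfl
  haveI : IsLocallyNoetherian X := LocallyOfFiniteType.isLocallyNoetherian h
  haveI : IsNoetherianRing Γ(X, W) := IsLocallyNoetherian.component_noetherian ⟨W, hW⟩
  haveI := hW.isLocalization_stalk ⟨x, hxW⟩
  haveI := flat_quotient_tensor_sections A h _ hflat hW
  refine Groth.Agent.H11.FlatPrincipalAlg.flat_atPrime_of_flat_quotient_span_singleton π
    (hW.primeIdealOf ⟨x, hxW⟩).asIdeal ?_ ?_ (X.presheaf.stalk x)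
  · have := comap_sec_primeIdealOf A h hW x hxW
    change (sec A h W).hom π ∈ _
    rw [← Ideal.mem_comap, this]
    exact hx
  · intro s t hst
    have h1 : (sec A h W).hom π * (s - t) = 0 := by
      have : (sec A h W).hom π * s = (sec A h W).hom π * t := by
        have hst' : π • s = π • t := hst
        rwa [Algebra.smul_def, Algebra.smul_def] at hst'
      rw [mul_sub, this, sub_self]
    exact sub_eq_zero.mp (hreg W hW _ h1)

/-- Every point specializes into the preimage of `V(J)` under a closed map to `Spec A`,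
when `J` lies in the Jacobson radical. -/
theorem exists_specializes_of_le_jacobson (J : Ideal A) (hJ : J ≤ Ideal.jacobson ⊥)
    (hf : IsClosedMap h) (x : X) :
    ∃ x₀ : X, x ⤳ x₀ ∧ J ≤ (h x₀).asIdeal := by
  have hcl : IsClosed (h '' closure {x}) := hf _ isClosed_closure
  obtain ⟨K, hK⟩ := (PrimeSpectrum.isClosed_iff_zeroLocus_ideal _).mp hcl
  have hne : K ≠ ⊤ := by
    rintro rfl
    have : h x ∈ PrimeSpectrum.zeroLocus ((⊤ : Ideal A) : Set A) := by
      rw [← hK]; exact ⟨x, subset_closure rfl, rfl⟩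
    simp at this
    exact this
  obtain ⟨M, hM, hKM⟩ := Ideal.exists_le_maximal K hne
  have hmem : (⟨M, hM.isPrime⟩ : PrimeSpectrum A) ∈ h '' closure {x} := by
    rw [hK]; exact hKM
  obtain ⟨x₀, hx₀, hfx₀⟩ := hmem
  refine ⟨x₀, specializes_iff_mem_closure.mpr hx₀, ?_⟩
  rw [hfx₀]
  exact hJ.trans (sInf_le ⟨bot_le, hM⟩)

/-- Flatness of the base change of a proper morphism along `A → A'` with `π A'` in the Jacobson
radical, from flatness modulo `π`. -/
theorem flat_baseChange_of_flat_quotient [IsNoetherianRing A] [IsProper h] (π : A)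
    (hflat : Flat (pullback.snd h
      (Spec.map (CommRingCat.ofHom (Ideal.Quotient.mk (Ideal.span {π} : Ideal A))))))
    (hreg : ∀ (W : X.Opens), IsAffineOpen W → ∀ s : Γ(X, W), (sec A h W).hom π * s = 0 → s = 0)
    (A' : Type u) [CommRing A'] [IsNoetherianRing A'] [Algebra A A']
    (hJ : (Ideal.span {algebraMap A A' π} : Ideal A') ≤ Ideal.jacobson ⊥) :
    Flat (pullback.snd h (Spec.map (CommRingCat.ofHom (algebraMap A A')))) := by
  set g := Spec.map (CommRingCat.ofHom (algebraMap A A')) with hg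
  rw [Flat.iff_flat_stalkMap]
  intro x'
  obtain ⟨x₀, hsp, hx₀⟩ := exists_specializes_of_le_jacobson A' (pullback.snd h g) _ hJ
    (pullback.snd h g).isClosedMap x'
  have hopen := Groth.Agent.S0386.result (pullback.snd h g)
  refine hsp.mem_open hopen ?_
  refine Groth.Agent.H25.FlatBCpt.flat_stalkMap_of_isPullback (IsPullback.of_hasPullback h g) x₀ ?_
  refine flat_stalkMap_of_flat_quotient_span_singleton A h π hflat hreg _ ?_
  have h1 : h (pullback.fst h g x₀) = g (pullback.snd h g x₀) := by
    rw [← Scheme.Hom.comp_apply, ← Scheme.Hom.comp_apply, pullback.condition]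
  rw [h1]
  change π ∈ Ideal.comap (algebraMap A A') (pullback.snd h g x₀).asIdeal
  rw [Ideal.mem_comap]
  exact hx₀ (Ideal.mem_span_singleton_self _)

/-- A property stable under base change passes from `pullback.snd f g` to
`pullback.snd f (g' ≫ g)`. -/
theorem snd_comp_of_snd {P : MorphismProperty Scheme.{u}} [P.IsStableUnderBaseChange]
    {X Y Z W : Scheme.{u}} (f : X ⟶ Z) (g : Y ⟶ Z) (g' : W ⟶ Y) (hP : P (pullback.snd f g)) :
    P (pullback.snd f (g' ≫ g)) := by
  have h1 := pullbackLeftPullbackSndIso_hom_snd f g g'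
  have h2 : pullback.snd f (g' ≫ g) =
      (pullbackLeftPullbackSndIso f g g').inv ≫ pullback.snd (pullback.snd f g) g' := by
    rw [← h1, Iso.inv_hom_id_assoc]
  rw [h2, P.cancel_left_of_respectsIso]
  exact P.pullback_snd _ _ hP

/-- Base change to `A / I` from base change to an `A`-algebra `A'` mapping to `A / I`. -/
theorem quotient_of_baseChange {P : MorphismProperty Scheme.{u}} [P.IsStableUnderBaseChange]
    (I : Ideal A) (A' : Type u) [CommRing A'] [Algebra A A']
    (ψ : A' →+* A ⧸ I) (hψ : ψ.comp (algebraMap A A') = Ideal.Quotient.mk I)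
    (hP : P (pullback.snd h (Spec.map (CommRingCat.ofHom (algebraMap A A'))))) :
    P (pullback.snd h (Spec.map (CommRingCat.ofHom (Ideal.Quotient.mk I)))) := by
  have e : CommRingCat.ofHom (Ideal.Quotient.mk I) =
      CommRingCat.ofHom (algebraMap A A') ≫ CommRingCat.ofHom ψ := by
    rw [← CommRingCat.ofHom_comp, hψ]
  rw [e, Spec.map_comp]
  exact snd_comp_of_snd h _ _ hP

theorem flat_of_isSMulRegular_irreducible (V : Type*) [CommRing V] [IsDomain V]
    [IsDiscreteValuationRing V] (ϖ : V) (hϖ : Irreducible ϖ) (M : Type*) [AddCommGroup M]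
    [Module V M] (hreg : IsSMulRegular M ϖ) : Module.Flat V M := by
  rw [Module.Flat.flat_iff_torsion_eq_bot_of_isBezout, eq_bot_iff]
  intro m hm
  obtain ⟨⟨v, hv⟩, hvm⟩ := (Submodule.mem_torsion_iff m).mp hm
  have hv0 : v ≠ 0 := nonZeroDivisors.ne_zero hv
  obtain ⟨n, u, rfl⟩ := IsDiscreteValuationRing.eq_unit_mul_pow_irreducible hv0 hϖ
  change ((u : V) * ϖ ^ n) • m = 0 at hvm
  rw [mul_smul] at hvm
  have h1 : ϖ ^ n • m = 0 := by
    have := congrArg (fun z => ((u⁻¹ : Vˣ) : V) • z) hvm
    simpa [smul_smul] using this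
  have h2 : m = 0 := (hreg.pow n) (by simpa using h1)
  simp [h2]

/-- The canonical map `A → O_{X,x}`. -/
noncomputable def toStalkX (x : X) : CommRingCat.of A ⟶ X.presheaf.stalk x :=
  ((Scheme.ΓSpecIso (CommRingCat.of A)).inv ≫
    (Spec (CommRingCat.of A)).presheaf.germ ⊤ (h x) trivial) ≫ h.stalkMap x

theorem sec_germ {W : X.Opens} (x : X) (hxW : x ∈ W) :
    sec A h W ≫ X.presheaf.germ W x hxW = toStalkX A h x := sec_germ_eq A h x hxW

theorem toStalkX_comp {X' : Scheme.{u}} (F : X' ⟶ X) (x' : X') :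
    toStalkX A (F ≫ h) x' = toStalkX A h (F x') ≫ F.stalkMap x' := by
  simp only [toStalkX, Scheme.Hom.stalkMap_comp, Category.assoc]
  rfl

theorem sec_comp_SpecMap {V : Type u} [CommRing V] [Algebra V A] (W : X.Opens) :
    sec V (h ≫ Spec.map (CommRingCat.ofHom (algebraMap V A))) W =
      CommRingCat.ofHom (algebraMap V A) ≫ sec A h W := by
  rw [sec, sec, Scheme.Hom.comp_appLE, ← Category.assoc, ← Category.assoc,
    Scheme.ΓSpecIso_inv_naturality]
  rfl

theorem toStalkX_SpecMap {V : Type u} [CommRing V] [Algebra V A] (x : X) :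
    toStalkX V (h ≫ Spec.map (CommRingCat.ofHom (algebraMap V A))) x =
      CommRingCat.ofHom (algebraMap V A) ≫ toStalkX A h x := by
  obtain ⟨_, ⟨W, hW, rfl⟩, hxW, -⟩ :=
    X.isBasis_affineOpens.exists_subset_of_mem_open (Set.mem_univ x) isOpen_univ
  rw [← sec_germ _ _ x hxW, ← sec_germ _ _ x hxW, sec_comp_SpecMap, Category.assoc]

theorem isUnit_toStalkX (x : X) (a : A) (ha : a ∉ (h x).asIdeal) :
    IsUnit ((toStalkX A h x).hom a) := by
  letI algAY : Algebra A ((Spec (CommRingCat.of A)).presheaf.stalk (h x)) :=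
    ((Scheme.ΓSpecIso (CommRingCat.of A)).inv ≫
      (Spec (CommRingCat.of A)).presheaf.germ ⊤ (h x) trivial).hom.toAlgebra
  haveI : IsLocalization.AtPrime ((Spec (CommRingCat.of A)).presheaf.stalk (h x))
      (h x).asIdeal := @StructureSheaf.IsLocalization.to_stalk A _ (h x)
  have h1 : IsUnit (algebraMap A ((Spec (CommRingCat.of A)).presheaf.stalk (h x)) a) :=
    IsLocalization.map_units _ (⟨a, ha⟩ : (h x).asIdeal.primeCompl)
  exact h1.map (h.stalkMap x).hom

theorem flat_toStalkX (x : X) (hx : (h.stalkMap x).hom.Flat) : (toStalkX A h x).hom.Flat := by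
  unfold toStalkX
  rw [CommRingCat.hom_comp]
  refine RingHom.Flat.comp ?_ hx
  letI algAY : Algebra A ((Spec (CommRingCat.of A)).presheaf.stalk (h x)) :=
    ((Scheme.ΓSpecIso (CommRingCat.of A)).inv ≫
      (Spec (CommRingCat.of A)).presheaf.germ ⊤ (h x) trivial).hom.toAlgebra
  haveI : IsLocalization.AtPrime ((Spec (CommRingCat.of A)).presheaf.stalk (h x))
      (h x).asIdeal := @StructureSheaf.IsLocalization.to_stalk A _ (h x)
  exact RingHom.flat_algebraMap_iff.mpr (IsLocalization.flat _ (h x).asIdeal.primeCompl)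

/-- `X` is flat over a discrete valuation ring `V` if its base change along a flat `A → A'`,
covering `V(ϖ)`, is flat over `A'`. -/
theorem flat_comp_of_flat_baseChange (V : Type u) [CommRing V] [IsDomain V]
    [IsDiscreteValuationRing V] [Algebra V A] [Module.Flat V A]
    (ϖ : V) (hϖ : Irreducible ϖ) (A' : Type u) [CommRing A'] [Algebra A A'] [Module.Flat A A']
    (hsurj : ∀ p : PrimeSpectrum A, algebraMap V A ϖ ∈ p.asIdeal →
      ∃ p' : PrimeSpectrum A', p'.comap (algebraMap A A') = p)
    (hflat : Flat (pullback.snd h (Spec.map (CommRingCat.ofHom (algebraMap A A'))))) :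
    Flat (h ≫ Spec.map (CommRingCat.ofHom (algebraMap V A))) := by
  set q := Spec.map (CommRingCat.ofHom (algebraMap V A)) with hq
  set g := Spec.map (CommRingCat.ofHom (algebraMap A A')) with hg
  haveI hgflat : Flat g := by
    rw [hg, HasRingHomProperty.Spec_iff (P := @Flat), CommRingCat.hom_ofHom,
      RingHom.flat_algebraMap_iff]
    infer_instance
  haveI hqflat : Flat q := by
    rw [hq, HasRingHomProperty.Spec_iff (P := @Flat), CommRingCat.hom_ofHom,
      RingHom.flat_algebraMap_iff]
    infer_instance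
  haveI hF : Flat (pullback.fst h g) := MorphismProperty.pullback_fst _ _ hgflat
  have hXV' : Flat (pullback.fst h g ≫ h ≫ q) := by
    rw [pullback.condition_assoc]
    infer_instance
  rw [Flat.iff_flat_stalkMap]
  intro x
  obtain ⟨_, ⟨W, hW, rfl⟩, hxW, -⟩ :=
    X.isBasis_affineOpens.exists_subset_of_mem_open (Set.mem_univ x) isOpen_univ
  refine flat_stalkMap_of_flat_stalk V (h ≫ q) x hxW ?_
  letI alg := (sec V (h ≫ q) W ≫ X.presheaf.germ W x hxW).hom.toAlgebra
  refine flat_of_isSMulRegular_irreducible V ϖ hϖ _ ?_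
  -- regularity of `ϖ` on the stalk
  have hsmul : ∀ t : X.presheaf.stalk x, ϖ • t = (toStalkX A h x).hom (algebraMap V A ϖ) * t := by
    intro t
    rw [Algebra.smul_def]
    change (sec V (h ≫ q) W ≫ X.presheaf.germ W x hxW).hom ϖ * t = _
    rw [sec_germ, toStalkX_SpecMap]
    rfl
  suffices hkey : ∀ t : X.presheaf.stalk x,
      (toStalkX A h x).hom (algebraMap V A ϖ) * t = 0 → t = 0 by
    intro s t hst
    have hst' : ϖ • s = ϖ • t := hst
    rw [hsmul, hsmul] at hst'
    have : (toStalkX A h x).hom (algebraMap V A ϖ) * (s - t) = 0 := by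
      rw [mul_sub, hst', sub_self]
    exact sub_eq_zero.mp (hkey _ this)
  by_cases hmem : algebraMap V A ϖ ∈ (h x).asIdeal
  · obtain ⟨p', hp'⟩ := hsurj (h x) hmem
    obtain ⟨x', hx'1, hx'2⟩ := Scheme.Pullback.exists_preimage_pullback (f := h) (g := g) x p'
      hp'.symm
    subst hx'1
    intro t ht
    -- injectivity of the stalk map of `F`
    have hFst : ((pullback.fst h g).stalkMap x').hom.Flat := Flat.stalkMap _ x'
    letI algF := ((pullback.fst h g).stalkMap x').hom.toAlgebra
    haveI : Module.Flat (X.presheaf.stalk (pullback.fst h g x'))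
      ((pullback h g).presheaf.stalk x') := hFst
    haveI : IsLocalHom (algebraMap (X.presheaf.stalk (pullback.fst h g x'))
      ((pullback h g).presheaf.stalk x')) :=
      inferInstanceAs (IsLocalHom ((pullback.fst h g).stalkMap x').hom)
    haveI : Module.FaithfullyFlat (X.presheaf.stalk (pullback.fst h g x'))
      ((pullback h g).presheaf.stalk x') := Module.FaithfullyFlat.of_flat_of_isLocalHom
    have hinj : Function.Injective ((pullback.fst h g).stalkMap x').hom :=
      FaithfulSMul.algebraMap_injective _ _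
    apply hinj
    rw [map_zero]
    -- regularity upstairs
    haveI hXV'' : Flat ((pullback.fst h g ≫ h) ≫ q) := by rw [Category.assoc]; exact hXV'
    have hfl : (toStalkX V ((pullback.fst h g ≫ h) ≫ q) x').hom.Flat :=
      flat_toStalkX V _ x' (Flat.stalkMap _ x')
    have hreg : ∀ t' : (pullback h g).presheaf.stalk x',
        (toStalkX V ((pullback.fst h g ≫ h) ≫ q) x').hom ϖ * t' = 0 → t' = 0 := by
      letI algV := (toStalkX V ((pullback.fst h g ≫ h) ≫ q) x').hom.toAlgebra
      haveI : Module.Flat V ((pullback h g).presheaf.stalk x') := hfl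
      have hregV : IsSMulRegular V ϖ := fun a b hab =>
        mul_left_cancel₀ hϖ.ne_zero (by simpa using hab)
      have h2 : IsSMulRegular ((pullback h g).presheaf.stalk x')
          (algebraMap V ((pullback h g).presheaf.stalk x') ϖ) := hregV.of_flat
      intro t' ht'
      refine h2 ?_
      change algebraMap V ((pullback h g).presheaf.stalk x') ϖ * t' =
        algebraMap V ((pullback h g).presheaf.stalk x') ϖ * 0
      rw [mul_zero]
      exact ht'
    apply hreg
    have h3 := congrArg ((pullback.fst h g).stalkMap x').hom ht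
    rw [map_mul, map_zero] at h3
    rw [toStalkX_SpecMap, toStalkX_comp]
    exact h3
  · intro t ht
    have hu := isUnit_toStalkX A h x _ hmem
    exact (hu.mul_right_eq_zero).mp ht

/-- If `X` is flat over a domain `V`, nonzero elements of `V` act regularly on sections. -/
theorem regular_sec_of_flat_comp (V : Type u) [CommRing V] [IsDomain V] [Algebra V A]
    (hflat : Flat (h ≫ Spec.map (CommRingCat.ofHom (algebraMap V A)))) (ϖ : V) (hϖ : ϖ ≠ 0)
    (W : X.Opens) (hW : IsAffineOpen W) (s : Γ(X, W))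
    (hs : (sec A h W).hom (algebraMap V A ϖ) * s = 0) : s = 0 := by
  have h1 : ((h ≫ Spec.map (CommRingCat.ofHom (algebraMap V A))).appLE ⊤ W le_top).hom.Flat :=
    HasRingHomProperty.appLE (P := @Flat) _ hflat ⟨⊤, isAffineOpen_top _⟩ ⟨W, hW⟩ _
  have h2 : (sec V (h ≫ Spec.map (CommRingCat.ofHom (algebraMap V A))) W).hom.Flat := by
    rw [sec, CommRingCat.hom_comp]
    refine RingHom.Flat.comp (RingHom.Flat.of_bijective ?_) h1
    exact ConcreteCategory.bijective_of_isIso (Scheme.ΓSpecIso (CommRingCat.of V)).inv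
  letI algV := (sec V (h ≫ Spec.map (CommRingCat.ofHom (algebraMap V A))) W).hom.toAlgebra
  haveI : Module.Flat V Γ(X, W) := h2
  have hregV : IsSMulRegular V ϖ := fun a b hab =>
    mul_left_cancel₀ hϖ (by simpa using hab)
  have h3 : IsSMulRegular Γ(X, W) (algebraMap V Γ(X, W) ϖ) := hregV.of_flat
  refine h3 ?_
  change algebraMap V Γ(X, W) ϖ * s = algebraMap V Γ(X, W) ϖ * 0
  rw [mul_zero]
  change (sec V (h ≫ Spec.map (CommRingCat.ofHom (algebraMap V A))) W).hom ϖ * s = 0
  rw [sec_comp_SpecMap]
  exact hs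

end Groth.Agent.H11.FlatComplSch
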