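import Mathlib

/-!
# Two consequences of the Artin–Rees lemma for `J^c`-torsion

`B` a Noetherian ring, `J` an ideal, `N` a finite `B`-module, `c : ℕ`.
* `exists_forall_eq_zero`: for `n ≫ 0`, `J^n N ∩ N[J^c] = 0`.
* `exists_forall_decomp`: there is `k` such that, for all `n`, every `y` with
  `J^c y ⊆ J^(n+k) N` lies in `N[J^c] + J^n N`.
-/

set_option autoImplicit false
universe u v

namespace Groth.Agent.H11.FormalAR

variable {B : Type u} [CommRing B] {N : Type v} [AddCommGroup N] [Module B N]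

theorem map_mem_smul_top {N' : Type*} [AddCommGroup N'] [Module B N'] (K : Ideal B)
    (f : N →ₗ[B] N') (y : N) (hy : y ∈ K • (⊤ : Submodule B N)) :
    f y ∈ K • (⊤ : Submodule B N') := by
  have h1 : f y ∈ (K • (⊤ : Submodule B N)).map f := ⟨y, hy, rfl⟩
  rw [Submodule.map_smul''] at h1
  exact Submodule.smul_mono le_rfl le_top h1

theorem pi_mem_smul_top {ι : Type*} [Fintype ι] [DecidableEq ι] (K : Ideal B) (x : ι → N)
    (hx : ∀ i, x i ∈ K • (⊤ : Submodule B N)) : x ∈ K • (⊤ : Submodule B (ι → N)) := by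
  have h : x = ∑ i, LinearMap.single B (fun _ : ι => N) i (x i) := by
    simp only [LinearMap.coe_single]
    exact (Finset.univ_sum_single x).symm
  rw [h]
  exact Submodule.sum_mem _ (fun i _ => map_mem_smul_top K _ _ (hx i))

variable [IsNoetherianRing B] [Module.Finite B N]

/-- For `n ≫ 0`, an element of `J^n N` killed by `J^c` vanishes. -/
theorem exists_forall_eq_zero (J : Ideal B) (c : ℕ) :
    ∃ m₀ : ℕ, ∀ n, m₀ ≤ n → ∀ y : N, y ∈ J ^ n • (⊤ : Submodule B N) →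
      (∀ a ∈ J ^ c, a • y = 0) → y = 0 := by
  let T : Submodule B N := Submodule.torsionBySet B N (↑(J ^ c) : Set B)
  have hT : ∀ y : N, y ∈ T ↔ ∀ a ∈ J ^ c, a • y = 0 := by
    intro y
    rw [Submodule.mem_torsionBySet_iff]
    exact ⟨fun h a ha => h ⟨a, ha⟩, fun h a => h a.1 a.2⟩
  obtain ⟨k, hk⟩ := Ideal.exists_pow_inf_eq_pow_smul J T
  refine ⟨c + k, fun n hn y hy hyT => ?_⟩
  have h1 : y ∈ J ^ n • (⊤ : Submodule B N) ⊓ T := ⟨hy, (hT y).2 hyT⟩
  rw [hk n (by omega)] at h1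
  refine Submodule.smul_induction_on h1 (fun a ha t ht => ?_) (fun x y hx hy => ?_)
  · exact (hT t).1 ht.2 a (Ideal.pow_le_pow_right (by omega) ha)
  · rw [hx, hy, add_zero]

/-- There is `k` such that every `y` with `J^c y ⊆ J^(n+k) N` lies in `N[J^c] + J^n N`. -/
theorem exists_forall_decomp (J : Ideal B) (c : ℕ) :
    ∃ k : ℕ, ∀ (n : ℕ) (y : N), (∀ a ∈ J ^ c, a • y ∈ J ^ (n + k) • (⊤ : Submodule B N)) →
      ∃ t z : N, y = t + z ∧ (∀ a ∈ J ^ c, a • t = 0) ∧ z ∈ J ^ n • (⊤ : Submodule B N) := by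
  classical
  obtain ⟨s, hs⟩ : (J ^ c).FG := IsNoetherian.noetherian (J ^ c)
  let μ : N →ₗ[B] (s → N) := LinearMap.pi (fun a => LinearMap.lsmul B N (a : B))
  have hμ : ∀ (y : N) (a : s), μ y a = (a : B) • y := fun y a => rfl
  obtain ⟨k, hk⟩ := Ideal.exists_pow_inf_eq_pow_smul J (LinearMap.range μ)
  refine ⟨k, fun n y hy => ?_⟩
  have h1 : μ y ∈ J ^ (n + k) • (⊤ : Submodule B (s → N)) ⊓ LinearMap.range μ := by
    refine ⟨pi_mem_smul_top _ _ (fun a => ?_), ⟨y, rfl⟩⟩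
    rw [hμ]
    refine hy a ?_
    rw [← hs]
    exact Submodule.subset_span a.2
  rw [hk (n + k) (by omega), Nat.add_sub_cancel] at h1
  have h2 : μ y ∈ (J ^ n • (⊤ : Submodule B N)).map μ := by
    rw [Submodule.map_smul'', Submodule.map_top]
    exact Submodule.smul_mono le_rfl inf_le_right h1
  obtain ⟨z, hz, hzy⟩ := h2
  refine ⟨y - z, z, by abel, fun a ha => ?_, hz⟩
  have h3 : ∀ b : s, (b : B) • (y - z) = 0 := by
    intro b
    have := congrFun hzy b
    rw [hμ, hμ] at this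
    rw [smul_sub, this, sub_self]
  rw [← hs] at ha
  refine Submodule.span_induction (p := fun a _ => a • (y - z) = 0) ?_ ?_ ?_ ?_ ha
  · intro b hb
    exact h3 ⟨b, hb⟩
  · rw [zero_smul]
  · intro a b _ _ ha hb
    rw [add_smul, ha, hb, add_zero]
  · intro r a _ ha
    rw [smul_eq_mul, mul_smul, ha, smul_zero]

end Groth.Agent.H11.FormalAR
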