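import Mathlib
import Groth.Prelude.Def_Formal
import Groth.Agent.H70.Rees.IdealMulSections
import Groth.Agent.H93.FF.Main
import Groth.Agent.H71.QCoh.ExactSections

/-!
# Sections of `M / I^n M` over affine opens

For `X` over `Spec A`, `I` an ideal of `A`, `M` a quasi-coherent `O_X`-module and `U` an affine
open: `M ⟶ M / I^n M` is surjective on sections over `U`, with kernel `I^n · Γ(U, M)`; the
quotient `M / I^n M` is quasi-coherent (coherent if `M` is).
-/

set_option autoImplicit false
set_option linter.style.haveILetI false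
universe u
open CategoryTheory Limits AlgebraicGeometry Opposite TopologicalSpace

namespace Groth.Agent.H11.FormalSections

open Groth.Agent.Lead.SubRange Groth.Agent.H70.Rees

variable {A : Type u} [CommRing A] {X : Scheme.{u}} [X.Over (Spec (CommRingCat.of A))]

/-- the short complex `J·M ⟶ M ⟶ M/J·M` -/
noncomputable def quotSC (J : Ideal A) (M : X.Modules) : ShortComplex X.Modules :=
  ShortComplex.mk (CohIII.idealMulι J M) (cokernel.π (Formal.smulFamily J M)) (by
    have h : factorThruImage (Formal.smulFamily J M) ≫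
        (CohIII.idealMulι J M ≫ cokernel.π (Formal.smulFamily J M)) =
        factorThruImage (Formal.smulFamily J M) ≫ 0 := by
      rw [image.fac_assoc, cokernel.condition, comp_zero]
    exact (cancel_epi (factorThruImage (Formal.smulFamily J M))).1 h)

theorem quotSC_shortExact (J : Ideal A) (M : X.Modules) : (quotSC J M).ShortExact := by
  have hm : Mono (quotSC J M).f := inferInstanceAs (Mono (CohIII.idealMulι J M))
  have he : Epi (quotSC J M).g := inferInstanceAs (Epi (cokernel.π (Formal.smulFamily J M)))
  refine ShortComplex.ShortExact.mk ?_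
  let S₀ : ShortComplex X.Modules :=
    ShortComplex.mk (Formal.smulFamily J M) (cokernel.π (Formal.smulFamily J M))
      (cokernel.condition _)
  have h₀ : S₀.Exact := ShortComplex.exact_cokernel _
  let φ : S₀ ⟶ quotSC J M :=
    { τ₁ := factorThruImage (Formal.smulFamily J M)
      τ₂ := 𝟙 _
      τ₃ := 𝟙 _
      comm₁₂ := by
        change factorThruImage (Formal.smulFamily J M) ≫ CohIII.idealMulι J M =
          Formal.smulFamily J M ≫ 𝟙 _
        rw [image.fac, Category.comp_id]
      comm₂₃ := by
        change 𝟙 _ ≫ cokernel.π (Formal.smulFamily J M) = cokernel.π (Formal.smulFamily J M) ≫ 𝟙 _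
        rw [Category.id_comp, Category.comp_id] }
  haveI : Epi φ.τ₁ := inferInstanceAs (Epi (factorThruImage (Formal.smulFamily J M)))
  haveI : IsIso φ.τ₂ := inferInstanceAs (IsIso (𝟙 _))
  haveI : Mono φ.τ₃ := inferInstanceAs (Mono (𝟙 _))
  exact (ShortComplex.exact_iff_of_epi_of_isIso_of_mono φ).1 h₀

instance isQuasicoherent_cokernel_smulFamily (J : Ideal A) (M : X.Modules) [M.IsQuasicoherent] :
    (cokernel (Formal.smulFamily J M)).IsQuasicoherent := by
  haveI : (quotSC J M).X₁.IsQuasicoherent :=
    inferInstanceAs (CohIII.idealMul J M).IsQuasicoherent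
  haveI : (quotSC J M).X₂.IsQuasicoherent := inferInstanceAs M.IsQuasicoherent
  exact Groth.Agent.H12.QCohAbelian.isQuasicoherent_X₃_of_shortExact _ (quotSC_shortExact J M)

instance isQuasicoherent_modPow (I : Ideal A) (n : ℕ) (M : X.Modules) [M.IsQuasicoherent] :
    (Formal.modPow I n M).IsQuasicoherent :=
  isQuasicoherent_cokernel_smulFamily (I ^ n) M

/-- the kernel of `M ⟶ M/J·M` on sections over an affine open is `J · Γ(U, M)` -/
theorem cokernel_π_app_eq_zero_iff (J : Ideal A) (M : X.Modules) [M.IsQuasicoherent]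
    {U : X.Opens} (hU : IsAffineOpen U) (y : Γ(M, U)) :
    (cokernel.π (Formal.smulFamily J M)).app U y = 0 ↔
      y ∈ (J.map (toSections X U)) • (⊤ : Submodule Γ(X, U) Γ(M, U)) := by
  rw [← rng_idealMulι J M hU]
  constructor
  · intro h
    haveI : Mono (quotSC J M).f := inferInstanceAs (Mono (CohIII.idealMulι J M))
    obtain ⟨x, hx⟩ := Groth.Agent.H12.QCohAbelian.app_exact_of_exact_of_mono (quotSC J M)
      (quotSC_shortExact J M).exact U y h
    exact ⟨x, hx⟩
  · rintro ⟨x, rfl⟩
    exact Groth.Agent.H12.QCohExt.app_zero_apply (quotSC J M) U x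

theorem modPowπ_app_eq_zero_iff (I : Ideal A) (n : ℕ) (M : X.Modules) [M.IsQuasicoherent]
    {U : X.Opens} (hU : IsAffineOpen U) (y : Γ(M, U)) :
    (Formal.modPowπ I n M).app U y = 0 ↔
      y ∈ (I.map (toSections X U)) ^ n • (⊤ : Submodule Γ(X, U) Γ(M, U)) := by
  rw [← Ideal.map_pow]
  exact cokernel_π_app_eq_zero_iff (I ^ n) M hU y

theorem modPowπ_app_surjective (I : Ideal A) (n : ℕ) (M : X.Modules) [M.IsQuasicoherent]
    {U : X.Opens} (hU : IsAffineOpen U) : Function.Surjective ((Formal.modPowπ I n M).app U) :=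
  Groth.Agent.H71.QCoh.app_surjective_of_epi (Formal.modPowπ I n M) hU

end Groth.Agent.H11.FormalSections
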