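import Mathlib
import Groth.Agent.H11.FormalSections
import Groth.Agent.H11.FormalAR
import Groth.Agent.H44.FiniteSections

/-!
# `I^c`-torsion of a coherent module on a Noetherian scheme and Artin–Rees on a finite affine cover

For `X` over `Spec A` locally Noetherian, `I ⊆ A`, `G` coherent and a finite family `W` of affine
opens:
* `exists_torsion_cover`: a quasi-coherent subobject `T ⊆ G` whose sections over each `W i` are the
  sections of `G` killed by (the image of) `I^c`;
* `exists_forall_eq_zero_cover`: for `n ≫ 0` a section over `W i` killed by `I^c` and mapping to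
  zero in `G/I^nG` vanishes;
* `exists_forall_decomp_cover`: there is `k` such that a section `y` over `W i` whose multiples
  `a y` (`a ∈ I^c`) die in `G/I^l G`, `l ≥ n + k`, agrees in `G/I^nG` with a section killed by `I^c`.
-/

set_option autoImplicit false
set_option linter.style.haveILetI false
universe u
open CategoryTheory Limits AlgebraicGeometry Opposite TopologicalSpace

namespace Groth.Agent.H11.FormalTors

open Groth.Agent.Lead.SubRange Groth.Agent.H70.Rees Groth.Agent.H11.FormalSections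

/-- a finite affine open cover of a quasi-compact scheme -/
theorem exists_finite_affine_cover (X : Scheme.{u}) [CompactSpace X] :
    ∃ (m : ℕ) (W : Fin m → X.Opens), (∀ k, IsAffineOpen (W k)) ∧ ∀ x : X, ∃ k, x ∈ W k := by
  obtain ⟨t, ht⟩ := isCompact_univ.elim_finite_subcover (fun W : X.affineOpens => (W.1 : Set X))
    (fun W => W.1.isOpen) (fun x _ => by
      obtain ⟨_, ⟨W, hW, rfl⟩, hxW, -⟩ :=
        X.isBasis_affineOpens.exists_subset_of_mem_open (Set.mem_univ x) isOpen_univ
      exact Set.mem_iUnion.mpr ⟨⟨W, hW⟩, hxW⟩)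
  refine ⟨t.card, fun i => (t.equivFin.symm i).1.1, fun i => (t.equivFin.symm i).1.2, ?_⟩
  intro x
  have := ht (Set.mem_univ x)
  simp only [Set.mem_iUnion, exists_prop] at this
  obtain ⟨W, hWt, hxW⟩ := this
  refine ⟨t.equivFin ⟨W, hWt⟩, ?_⟩
  show x ∈ (t.equivFin.symm (t.equivFin ⟨W, hWt⟩)).1.1
  rw [Equiv.symm_apply_apply]
  exact hxW

section Ring

variable {A : Type*} [CommRing A] {B : Type*} [CommRing B] {N : Type*} [AddCommGroup N]
  [Module B N]

theorem smul_mem_of_map (f : A →+* B) (K : Ideal A) (P : Submodule B N) (y : N)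
    (h : ∀ a ∈ K, f a • y ∈ P) : ∀ b ∈ K.map f, b • y ∈ P := by
  intro b hb
  refine Submodule.span_induction (p := fun b _ => b • y ∈ P) ?_ ?_ ?_ ?_ hb
  · rintro _ ⟨a, ha, rfl⟩
    exact h a ha
  · rw [zero_smul]
    exact zero_mem _
  · intro a b _ _ ha hb
    rw [add_smul]
    exact add_mem ha hb
  · intro r a _ ha
    rw [smul_eq_mul, mul_smul]
    exact P.smul_mem r ha

theorem smul_eq_zero_of_map (f : A →+* B) (K : Ideal A) (y : N)
    (h : ∀ a ∈ K, f a • y = 0) : ∀ b ∈ K.map f, b • y = 0 := by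
  intro b hb
  have := smul_mem_of_map f K (⊥ : Submodule B N) y (fun a ha => by rw [h a ha]; exact zero_mem _)
    b hb
  exact (Submodule.mem_bot B).1 this

theorem exists_finset_span_eq [IsNoetherianRing B] (f : A →+* B) (K : Ideal A) :
    ∃ S : Finset A, (↑S ⊆ (K : Set A)) ∧ Ideal.span (f '' ↑S) = K.map f := by
  classical
  have hfg : (Submodule.span B (f '' (K : Set A))).FG :=
    IsNoetherian.noetherian (Submodule.span B (f '' (K : Set A)))
  obtain ⟨s', hs', hspan⟩ := (Submodule.fg_span_iff_fg_span_finset_subset _).1 hfg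
  obtain ⟨S, hS, rfl⟩ := Finset.subset_set_image_iff.1 hs'
  refine ⟨S, hS, ?_⟩
  change Submodule.span B (f '' ↑S) = Submodule.span B (f '' (K : Set A))
  rw [hspan, Finset.coe_image]

end Ring

variable {A : Type u} [CommRing A] {X : Scheme.{u}} [X.Over (Spec (CommRingCat.of A))]

theorem id_app_apply (G : X.Modules) (U : X.Opens) (y : Γ(G, U)) : (𝟙 G : G ⟶ G).app U y = y :=
  rfl

theorem comp_app_apply {M N P : X.Modules} (f : M ⟶ N) (g : N ⟶ P) (U : X.Opens) (y : Γ(M, U)) :
    (f ≫ g).app U y = g.app U (f.app U y) := rfl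

/-- the subobject of sections killed by a finite set of elements of `A` -/
theorem exists_torsion_finset (G : X.Modules) [G.IsQuasicoherent] (S : Finset A) :
    ∃ (T : X.Modules) (ι : T ⟶ G), T.IsQuasicoherent ∧ Mono ι ∧
      ∀ (U : X.Opens) (y : Γ(G, U)), y ∈ rng ι U ↔ ∀ a ∈ S, toSections X U a • y = 0 := by
  classical
  induction S using Finset.induction_on with
  | empty =>
    refine ⟨G, 𝟙 G, inferInstance, inferInstance, fun U y => ?_⟩
    simp only [Finset.notMem_empty, false_imp_iff, implies_true, iff_true]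
    exact ⟨y, rfl⟩
  | insert a S _ ih =>
    obtain ⟨T, ι, hT, hι, h⟩ := ih
    haveI := hT
    haveI := hι
    let f : T ⟶ G := ι ≫ Formal.smulMod A G a
    have hf : ∀ (U : X.Opens) (t : Γ(T, U)), f.app U t = toSections X U a • ι.app U t :=
      fun U t => rfl
    refine ⟨kernel f, kernel.ι f ≫ ι,
      Groth.Agent.H12.QCohAbelian.isQuasicoherent_kernel f, mono_comp _ _, fun U y => ?_⟩
    constructor
    · rintro ⟨s, rfl⟩ b hb
      change toSections X U b • ι.app U ((kernel.ι f).app U s) = 0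
      rcases Finset.mem_insert.1 hb with rfl | hb
      · rw [← hf]
        exact Groth.Agent.H12.QCohExt.app_zero_apply
          (ShortComplex.mk (kernel.ι f) f (kernel.condition f)) U s
      · exact (h U _).1 ⟨_, rfl⟩ b hb
    · intro hy
      obtain ⟨t, rfl⟩ := (h U y).2 (fun b hb => hy b (Finset.mem_insert_of_mem hb))
      have h0 : f.app U t = 0 := by
        rw [hf]
        exact hy a (Finset.mem_insert_self a S)
      have hex : (ShortComplex.mk (kernel.ι f) f (kernel.condition f)).Exact :=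
        ShortComplex.exact_kernel f
      haveI : Mono (ShortComplex.mk (kernel.ι f) f (kernel.condition f)).f :=
        (inferInstance : Mono (kernel.ι f))
      obtain ⟨s, hs⟩ := Groth.Agent.H12.QCohAbelian.app_exact_of_exact_of_mono _ hex U t h0
      refine ⟨s, ?_⟩
      change ι.app U ((kernel.ι f).app U s) = ι.app U t
      exact congrArg _ hs

variable [IsLocallyNoetherian X] (I : Ideal A) (c : ℕ) (G : X.Modules) [G.IsQuasicoherent]
  {m : ℕ} (W : Fin m → X.Opens) (hW : ∀ k, IsAffineOpen (W k))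

include hW in
/-- the `I^c`-torsion subobject relative to a finite affine family -/
theorem exists_torsion_cover :
    ∃ (T : X.Modules) (ι : T ⟶ G), T.IsQuasicoherent ∧ Mono ι ∧
      ∀ (i : Fin m) (y : Γ(G, W i)), y ∈ rng ι (W i) ↔
        ∀ a ∈ I ^ c, toSections X (W i) a • y = 0 := by
  classical
  have hS : ∀ i : Fin m, ∃ S : Finset A, ((S : Set A) ⊆ ((I ^ c : Ideal A) : Set A)) ∧
      Ideal.span (toSections X (W i) '' (S : Set A)) = (I ^ c).map (toSections X (W i)) := by
    intro i
    haveI : IsNoetherianRing Γ(X, W i) :=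
      IsLocallyNoetherian.component_noetherian ⟨W i, hW i⟩
    exact exists_finset_span_eq _ _
  choose S hS1 hS2 using hS
  obtain ⟨T, ι, hT, hι, h⟩ := exists_torsion_finset G (Finset.univ.biUnion S)
  refine ⟨T, ι, hT, hι, fun i y => ?_⟩
  rw [h]
  constructor
  · intro hy a ha
    have h1 : ∀ b ∈ Ideal.span (toSections X (W i) '' (S i : Set A)), b • y = 0 := by
      intro b hb
      refine Submodule.span_induction (p := fun b _ => b • y = 0) ?_ ?_ ?_ ?_ hb
      · rintro _ ⟨a', ha', rfl⟩
        exact hy a' (Finset.mem_biUnion.2 ⟨i, Finset.mem_univ i, ha'⟩)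
      · rw [zero_smul]
      · intro a b _ _ ha hb
        rw [add_smul, ha, hb, add_zero]
      · intro r a _ ha
        rw [smul_eq_mul, mul_smul, ha, smul_zero]
    refine h1 _ ?_
    rw [hS2]
    exact Ideal.mem_map_of_mem _ ha
  · intro hy a ha
    obtain ⟨j, -, haj⟩ := Finset.mem_biUnion.1 ha
    exact hy a (hS1 j haj)

variable [SheafOfModules.IsFiniteType (R := X.ringCatSheaf) G]

include hW in
theorem exists_forall_eq_zero_cover :
    ∃ m₀ : ℕ, ∀ n, m₀ ≤ n → ∀ (i : Fin m) (y : Γ(G, W i)),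
      (∀ a ∈ I ^ c, toSections X (W i) a • y = 0) →
        (Formal.modPowπ I n G).app (W i) y = 0 → y = 0 := by
  have h : ∀ i : Fin m, ∃ m₀ : ℕ, ∀ n, m₀ ≤ n → ∀ y : Γ(G, W i),
      y ∈ (I.map (toSections X (W i))) ^ n • (⊤ : Submodule Γ(X, W i) Γ(G, W i)) →
        (∀ a ∈ (I.map (toSections X (W i))) ^ c, a • y = 0) → y = 0 := by
    intro i
    haveI : IsNoetherianRing Γ(X, W i) :=
      IsLocallyNoetherian.component_noetherian ⟨W i, hW i⟩
    haveI : Module.Finite Γ(X, W i) Γ(G, W i) :=
      Groth.Agent.H44.finite_sections_of_isFiniteType G (hW i)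
    exact Groth.Agent.H11.FormalAR.exists_forall_eq_zero _ c
  choose m₀ hm₀ using h
  refine ⟨Finset.univ.sup m₀, fun n hn i y hy hπ => ?_⟩
  refine hm₀ i n ((Finset.le_sup (Finset.mem_univ i)).trans hn) y
    ((modPowπ_app_eq_zero_iff I n G (hW i) y).1 hπ) ?_
  rw [← Ideal.map_pow]
  exact smul_eq_zero_of_map _ _ y hy

include hW in
theorem exists_forall_decomp_cover :
    ∃ k : ℕ, ∀ n l, n + k ≤ l → ∀ (i : Fin m) (y : Γ(G, W i)),
      (∀ a ∈ I ^ c, (Formal.modPowπ I l G).app (W i) (toSections X (W i) a • y) = 0) →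
        ∃ t : Γ(G, W i), (∀ a ∈ I ^ c, toSections X (W i) a • t = 0) ∧
          (Formal.modPowπ I n G).app (W i) y = (Formal.modPowπ I n G).app (W i) t := by
  have h : ∀ i : Fin m, ∃ k : ℕ, ∀ (n : ℕ) (y : Γ(G, W i)),
      (∀ a ∈ (I.map (toSections X (W i))) ^ c,
        a • y ∈ (I.map (toSections X (W i))) ^ (n + k) •
          (⊤ : Submodule Γ(X, W i) Γ(G, W i))) →
      ∃ t z : Γ(G, W i), y = t + z ∧ (∀ a ∈ (I.map (toSections X (W i))) ^ c, a • t = 0) ∧
        z ∈ (I.map (toSections X (W i))) ^ n • (⊤ : Submodule Γ(X, W i) Γ(G, W i)) := by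
    intro i
    haveI : IsNoetherianRing Γ(X, W i) :=
      IsLocallyNoetherian.component_noetherian ⟨W i, hW i⟩
    haveI : Module.Finite Γ(X, W i) Γ(G, W i) :=
      Groth.Agent.H44.finite_sections_of_isFiniteType G (hW i)
    exact Groth.Agent.H11.FormalAR.exists_forall_decomp _ c
  choose k hk using h
  refine ⟨Finset.univ.sup k, fun n l hl i y hy => ?_⟩
  have hki : n + k i ≤ l :=
    (Nat.add_le_add_left (Finset.le_sup (Finset.mem_univ i)) n).trans hl
  obtain ⟨t, z, rfl, ht, hz⟩ := hk i n y (by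
    rw [← Ideal.map_pow]
    refine smul_mem_of_map _ _ _ y (fun a ha => ?_)
    have := (modPowπ_app_eq_zero_iff I l G (hW i) _).1 (hy a ha)
    exact Submodule.smul_mono (Ideal.pow_le_pow_right hki) le_rfl this)
  refine ⟨t, fun a ha => ht _ ?_, ?_⟩
  · rw [← Ideal.map_pow]
    exact Ideal.mem_map_of_mem _ ha
  · rw [map_add, (modPowπ_app_eq_zero_iff I n G (hW i) z).2 hz, add_zero]

end Groth.Agent.H11.FormalTors
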