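import Mathlib
import Groth.Agent.H11.FormalTors
import Groth.Agent.H19.TorsSysCompl

/-!
# Maps into the system `(G/I^nG)` from a module, when source or target is killed by a power of `I`

* `existsUnique_of_killedBy_right`: if `G` is killed by `I^c`, compatible families
  `F ⟶ G/I^(n+1)G` come from exactly one `F ⟶ G` (purely categorical).
* `existsUnique_of_killedBy_left`: the same when `X` is Noetherian, `F` is quasi-coherent and
  killed by `I^c` and `G` is coherent (Artin–Rees on a finite affine cover).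
* `existsUnique_completion_hom`: full faithfulness of `M ↦ (M/I^(n+1)M)` in these two cases.
-/

set_option autoImplicit false
set_option linter.style.haveILetI false
universe u
open CategoryTheory Limits AlgebraicGeometry Opposite TopologicalSpace

namespace Groth.Agent.H11.FormalFF

open Groth.Agent.Lead.SubRange Groth.Agent.H70.Rees Groth.Agent.H11.FormalSections
  Groth.Agent.H11.FormalTors Groth.Agent.H93.FF

variable {A : Type u} [CommRing A] {X : Scheme.{u}} [X.Over (Spec (CommRingCat.of A))]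

theorem existsUnique_of_killedBy_right (I : Ideal A) (F G : X.Modules) (c : ℕ)
    (hG : Formal.KilledBy (I ^ c) G)
    (Θ : ∀ n : ℕ, F ⟶ Formal.modPow I (n + 1) G)
    (hΘ : ∀ (n l : ℕ) (h : n ≤ l), Θ l ≫ modPowLE I G (Nat.succ_le_succ h) = Θ n) :
    ∃! φ : F ⟶ G, ∀ n, φ ≫ Formal.modPowπ I (n + 1) G = Θ n := by
  have hiso : ∀ n, c ≤ n → IsIso (Formal.modPowπ I n G) := fun n hn =>
    (Groth.Agent.H19.TorsSys.isQuot_modPowπ I n G).isIso_of_killed
      (fun a ha => hG a (Ideal.pow_le_pow_right hn ha))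
  haveI := hiso (c + 1) (Nat.le_succ c)
  refine ⟨Θ c ≫ inv (Formal.modPowπ I (c + 1) G), fun n => ?_, fun φ' hφ' => ?_⟩
  · rcases le_total n c with h | h
    · rw [← modPowπ_LE I G (Nat.succ_le_succ h), Category.assoc, IsIso.inv_hom_id_assoc, hΘ n c h]
    · haveI := hiso (n + 1) (by omega)
      haveI hLE : IsIso (modPowLE I G (Nat.succ_le_succ h)) :=
        IsIso.of_isIso_fac_left (modPowπ_LE I G (Nat.succ_le_succ h))
      rw [← cancel_mono (modPowLE I G (Nat.succ_le_succ h)), Category.assoc, modPowπ_LE,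
        Category.assoc, IsIso.inv_hom_id, Category.comp_id, hΘ c n h]
  · rw [← hφ' c, Category.assoc, IsIso.hom_inv_id, Category.comp_id]

theorem existsUnique_of_killedBy_left [IsNoetherian X] (I : Ideal A) (F G : X.Modules)
    [F.IsQuasicoherent] [G.IsQuasicoherent] [SheafOfModules.IsFiniteType (R := X.ringCatSheaf) G]
    (c : ℕ) (hF : Formal.KilledBy (I ^ c) F)
    (Θ : ∀ n : ℕ, F ⟶ Formal.modPow I (n + 1) G)
    (hΘ : ∀ (n l : ℕ) (h : n ≤ l), Θ l ≫ modPowLE I G (Nat.succ_le_succ h) = Θ n) :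
    ∃! φ : F ⟶ G, ∀ n, φ ≫ Formal.modPowπ I (n + 1) G = Θ n := by
  obtain ⟨m, W, hW, hcov⟩ := exists_finite_affine_cover X
  obtain ⟨T, ι, hT, hι, hTW⟩ := exists_torsion_cover I c G W hW
  haveI := hT
  haveI := hι
  obtain ⟨m₀, hm₀⟩ := exists_forall_eq_zero_cover I c G W hW
  obtain ⟨k, hk⟩ := exists_forall_decomp_cover I c G W hW
  have hFs : ∀ (i : Fin m) (x : Γ(F, W i)), ∀ a ∈ I ^ c, toSections X (W i) a • x = 0 := by
    intro i x a ha
    rw [← smulMod_app_apply, hF a ha]
    rfl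
  have hkill : ∀ {N : X.Modules} (δ : F ⟶ N) (i : Fin m) (x : Γ(F, W i)), ∀ a ∈ I ^ c,
      toSections X (W i) a • δ.app (W i) x = 0 := by
    intro N δ i x a ha
    rw [← Scheme.Modules.Hom.app_smul, hFs i x a ha, map_zero]
  have huniq : ∀ δ : F ⟶ G, (∀ n, δ ≫ Formal.modPowπ I (n + 1) G = 0) → δ = 0 := by
    intro δ hδ
    refine eq_zero_of_app_cover W hcov hW δ (fun i x => ?_)
    refine hm₀ (m₀ + 1) (Nat.le_succ _) i _ (hkill δ i x) ?_
    rw [← comp_app_apply, hδ m₀]
    rfl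
  have hmono : ∀ n, m₀ ≤ n → Mono (ι ≫ Formal.modPowπ I n G) := by
    intro n hn
    haveI : (kernel (ι ≫ Formal.modPowπ I n G)).IsQuasicoherent :=
      Groth.Agent.H12.QCohAbelian.isQuasicoherent_kernel _
    refine Preadditive.mono_of_kernel_zero ?_
    refine eq_zero_of_app_cover W hcov hW _ (fun i s => ?_)
    have h1 : (Formal.modPowπ I n G).app (W i)
        (ι.app (W i) ((kernel.ι (ι ≫ Formal.modPowπ I n G)).app (W i) s)) = 0 :=
      Groth.Agent.H12.QCohExt.app_zero_apply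
        (ShortComplex.mk (kernel.ι (ι ≫ Formal.modPowπ I n G)) _ (kernel.condition _)) (W i) s
    have h2 : ι.app (W i) ((kernel.ι (ι ≫ Formal.modPowπ I n G)).app (W i) s) = 0 :=
      hm₀ n hn i _ ((hTW i _).1 ⟨_, rfl⟩) h1
    exact Groth.Agent.H12.QCohAbelian.app_injective_of_mono ι (W i) (h2.trans (map_zero _).symm)
  have hfac : ∀ n, m₀ ≤ n + 1 → ∃ α : F ⟶ T, α ≫ ι ≫ Formal.modPowπ I (n + 1) G = Θ n := by
    intro n hn
    haveI := hmono (n + 1) hn
    refine exists_fac_of_rng_le_cover W hcov hW (Θ n) (ι ≫ Formal.modPowπ I (n + 1) G)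
      (fun i => ?_)
    rintro _ ⟨x, rfl⟩
    obtain ⟨y, hy⟩ := modPowπ_app_surjective I (n + k + 1) G (hW i) ((Θ (n + k)).app (W i) x)
    obtain ⟨t, ht, hyt⟩ := hk (n + 1) (n + k + 1) (by omega) i y (fun a ha => by
      rw [Scheme.Modules.Hom.app_smul, hy]
      exact hkill _ i x a ha)
    obtain ⟨t', rfl⟩ := (hTW i t).2 ht
    refine ⟨t', ?_⟩
    have e1 : (Θ n).app (W i) x =
        (modPowLE I G (Nat.succ_le_succ (Nat.le_add_right n k))).app (W i)
          ((Θ (n + k)).app (W i) x) := by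
      rw [← comp_app_apply, hΘ n (n + k) (Nat.le_add_right n k)]
    have e2 : (Formal.modPowπ I (n + 1) G).app (W i) y =
        (modPowLE I G (Nat.succ_le_succ (Nat.le_add_right n k))).app (W i)
          ((Formal.modPowπ I (n + k + 1) G).app (W i) y) := by
      rw [← comp_app_apply, modPowπ_LE]
    change (Formal.modPowπ I (n + 1) G).app (W i) (ι.app (W i) t') = (Θ n).app (W i) x
    rw [e1, ← hy, ← e2, hyt]
    rfl
  obtain ⟨α₀, hα₀⟩ := hfac m₀ (Nat.le_succ _)
  haveI := hmono (m₀ + 1) (Nat.le_succ _)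
  have key : ∀ n, (α₀ ≫ ι) ≫ Formal.modPowπ I (n + 1) G = Θ n := by
    intro n
    rcases le_total n m₀ with h | h
    · calc (α₀ ≫ ι) ≫ Formal.modPowπ I (n + 1) G
          = (α₀ ≫ ι ≫ Formal.modPowπ I (m₀ + 1) G) ≫ modPowLE I G (Nat.succ_le_succ h) := by
            rw [Category.assoc, Category.assoc, Category.assoc, modPowπ_LE]
        _ = Θ n := by rw [hα₀, hΘ n m₀ h]
    · obtain ⟨α, hα⟩ := hfac n (by omega)
      have e : α = α₀ := by
        rw [← cancel_mono (ι ≫ Formal.modPowπ I (m₀ + 1) G), hα₀,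
          ← modPowπ_LE I G (Nat.succ_le_succ h), ← Category.assoc ι, ← Category.assoc α, hα,
          hΘ m₀ n h]
      rw [← e, Category.assoc]
      exact hα
  refine ⟨α₀ ≫ ι, key, fun φ' hφ' => ?_⟩
  have := huniq (φ' - α₀ ≫ ι) (fun n => by rw [Preadditive.sub_comp, hφ' n, key n, sub_self])
  exact sub_eq_zero.1 this

/-- **Full faithfulness of `M ↦ (M/I^(n+1)M)` when source or target is killed by a power of `I`**. -/
theorem existsUnique_completion_hom [IsNoetherian X] (I : Ideal A) (F G : X.Modules)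
    [F.IsQuasicoherent] [G.IsQuasicoherent] [SheafOfModules.IsFiniteType (R := X.ringCatSheaf) G]
    (c : ℕ) (hc : Formal.KilledBy (I ^ c) F ∨ Formal.KilledBy (I ^ c) G)
    (ψ : Formal.completion I F ⟶ Formal.completion I G) :
    ∃! φ : F ⟶ G, ∀ n : ℕ,
      Formal.modPowπ I (n + 1) F ≫ ψ.app (op n) = φ ≫ Formal.modPowπ I (n + 1) G := by
  let ψn : ∀ n : ℕ, Formal.modPow I (n + 1) F ⟶ Formal.modPow I (n + 1) G := fun n =>
    ψ.app (op n)
  let Θ : ∀ n : ℕ, F ⟶ Formal.modPow I (n + 1) G := fun n =>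
    Formal.modPowπ I (n + 1) F ≫ ψn n
  have hΘ : ∀ (n l : ℕ) (h : n ≤ l), Θ l ≫ modPowLE I G (Nat.succ_le_succ h) = Θ n := by
    intro n l h
    have nat : modPowLE I F (Nat.succ_le_succ h) ≫ ψn n =
        ψn l ≫ modPowLE I G (Nat.succ_le_succ h) := by
      have := ψ.naturality (homOfLE h).op
      rw [completion_map, completion_map] at this
      exact this
    change (Formal.modPowπ I (l + 1) F ≫ ψn l) ≫ _ = Formal.modPowπ I (n + 1) F ≫ ψn n
    rw [Category.assoc, ← nat, modPowπ_LE_assoc]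
  have main : ∃! φ : F ⟶ G, ∀ n, φ ≫ Formal.modPowπ I (n + 1) G = Θ n := by
    rcases hc with h | h
    · exact existsUnique_of_killedBy_left I F G c h Θ hΘ
    · exact existsUnique_of_killedBy_right I F G c h Θ hΘ
  obtain ⟨φ, hφ, huniq⟩ := main
  exact ⟨φ, fun n => (hφ n).symm, fun φ' hφ' => huniq φ' (fun n => (hφ' n).symm)⟩

end Groth.Agent.H11.FormalFF
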