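import Groth.Agent.S2160

/-!
# Noetherian G-domains have finitely many primes
-/

namespace Groth.Agent.H11.GDomain

universe u

variable {D : Type u} [CommRing D] [IsDomain D] [IsNoetherianRing D]

theorem height_le_one (f : D) (hf : f ≠ 0)
    (h : ∀ q : Ideal D, q.IsPrime → q ≠ ⊥ → f ∈ q) (q : Ideal D) [q.IsPrime] :
    q.height ≤ 1 := by
  by_contra hq
  have hq2 : (2 : ℕ∞) ≤ q.height := by
    rw [not_le] at hq
    have := Order.add_one_le_of_lt hq
    simpa [one_add_one_eq_two] using this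
  let Dq := Localization.AtPrime q
  have hdim : (2 : WithBot ℕ∞) ≤ ringKrullDim Dq := by
    rw [IsLocalization.AtPrime.ringKrullDim_eq_height q Dq]
    have : ((2 : ℕ∞) : WithBot ℕ∞) ≤ ((q.height : ℕ∞) : WithBot ℕ∞) := WithBot.coe_le_coe.mpr hq2
    exact this
  have hinj : Function.Injective (algebraMap D Dq) :=
    IsLocalization.injective Dq q.primeCompl_le_nonZeroDivisors
  let U : Set (PrimeSpectrum Dq) := PrimeSpectrum.basicOpen (algebraMap D Dq f)
  have hUopen : IsOpen U := (PrimeSpectrum.basicOpen (algebraMap D Dq f)).isOpen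
  have hbot : (⟨⊥, Ideal.isPrime_bot⟩ : PrimeSpectrum Dq) ∈ U := by
    change algebraMap D Dq f ∉ (⊥ : Ideal Dq)
    rw [Ideal.mem_bot]
    intro h0
    exact hf (hinj (by rw [h0, map_zero]))
  have hinf : U.Infinite := Groth.Agent.S2160.result hdim U hUopen ⟨_, hbot⟩
  apply hinf
  refine Set.Finite.subset (Set.finite_singleton (⟨⊥, Ideal.isPrime_bot⟩ : PrimeSpectrum Dq)) ?_
  intro P hP
  rw [Set.mem_singleton_iff]
  apply PrimeSpectrum.ext
  change P.asIdeal = ⊥
  have hP' : algebraMap D Dq f ∉ P.asIdeal := hP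
  have hc : (P.asIdeal.comap (algebraMap D Dq)) = ⊥ := by
    by_contra hne
    exact hP' (h _ (Ideal.comap_isPrime _ _) hne)
  have hmc := IsLocalization.map_comap q.primeCompl Dq P.asIdeal
  rw [← hmc]
  change Ideal.map (algebraMap D Dq) (Ideal.comap (algebraMap D Dq) P.asIdeal) = ⊥
  rw [hc, Ideal.map_bot]

theorem finite_primes (f : D) (hf : f ≠ 0)
    (h : ∀ q : Ideal D, q.IsPrime → q ≠ ⊥ → f ∈ q) :
    (Set.univ : Set (PrimeSpectrum D)).Finite := by
  have hfin : (Ideal.span {f}).minimalPrimes.Finite :=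
    Ideal.finite_minimalPrimes_of_isNoetherianRing D _
  have hfin' : {P : PrimeSpectrum D | P.asIdeal ∈ (Ideal.span {f}).minimalPrimes}.Finite :=
    Set.Finite.preimage (fun a _ b _ hab => PrimeSpectrum.ext hab) hfin
  refine Set.Finite.subset ((Set.finite_singleton (⟨⊥, Ideal.isPrime_bot⟩ : PrimeSpectrum D)).union
    hfin') ?_
  intro P _
  by_cases hP : P.asIdeal = ⊥
  · left
    rw [Set.mem_singleton_iff]
    exact PrimeSpectrum.ext hP
  · right
    have hfP : f ∈ P.asIdeal := h _ P.2 hP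
    have hle : Ideal.span {f} ≤ P.asIdeal := (Ideal.span_singleton_le_iff_mem _).mpr hfP
    haveI := P.2
    change P.asIdeal ∈ (Ideal.span {f}).minimalPrimes
    refine Ideal.mem_minimalPrimes_of_height_le hle ?_
    refine (height_le_one f hf h P.asIdeal).trans ?_
    exact Ideal.one_le_height_span_singleton_of_mem_nonZeroDivisors
      (mem_nonZeroDivisors_of_ne_zero hf)

end Groth.Agent.H11.GDomain
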