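import Mathlib

/-!
# Generic freeness for finitely generated submodules of torsion-free modules over a domain
-/

namespace Groth.Agent.H11.GenFree

variable {D N : Type*} [CommRing D] [IsDomain D] [AddCommGroup N] [Module D N]


theorem exists_free_of_span (k : ℕ) (x : Fin k → N) :
    ∃ (r : ℕ) (ι : (Fin r → D) →ₗ[D] N) (g : D), Function.Injective ι ∧ g ≠ 0 ∧
      ∀ z ∈ Submodule.span D (Set.range x), g • z ∈ LinearMap.range ι := by
  induction k with
  | zero =>
    refine ⟨0, 0, 1, ?_, one_ne_zero, ?_⟩
    · intro a b _
      exact Subsingleton.elim _ _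
    · intro z hz
      have : Set.range x = ∅ := Set.range_eq_empty x
      rw [this, Submodule.span_empty, Submodule.mem_bot] at hz
      rw [hz, smul_zero]
      exact Submodule.zero_mem _
  | succ k ih =>
    by_cases hli : LinearIndependent D x
    · refine ⟨k + 1, Fintype.linearCombination D x, 1, ?_, one_ne_zero, ?_⟩
      · rw [injective_iff_map_eq_zero]
        intro a ha
        rw [Fintype.linearCombination_apply] at ha
        funext i
        exact (Fintype.linearIndependent_iff.mp hli) a ha i
      · intro z hz
        rw [one_smul, Fintype.range_linearCombination]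
        exact hz
    · obtain ⟨a, ha, i0, hi0⟩ := Fintype.not_linearIndependent_iff.mp hli
      obtain ⟨r, ι, g, hι, hg, hgz⟩ := ih (fun j => x (i0.succAbove j))
      refine ⟨r, ι, g * a i0, hι, mul_ne_zero hg hi0, ?_⟩
      have ha' : a i0 • x i0 = - ∑ j, a (i0.succAbove j) • x (i0.succAbove j) := by
        rw [Fin.sum_univ_succAbove _ i0] at ha
        exact eq_neg_of_add_eq_zero_left ha
      have hstep : ∀ z ∈ Submodule.span D (Set.range x),
          a i0 • z ∈ Submodule.span D (Set.range fun j => x (i0.succAbove j)) := by
        intro z hz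
        induction hz using Submodule.span_induction with
        | mem w hw =>
          obtain ⟨i, rfl⟩ := hw
          rcases Fin.eq_self_or_eq_succAbove i0 i with h | ⟨j, h⟩
          · rw [h, ha']
            refine Submodule.neg_mem _ (Submodule.sum_mem _ fun j _ => ?_)
            exact Submodule.smul_mem _ _ (Submodule.subset_span ⟨j, rfl⟩)
          · rw [h]
            exact Submodule.smul_mem _ _ (Submodule.subset_span ⟨j, rfl⟩)
        | zero => rw [smul_zero]; exact Submodule.zero_mem _
        | add u v _ _ hu hv => rw [smul_add]; exact Submodule.add_mem _ hu hv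
        | smul c u _ hu => rw [smul_comm]; exact Submodule.smul_mem _ _ hu
      intro z hz
      rw [mul_smul]
      exact hgz _ (hstep z hz)


/-- If `ι : N' → N` is injective with "cokernel killed by `M`", then the localization map of `N`
composed with `ι` is again a localization map. -/
theorem isLocalizedModule_comp {D : Type*} [CommRing D] (M : Submonoid D)
    {N' N Nloc : Type*} [AddCommGroup N'] [Module D N'] [AddCommGroup N] [Module D N]
    [AddCommGroup Nloc] [Module D Nloc]
    (ι : N' →ₗ[D] N) (loc : N →ₗ[D] Nloc) [IsLocalizedModule M loc]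
    (hι : Function.Injective ι) (h : ∀ n : N, ∃ c ∈ M, c • n ∈ LinearMap.range ι) :
    IsLocalizedModule M (loc ∘ₗ ι) where
  map_units := IsLocalizedModule.map_units loc
  surj z := by
    obtain ⟨⟨m, c⟩, hmc⟩ := IsLocalizedModule.surj M loc z
    obtain ⟨c', hc', v, hv⟩ := h m
    refine ⟨⟨v, ⟨c', hc'⟩ * c⟩, ?_⟩
    change (⟨c', hc'⟩ * c : M) • z = loc (ι v)
    rw [hv, map_smul, ← hmc, mul_smul]
    rfl
  exists_of_eq {v w} e := by
    obtain ⟨c, hc⟩ := IsLocalizedModule.exists_of_eq (S := M) (f := loc) e
    refine ⟨c, ?_⟩
    apply hι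
    rw [Submonoid.smul_def, Submonoid.smul_def, map_smul, map_smul]
    exact hc

end Groth.Agent.H11.GenFree
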