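import Mathlib
import Groth.Agent.H94.FibreDim
import Groth.Agent.H63.KaehlerFF

/-!
# Generic smoothness in characteristic zero: the algebra (helper11)

* `finrank_kaehler_eq_trdeg_of_perfectField`: for a finitely generated extension `K/k` of a perfect
  field, `dim_K Ω_{K/k} = trdeg_k K`.
* `isStandardSmoothOfRelativeDimension_of_trdeg`: a standard smooth `A`-algebra `B` with a formally
  étale map to a field `L`, lying over a formally unramified map from `A` to a characteristic zero
  field `K` with `L/K` finitely generated, is standard smooth of relative dimension `trdeg_K L`.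
-/

set_option autoImplicit false
universe u

namespace Groth.Agent.H11.GenericSmoothAlg

open TensorProduct KaehlerDifferential

theorem finrank_kaehler_le_trdeg_of_perfectField (k K : Type*) [Field k] [Field K] [Algebra k K]
    [Algebra.EssFiniteType k K] [PerfectField k] :
    (Module.finrank K Ω[K⁄k] : Cardinal) ≤ Algebra.trdeg k K := by
  classical
  obtain ⟨s, hs, hsep⟩ := exists_isTranscendenceBasis_and_isSeparable_of_perfectField k K
  have hspan := Groth.Agent.H63.KaehlerFF.span_D_eq_top (k := k) (K := K) (s : Set K)
  have h1 : Module.finrank K Ω[K⁄k] ≤ s.card := by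
    have h2 := finrank_span_finset_le_card (R := K) (s.image (D k K))
    rw [Finset.coe_image] at h2
    change Module.finrank K (Submodule.span K ((D k K) '' (s : Set K))) ≤ _ at h2
    rw [hspan, finrank_top] at h2
    exact h2.trans Finset.card_image_le
  rw [← hs.cardinalMk_eq_trdeg]
  simp only [Cardinal.mk_coe_finset]
  exact_mod_cast h1

theorem finrank_kaehler_eq_trdeg_of_perfectField (k K : Type*) [Field k] [Field K] [Algebra k K]
    [Algebra.EssFiniteType k K] [PerfectField k] :
    (Module.finrank K Ω[K⁄k] : Cardinal) = Algebra.trdeg k K :=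
  le_antisymm (finrank_kaehler_le_trdeg_of_perfectField k K)
    (Groth.Agent.H94.FibreDim.trdeg_le_finrank_kaehler k K)

/-- If `K` is formally unramified over `A`, then `Ω[L/A] → Ω[L/K]` is an isomorphism. -/
theorem map_bijective_of_formallyUnramified (A K L : Type*) [CommRing A] [CommRing K] [CommRing L]
    [Algebra A K] [Algebra K L] [Algebra A L] [IsScalarTower A K L]
    [Algebra.FormallyUnramified A K] :
    Function.Bijective (KaehlerDifferential.map A K L L) := by
  refine ⟨?_, KaehlerDifferential.map_surjective A K L⟩
  rw [injective_iff_map_eq_zero]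
  intro x hx
  obtain ⟨y, rfl⟩ := (KaehlerDifferential.exact_mapBaseChange_map A K L x).mp hx
  rw [Subsingleton.elim y 0, map_zero]

theorem isStandardSmoothOfRelativeDimension_of_trdeg
    {A B K L : Type u} [CommRing A] [CommRing B] [Field K] [Field L]
    [Algebra A B] [Algebra B L] [Algebra A K] [Algebra K L] [Algebra A L]
    [IsScalarTower A B L] [IsScalarTower A K L]
    [CharZero K] [Algebra.IsStandardSmooth A B]
    [Algebra.FormallyEtale B L] [Algebra.FormallyUnramified A K] [Algebra.EssFiniteType K L]
    (n : ℕ) (hn : Algebra.trdeg K L = n) :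
    Algebra.IsStandardSmoothOfRelativeDimension n A B := by
  haveI : Nontrivial B := (algebraMap B L).domain_nontrivial
  rw [Algebra.IsStandardSmoothOfRelativeDimension.iff_of_isStandardSmooth]
  have h1 : (Module.finrank L Ω[L⁄K] : Cardinal) = n := by
    rw [finrank_kaehler_eq_trdeg_of_perfectField K L, hn]
  have h2 : Module.finrank L Ω[L⁄K] = Module.finrank L Ω[L⁄A] :=
    (LinearEquiv.ofBijective _ (map_bijective_of_formallyUnramified A K L)).finrank_eq.symm
  have h3 : Module.finrank L Ω[L⁄A] = Module.finrank L (L ⊗[B] Ω[B⁄A]) :=
    (KaehlerDifferential.tensorKaehlerEquivOfFormallyEtale A B L).finrank_eq.symm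
  have h4 : Module.finrank L (L ⊗[B] Ω[B⁄A]) = Module.finrank B Ω[B⁄A] :=
    Module.finrank_baseChange
  have h5 : Module.finrank B Ω[B⁄A] = n := by
    rw [← h4, ← h3, ← h2]; exact_mod_cast h1
  rw [← Module.finrank_eq_rank, h5]

end Groth.Agent.H11.GenericSmoothAlg
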