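import Mathlib
import Groth.Agent.H11.GenericSmoothAlg

/-!
# Generic smoothness in characteristic zero (helper11)
-/

set_option autoImplicit false
universe u

namespace Groth.Agent.H11.GenericSmoothSch

open AlgebraicGeometry CategoryTheory

set_option backward.defeqAttrib.useBackward true in
set_option backward.isDefEq.respectTransparency false in
/-- A standard smooth chart at a point where the stalk map is formally smooth. -/
lemma exists_isStandardSmooth_of_formallySmooth_stalk {X Y : Scheme.{u}}
    (f : X ⟶ Y) [LocallyOfFinitePresentation f]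
    (x : X) (H : (f.stalkMap x).hom.FormallySmooth) :
    ∃ (U : Y.Opens) (_ : IsAffineOpen U) (V : X.Opens) (_ : IsAffineOpen V) (hVU : V ≤ f ⁻¹ᵁ U),
      x ∈ V ∧ (f.appLE U V hVU).hom.IsStandardSmooth := by
  obtain ⟨_, ⟨U, hU, rfl⟩, hxU, -⟩ :=
    Y.isBasis_affineOpens.exists_subset_of_mem_open (Set.mem_univ (f x)) isOpen_univ
  obtain ⟨_, ⟨V, hV, rfl⟩, hxV, hVU⟩ :=
    X.isBasis_affineOpens.exists_subset_of_mem_open hxU (U.2.preimage f.continuous)
  have := f.finitePresentation_appLE hU hV hVU
  algebraize [(f.appLE U V hVU).hom]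
  have : Algebra.IsSmoothAt _ _ := (formallySmooth_stalkMap_iff U hU V hV hVU hxV).mp H
  obtain ⟨r, hrx, hr⟩ := Algebra.IsSmoothAt.exists_notMem_isStandardSmooth Γ(Y, U)
    (hV.primeIdealOf ⟨x, hxV⟩).asIdeal
  refine ⟨_, hU, _, hV.basicOpen r, (X.basicOpen_le r).trans hVU, ?_, ?_⟩
  · rwa [← PrimeSpectrum.mem_basicOpen, IsAffineOpen.primeIdealOf,
      ← hV.fromSpec_preimage_basicOpen, Scheme.Hom.mem_preimage, ← Scheme.Hom.comp_apply,
      IsAffineOpen.isoSpec_hom, IsAffineOpen.toSpecΓ_fromSpec] at hrx
  · have := hV.isLocalization_basicOpen r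
    rw [← RingHom.isStandardSmooth_algebraMap] at hr
    convert!
      RingHom.isStandardSmooth_respectsIso.1 _
        (IsLocalization.algEquiv (.powers r) _ Γ(X, X.basicOpen r)).toRingEquiv hr
    ext
    dsimp
    simp only [IsScalarTower.algebraMap_apply Γ(Y, U) Γ(X, V) (Localization _),
      IsLocalization.map_eq]
    simp only [RingHom.algebraMap_toAlgebra, RingHomCompTriple.comp_apply, ← ConcreteCategory.comp_apply,
      Scheme.Hom.appLE_map]

set_option backward.isDefEq.respectTransparency false in
/-- Generic smoothness in characteristic zero. -/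
theorem main (X Y : Scheme.{u}) [IsIntegral X] [IsIntegral Y] [IsLocallyNoetherian Y]
    (π : X ⟶ Y) [LocallyOfFiniteType π]
    (hdom : π.base (genericPoint X) = genericPoint Y) [CharZero Y.functionField]
    (n : ℕ) (hn : @Algebra.trdeg (Y.presheaf.stalk (π.base (genericPoint X))) X.functionField _ _
      (π.stalkMap (genericPoint X)).hom.toAlgebra = n) :
    ∃ U : X.Opens, (U : Set X).Nonempty ∧ SmoothOfRelativeDimension n (U.ι ≫ π) := by
  have hK : IsField (Y.presheaf.stalk (π.base (genericPoint X))) := by
    rw [hdom]; exact Field.toIsField Y.functionField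
  have hchar : CharZero (Y.presheaf.stalk (π.base (genericPoint X))) := by
    rw [hdom]; exact ‹CharZero Y.functionField›
  letI : Field (Y.presheaf.stalk (π.base (genericPoint X))) := hK.toField
  haveI : CharZero (Y.presheaf.stalk (π.base (genericPoint X))) := hchar
  letI algKL : Algebra (Y.presheaf.stalk (π.base (genericPoint X))) X.functionField :=
    (π.stalkMap (genericPoint X)).hom.toAlgebra
  haveI : Algebra.EssFiniteType (Y.presheaf.stalk (π.base (genericPoint X))) X.functionField :=
    LocallyOfFiniteType.stalkMap π (genericPoint X)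
  have hsm : (π.stalkMap (genericPoint X)).hom.FormallySmooth :=
    Algebra.FormallySmooth.of_perfectField
  obtain ⟨U, hU, V, hV, hVU, hηV, hstd⟩ :=
    exists_isStandardSmooth_of_formallySmooth_stalk π (genericPoint X) hsm
  refine ⟨V, ⟨genericPoint X, hηV⟩, ?_⟩
  have hstd' : (π.appLE U V hVU).hom.IsStandardSmoothOfRelativeDimension n := by
    letI := (π.appLE U V hVU).hom.toAlgebra
    letI : Algebra Γ(X, V) X.functionField := (X.presheaf.germ V (genericPoint X) hηV).hom.toAlgebra
    letI : Algebra Γ(Y, U) (Y.presheaf.stalk (π.base (genericPoint X))) :=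
      (Y.presheaf.germ U (π.base (genericPoint X)) (hVU hηV)).hom.toAlgebra
    letI : Algebra Γ(Y, U) X.functionField :=
      ((π.appLE U V hVU) ≫ X.presheaf.germ V (genericPoint X) hηV).hom.toAlgebra
    haveI : IsScalarTower Γ(Y, U) Γ(X, V) X.functionField := .of_algebraMap_eq fun _ => rfl
    haveI : IsScalarTower Γ(Y, U) (Y.presheaf.stalk (π.base (genericPoint X))) X.functionField := by
      refine .of_algebraMap_eq fun a => ?_
      change (π.appLE U V hVU ≫ X.presheaf.germ V (genericPoint X) hηV) a =
        (Y.presheaf.germ U (π.base (genericPoint X)) (hVU hηV) ≫ π.stalkMap (genericPoint X)) a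
      rw [Scheme.Hom.germ_stalkMap, Scheme.Hom.appLE, Category.assoc, TopCat.Presheaf.germ_res]
    haveI : Algebra.IsStandardSmooth Γ(Y, U) Γ(X, V) := hstd
    haveI : IsLocalization.AtPrime X.functionField (hV.primeIdealOf ⟨genericPoint X, hηV⟩).asIdeal :=
      hV.isLocalization_stalk ⟨genericPoint X, hηV⟩
    haveI : Algebra.FormallyEtale Γ(X, V) X.functionField :=
      Algebra.FormallyEtale.of_isLocalization
        (hV.primeIdealOf ⟨genericPoint X, hηV⟩).asIdeal.primeCompl
    haveI : IsLocalization.AtPrime (Y.presheaf.stalk (π.base (genericPoint X)))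
        (hU.primeIdealOf ⟨π.base (genericPoint X), hVU hηV⟩).asIdeal :=
      hU.isLocalization_stalk ⟨π.base (genericPoint X), hVU hηV⟩
    haveI : Algebra.FormallyUnramified Γ(Y, U) (Y.presheaf.stalk (π.base (genericPoint X))) :=
      Algebra.FormallyUnramified.of_isLocalization
        (hU.primeIdealOf ⟨π.base (genericPoint X), hVU hηV⟩).asIdeal.primeCompl
    exact Groth.Agent.H11.GenericSmoothAlg.isStandardSmoothOfRelativeDimension_of_trdeg
      (K := Y.presheaf.stalk (π.base (genericPoint X))) (L := X.functionField) n hn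
  rw [← Scheme.Hom.resLE_comp_ι π hVU]
  haveI : SmoothOfRelativeDimension n (π.resLE U V hVU) := by
    have : IsAffine _ := hU
    have : IsAffine _ := hV
    rw [HasRingHomProperty.iff_of_isAffine (P := @SmoothOfRelativeDimension n)]
    exact ((RingHom.locally_respectsIso
      RingHom.isStandardSmoothOfRelativeDimension_respectsIso).arrow_mk_iso_iff
      (arrowResLEAppIso π U V hVU)).mpr
      (RingHom.locally_of RingHom.isStandardSmoothOfRelativeDimension_respectsIso _ hstd')
  have h0 : SmoothOfRelativeDimension (n + 0) (π.resLE U V hVU ≫ U.ι) := inferInstance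
  simpa using h0

end Groth.Agent.H11.GenericSmoothSch
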