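import Mathlib
import Groth.Agent.H11.DualNumUnram

/-!
# Unramified over an (algebraically closed) field ⇔ reduced with discrete spectrum (ring level)
-/

set_option autoImplicit false

namespace Groth.Agent.H11.GeomFibreUnram

universe u

/-- A finite type formally unramified algebra over a field is reduced with discrete spectrum. -/
theorem isReduced_and_discrete_of_formallyUnramified (K B : Type u) [Field K] [CommRing B]
    [Algebra K B] [Algebra.FiniteType K B] [Algebra.FormallyUnramified K B] :
    IsReduced B ∧ DiscreteTopology (PrimeSpectrum B) := by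
  haveI : Module.Finite K B := Algebra.FormallyUnramified.finite_of_free K B
  haveI : IsArtinianRing B := IsArtinianRing.of_finite K B
  exact ⟨Algebra.FormallyUnramified.isReduced_of_field K B, inferInstance⟩

set_option maxHeartbeats 800000 in
/-- A finite type reduced algebra with discrete spectrum over an algebraically closed field is
formally unramified. -/
theorem formallyUnramified_of_isReduced_of_discrete (k B : Type u) [Field k] [IsAlgClosed k]
    [CommRing B] [Algebra k B] [Algebra.FiniteType k B] [IsReduced B]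
    [DiscreteTopology (PrimeSpectrum B)] : Algebra.FormallyUnramified k B := by
  apply Groth.Agent.H11.DualNumUnram.formallyUnramified_of_dualNumber
  intro φ₁ φ₂ h12
  let ev : B →ₐ[k] k := (TrivSqZeroExt.fstHom k k k).comp φ₁
  have hev1 : ∀ b, TrivSqZeroExt.fst (φ₁ b) = ev b := fun b => rfl
  have hev2 : ∀ b, TrivSqZeroExt.fst (φ₂ b) = ev b := fun b =>
    (congrArg (fun χ : B →ₐ[k] k => χ b) h12).symm
  let m : PrimeSpectrum B := ⟨RingHom.ker ev.toRingHom, RingHom.ker_isPrime _⟩
  have hclopen : IsClopen ({m} : Set (PrimeSpectrum B)) := isClopen_discrete _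
  obtain ⟨e, he, hs⟩ := PrimeSpectrum.isClopen_iff.mp hclopen
  have hmem : ∀ p : PrimeSpectrum B, p ∈ (PrimeSpectrum.basicOpen e : Set (PrimeSpectrum B)) ↔
      p = m := by
    intro p
    rw [← hs]; exact Set.mem_singleton_iff
  have hem : ev e ≠ 0 := by
    have h1 : m ∈ (PrimeSpectrum.basicOpen e : Set (PrimeSpectrum B)) := (hmem m).2 rfl
    intro h0
    exact h1 (show e ∈ RingHom.ker ev.toRingHom from h0)
  have heother : ∀ p : PrimeSpectrum B, p ≠ m → e ∈ p.asIdeal := by
    intro p hp
    by_contra hne
    exact hp ((hmem p).1 hne)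
  -- `b * e = 0` for `b ∈ m`
  have hbe : ∀ b : B, ev b = 0 → b * e = 0 := by
    intro b hb
    have hnil : IsNilpotent (b * e) := by
      rw [← mem_nilradical, nilradical_eq_sInf, Ideal.mem_sInf]
      intro J hJ
      haveI : J.IsPrime := hJ
      by_cases hJm : (⟨J, hJ⟩ : PrimeSpectrum B) = m
      · have : b ∈ J := by
          have h2 : b ∈ m.asIdeal := hb
          rw [← hJm] at h2; exact h2
        exact J.mul_mem_right _ this
      · exact J.mul_mem_left _ (heother ⟨J, hJ⟩ hJm)
    exact hnil.eq_zero
  -- `φ e = 1`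
  have hev_e : ev e = 1 := by
    have h1 : ev e * ev e = ev e := by rw [← map_mul, he.eq]
    have h2 : ev e * (ev e - 1) = 0 := by rw [mul_sub, h1, mul_one, sub_self]
    rcases mul_eq_zero.1 h2 with h | h
    · exact absurd h hem
    · exact sub_eq_zero.1 h
  have hφe : ∀ φ : B →ₐ[k] DualNumber k, (∀ b, TrivSqZeroExt.fst (φ b) = ev b) → φ e = 1 := by
    intro φ hφ
    have hid : φ e * φ e = φ e := by rw [← map_mul, he.eq]
    have hf : TrivSqZeroExt.fst (φ e) = 1 := (hφ e).trans hev_e
    have hsnd := congrArg TrivSqZeroExt.snd hid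
    rw [TrivSqZeroExt.snd_mul, hf] at hsnd
    simp only [one_smul, MulOpposite.op_one] at hsnd
    have hs0 : TrivSqZeroExt.snd (φ e) = 0 := by
      have := hsnd
      rwa [add_eq_left] at this
    refine TrivSqZeroExt.ext ?_ ?_
    · rw [hf]; rfl
    · rw [hs0]; rfl
  have hφ : ∀ φ : B →ₐ[k] DualNumber k, (∀ b, TrivSqZeroExt.fst (φ b) = ev b) →
      ∀ b, φ b = algebraMap k (DualNumber k) (ev b) := by
    intro φ hφ b
    have h0 : ev (b - algebraMap k B (ev b)) = 0 := by
      rw [map_sub, AlgHom.commutes]; simp
    have h1 := hbe _ h0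
    have h2 : φ (b - algebraMap k B (ev b)) = 0 := by
      have := congrArg φ h1
      rw [map_mul, hφe φ hφ, mul_one, map_zero] at this
      exact this
    rw [map_sub, AlgHom.commutes, sub_eq_zero] at h2
    exact h2
  refine AlgHom.ext fun b => ?_
  rw [hφ φ₁ hev1 b, hφ φ₂ hev2 b]

end Groth.Agent.H11.GeomFibreUnram
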