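import Mathlib
import Groth.Agent.H11.GeomFibreUnram
import Groth.Agent.H25.UnramFibre

/-!
# Unramified ⇔ geometric fibres reduced and discrete (scheme level)
-/

set_option autoImplicit false

namespace Groth.Agent.H11.GeomFibreUnramSch

open AlgebraicGeometry CategoryTheory CategoryTheory.Limits

universe u

set_option maxHeartbeats 1600000 in
/-- Locally of finite type and unramified over a field ⇒ reduced and discrete. -/
theorem isReduced_and_discrete (K : Type u) [Field K]
    {Z : Scheme.{u}} (p : Z ⟶ Spec (CommRingCat.of K)) [LocallyOfFiniteType p]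
    [FormallyUnramified p] : IsReduced Z ∧ DiscreteTopology ↥Z := by
  have key : ∀ i : Z.affineOpenCover.I₀, _root_.IsReduced (Z.affineOpenCover.X i) ∧
      DiscreteTopology (PrimeSpectrum (Z.affineOpenCover.X i)) := by
    intro i
    obtain ⟨ψ, hψ⟩ := Spec.map_surjective (Z.affineOpenCover.f i ≫ p)
    haveI hlft : LocallyOfFiniteType (Z.affineOpenCover.f i ≫ p) := inferInstance
    haveI hun : FormallyUnramified (Z.affineOpenCover.f i ≫ p) :=
      IsZariskiLocalAtSource.comp (P := @FormallyUnramified) inferInstance _
    rw [← hψ] at hlft hun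
    rw [HasRingHomProperty.Spec_iff (P := @FormallyUnramified)] at hun
    rw [HasRingHomProperty.Spec_iff (P := @LocallyOfFiniteType)] at hlft
    letI : Algebra K (Z.affineOpenCover.X i) := ψ.hom.toAlgebra
    haveI : Algebra.FiniteType K (Z.affineOpenCover.X i) := hlft
    haveI : Algebra.FormallyUnramified K (Z.affineOpenCover.X i) := hun
    exact Groth.Agent.H11.GeomFibreUnram.isReduced_and_discrete_of_formallyUnramified K _
  constructor
  · haveI : ∀ i, IsReduced (Z.affineOpenCover.openCover.X i) := by
      intro i
      haveI := (key i).1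
      change IsReduced (Spec (Z.affineOpenCover.X i))
      infer_instance
    exact IsReduced.of_openCover Z Z.affineOpenCover.openCover
  · rw [discreteTopology_iff_isOpen_singleton]
    intro z
    obtain ⟨i, y, hy⟩ := Z.affineOpenCover.openCover.exists_eq z
    haveI : DiscreteTopology ↥(Spec (Z.affineOpenCover.X i)) := (key i).2
    have hopen : IsOpen ({y} : Set ↥(Spec (Z.affineOpenCover.X i))) := isOpen_discrete _
    have := (Z.affineOpenCover.f i).isOpenEmbedding.isOpenMap _ hopen
    have h2 : ({z} : Set ↥Z) = (Z.affineOpenCover.f i) '' {y} := by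
      ext w
      constructor
      · rintro rfl
        exact ⟨y, rfl, hy⟩
      · rintro ⟨y', rfl, rfl⟩
        exact hy
    rw [h2]
    exact this

set_option maxHeartbeats 1600000 in
/-- Locally of finite type, reduced and discrete over an algebraically closed field ⇒
unramified. -/
theorem formallyUnramified_of_isReduced_of_discrete (K : Type u) [Field K] [IsAlgClosed K]
    {Z : Scheme.{u}} (p : Z ⟶ Spec (CommRingCat.of K)) [LocallyOfFiniteType p]
    [IsReduced Z] [DiscreteTopology ↥Z] : FormallyUnramified p := by
  rw [IsZariskiLocalAtSource.iff_of_openCover (P := @FormallyUnramified)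
    Z.affineOpenCover.openCover]
  intro i
  change FormallyUnramified (Z.affineOpenCover.f i ≫ p)
  obtain ⟨ψ, hψ⟩ := Spec.map_surjective (Z.affineOpenCover.f i ≫ p)
  haveI hlft : LocallyOfFiniteType (Z.affineOpenCover.f i ≫ p) := inferInstance
  rw [← hψ] at hlft ⊢
  rw [HasRingHomProperty.Spec_iff (P := @FormallyUnramified)]
  rw [HasRingHomProperty.Spec_iff (P := @LocallyOfFiniteType)] at hlft
  letI : Algebra K (Z.affineOpenCover.X i) := ψ.hom.toAlgebra
  haveI : Algebra.FiniteType K (Z.affineOpenCover.X i) := hlft
  change Algebra.FormallyUnramified K (Z.affineOpenCover.X i)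
  haveI hred : IsReduced (Spec (Z.affineOpenCover.X i)) :=
    isReduced_of_isOpenImmersion (Z.affineOpenCover.f i)
  haveI : _root_.IsReduced (Z.affineOpenCover.X i) :=
    (affine_isReduced_iff _).1 hred
  haveI : DiscreteTopology (PrimeSpectrum (Z.affineOpenCover.X i)) :=
    (Z.affineOpenCover.f i).isOpenEmbedding.toIsEmbedding.discreteTopology
  exact Groth.Agent.H11.GeomFibreUnram.formallyUnramified_of_isReduced_of_discrete K _

set_option maxHeartbeats 1600000 in
theorem main {X S : Scheme.{u}} (f : X ⟶ S) [LocallyOfFinitePresentation f] :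
    FormallyUnramified f ↔
      ∀ (K : Type u) [Field K] [IsAlgClosed K] (s : Spec (CommRingCat.of K) ⟶ S),
        IsReduced (pullback f s) ∧ DiscreteTopology ↥(pullback f s) := by
  constructor
  · intro hf K _ _ s
    haveI : FormallyUnramified (pullback.snd f s) := MorphismProperty.pullback_snd _ _ hf
    exact isReduced_and_discrete K (pullback.snd f s)
  · intro H
    apply Groth.Agent.H25.formallyUnramified_of_fiberToSpecResidueField
    intro y
    let κ := S.residueField y
    let K := AlgebraicClosure κ
    let q : Spec (CommRingCat.of K) ⟶ Spec κ := Spec.map (CommRingCat.ofHom (algebraMap κ K))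
    let s : Spec (CommRingCat.of K) ⟶ S := q ≫ S.fromSpecResidueField y
    obtain ⟨hred, hdisc⟩ := H K s
    haveI := hred
    haveI := hdisc
    have hun : FormallyUnramified (pullback.snd f s) :=
      formallyUnramified_of_isReduced_of_discrete K (pullback.snd f s)
    change FormallyUnramified (pullback.snd f (S.fromSpecResidueField y))
    have right := IsPullback.of_hasPullback f (S.fromSpecResidueField y)
    have big : IsPullback (pullback.fst f s) (pullback.snd f s) f
        (q ≫ S.fromSpecResidueField y) := IsPullback.of_hasPullback _ _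
    have hcond : pullback.fst f s ≫ f = (pullback.snd f s ≫ q) ≫ S.fromSpecResidueField y := by
      rw [Category.assoc]; exact pullback.condition
    have left : IsPullback (pullback.lift (pullback.fst f s) (pullback.snd f s ≫ q) hcond)
        (pullback.snd f s) (pullback.snd f (S.fromSpecResidueField y)) q := by
      refine IsPullback.of_right ?_ (pullback.lift_snd _ _ _) right
      rw [pullback.lift_fst]
      exact big
    have hq : (@Surjective ⊓ @Flat ⊓ @QuasiCompact : MorphismProperty Scheme.{u}) q := by
      refine ⟨⟨?_, ?_⟩, ?_⟩
      · refine ⟨fun x => ?_⟩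
        haveI : Subsingleton ↥(Spec κ) := inferInstanceAs (Subsingleton (PrimeSpectrum κ))
        haveI : Nonempty ↥(Spec (CommRingCat.of K)) :=
          inferInstanceAs (Nonempty (PrimeSpectrum K))
        obtain ⟨z⟩ := ‹Nonempty ↥(Spec (CommRingCat.of K))›
        exact ⟨z, Subsingleton.elim _ _⟩
      · change Flat (Spec.map (CommRingCat.ofHom (algebraMap κ K)))
        rw [HasRingHomProperty.Spec_iff (P := @Flat)]
        change (algebraMap κ K).Flat
        rw [RingHom.flat_algebraMap_iff]
        infer_instance
      · change QuasiCompact q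
        infer_instance
    exact MorphismProperty.of_isPullback_of_descendsAlong (P := @FormallyUnramified)
      (Q := (@Surjective ⊓ @Flat ⊓ @QuasiCompact : MorphismProperty Scheme.{u})) left.flip hq hun

end Groth.Agent.H11.GeomFibreUnramSch
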