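import Mathlib.RingTheory.Henselian
import Mathlib.Algebra.Category.Ring.Colimits
import Mathlib.Algebra.Category.Ring.FilteredColimits
import Mathlib.CategoryTheory.Filtered.Basic
import Mathlib.CategoryTheory.Limits.ConcreteCategory.Basic
import Mathlib.RingTheory.LocalRing.RingHom.Basic
import Mathlib.Tactic

set_option autoImplicit false

open CategoryTheory CategoryTheory.Limits Polynomial

namespace Groth.Agent.H11

universe u

section

variable {J : Type u} [SmallCategory J] [IsFiltered J] (F : J ⥤ CommRingCat.{u})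
  (c : Cocone F) (hc : IsColimit c)

include hc

theorem colim_exists_rep (x : c.pt) : ∃ (j : J) (y : F.obj j), (c.ι.app j).hom y = x :=
  Concrete.isColimit_exists_rep F hc x

theorem colim_exists_of_rep_eq {i j : J} (x : F.obj i) (y : F.obj j)
    (h : (c.ι.app i).hom x = (c.ι.app j).hom y) :
    ∃ (k : J) (f : i ⟶ k) (g : j ⟶ k), (F.map f).hom x = (F.map g).hom y :=
  Concrete.isColimit_exists_of_rep_eq F hc x y h

omit hc [IsFiltered J] in
theorem colim_ι_map {i j : J} (f : i ⟶ j) (x : F.obj i) :
    (c.ι.app j).hom ((F.map f).hom x) = (c.ι.app i).hom x := by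
  have := c.w f
  rw [← this]
  rfl

theorem colim_exists_common_rep {ι : Type*} (s : Finset ι) (x : ι → c.pt) :
    ∃ j : J, ∀ i ∈ s, ∃ y : F.obj j, (c.ι.app j).hom y = x i := by
  classical
  induction s using Finset.induction_on with
  | empty => exact ⟨IsFiltered.nonempty.some, by simp⟩
  | insert a s _ ih =>
    obtain ⟨j, hj⟩ := ih
    obtain ⟨k, y, hy⟩ := colim_exists_rep F c hc (x a)
    refine ⟨IsFiltered.max j k, ?_⟩
    intro i hi
    rcases Finset.mem_insert.1 hi with rfl | hi
    · exact ⟨(F.map (IsFiltered.rightToMax j k)).hom y, by rw [colim_ι_map, hy]⟩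
    · obtain ⟨z, hz⟩ := hj i hi
      exact ⟨(F.map (IsFiltered.leftToMax j k)).hom z, by rw [colim_ι_map, hz]⟩

variable (hloc : ∀ (i j : J) (a : i ⟶ j), IsLocalHom (F.map a).hom)

include hloc

theorem colim_isUnit_of_isUnit_ι {j : J} (y : F.obj j) (h : IsUnit ((c.ι.app j).hom y)) :
    IsUnit y := by
  obtain ⟨z, hz⟩ := h.exists_right_inv
  obtain ⟨k, w, rfl⟩ := colim_exists_rep F c hc z
  let l := IsFiltered.max j k
  have h1 : (c.ι.app l).hom ((F.map (IsFiltered.leftToMax j k)).hom y *
      (F.map (IsFiltered.rightToMax j k)).hom w) = (c.ι.app l).hom 1 := by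
    rw [map_mul, colim_ι_map, colim_ι_map, hz, map_one]
  obtain ⟨l', f, g, hfg⟩ := colim_exists_of_rep_eq F c hc _ _ h1
  rw [map_mul, map_one] at hfg
  have h2 : IsUnit ((F.map f).hom ((F.map (IsFiltered.leftToMax j k)).hom y)) :=
    IsUnit.of_mul_eq_one _ hfg
  have h3 := (hloc _ _ f).map_nonunit _ h2
  exact (hloc _ _ (IsFiltered.leftToMax j k)).map_nonunit _ h3

omit hloc in
theorem colim_isLocalRing (hF : ∀ j, IsLocalRing (F.obj j)) : IsLocalRing c.pt := by
  have : Nontrivial c.pt := CommRingCat.FilteredColimits.nontrivial hc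
  refine IsLocalRing.of_isUnit_or_isUnit_one_sub_self (fun a => ?_)
  obtain ⟨j, y, rfl⟩ := colim_exists_rep F c hc a
  rcases IsLocalRing.isUnit_or_isUnit_one_sub_self y with h | h
  · exact Or.inl (h.map _)
  · right
    have := h.map (c.ι.app j).hom
    rwa [map_sub, map_one] at this

theorem colim_henselian (hF : ∀ j, HenselianLocalRing (F.obj j)) : HenselianLocalRing c.pt := by
  have hloc' : IsLocalRing c.pt := colim_isLocalRing F c hc (fun j => (hF j).toIsLocalRing)
  refine { toIsLocalRing := hloc', is_henselian := ?_ }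
  intro f hf a₀ h₁ h₂
  classical
  -- lift coefficients and a₀ to a common stage
  obtain ⟨j, hj⟩ := colim_exists_common_rep F c hc (Finset.univ : Finset (Option (Fin f.natDegree)))
    (fun o => match o with
      | none => a₀
      | some i => f.coeff i)
  obtain ⟨a, ha⟩ := hj none (Finset.mem_univ _)
  replace ha : (c.ι.app j).hom a = a₀ := ha
  have hcoef : ∀ i : Fin f.natDegree, ∃ y : F.obj j, (c.ι.app j).hom y = f.coeff i :=
    fun i => hj (some i) (Finset.mem_univ _)
  choose y hy using hcoef
  have := (hF j).toIsLocalRing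
  set φ : F.obj j →+* c.pt := (c.ι.app j).hom with hφ
  set q : (F.obj j)[X] := ∑ i : Fin f.natDegree, C (y i) * X ^ (i : ℕ) with hq
  have hqdeg : q.degree < (f.natDegree : WithBot ℕ) := by
    refine lt_of_le_of_lt (Polynomial.degree_sum_le _ _) ?_
    rw [Finset.sup_lt_iff (WithBot.bot_lt_coe _)]
    intro i _
    refine lt_of_le_of_lt (Polynomial.degree_C_mul_X_pow_le _ _) ?_
    exact_mod_cast i.2
  set g : (F.obj j)[X] := X ^ f.natDegree + q with hg
  have hgmonic : g.Monic := Polynomial.monic_X_pow_add hqdeg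
  have hgmap : g.map φ = f := by
    rw [hg, Polynomial.map_add, Polynomial.map_pow, Polynomial.map_X, hq, Polynomial.map_sum]
    conv_rhs => rw [hf.as_sum]
    congr 1
    rw [Finset.sum_range]
    refine Finset.sum_congr rfl (fun i _ => ?_)
    rw [Polynomial.map_mul, Polynomial.map_C, Polynomial.map_pow, Polynomial.map_X, hy]
  have heval : φ (g.eval a) = f.eval a₀ := by
    rw [← hgmap, Polynomial.eval_map, ← ha, Polynomial.eval₂_at_apply]
  have hderiv : φ (g.derivative.eval a) = f.derivative.eval a₀ := by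
    rw [← hgmap, Polynomial.derivative_map, Polynomial.eval_map, ← ha, Polynomial.eval₂_at_apply]
  have hg1 : g.eval a ∈ IsLocalRing.maximalIdeal (F.obj j) := by
    rw [IsLocalRing.mem_maximalIdeal, mem_nonunits_iff]
    intro hu
    have := hu.map φ
    rw [heval] at this
    exact (IsLocalRing.mem_maximalIdeal _).1 h₁ this
  have hg2 : IsUnit (g.derivative.eval a) := by
    apply colim_isUnit_of_isUnit_ι F c hc hloc
    rw [← hφ, hderiv]
    exact h₂
  obtain ⟨b, hb1, hb2⟩ := (hF j).is_henselian g hgmonic a hg1 hg2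
  refine ⟨φ b, ?_, ?_⟩
  · rw [Polynomial.IsRoot.def, ← hgmap, Polynomial.eval_map, Polynomial.eval₂_at_apply,
      hb1.eq_zero, map_zero]
  · rw [← ha, ← map_sub, IsLocalRing.mem_maximalIdeal, mem_nonunits_iff]
    intro hu
    have := colim_isUnit_of_isUnit_ι F c hc hloc _ hu
    exact (IsLocalRing.mem_maximalIdeal _).1 hb2 this

end

end Groth.Agent.H11
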