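import Mathlib.RingTheory.PicardGroup
import Mathlib.Algebra.Module.Torsion.Basic
import Mathlib.Tactic

set_option autoImplicit false
open TensorProduct

namespace Groth.Agent.H11

universe u v

variable {R : Type u} {M : Type v} [CommRing R] [AddCommGroup M] [Module R M]
  [Module.Invertible R M]

theorem smul_eq_zero_of_ker (f : Module.Dual R M) (y : M) (hy : f y = 0) (m : M) :
    f m • y = 0 := by
  have h0 : f ⊗ₜ[R] y = (0 : Module.Dual R M ⊗[R] M) := by
    apply (Module.Invertible.bijective (R := R) (M := M)).1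
    simp [contractLeft_apply, hy]
  let ev : Module.Dual R M ⊗[R] M →ₗ[R] M :=
    TensorProduct.lift ((LinearMap.lsmul R M).comp (LinearMap.applyₗ m))
  have := congr_arg ev h0
  simpa [ev] using this

theorem span_dual_apply_eq_top :
    Ideal.span {r : R | ∃ (f : Module.Dual R M) (m : M), f m = r} = ⊤ := by
  rw [Ideal.eq_top_iff_one]
  obtain ⟨t, ht⟩ := (Module.Invertible.bijective (R := R) (M := M)).2 1
  rw [← ht]
  clear ht
  induction t with
  | zero => simp
  | tmul f m =>
    rw [contractLeft_apply]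
    exact Ideal.subset_span ⟨f, m, rfl⟩
  | add x y hx hy => rw [map_add]; exact Ideal.add_mem _ hx hy

/-- In an invertible module, `Φ a • b = Φ b • a` for every functional `Φ`. -/
theorem dual_apply_smul_comm (Φ : Module.Dual R M) (a b : M) : Φ a • b = Φ b • a := by
  rw [← sub_eq_zero]
  set x := Φ a • b - Φ b • a with hx
  have key : ∀ (f : Module.Dual R M) (m : M), (f m) ^ 4 • x = 0 := by
    intro f m
    set r := f m with hr
    have h1 : ∀ c : M, r ^ 2 • c = (r * f c) • m := by
      intro c
      have h := smul_eq_zero_of_ker f (f m • c - f c • m) (by simp [mul_comm]) m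
      rw [← hr, smul_sub, sub_eq_zero, smul_smul, smul_smul] at h
      rw [pow_two]; exact h
    have h2 : ∀ c : M, r ^ 2 * Φ c = r * f c * Φ m := by
      intro c
      have := congr_arg Φ (h1 c)
      simpa [smul_eq_mul] using this
    have e1 : r ^ 4 • (Φ a • b) = (r ^ 2 * Φ a) • (r ^ 2 • b) := by
      rw [smul_smul, smul_smul]; congr 1; ring
    have e2 : r ^ 4 • (Φ b • a) = (r ^ 2 * Φ b) • (r ^ 2 • a) := by
      rw [smul_smul, smul_smul]; congr 1; ring
    rw [hx, smul_sub, e1, e2, h1 a, h1 b, h2 a, h2 b, smul_smul, smul_smul, sub_eq_zero]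
    congr 1; ring
  have hle : Ideal.span ((fun r : R => r ^ 4) ''
      {r : R | ∃ (f : Module.Dual R M) (m : M), f m = r}) ≤ Ideal.torsionOf R M x := by
    rw [Ideal.span_le]
    rintro _ ⟨_, ⟨f, m, rfl⟩, rfl⟩
    exact (Ideal.mem_torsionOf_iff _ _).2 (key f m)
  have htop := Ideal.span_pow_eq_top _ (span_dual_apply_eq_top (R := R) (M := M)) 4
  rw [htop, top_le_iff] at hle
  have : (1 : R) ∈ Ideal.torsionOf R M x := by rw [hle]; trivial
  simpa using (Ideal.mem_torsionOf_iff _ _).1 this

end Groth.Agent.H11
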