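import Mathlib
import Groth.Agent.H11.FPLift

/-!
# Product decomposition near a prime where a finitely presented algebra is a local isomorphism
-/

namespace Groth.Agent.H11.LocalProd

universe u

theorem prod_of_retraction {A B : Type*} [CommRing A] [CommRing B] [Algebra A B]
    (σ : B →ₐ[A] A) (e : B) (he : σ e = 1) (hK : ∀ k, σ k = 0 → e * k = 0) :
    Nonempty (B ≃ₐ[A] A × (B ⧸ Ideal.span {e})) := by
  let φ : B →ₐ[A] A × (B ⧸ Ideal.span {e}) := AlgHom.prod σ (Ideal.Quotient.mkₐ A _)
  have h4 : e * (1 - e) = 0 := hK _ (by simp [he])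
  refine ⟨AlgEquiv.ofBijective φ ⟨?_, ?_⟩⟩
  · rw [injective_iff_map_eq_zero]
    intro x hx
    have h1 : σ x = 0 := congrArg Prod.fst hx
    have h2 : Ideal.Quotient.mk (Ideal.span {e}) x = 0 := congrArg Prod.snd hx
    rw [Ideal.Quotient.eq_zero_iff_mem, Ideal.mem_span_singleton'] at h2
    obtain ⟨y, rfl⟩ := h2
    have h3 := hK _ h1
    calc y * e = y * (e * (1 - e)) + e * (y * e) := by ring
      _ = 0 := by rw [h4, h3]; ring
  · rintro ⟨r, y⟩
    obtain ⟨y, rfl⟩ := Ideal.Quotient.mk_surjective y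
    refine ⟨e * algebraMap A B r + (1 - e) * y, ?_⟩
    refine Prod.ext ?_ ?_
    · change σ (e * algebraMap A B r + (1 - e) * y) = r
      simp [he]
    · change Ideal.Quotient.mk (Ideal.span {e}) (e * algebraMap A B r + (1 - e) * y)
        = Ideal.Quotient.mk _ y
      rw [Ideal.Quotient.eq, Ideal.mem_span_singleton']
      exact ⟨algebraMap A B r - y, by ring⟩

theorem decomp_of_data {R S : Type*} [CommRing R] [CommRing S] [Algebra R S] (f1 a : R) (N : ℕ)
    (σ1 : S →ₐ[R] Localization.Away f1) (hh : S)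
    (h1 : σ1 hh * algebraMap R _ (f1 ^ N) = algebraMap R _ a)
    (h2 : ∀ s, σ1 s = 0 → ∃ l, (algebraMap R S f1) ^ l * (hh * s) = 0)
    (Rf Sf : Type*) [CommRing Rf] [CommRing Sf] [Algebra R Rf] [IsLocalization.Away (f1 * a) Rf]
    [Algebra S Sf] [IsLocalization.Away (algebraMap R S (f1 * a)) Sf] [Algebra Rf Sf]
    [Algebra R Sf] [IsScalarTower R S Sf] [IsScalarTower R Rf Sf] :
    ∃ (σ : Sf →ₐ[Rf] Rf) (u : Sf), IsUnit u ∧ σ (algebraMap S Sf hh * u) = 1 ∧
      ∀ k, σ k = 0 → algebraMap S Sf hh * u * k = 0 := by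
  have huf1 : IsUnit (algebraMap R Rf f1) :=
    IsLocalization.Away.isUnit_of_dvd (f1 * a) (dvd_mul_right _ _)
  have hua : IsUnit (algebraMap R Rf a) :=
    IsLocalization.Away.isUnit_of_dvd (f1 * a) (dvd_mul_left _ _)
  have huf : IsUnit (algebraMap R Rf (f1 * a)) := IsLocalization.Away.algebraMap_isUnit _
  -- ι : R1 → Rf
  let ι : Localization.Away f1 →ₐ[R] Rf :=
    IsLocalization.Away.liftAlgHom (A := R) (S := Localization.Away f1) f1
      (f := Algebra.ofId R Rf) (by simpa [Algebra.ofId_apply] using huf1)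
  have hι : ∀ r : R, ι (algebraMap R _ r) = algebraMap R Rf r := fun r => ι.commutes r
  let σ2 : S →ₐ[R] Rf := ι.comp σ1
  have hσ2f : IsUnit (σ2 (algebraMap R S (f1 * a))) := by
    rw [σ2.commutes]; exact huf
  let σ : Sf →ₐ[R] Rf :=
    IsLocalization.Away.liftAlgHom (A := R) (S := Sf) (algebraMap R S (f1 * a)) (f := σ2) hσ2f
  have hσ : ∀ s : S, σ (algebraMap S Sf s) = σ2 s := by
    intro s
    simp only [σ]
    rw [IsLocalization.Away.liftAlgHom_apply, IsLocalization.Away.lift_eq]
    rfl
  have hσRf : ∀ x : Rf, σ (algebraMap Rf Sf x) = x := by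
    have : (σ.toRingHom.comp (algebraMap Rf Sf)) = RingHom.id Rf := by
      apply IsLocalization.ringHom_ext (Submonoid.powers (f1 * a))
      ext r
      simp only [RingHom.coe_comp, Function.comp_apply, RingHom.id_apply]
      rw [← IsScalarTower.algebraMap_apply R Rf Sf]
      exact σ.commutes r
    intro x
    exact congrArg (fun g => g x) this
  let σ' : Sf →ₐ[Rf] Rf := { σ.toRingHom with commutes' := hσRf }
  have hσ' : ∀ x, σ' x = σ x := fun _ => rfl
  -- unit
  have h1' : σ2 hh * algebraMap R Rf (f1 ^ N) = algebraMap R Rf a := by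
    have := congrArg ι h1
    rwa [map_mul, hι, hι] at this
  have hu : IsUnit (σ2 hh) := by
    have : IsUnit (σ2 hh * algebraMap R Rf (f1 ^ N)) := by rw [h1']; exact hua
    exact isUnit_of_mul_isUnit_left this
  obtain ⟨u, hu1⟩ := hu.exists_right_inv
  have huu : IsUnit u := IsUnit.of_mul_eq_one _ (by rw [mul_comm]; exact hu1)
  refine ⟨σ', algebraMap Rf Sf u, huu.map _, ?_, ?_⟩
  · rw [hσ', map_mul, hσ, hσRf, hu1]
  · intro k hk
    rw [hσ'] at hk
    obtain ⟨n, s, hs⟩ := IsLocalization.Away.surj (algebraMap R S (f1 * a)) k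
    have hufS : IsUnit (algebraMap S Sf (algebraMap R S (f1 * a))) :=
      IsLocalization.Away.algebraMap_isUnit _
    have hσs : σ2 s = 0 := by
      rw [← hσ, ← hs, map_mul, hk, zero_mul]
    -- ι (σ1 s) = 0
    obtain ⟨r, ⟨_, j, rfl⟩, hr⟩ := IsLocalization.exists_mk'_eq (Submonoid.powers f1) (σ1 s)
    have hr' : σ1 s * algebraMap R (Localization.Away f1) (f1 ^ j) = algebraMap R _ r := by
      rw [← hr]; exact IsLocalization.mk'_spec _ _ _
    have hr0 : algebraMap R Rf r = 0 := by
      have := congrArg ι hr'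
      rw [map_mul, hι, hι] at this
      rw [← this]
      change σ2 s * _ = 0
      rw [hσs, zero_mul]
    obtain ⟨⟨_, m, rfl⟩, hm⟩ :=
      (IsLocalization.map_eq_zero_iff (Submonoid.powers (f1 * a)) Rf r).mp hr0
    have hz : σ1 (algebraMap R S ((f1 * a) ^ m) * s) = 0 := by
      rw [map_mul, σ1.commutes]
      have hu' : IsUnit (algebraMap R (Localization.Away f1) (f1 ^ j)) := by
        rw [map_pow]; exact (IsLocalization.Away.algebraMap_isUnit f1).pow j
      apply hu'.mul_left_injective
      simp only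
      rw [mul_assoc, hr', ← map_mul, zero_mul]
      simp only at hm
      rw [hm, map_zero]
    obtain ⟨l, hl⟩ := h2 _ hz
    have hl' := congrArg (algebraMap S Sf) hl
    rw [map_mul, map_mul, map_mul, map_zero, map_pow] at hl'
    have huf1S : IsUnit (algebraMap S Sf (algebraMap R S f1)) := by
      have : algebraMap S Sf (algebraMap R S (f1 * a))
          = algebraMap S Sf (algebraMap R S f1) * algebraMap S Sf (algebraMap R S a) := by
        rw [map_mul, map_mul]
      rw [this] at hufS
      exact isUnit_of_mul_isUnit_left hufS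
    have hufmS : IsUnit (algebraMap S Sf (algebraMap R S ((f1 * a) ^ m))) := by
      rw [map_pow, map_pow]; exact hufS.pow m
    have e1 : algebraMap S Sf hh * algebraMap S Sf s = 0 := by
      have e2 := (huf1S.pow l).mul_right_eq_zero.mp hl'
      have e3 : algebraMap S Sf (algebraMap R S ((f1 * a) ^ m))
          * (algebraMap S Sf hh * algebraMap S Sf s) = 0 := by
        rw [← e2]; ring
      exact hufmS.mul_right_eq_zero.mp e3
    apply (hufS.pow n).mul_left_injective
    simp only
    rw [zero_mul]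
    calc algebraMap S Sf hh * algebraMap Rf Sf u * k * algebraMap S Sf (algebraMap R S (f1 * a)) ^ n
        = algebraMap Rf Sf u * (algebraMap S Sf hh
            * (k * algebraMap S Sf (algebraMap R S (f1 * a)) ^ n)) := by ring
      _ = 0 := by rw [hs, e1, mul_zero]

theorem exists_data {R S : Type*} [CommRing R] [CommRing S] [Algebra R S]
    [Algebra.FinitePresentation R S] (p : Ideal R) [p.IsPrime] (Q : Submonoid S)
    (ψ : S →ₐ[R] Localization.AtPrime p)
    (ha : ∀ s, ψ s = 0 → ∃ h ∈ Q, h * s = 0) (hb : ∀ h ∈ Q, IsUnit (ψ h)) :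
    ∃ (f1 a : R) (hf1 : f1 ∈ p.primeCompl) (N : ℕ) (σ1 : S →ₐ[R] Localization.Away f1) (hh : S),
      a ∉ p ∧ hh ∈ Q ∧ σ1 hh * algebraMap R _ (f1 ^ N) = algebraMap R _ a ∧
      (∀ s, FPLift.can (R := R) (L := Localization.AtPrime p) p.primeCompl f1 hf1 (σ1 s) = ψ s) ∧
      ∀ s, σ1 s = 0 → ∃ l, (algebraMap R S f1) ^ l * (hh * s) = 0 := by
  classical
  obtain ⟨f1, hf1, σ1, hσ1⟩ := FPLift.exists_lift (R := R) (T := R)
    (L := Localization.AtPrime p) p.primeCompl ψ
  -- the localized retraction
  let S1 := Localization.Away (algebraMap R S f1)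
  have hunit : IsUnit (σ1 (algebraMap R S f1)) := by
    rw [σ1.commutes]; exact IsLocalization.Away.algebraMap_isUnit f1
  let σ1' : S1 →ₐ[R] Localization.Away f1 :=
    IsLocalization.Away.liftAlgHom (A := R) (S := S1) (algebraMap R S f1) (f := σ1) hunit
  have hσ1' : ∀ s : S, σ1' (algebraMap S S1 s) = σ1 s := by
    intro s
    simp only [σ1']
    rw [IsLocalization.Away.liftAlgHom_apply, IsLocalization.Away.lift_eq]
    rfl
  have hsurj : Function.Surjective σ1' := by
    intro z
    obtain ⟨n, r, hr⟩ := IsLocalization.Away.surj f1 z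
    let inv : S1 := IsLocalization.Away.invSelf (algebraMap R S f1)
    have hinv : algebraMap S S1 (algebraMap R S f1) * inv = 1 :=
      IsLocalization.Away.mul_invSelf _
    have hinv' : algebraMap R (Localization.Away f1) f1 * σ1' inv = 1 := by
      have := congrArg σ1' hinv
      rwa [map_mul, hσ1', σ1.commutes, map_one] at this
    refine ⟨algebraMap R S1 r * inv ^ n, ?_⟩
    have hu : IsUnit (algebraMap R (Localization.Away f1) f1 ^ n) :=
      (IsLocalization.Away.algebraMap_isUnit f1).pow n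
    apply hu.mul_left_injective
    simp only
    rw [hr, map_mul, σ1'.commutes, map_pow, mul_assoc, ← mul_pow, mul_comm (σ1' inv), hinv',
      one_pow, mul_one]
  obtain ⟨G, hG⟩ := Algebra.FinitePresentation.ker_fG_of_surjective σ1' hsurj
  have hufS1 : IsUnit (algebraMap S S1 (algebraMap R S f1)) :=
    IsLocalization.Away.algebraMap_isUnit _
  -- each generator is killed by an element of Q
  have hgen : ∀ k ∈ G, ∃ h ∈ Q, algebraMap S S1 h * k = 0 := by
    intro k hk
    have hkker : σ1' k = 0 := by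
      have : k ∈ RingHom.ker σ1'.toRingHom := by rw [← hG]; exact Ideal.subset_span hk
      exact this
    obtain ⟨n, s, hs⟩ := IsLocalization.Away.surj (algebraMap R S f1) k
    have hs0 : σ1 s = 0 := by
      rw [← hσ1', ← hs, map_mul, hkker, zero_mul]
    have hψ : ψ s = 0 := by rw [← hσ1, hs0, map_zero]
    obtain ⟨h, hQ, hh0⟩ := ha s hψ
    refine ⟨h, hQ, ?_⟩
    apply (hufS1.pow n).mul_left_injective
    simp only
    rw [mul_assoc, hs, ← map_mul, hh0, map_zero, zero_mul]
  choose! hfun hfunQ hfun0 using hgen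
  let hh : S := ∏ k ∈ G, hfun k
  have hhQ : hh ∈ Q := Q.prod_mem (fun k hk => hfunQ k hk)
  have hhG : ∀ k ∈ G, algebraMap S S1 hh * k = 0 := by
    intro k hk
    have : hh = (∏ k' ∈ G.erase k, hfun k') * hfun k := by
      rw [Finset.prod_erase_mul _ _ hk]
    rw [this, map_mul, mul_assoc, hfun0 k hk, mul_zero]
  have hhker : ∀ k, σ1' k = 0 → algebraMap S S1 hh * k = 0 := by
    intro k hk
    have hkmem : k ∈ Ideal.span (G : Set S1) := by rw [hG]; exact hk
    have hle : Ideal.span (G : Set S1)
        ≤ LinearMap.ker (LinearMap.mulLeft S1 (algebraMap S S1 hh)) := by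
      rw [Ideal.span_le]
      intro k' hk'
      exact hhG k' hk'
    exact hle hkmem
  -- the unit
  obtain ⟨a, ⟨_, N, rfl⟩, ha'⟩ := IsLocalization.exists_mk'_eq (Submonoid.powers f1) (σ1 hh)
  have ha'' : σ1 hh * algebraMap R (Localization.Away f1) (f1 ^ N) = algebraMap R _ a := by
    rw [← ha']; exact IsLocalization.mk'_spec _ _ _
  have hap : a ∉ p := by
    have e1 := congrArg (FPLift.can (R := R) (L := Localization.AtPrime p) p.primeCompl f1 hf1) ha''
    rw [map_mul, hσ1, FPLift.can_algebraMap, FPLift.can_algebraMap] at e1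
    have hu1 : IsUnit (algebraMap R (Localization.AtPrime p) (f1 ^ N)) :=
      IsLocalization.map_units _ (⟨f1 ^ N, p.primeCompl.pow_mem hf1 N⟩ : p.primeCompl)
    have hu2 : IsUnit (algebraMap R (Localization.AtPrime p) a) := by
      rw [← e1]; exact (hb hh hhQ).mul hu1
    exact (IsLocalization.AtPrime.isUnit_to_map_iff _ p a).mp hu2
  refine ⟨f1, a, hf1, N, σ1, hh, hap, hhQ, ha'', hσ1, ?_⟩
  intro s hs
  have := hhker (algebraMap S S1 s) (by rw [hσ1', hs])
  rw [← map_mul] at this
  obtain ⟨⟨_, l, rfl⟩, hl⟩ :=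
    (IsLocalization.map_eq_zero_iff (Submonoid.powers (algebraMap R S f1)) S1 _).mp this
  exact ⟨l, hl⟩

/-- If `σ : B → A` is a retraction of `A → B` and `e` is an element with `σ e = 1` killing
`ker σ`, then `A` (as a `B`-algebra via `σ`) is the localization of `B` away from `e`. -/
theorem away_of_retraction {A B : Type*} [CommRing A] [CommRing B] [Algebra A B]
    (σ : B →ₐ[A] A) (e : B) (he : σ e = 1) (hK : ∀ k, σ k = 0 → e * k = 0) :
    letI := σ.toRingHom.toAlgebra
    IsLocalization.Away e A := by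
  letI := σ.toRingHom.toAlgebra
  have h4 : e * (1 - e) = 0 := hK _ (by simp [he])
  have hid : IsIdempotentElem e := by
    unfold IsIdempotentElem
    linear_combination (-1 : B) * h4
  refine IsLocalization.away_of_isIdempotentElem hid ?_ ?_
  · ext k
    rw [RingHom.mem_ker, Ideal.mem_span_singleton']
    constructor
    · intro hk
      have : σ k = 0 := hk
      refine ⟨k, ?_⟩
      have := hK k this
      linear_combination (-1 : B) * this
    · rintro ⟨y, rfl⟩
      change σ (y * (1 - e)) = 0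
      simp [he]
  · intro x
    exact ⟨algebraMap A B x, σ.commutes x⟩

end Groth.Agent.H11.LocalProd
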