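import Mathlib
import Groth.Agent.H11.FPLift
import Groth.Agent.H11.LocalProd

/-!
# Isomorphic local rings of finitely presented algebras spread out to principal opens
-/

namespace Groth.Agent.H11.LocalIsoAway

open Groth.Agent.H11

universe u

theorem main {R S S' : Type u} [CommRing R] [CommRing S] [CommRing S'] [Algebra R S]
    [Algebra R S'] [Algebra.FinitePresentation R S] [Algebra.FinitePresentation R S'] (q : Ideal S) [q.IsPrime]
    (q' : Ideal S') [q'.IsPrime] (e : Localization.AtPrime q ≃ₐ[R] Localization.AtPrime q') :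
    ∃ (g : S) (g' : S'), g ∉ q ∧ g' ∉ q' ∧ Nonempty (Localization.Away g ≃ₐ[R] Localization.Away g') := by
  classical
  -- Step 1
  let ψ0 : S →ₐ[R] Localization.AtPrime q' :=
    e.toAlgHom.comp (IsScalarTower.toAlgHom R S (Localization.AtPrime q))
  obtain ⟨t', ht', φ, hφ⟩ := FPLift.exists_lift (R := R) (T := S')
    (L := Localization.AtPrime q') q'.primeCompl ψ0
  have hφ' : ∀ s, FPLift.can (R := R) (L := Localization.AtPrime q') q'.primeCompl t' ht' (φ s)
      = e (algebraMap S _ s) := hφ
  -- Step 2
  let B := Localization.Away t'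
  letI algSB : Algebra S B := φ.toRingHom.toAlgebra
  have hSB : ∀ s, algebraMap S B s = φ s := fun _ => rfl
  haveI : IsScalarTower R S B := IsScalarTower.of_algebraMap_eq (fun r => (φ.commutes r).symm)
  haveI : Algebra.FinitePresentation S B :=
    Algebra.FinitePresentation.of_restrict_scalars_finitePresentation R S B
  -- Step 3
  let canB : B →ₐ[R] Localization.AtPrime q' :=
    FPLift.can (R := R) (L := Localization.AtPrime q') q'.primeCompl t' ht'
  let ψ : B →ₐ[S] Localization.AtPrime q :=
    { (e.symm.toAlgHom.comp canB).toRingHom with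
      commutes' := by
        intro s
        change e.symm (canB (φ s)) = _
        rw [hφ' s, AlgEquiv.symm_apply_apply] }
  have hψ : ∀ b, ψ b = e.symm (canB b) := fun _ => rfl
  let Q : Submonoid B := q'.primeCompl.map (algebraMap S' B)
  have ha : ∀ b, ψ b = 0 → ∃ h ∈ Q, h * b = 0 := by
    intro b hb
    rw [hψ, AlgEquiv.symm_apply_eq, map_zero] at hb
    obtain ⟨c, hc, hc0⟩ := FPLift.can_eq_zero (R := R) (L := Localization.AtPrime q')
      q'.primeCompl t' ht' b hb
    exact ⟨_, ⟨c, hc, rfl⟩, hc0⟩
  have hb : ∀ h ∈ Q, IsUnit (ψ h) := by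
    rintro _ ⟨c, hc, rfl⟩
    rw [hψ]
    have : canB (algebraMap S' B c) = algebraMap S' (Localization.AtPrime q') c :=
      FPLift.can_algebraMap _ _ _ _
    rw [this]
    exact (IsLocalization.map_units (Localization.AtPrime q') (⟨c, hc⟩ : q'.primeCompl)).map
      e.symm
  -- Step 4
  obtain ⟨f1, a, hf1, N, σ1, hh, hap, hhQ, h1, hcompat, h2⟩ :=
    LocalProd.exists_data q Q ψ ha hb
  obtain ⟨c, hc, rfl⟩ := hhQ
  -- Step 5
  let g : S := f1 * a
  have hgq : g ∉ q := by
    intro hmem
    rcases Ideal.IsPrime.mem_or_mem inferInstance hmem with h' | h'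
    · exact hf1 h'
    · exact hap h'
  let Rf := Localization.Away g
  let Sf := Localization.Away (algebraMap S B g)
  have hug : IsUnit (algebraMap S Sf g) := by
    rw [IsScalarTower.algebraMap_apply S B Sf]; exact IsLocalization.Away.algebraMap_isUnit _
  letI algRfSf : Algebra Rf Sf :=
    (IsLocalization.Away.lift g (g := algebraMap S Sf) hug).toAlgebra
  haveI : IsScalarTower S Rf Sf :=
    IsScalarTower.of_algebraMap_eq (fun s => (IsLocalization.Away.lift_eq g hug s).symm)
  obtain ⟨σ, u, hu, he0, hK⟩ :=
    LocalProd.decomp_of_data f1 a N σ1 (algebraMap S' B c) h1 h2 Rf Sf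
  -- Step 6
  let e0 : Sf := algebraMap B Sf (algebraMap S' B c) * u
  letI algSfRf : Algebra Sf Rf := σ.toRingHom.toAlgebra
  have hSfRf : ∀ x, algebraMap Sf Rf x = σ x := fun _ => rfl
  haveI away1 : IsLocalization.Away e0 Rf := LocalProd.away_of_retraction σ e0 he0 hK
  -- numerator of φ g
  obtain ⟨g2, ⟨_, k, rfl⟩, hg2⟩ := IsLocalization.exists_mk'_eq (Submonoid.powers t') (φ g)
  have hg2' : φ g * algebraMap S' B (t' ^ k) = algebraMap S' B g2 := by
    rw [← hg2]; exact IsLocalization.mk'_spec _ _ _
  have hutk : IsUnit (algebraMap S' B (t' ^ k)) := by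
    rw [map_pow]; exact (IsLocalization.Away.algebraMap_isUnit t').pow k
  have hg2q : g2 ∉ q' := by
    have e1 := congrArg canB hg2'
    rw [map_mul, hφ' g] at e1
    have e2 : canB (algebraMap S' B (t' ^ k)) = algebraMap S' (Localization.AtPrime q') (t' ^ k) :=
      FPLift.can_algebraMap _ _ _ _
    have e3 : canB (algebraMap S' B g2) = algebraMap S' (Localization.AtPrime q') g2 :=
      FPLift.can_algebraMap _ _ _ _
    rw [e2, e3] at e1
    have hu1 : IsUnit (algebraMap S (Localization.AtPrime q) g) :=
      IsLocalization.map_units _ (⟨g, hgq⟩ : q.primeCompl)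
    have hu2 : IsUnit (algebraMap S' (Localization.AtPrime q') (t' ^ k)) :=
      IsLocalization.map_units _ (⟨t' ^ k, q'.primeCompl.pow_mem ht' k⟩ : q'.primeCompl)
    have hu3 : IsUnit (algebraMap S' (Localization.AtPrime q') g2) := by
      rw [← e1]; exact (hu1.map e).mul hu2
    exact (IsLocalization.AtPrime.isUnit_to_map_iff _ q' g2).mp hu3
  haveI away2 : IsLocalization.Away (algebraMap S' B g2) Sf := by
    have hassoc : Associated (algebraMap S B g) (algebraMap S' B g2) :=
      ⟨hutk.unit, by rw [hSB]; exact hg2'⟩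
    exact IsLocalization.Away.of_associated hassoc
  haveI away3 : IsLocalization.Away (t' * g2) Sf := IsLocalization.Away.mul' B Sf t' g2
  haveI away4 : IsLocalization.Away (algebraMap S' Sf c) Rf := by
    have hassoc : Associated e0 (algebraMap S' Sf c) := by
      refine Associated.symm ⟨hu.unit, ?_⟩
      rw [IsScalarTower.algebraMap_apply S' B Sf]
      rfl
    exact IsLocalization.Away.of_associated hassoc
  letI algS'Rf : Algebra S' Rf := ((algebraMap Sf Rf).comp (algebraMap S' Sf)).toAlgebra
  haveI : @IsScalarTower S' Sf Rf Algebra.toSMul Algebra.toSMul Algebra.toSMul :=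
    IsScalarTower.of_algebraMap_eq (fun _ => rfl)
  haveI away5 : IsLocalization.Away (t' * g2 * c) Rf :=
    IsLocalization.Away.mul' Sf Rf (t' * g2) c
  have hg'q : t' * g2 * c ∉ q' := by
    intro hmem
    rcases Ideal.IsPrime.mem_or_mem inferInstance hmem with h' | h'
    · rcases Ideal.IsPrime.mem_or_mem inferInstance h' with h'' | h''
      · exact ht' h''
      · exact hg2q h''
    · exact hc h'
  haveI : IsScalarTower R S' Rf := by
    refine IsScalarTower.of_algebraMap_eq (fun r => ?_)
    change _ = σ (algebraMap S' Sf (algebraMap R S' r))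
    have e1 : algebraMap S' Sf (algebraMap R S' r)
        = algebraMap Rf Sf (algebraMap R Rf r) := by
      rw [IsScalarTower.algebraMap_apply S' B Sf, ← IsScalarTower.algebraMap_apply R S' B,
        IsScalarTower.algebraMap_apply R S B, ← IsScalarTower.algebraMap_apply S B Sf,
        IsScalarTower.algebraMap_apply S Rf Sf, ← IsScalarTower.algebraMap_apply R S Rf]
    rw [e1, σ.commutes]
    rfl
  exact ⟨g, t' * g2 * c, hgq, hg'q,
    ⟨(IsLocalization.algEquiv (Submonoid.powers (t' * g2 * c)) Rf
      (Localization.Away (t' * g2 * c))).restrictScalars R⟩⟩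

end Groth.Agent.H11.LocalIsoAway
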