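import Mathlib
import Groth.Prelude.Def_Flat
import Groth.Prelude.Def_CAlg
import Groth.Agent.S1621
import Groth.Agent.S2082
import Groth.Agent.H49.FibreStalk
import Groth.Agent.H11.DimFormula
import Groth.Agent.H11.Equidim

/-!
# Miracle flatness for schemes locally of finite type over a field
-/

set_option autoImplicit false
universe u
open CategoryTheory CategoryTheory.Limits AlgebraicGeometry TopologicalSpace

namespace Groth.Agent.H11.MiracleSch

open Groth.Agent.H11.DimFormula Groth.Agent.H11.Equidim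

/-- additivity of residue transcendence degrees along `P ⟶ X ⟶ Spec k`. -/
theorem trdeg_add (k : Type u) [Field k] (X : Scheme.{u})
    [X.Over (Spec (CommRingCat.of k))] {P : Scheme.{u}} (h : P ⟶ X) (z : P) :
    (letI ovP : P.Over (Spec (CommRingCat.of k)) := ⟨h ≫ (X ↘ Spec (CommRingCat.of k))⟩
     letI := Curv2.resAlgebra k P z; Algebra.trdeg k (P.residueField z)) =
      (letI := Curv2.resAlgebra k X (h z); Algebra.trdeg k (X.residueField (h z))) +
      (letI ovF : (h.fiber (h z)).Over (Spec (CommRingCat.of (X.residueField (h z)))) :=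
        ⟨h.fiberToSpecResidueField (h z)⟩
       letI := Curv2.resAlgebra (X.residueField (h z)) (h.fiber (h z)) (h.asFiber z);
        Algebra.trdeg (X.residueField (h z)) ((h.fiber (h z)).residueField (h.asFiber z))) := by
  letI ovP : P.Over (Spec (CommRingCat.of k)) := ⟨h ≫ (X ↘ Spec (CommRingCat.of k))⟩
  letI ovF : (h.fiber (h z)).Over (Spec (CommRingCat.of (X.residueField (h z)))) :=
    ⟨h.fiberToSpecResidueField (h z)⟩
  rw [trdeg_eq_resTrdeg k P z, trdeg_eq_resTrdeg k X (h z),
    trdeg_eq_resTrdeg (X.residueField (h z)) (h.fiber (h z)) (h.asFiber z)]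
  have e0 : Dual3.resTrdeg (P ↘ Spec (CommRingCat.of k)) z =
      Dual3.resTrdeg (X ↘ Spec (CommRingCat.of k)) (h z) + Dual3.resTrdeg h z :=
    Groth.Agent.H51.resTrdeg_comp h (X ↘ Spec (CommRingCat.of k)) z
  rw [e0]
  congr 1
  have e1 := Groth.Agent.H51.resTrdeg_comp (h.fiberι (h z)) h (h.asFiber z)
  have e2 := Groth.Agent.H51.resTrdeg_comp (h.fiberToSpecResidueField (h z))
    (X.fromSpecResidueField (h z)) (h.asFiber z)
  rw [h.fiber_fac (h z), e2, resTrdeg_eq_zero_of_isPreimmersion (X.fromSpecResidueField (h z)),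
    resTrdeg_eq_zero_of_isPreimmersion (h.fiberι (h z)), zero_add, add_zero,
    h.fiberι_asFiber z] at e1
  exact e1.symm

/-- transfer of equidimensionality from the subspace `f ⁻¹' {y}` to the scheme-theoretic fibre. -/
theorem fiber_equidim {X Y : Scheme.{u}} (f : X ⟶ Y) (y : Y) (n : ℕ)
    (hfib : ∀ Z ∈ irreducibleComponents (f.base ⁻¹' {y}), topologicalKrullDim Z = n) :
    ∀ Z ∈ irreducibleComponents (f.fiber y), topologicalKrullDim Z = n := by
  intro Z hZ
  let φ : f.fiber y ≃ₜ (f.base ⁻¹' {y} : Set X) := f.fiberHomeo y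
  have hne : Z.Nonempty := hZ.1.1
  have h1 : φ.symm ⁻¹' Z ∈ irreducibleComponents (f.base ⁻¹' {y}) := by
    refine preimage_mem_irreducibleComponents hZ φ.symm.isOpenEmbedding ?_
    rw [φ.symm.range_coe, Set.inter_univ]
    exact hne
  have h2 := hfib _ h1
  rw [← h2]
  have h3 : φ.symm ⁻¹' Z = φ '' Z := (Equiv.image_eq_preimage_symm φ.toEquiv Z).symm
  rw [h3]
  exact (φ.image Z).isHomeomorph.topologicalKrullDim_eq

/-- **Miracle flatness**, scheme form over a field. -/
theorem flat_of_equidim (k : Type u) [Field k] {X Y : Scheme.{u}}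
    (q : Y ⟶ Spec (CommRingCat.of k)) [LocallyOfFiniteType q] (f : X ⟶ Y)
    [LocallyOfFiniteType (f ≫ q)]
    (hY : ∀ y : Y, IsRegularLocalRing (Y.presheaf.stalk y))
    (hX : ∀ x : X, LocCoh.IsCohenMacaulayLocalRing (X.presheaf.stalk x))
    (e d : ℕ) (hde : d ≤ e)
    (hXe : ∀ Z ∈ irreducibleComponents (X : Type u), topologicalKrullDim Z = e)
    (hYd : ∀ Z ∈ irreducibleComponents (Y : Type u), topologicalKrullDim Z = d)
    (hfib : ∀ y : Y, ∀ Z ∈ irreducibleComponents (f.base ⁻¹' {y}),
      topologicalKrullDim Z = (e - d : ℕ)) :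
    Flat f := by
  rw [Flat.iff_flat_stalkMap]
  intro x
  letI ovY : Y.Over (Spec (CommRingCat.of k)) := ⟨q⟩
  letI ovX : X.Over (Spec (CommRingCat.of k)) := ⟨f ≫ q⟩
  haveI : LocallyOfFiniteType (Y ↘ Spec (CommRingCat.of k)) := ‹LocallyOfFiniteType q›
  haveI : LocallyOfFiniteType (X ↘ Spec (CommRingCat.of k)) := ‹LocallyOfFiniteType (f ≫ q)›
  haveI : LocallyOfFiniteType f := locallyOfFiniteType_of_comp f q
  letI ovF : (f.fiber (f x)).Over (Spec (CommRingCat.of (Y.residueField (f x)))) :=
    ⟨f.fiberToSpecResidueField (f x)⟩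
  haveI : LocallyOfFiniteType ((f.fiber (f x)) ↘ Spec (CommRingCat.of (Y.residueField (f x)))) :=
    (inferInstance : LocallyOfFiniteType (pullback.snd f (Y.fromSpecResidueField (f x))))
  haveI : IsLocallyNoetherian X :=
    LocallyOfFiniteType.isLocallyNoetherian (X ↘ Spec (CommRingCat.of k))
  haveI : IsLocallyNoetherian Y :=
    LocallyOfFiniteType.isLocallyNoetherian (Y ↘ Spec (CommRingCat.of k))
  haveI : IsLocallyNoetherian (f.fiber (f x)) :=
    LocallyOfFiniteType.isLocallyNoetherian
      ((f.fiber (f x)) ↘ Spec (CommRingCat.of (Y.residueField (f x))))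
  -- local dimensions
  have hLX : FlatMor.localDim X x = e := localDim_eq_of_equidim (f ≫ q) e hXe x
  have hLY : FlatMor.localDim Y (f x) = d := localDim_eq_of_equidim q d hYd (f x)
  haveI : LocallyOfFiniteType (f.fiberToSpecResidueField (f x)) :=
    (inferInstance : LocallyOfFiniteType (pullback.snd f (Y.fromSpecResidueField (f x))))
  have hLF : FlatMor.localDim (f.fiber (f x)) (f.asFiber x) = (e - d : ℕ) :=
    localDim_eq_of_equidim ((f.fiber (f x)) ↘ Spec (CommRingCat.of (Y.residueField (f x)))) (e - d)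
      (fiber_equidim f (f x) (e - d) (hfib (f x))) (f.asFiber x)
  -- transcendence degrees
  obtain ⟨az, haz⟩ := exists_nat_trdeg_eq k X x
  obtain ⟨ax, hax⟩ : ∃ ax : ℕ, (letI := Curv2.resAlgebra k Y (f x);
      Algebra.trdeg k (Y.residueField (f x))) = ax := exists_nat_trdeg_eq k Y (f x)
  obtain ⟨aw, haw⟩ : ∃ aw : ℕ,
      (letI := Curv2.resAlgebra (Y.residueField (f x)) (f.fiber (f x)) (f.asFiber x);
        Algebra.trdeg (Y.residueField (f x)) ((f.fiber (f x)).residueField (f.asFiber x))) = aw :=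
    exists_nat_trdeg_eq (Y.residueField (f x)) (f.fiber (f x)) (f.asFiber x)
  have hadd : (az : Cardinal) = ax + aw := by
    rw [← haz, ← hax, ← haw]
    exact trdeg_add k Y f x
  have hadd' : az = ax + aw := by exact_mod_cast hadd
  -- dimensions of the local rings
  obtain ⟨bz, hbz⟩ := Groth.Agent.H72.FlatCM.exists_ringKrullDim_eq_natCast (X.presheaf.stalk x)
  obtain ⟨bx, hbx⟩ := Groth.Agent.H72.FlatCM.exists_ringKrullDim_eq_natCast
    (Y.presheaf.stalk (f x))
  obtain ⟨bw, hbw⟩ := Groth.Agent.H72.FlatCM.exists_ringKrullDim_eq_natCast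
    ((f.fiber (f x)).presheaf.stalk (f.asFiber x))
  have hA := Groth.Agent.S1621.result k X x az bz haz hbz
  have hB := Groth.Agent.S1621.result k Y (f x) ax bx hax hbx
  have hC := Groth.Agent.S1621.result (Y.residueField (f x)) (f.fiber (f x)) (f.asFiber x) aw bw
    haw hbw
  rw [hLX] at hA
  rw [hLY] at hB
  rw [hLF] at hC
  have hA' : e = az + bz := by exact_mod_cast hA
  have hB' : d = ax + bx := by exact_mod_cast hB
  have hC' : e - d = aw + bw := by exact_mod_cast hC
  have hb : bz = bx + bw := by omega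
  -- miracle flatness
  letI : Algebra (Y.presheaf.stalk (f x)) (X.presheaf.stalk x) := (f.stalkMap x).hom.toAlgebra
  haveI : IsLocalHom (algebraMap (Y.presheaf.stalk (f x)) (X.presheaf.stalk x)) :=
    (inferInstance : IsLocalHom (f.stalkMap x).hom)
  haveI := hY (f x)
  haveI := hX x
  have hq : ringKrullDim (X.presheaf.stalk x ⧸
      (IsLocalRing.maximalIdeal (Y.presheaf.stalk (f x))).map
        (algebraMap (Y.presheaf.stalk (f x)) (X.presheaf.stalk x))) = bw := by
    rw [← hbw]
    exact ringKrullDim_eq_of_ringEquiv (Groth.Agent.H49.FibreStalk.quotientEquivStalkAsFiber f x)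
  have := Groth.Agent.S2082.result (R := Y.presheaf.stalk (f x)) (S := X.presheaf.stalk x)
    (by rw [hq, hbz, hbx, hb]; push_cast; rfl)
  exact this

end Groth.Agent.H11.MiracleSch
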