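import Mathlib
import Groth.Agent.H11.FlatComplSch

/-!
# A proper morphism to a flat `R`-scheme, iso over the generic fibre, with flat source, is an
isomorphism near codimension-one normal points (helper11)
-/

set_option autoImplicit false
set_option linter.style.haveILetI false
universe u

open CategoryTheory CategoryTheory.Limits AlgebraicGeometry

namespace Groth.Agent.H11.ModelIsoNhd

open Groth.Agent.H11.FlatModPowSch Groth.Agent.H11.FlatComplSch

/-- A Noetherian local integrally closed domain of dimension `≤ 1` is a valuation ring. -/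
theorem valuationRing_of_isIntegrallyClosed (O : Type*) [CommRing O] [IsDomain O] [IsLocalRing O]
    [IsNoetherianRing O] [IsIntegrallyClosed O] (hdim : ringKrullDim O ≤ 1) : ValuationRing O := by
  haveI : Ring.KrullDimLE 1 O := Ring.krullDimLE_iff.mpr (by simpa using hdim)
  have h : (IsIntegrallyClosed O ∧ ∀ P : Ideal O, P ≠ ⊥ → P.IsPrime →
      P = IsLocalRing.maximalIdeal O) → ValuationRing O :=
    ((tfae_of_isNoetherianRing_of_isLocalRing_of_isDomain O).out 3 1).mp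
  exact h ⟨inferInstance, fun P hP hP' =>
    IsLocalRing.eq_maximalIdeal (hP'.isMaximal_of_ne_bot hP)⟩

/-- `g` is a monomorphism over an open `U` over which it is an isomorphism. -/
theorem eq_of_comp_eq_of_isIso_restrict {Z C T : Scheme.{u}} (g : Z ⟶ C) (U : C.Opens)
    [IsIso (g ∣_ U)] (a b : T ⟶ Z) (hab : a ≫ g = b ≫ g)
    (ha : ∀ t : T, g (a t) ∈ U) : a = b := by
  have hb : ∀ t : T, g (b t) ∈ U := fun t => by
    have := ha t
    rwa [← Scheme.Hom.comp_apply, hab, Scheme.Hom.comp_apply] at this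
  let a' : T ⟶ (g ⁻¹ᵁ U : Z.Opens) := IsOpenImmersion.lift (g ⁻¹ᵁ U).ι a (by
    rintro _ ⟨t, rfl⟩
    rw [Scheme.Opens.range_ι]
    exact ha t)
  let b' : T ⟶ (g ⁻¹ᵁ U : Z.Opens) := IsOpenImmersion.lift (g ⁻¹ᵁ U).ι b (by
    rintro _ ⟨t, rfl⟩
    rw [Scheme.Opens.range_ι]
    exact hb t)
  have ha' : a' ≫ (g ⁻¹ᵁ U).ι = a := IsOpenImmersion.lift_fac _ _ _
  have hb' : b' ≫ (g ⁻¹ᵁ U).ι = b := IsOpenImmersion.lift_fac _ _ _
  have h1 : a' ≫ (g ∣_ U) = b' ≫ (g ∣_ U) := by
    rw [← cancel_mono U.ι, Category.assoc, Category.assoc, morphismRestrict_ι, ← Category.assoc,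
      ← Category.assoc, ha', hb', hab]
  have h2 : a' = b' := (cancel_mono (g ∣_ U)).mp h1
  rw [← ha', ← hb', h2]

/-- A section of a separated flat-source morphism, which is an inverse over the generic fibre, is
an inverse. -/
theorem isIso_of_section (R : Type u) [CommRing R] [IsDomain R] (ϖ : R) (hϖ : ϖ ≠ 0)
    {W V : Scheme.{u}} (gV : W ⟶ V) [IsSeparated gV] (πV : V ⟶ Spec (CommRingCat.of R))
    [Flat (gV ≫ πV)] (s : V ⟶ W) (hs : s ≫ gV = 𝟙 V)
    (hK : ∀ (a b : ((gV ≫ πV) ⁻¹ᵁ (PrimeSpectrum.basicOpen ϖ) : W.Opens).toScheme ⟶ W),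
      a ≫ gV = b ≫ gV → (∀ t, (gV ≫ πV) (a t) ∈ (PrimeSpectrum.basicOpen ϖ :
        (Spec (CommRingCat.of R)).Opens)) → a = b) :
    IsIso gV := by
  set D : (Spec (CommRingCat.of R)).Opens := PrimeSpectrum.basicOpen ϖ with hD
  haveI : IsClosedImmersion (s ≫ gV) := by rw [hs]; infer_instance
  haveI hcl : IsClosedImmersion s := IsClosedImmersion.of_comp s gV
  -- `D.ι` is scheme theoretically dominant
  haveI : IsReduced (Spec (CommRingCat.of R)) := inferInstance
  haveI : IsIntegral (Spec (CommRingCat.of R)) := inferInstance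
  haveI hDdom : IsDominant D.ι := by
    constructor
    rw [DenseRange, Scheme.Opens.range_ι]
    refine (D.isOpen.dense ?_)
    refine ⟨⟨⊥, Ideal.isPrime_bot⟩, ?_⟩
    change (⟨⊥, Ideal.isPrime_bot⟩ : PrimeSpectrum R) ∈ PrimeSpectrum.basicOpen ϖ
    rw [PrimeSpectrum.mem_basicOpen]
    exact fun h => hϖ (by simpa using h)
  haveI : IsSchemeTheoreticallyDominant D.ι := .of_isDominant D.ι
  have hDaff : IsAffineOpen D := by
    have h0 := (isAffineOpen_top (Spec (CommRingCat.of R))).basicOpen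
      ((Scheme.ΓSpecIso (CommRingCat.of R)).inv ϖ)
    rw [basicOpen_eq_of_affine] at h0
    exact h0
  haveI : IsAffine D.toScheme := hDaff
  haveI : QuasiCompact D.ι := inferInstance
  haveI hWK : IsSchemeTheoreticallyDominant ((gV ≫ πV) ⁻¹ᵁ D).ι :=
    IsSchemeTheoreticallyDominant.of_isPullback (isPullback_morphismRestrict (gV ≫ πV) D)
  -- the two maps agree on the generic fibre
  have h1 : ((gV ≫ πV) ⁻¹ᵁ D).ι ≫ gV ≫ s = ((gV ≫ πV) ⁻¹ᵁ D).ι := by
    refine hK _ _ ?_ ?_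
    · rw [Category.assoc, Category.assoc, hs, Category.comp_id]
    · intro t
      have : (((gV ≫ πV) ⁻¹ᵁ D).ι ≫ gV ≫ s) ≫ gV ≫ πV = ((gV ≫ πV) ⁻¹ᵁ D).ι ≫ gV ≫ πV := by
        rw [Category.assoc, Category.assoc, reassoc_of% hs]
      rw [← Scheme.Hom.comp_apply, this, Scheme.Hom.comp_apply]
      exact t.2
  have h2 : s.ker = ⊥ := by
    rw [← le_bot_iff]
    calc s.ker ≤ ((((gV ≫ πV) ⁻¹ᵁ D).ι ≫ gV) ≫ s).ker := Scheme.Hom.le_ker_comp _ _
      _ = ⊥ := by rw [Category.assoc, h1]; exact hWK.ker_eq_bot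
  haveI : IsIso s := IsClosedImmersion.isIso_iff_ker_eq_bot.mpr h2
  haveI : IsIso (s ≫ gV) := by rw [hs]; infer_instance
  exact IsIso.of_isIso_comp_left s gV

theorem fromSpecStalk_comp (A : Type u) [CommRing A] {X : Scheme.{u}}
    (h : X ⟶ Spec (CommRingCat.of A)) (x : X) :
    X.fromSpecStalk x ≫ h = Spec.map (toStalkX A h x) := by
  rw [← Scheme.SpecMap_stalkMap_fromSpecStalk, Spec.fromSpecStalk_eq, ← Spec.map_comp]
  rfl

theorem main (R : Type u) [CommRing R] [IsDomain R] [IsDiscreteValuationRing R]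
    {C X Z : Scheme.{u}}
    (πC : C ⟶ Spec (CommRingCat.of R)) [Flat πC] [LocallyOfFiniteType πC] (f : X ⟶ C) [IsProper f]
    (i : Z ⟶ X) [IsClosedImmersion i] [Flat ((i ≫ f) ≫ πC)] (ϖ : R) (hϖ : Irreducible ϖ)
    (hgen : IsIso ((i ≫ f) ∣_ (πC ⁻¹ᵁ (PrimeSpectrum.basicOpen ϖ))))
    (c : C) (hdom : IsDomain (C.presheaf.stalk c)) (hnorm : IsIntegrallyClosed (C.presheaf.stalk c))
    (hdim : ringKrullDim (C.presheaf.stalk c) = 1) :
    ∃ V : C.Opens, c ∈ V ∧ IsIso ((i ≫ f) ∣_ V) := by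
  classical
  set g := i ≫ f with hg
  haveI : IsProper g := by rw [hg]; infer_instance
  set D : (Spec (CommRingCat.of R)).Opens := PrimeSpectrum.basicOpen ϖ with hD
  set U : C.Opens := πC ⁻¹ᵁ D with hU
  haveI : IsLocallyNoetherian C := LocallyOfFiniteType.isLocallyNoetherian πC
  haveI : IsNoetherianRing (C.presheaf.stalk c) := inferInstance
  haveI : ValuationRing (C.presheaf.stalk c) :=
    valuationRing_of_isIntegrallyClosed _ hdim.le
  -- injectivity of `R → O_{C,c}` at `ϖ`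
  have hϖO : (toStalkX R πC c).hom ϖ ≠ 0 := by
    have hfl : (toStalkX R πC c).hom.Flat := flat_toStalkX R πC c (Flat.stalkMap πC c)
    letI := (toStalkX R πC c).hom.toAlgebra
    haveI : Module.Flat R (C.presheaf.stalk c) := hfl
    have hreg : IsSMulRegular R ϖ := by
      have : IsLeftRegular ϖ := IsLeftCancelMulZero.mul_left_cancel_of_ne_zero hϖ.ne_zero
      exact this
    have hreg' : IsSMulRegular (C.presheaf.stalk c) ϖ := hreg.of_flat
    intro h0
    have h1 : ϖ • (1 : C.presheaf.stalk c) = ϖ • (0 : C.presheaf.stalk c) := by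
      rw [Algebra.smul_def, mul_one, smul_zero]; exact h0
    exact one_ne_zero (hreg' h1)
  -- the generic point of `Spec O` maps to `U`
  let j : Spec (CommRingCat.of (FractionRing (C.presheaf.stalk c))) ⟶ C :=
    Spec.map (CommRingCat.ofHom (algebraMap (C.presheaf.stalk c)
      (FractionRing (C.presheaf.stalk c)))) ≫ C.fromSpecStalk c
  have hjU : Set.range j ⊆ Set.range U.ι := by
    rintro _ ⟨pt, rfl⟩
    rw [Scheme.Opens.range_ι]
    change πC (j pt) ∈ D
    have h1 : πC (j pt) = (Spec.map (toStalkX R πC c))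
        ((Spec.map (CommRingCat.ofHom (algebraMap (C.presheaf.stalk c)
          (FractionRing (C.presheaf.stalk c))))) pt) := by
      rw [← fromSpecStalk_comp]
      rfl
    rw [h1]
    change (PrimeSpectrum.comap (toStalkX R πC c).hom
      (PrimeSpectrum.comap (algebraMap (C.presheaf.stalk c)
        (FractionRing (C.presheaf.stalk c))) pt)) ∈ PrimeSpectrum.basicOpen ϖ
    rw [PrimeSpectrum.mem_basicOpen]
    change ¬ (algebraMap (C.presheaf.stalk c) (FractionRing (C.presheaf.stalk c))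
      ((toStalkX R πC c).hom ϖ) ∈ pt.asIdeal)
    have hpt : pt.asIdeal = ⊥ := Ideal.eq_bot_of_prime pt.asIdeal
    rw [hpt, Ideal.mem_bot]
    exact (map_ne_zero_iff _ (IsFractionRing.injective (C.presheaf.stalk c)
      (FractionRing (C.presheaf.stalk c)))).mpr hϖO
  let t : U.toScheme ⟶ Z := inv (g ∣_ U) ≫ (g ⁻¹ᵁ U).ι
  have ht : t ≫ g = U.ι := by
    rw [Category.assoc, ← morphismRestrict_ι, IsIso.inv_hom_id_assoc]
  let i₁ : Spec (CommRingCat.of (FractionRing (C.presheaf.stalk c))) ⟶ Z :=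
    IsOpenImmersion.lift U.ι j hjU ≫ t
  have hsq : CommSq i₁ (Spec.map (CommRingCat.ofHom (algebraMap (C.presheaf.stalk c)
      (FractionRing (C.presheaf.stalk c))))) g (C.fromSpecStalk c) :=
    ⟨by rw [Category.assoc, ht, IsOpenImmersion.lift_fac]⟩
  have hex : ValuativeCriterion.Existence g := by
    have h1 : UniversallyClosed g := inferInstance
    rw [UniversallyClosed.eq_valuativeCriterion] at h1
    exact h1.1
  haveI hlift : hsq.HasLift := hex
    { R := C.presheaf.stalk c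
      domain := hdom
      K := FractionRing (C.presheaf.stalk c)
      i₁ := i₁
      i₂ := C.fromSpecStalk c
      commSq := hsq }
  have hl : hsq.lift ≫ g = C.fromSpecStalk c := hsq.fac_right
  obtain ⟨V, hcV, s, -, hs⟩ := spread_out_of_isGermInjective' (𝟙 C) g hsq.lift
    (by rw [hl, Category.comp_id])
  rw [Category.comp_id] at hs
  refine ⟨V, hcV, ?_⟩
  -- the section of `g ∣_ V`
  have hsV : Set.range s ⊆ Set.range (g ⁻¹ᵁ V).ι := by
    rintro _ ⟨v, rfl⟩
    rw [Scheme.Opens.range_ι]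
    change g (s v) ∈ V
    rw [← Scheme.Hom.comp_apply, hs]
    exact v.2
  let s' : V.toScheme ⟶ (g ⁻¹ᵁ V : Z.Opens) := IsOpenImmersion.lift (g ⁻¹ᵁ V).ι s hsV
  have hs'ι : s' ≫ (g ⁻¹ᵁ V).ι = s := IsOpenImmersion.lift_fac _ _ _
  have hs' : s' ≫ (g ∣_ V) = 𝟙 _ := by
    rw [← cancel_mono V.ι, Category.assoc, morphismRestrict_ι, ← Category.assoc, hs'ι, hs,
      Category.id_comp]
  have hcomp : (g ∣_ V) ≫ V.ι ≫ πC = (g ⁻¹ᵁ V).ι ≫ g ≫ πC := by
    rw [← Category.assoc, morphismRestrict_ι, Category.assoc]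
  haveI : Flat ((g ∣_ V) ≫ V.ι ≫ πC) := by
    rw [hcomp]
    haveI : Flat (g ≫ πC) := ‹Flat ((i ≫ f) ≫ πC)›
    infer_instance
  refine isIso_of_section R ϖ hϖ.ne_zero (g ∣_ V) (V.ι ≫ πC) s' hs' ?_
  intro a b hab ha
  have key := eq_of_comp_eq_of_isIso_restrict g U (a ≫ (g ⁻¹ᵁ V).ι) (b ≫ (g ⁻¹ᵁ V).ι) ?_ ?_
  · exact (cancel_mono (g ⁻¹ᵁ V).ι).mp key
  · have e1 : (a ≫ (g ⁻¹ᵁ V).ι) ≫ g = (a ≫ (g ∣_ V)) ≫ V.ι := by
      simp only [Category.assoc, morphismRestrict_ι]
    have e2 : (b ≫ (g ⁻¹ᵁ V).ι) ≫ g = (b ≫ (g ∣_ V)) ≫ V.ι := by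
      simp only [Category.assoc, morphismRestrict_ι]
    rw [e1, e2, hab]
  · intro t'
    have h1 := ha t'
    have e : ∀ x, ((g ∣_ V) ≫ V.ι ≫ πC) x = πC (g ((g ⁻¹ᵁ V).ι x)) := fun x => by
      rw [hcomp]; rfl
    have h2 := e (a t')
    rw [h2] at h1
    exact h1

end Groth.Agent.H11.ModelIsoNhd
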