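import Mathlib

/-!
# Units of (additive) monoid algebras over a domain

For a domain `R` and an additive monoid `G` with the two-unique-sums property (e.g. `ℤ^n`), every pair
`f * g = 1` in `R[G]` consists of monomials.
-/

set_option autoImplicit false

namespace Groth.Agent.H11.MonoidAlgUnits

open AddMonoidAlgebra

variable {R G : Type*} [CommRing R] [IsDomain R] [AddCommGroup G] [TwoUniqueSums G]

/-- If `f * g = 1` in `R[G]`, then `f` and `g` are monomials. -/
theorem exists_single_of_mul_eq_one (f g : AddMonoidAlgebra R G) (h : f * g = 1) :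
    ∃ (a : G) (r s : R), f = single a r ∧ g = single (-a) s ∧ r * s = 1 := by
  classical
  have hf : f ≠ 0 := by
    rintro rfl
    rw [zero_mul] at h
    exact zero_ne_one h
  have hg : g ≠ 0 := by
    rintro rfl
    rw [mul_zero] at h
    exact zero_ne_one h
  have hfs : f.coeff.support.Nonempty := by
    rwa [Finsupp.support_nonempty_iff, ne_eq, AddMonoidAlgebra.coeff_eq_zero]
  have hgs : g.coeff.support.Nonempty := by
    rwa [Finsupp.support_nonempty_iff, ne_eq, AddMonoidAlgebra.coeff_eq_zero]
  have hcard : ¬ 1 < f.coeff.support.card * g.coeff.support.card := by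
    intro hc
    obtain ⟨p1, hp1, p2, hp2, hne, hu1, hu2⟩ :=
      TwoUniqueSums.uniqueAdd_of_one_lt_card (G := G) hc
    rw [Finset.mem_product] at hp1 hp2
    have c1 : (f * g).coeff (p1.1 + p1.2) ≠ 0 := by
      rw [AddMonoidAlgebra.coeff_mul_add_of_uniqueAdd hu1]
      exact mul_ne_zero (Finsupp.mem_support_iff.mp hp1.1) (Finsupp.mem_support_iff.mp hp1.2)
    have c2 : (f * g).coeff (p2.1 + p2.2) ≠ 0 := by
      rw [AddMonoidAlgebra.coeff_mul_add_of_uniqueAdd hu2]
      exact mul_ne_zero (Finsupp.mem_support_iff.mp hp2.1) (Finsupp.mem_support_iff.mp hp2.2)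
    rw [h, AddMonoidAlgebra.one_def, AddMonoidAlgebra.coeff_single] at c1 c2
    have e1 : p1.1 + p1.2 = 0 := by
      by_contra hne0
      exact c1 (by simpa using Finsupp.single_eq_of_ne hne0)
    have e2 : p2.1 + p2.2 = 0 := by
      by_contra hne0
      exact c2 (by simpa using Finsupp.single_eq_of_ne hne0)
    have := hu1 hp2.1 hp2.2 (e2.trans e1.symm)
    exact hne (Prod.ext this.1.symm this.2.symm)
  have hf1 : f.coeff.support.card = 1 := by
    have h1 := Finset.card_pos.mpr hfs
    have h2 := Finset.card_pos.mpr hgs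
    by_contra hne
    have : 2 ≤ f.coeff.support.card := by omega
    exact hcard (by nlinarith)
  have hg1 : g.coeff.support.card = 1 := by
    have h1 := Finset.card_pos.mpr hfs
    have h2 := Finset.card_pos.mpr hgs
    by_contra hne
    have : 2 ≤ g.coeff.support.card := by omega
    exact hcard (by nlinarith)
  obtain ⟨a, ha⟩ := Finset.card_eq_one.mp hf1
  obtain ⟨b, hb⟩ := Finset.card_eq_one.mp hg1
  have hfa : f = single a (f.coeff a) := by
    apply AddMonoidAlgebra.coeff_injective
    rw [AddMonoidAlgebra.coeff_single]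
    exact (Finsupp.support_eq_singleton.mp ha).2
  have hgb : g = single b (g.coeff b) := by
    apply AddMonoidAlgebra.coeff_injective
    rw [AddMonoidAlgebra.coeff_single]
    exact (Finsupp.support_eq_singleton.mp hb).2
  have hmul : single (a + b) (f.coeff a * g.coeff b) = (1 : AddMonoidAlgebra R G) := by
    rw [← AddMonoidAlgebra.single_mul_single, ← hfa, ← hgb, h]
  rw [AddMonoidAlgebra.one_def, AddMonoidAlgebra.single_inj] at hmul
  rcases hmul with ⟨hab, hrs⟩ | ⟨_, h10⟩
  · refine ⟨a, f.coeff a, g.coeff b, hfa, ?_, hrs⟩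
    have : b = -a := by rw [eq_neg_iff_add_eq_zero, add_comm]; exact hab
    rw [← this]
    exact hgb
  · exact absurd h10 one_ne_zero

/-- Units of `R[G]` are monomials with unit coefficient. -/
theorem exists_single_of_isUnit (f : AddMonoidAlgebra R G) (h : IsUnit f) :
    ∃ (a : G) (r : Rˣ), f = single a (r : R) := by
  obtain ⟨g, hg⟩ := h.exists_right_inv
  obtain ⟨a, r, s, hf, -, hrs⟩ := exists_single_of_mul_eq_one f g hg
  exact ⟨a, ⟨r, s, hrs, by rw [mul_comm]; exact hrs⟩, hf⟩

/-- Uniqueness of the monomial form. -/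
theorem single_unit_inj {a b : G} {r s : Rˣ}
    (h : (single a (r : R) : AddMonoidAlgebra R G) = single b (s : R)) : a = b ∧ r = s := by
  rw [AddMonoidAlgebra.single_inj] at h
  rcases h with ⟨h1, h2⟩ | ⟨h1, -⟩
  · exact ⟨h1, Units.ext h2⟩
  · exact absurd h1 r.ne_zero

end Groth.Agent.H11.MonoidAlgUnits
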