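import Mathlib.CategoryTheory.Center.Localization
import Mathlib.CategoryTheory.Center.Preadditive
import Mathlib.Algebra.Category.ModuleCat.Basic
import Mathlib.Algebra.Category.ModuleCat.Limits
import Mathlib.Algebra.Category.ModuleCat.Abelian
import Mathlib.CategoryTheory.Preadditive.AdditiveFunctor
import Mathlib.Tactic

set_option autoImplicit false
open CategoryTheory

namespace Groth.Agent.H11.Morita

universe u

section Center

variable (A : Type u) [CommRing A]

/-- A scalar, as a central element of the module category. -/
noncomputable def scalar (a : A) : CatCenter (ModuleCat.{u} A) where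
  app M := ModuleCat.ofHom (a • (LinearMap.id : M →ₗ[A] M))
  naturality M N f := by
    ext x
    simp

@[simp] theorem scalar_app_apply (a : A) (M : ModuleCat.{u} A) (x : M) :
    ((scalar A a).app M).hom x = a • x := rfl

/-- Evaluate a central element at `1 ∈ A`. -/
noncomputable def evalOne (η : CatCenter (ModuleCat.{u} A)) : A :=
  (η.app (ModuleCat.of A A)).hom (1 : A)

theorem app_apply (η : CatCenter (ModuleCat.{u} A)) (M : ModuleCat.{u} A) (x : M) :
    (η.app M).hom x = evalOne A η • x := by
  have h := η.naturality (ModuleCat.ofHom (LinearMap.toSpanSingleton A M x))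
  have h2 := congr_arg (fun g : ModuleCat.of A A ⟶ M => g.hom (1 : A)) h
  simp only [ModuleCat.hom_comp, LinearMap.coe_comp, Function.comp_apply, ModuleCat.hom_ofHom,
    LinearMap.toSpanSingleton_apply, one_smul] at h2
  rw [h2]
  rfl

theorem scalar_evalOne (η : CatCenter (ModuleCat.{u} A)) : scalar A (evalOne A η) = η := by
  apply CatCenter.ext
  intro M
  ext x
  rw [scalar_app_apply, app_apply]

theorem evalOne_scalar (a : A) : evalOne A (scalar A a) = a := by
  change a • (1 : A) = a
  simp

/-- The ring isomorphism `A ≃ Z(Mod A)`. -/
noncomputable def centerEquiv : A ≃+* CatCenter (ModuleCat.{u} A) where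
  toFun := scalar A
  invFun := evalOne A
  left_inv := evalOne_scalar A
  right_inv := scalar_evalOne A
  map_mul' a b := by
    apply CatCenter.ext
    intro M
    ext x
    rw [CatCenter.mul_app']
    simp [mul_smul, smul_comm a b x]
  map_add' a b := by
    apply CatCenter.ext
    intro M
    ext x
    rw [CatCenter.app_add]
    simp [add_smul]

end Center

section Equiv

variable {C D : Type*} [Category C] [Category D] [Preadditive C] [Preadditive D]
  (e : C ≌ D) [e.functor.Additive]

/-- The ring hom between centers induced by an equivalence. -/
noncomputable def centerMap : CatCenter C →+* CatCenter D :=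
  haveI : e.functor.IsLocalization (MorphismProperty.isomorphisms C) :=
    Functor.IsLocalization.of_isEquivalence e.functor _ le_rfl
  CatCenter.localizationRingHom e.functor (MorphismProperty.isomorphisms C)

theorem centerMap_app (r : CatCenter C) (X : C) :
    (centerMap e r).app (e.functor.obj X) = e.functor.map (r.app X) := by
  have : e.functor.IsLocalization (MorphismProperty.isomorphisms C) :=
    Functor.IsLocalization.of_isEquivalence e.functor _ le_rfl
  exact CatCenter.localization_app r e.functor (MorphismProperty.isomorphisms C) X

theorem centerMap_symm_centerMap [e.symm.functor.Additive] (r : CatCenter C) :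
    centerMap e.symm (centerMap e r) = r := by
  apply CatCenter.ext
  intro X
  -- compare at `G F X` then transport along the unit
  have h1 : (centerMap e.symm (centerMap e r)).app (e.inverse.obj (e.functor.obj X)) =
      e.inverse.map (e.functor.map (r.app X)) := by
    have := centerMap_app e.symm (centerMap e r) (e.functor.obj X)
    rw [centerMap_app e r X] at this
    exact this
  have h2 : e.unit.app X ≫ (centerMap e.symm (centerMap e r)).app
      (e.inverse.obj (e.functor.obj X)) =
      (centerMap e.symm (centerMap e r)).app X ≫ e.unit.app X :=
    (centerMap e.symm (centerMap e r)).naturality (e.unit.app X)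
  have h4 : e.unit.app X ≫ e.inverse.map (e.functor.map (r.app X)) = r.app X ≫ e.unit.app X := by
    simp
  rw [h1, h4] at h2
  exact ((cancel_mono (e.unit.app X)).1 h2).symm

end Equiv

theorem ringEquiv_of_equivalence (A B : Type u) [CommRing A] [CommRing B]
    (F : ModuleCat.{u} A ≌ ModuleCat.{u} B) : Nonempty (A ≃+* B) := by
  have : F.functor.Additive := Functor.additive_of_preserves_binary_products _
  have : F.symm.functor.Additive := (inferInstance : F.inverse.Additive)
  have : F.symm.symm.functor.Additive := (inferInstance : F.functor.Additive)
  let φ : CatCenter (ModuleCat.{u} A) ≃+* CatCenter (ModuleCat.{u} B) :=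
    RingEquiv.ofRingHom (centerMap F) (centerMap F.symm)
      (RingHom.ext fun r => centerMap_symm_centerMap F.symm r)
      (RingHom.ext fun r => centerMap_symm_centerMap F r)
  exact ⟨(centerEquiv A).trans (φ.trans (centerEquiv B).symm)⟩

end Groth.Agent.H11.Morita
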