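import Mathlib
import Groth.Prelude.Def_Found

/-!
# N-2 passes to quasi-finite extensions of finite type
-/

set_option autoImplicit false

namespace Groth.Agent.H11.N2QuasiFinite

universe u

open Polynomial

/-- a root of a monic polynomial all of whose coefficients are integral is integral -/
theorem isIntegral_of_coeff {R S L : Type*} [CommRing R] [CommRing S] [CommRing L] [Algebra R S]
    [Algebra S L] [Algebra R L] [IsScalarTower R S L] (q : S[X]) (hq : q.Monic)
    (hcoef : ∀ i, IsIntegral R (q.coeff i)) (z : L) (hz : aeval z q = 0) : IsIntegral R z := by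
  let S' := integralClosure R S
  have hsub : (↑q.coeffs : Set S) ⊆ S'.toSubring := by
    intro c hc
    obtain ⟨i, -, rfl⟩ := Polynomial.mem_coeffs_iff.mp (Finset.mem_coe.mp hc)
    exact hcoef i
  let q' : S'[X] := q.toSubring S'.toSubring hsub
  have hq'map : q'.map (algebraMap S' S) = q := Polynomial.map_toSubring q S'.toSubring hsub
  have hq'monic : q'.Monic := (Polynomial.monic_toSubring q S'.toSubring hsub).mpr hq
  have hint : IsIntegral S' z := by
    refine ⟨q', hq'monic, ?_⟩
    have h1 : algebraMap S' L = (algebraMap S L).comp (algebraMap S' S) :=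
      IsScalarTower.algebraMap_eq S' S L
    rw [h1, ← Polynomial.eval₂_map, hq'map]
    exact hz
  exact isIntegral_trans (R := R) (A := S') z hint

/-- scaling an integral element by a large power of the Zariski main theorem element makes it
integral over the base -/
theorem exists_pow_smul_isIntegral {R S L : Type*} [CommRing R] [CommRing S] [CommRing L]
    [Algebra R S] [Algebra S L] [Algebra R L] [IsScalarTower R S L] (r : S) (hr : IsIntegral R r)
    (hrS : ∀ x : S, ∃ m : ℕ, IsIntegral R (r ^ m * x)) (y : L) (hy : IsIntegral S y) :
    ∃ M : ℕ, IsIntegral R (r ^ M • y) := by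
  classical
  obtain ⟨p, hpmonic, hp⟩ := hy
  choose m hm using hrS
  let M : ℕ := (Finset.range (p.natDegree + 1)).sup fun i => m (p.coeff i)
  refine ⟨M, ?_⟩
  have hpa : aeval y p = 0 := hp
  have h1 := Polynomial.scaleRoots_aeval_eq_zero (r := r ^ M) hpa
  rw [← Algebra.smul_def] at h1
  refine isIntegral_of_coeff (R := R) (p.scaleRoots (r ^ M))
    ((Polynomial.monic_scaleRoots_iff _).mpr hpmonic) ?_ _ h1
  intro i
  rw [Polynomial.coeff_scaleRoots]
  rcases lt_trichotomy i p.natDegree with hlt | heq | hgt
  · have hle : m (p.coeff i) ≤ M :=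
      Finset.le_sup (f := fun i => m (p.coeff i)) (Finset.mem_range.mpr (by omega))
    have hle2 : m (p.coeff i) ≤ M * (p.natDegree - i) := by
      calc m (p.coeff i) ≤ M := hle
        _ = M * 1 := (mul_one _).symm
        _ ≤ M * (p.natDegree - i) := Nat.mul_le_mul_left _ (by omega)
    have : p.coeff i * (r ^ M) ^ (p.natDegree - i) =
        (r ^ m (p.coeff i) * p.coeff i) * r ^ (M * (p.natDegree - i) - m (p.coeff i)) := by
      rw [← pow_mul]
      have : r ^ (M * (p.natDegree - i)) =
          r ^ m (p.coeff i) * r ^ (M * (p.natDegree - i) - m (p.coeff i)) := by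
        rw [← pow_add, Nat.add_sub_cancel' hle2]
      rw [this]
      ring
    rw [this]
    exact (hm (p.coeff i)).mul (hr.pow _)
  · rw [heq, Nat.sub_self, pow_zero, mul_one]
    have : p.coeff p.natDegree = 1 := hpmonic
    rw [this]
    exact isIntegral_one
  · rw [Polynomial.coeff_eq_zero_of_natDegree_lt hgt, zero_mul]
    exact isIntegral_zero

theorem main {R S : Type u} [CommRing R] [IsDomain R] [IsNoetherianRing R] [CommRing S]
    [IsDomain S] [Algebra R S] (hinj : Function.Injective (algebraMap R S)) [Algebra.FiniteType R S]
    [Algebra.QuasiFinite R S] (hR : CAlg.IsN2 R) : CAlg.IsN2 S := by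
  classical
  intro L _ _ _ _ hfin
  letI : Algebra R L := ((algebraMap S L).comp (algebraMap R S)).toAlgebra
  haveI : IsScalarTower R S L := IsScalarTower.of_algebraMap_eq (fun _ => rfl)
  have hSL : Function.Injective (algebraMap S L) := by
    rw [IsScalarTower.algebraMap_eq S (FractionRing S) L]
    exact (algebraMap (FractionRing S) L).injective.comp (IsFractionRing.injective S _)
  have hRL : Function.Injective (algebraMap R L) := hSL.comp hinj
  haveI : FaithfulSMul R L := (faithfulSMul_iff_algebraMap_injective R L).mpr hRL
  haveI : FaithfulSMul R S := (faithfulSMul_iff_algebraMap_injective R S).mpr hinj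
  haveI : FaithfulSMul R (FractionRing S) := by
    rw [faithfulSMul_iff_algebraMap_injective, IsScalarTower.algebraMap_eq R S (FractionRing S)]
    exact (IsFractionRing.injective S _).comp hinj
  letI : Algebra (FractionRing R) L := FractionRing.liftAlgebra R L
  haveI : IsScalarTower R (FractionRing R) L := FractionRing.isScalarTower_liftAlgebra R L
  letI : Algebra (FractionRing R) (FractionRing S) := FractionRing.liftAlgebra R (FractionRing S)
  haveI : IsScalarTower R (FractionRing R) (FractionRing S) :=
    FractionRing.isScalarTower_liftAlgebra R (FractionRing S)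
  haveI : IsScalarTower R (FractionRing S) L :=
    IsScalarTower.of_algebraMap_eq (fun x => by
      rw [IsScalarTower.algebraMap_apply R S L, IsScalarTower.algebraMap_apply S (FractionRing S) L,
        ← IsScalarTower.algebraMap_apply R S (FractionRing S)])
  haveI : IsScalarTower (FractionRing R) (FractionRing S) L := by
    refine IsScalarTower.of_algebraMap_eq' ?_
    apply IsLocalization.ringHom_ext (nonZeroDivisors R)
    ext x
    simp only [RingHom.comp_apply]
    rw [← IsScalarTower.algebraMap_apply R (FractionRing R) L,
      ← IsScalarTower.algebraMap_apply R (FractionRing R) (FractionRing S),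
      ← IsScalarTower.algebraMap_apply R (FractionRing S) L]
  haveI : Algebra.QuasiFinite (FractionRing R) (FractionRing S) :=
    Algebra.QuasiFinite.of_restrictScalars R (FractionRing R) (FractionRing S)
  haveI : Module.Finite (FractionRing R) (FractionRing S) := Module.Finite.of_quasiFinite
  haveI : FiniteDimensional (FractionRing R) L := Module.Finite.trans (FractionRing S) L
  have hT₀ : Module.Finite R (integralClosure R L) := hR L inferInstance
  -- generators of the integral closure of `R`
  have hfg : (Subalgebra.toSubmodule (integralClosure R L)).FG := Module.Finite.iff_fg.mp hT₀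
  obtain ⟨G, hG⟩ := hfg
  have hGmem : ∀ g ∈ G, IsIntegral R g := by
    intro g hg
    have : g ∈ Subalgebra.toSubmodule (integralClosure R L) := by
      rw [← hG]
      exact Submodule.subset_span hg
    exact this
  refine (Module.Finite.iff_fg (N := Subalgebra.toSubmodule (integralClosure S L))).mpr ?_
  refine ⟨G, ?_⟩
  apply le_antisymm
  · rw [Submodule.span_le]
    intro g hg
    exact (hGmem g hg).tower_top
  · intro y hy
    have hyint : IsIntegral S y := hy
    -- the conductor ideal
    let 𝔞 : Ideal S := (Submodule.span S (G : Set L)).colon {y}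
    have h𝔞 : ∀ s : S, s ∈ 𝔞 ↔ s • y ∈ Submodule.span S (G : Set L) := fun s =>
      Submodule.mem_colon_singleton
    by_cases htop : 𝔞 = ⊤
    · have : (1 : S) ∈ 𝔞 := by rw [htop]; trivial
      rw [h𝔞, one_smul] at this
      exact this
    · exfalso
      obtain ⟨q, hqmax, hle⟩ := Ideal.exists_le_maximal 𝔞 htop
      haveI : q.IsPrime := hqmax.isPrime
      have hZ : Algebra.ZariskisMainProperty R q := Algebra.ZariskisMainProperty.of_finiteType q
      obtain ⟨r, hrq, hrint, hr⟩ := Algebra.zariskisMainProperty_iff.mp hZ
      obtain ⟨M, hM⟩ := exists_pow_smul_isIntegral (R := R) r hrint hr y hyint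
      have hmem : r ^ M • y ∈ Submodule.span S (G : Set L) := by
        have h1 : r ^ M • y ∈ Subalgebra.toSubmodule (integralClosure R L) := hM
        rw [← hG] at h1
        exact Submodule.span_le_restrictScalars R S (G : Set L) h1
      have h2 : r ^ M ∈ q := hle ((h𝔞 _).mpr hmem)
      exact hrq (Ideal.IsPrime.mem_of_pow_mem inferInstance M h2)

end Groth.Agent.H11.N2QuasiFinite
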