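import Mathlib.RingTheory.UniqueFactorizationDomain.Basic
import Mathlib.RingTheory.Localization.Basic
import Mathlib.Tactic

set_option autoImplicit false

namespace Groth.Agent.H11

universe u

section

variable {A : Type u} [CommRing A] [IsDomain A] (P : Set A) (hP : ∀ p ∈ P, Prime p)

include hP

theorem ne_zero_of_mem_closure {s : A} (hs : s ∈ Submonoid.closure P) : s ≠ 0 := by
  induction hs using Submonoid.closure_induction with
  | mem p hp => exact (hP p hp).ne_zero
  | one => exact one_ne_zero
  | mul a b _ _ ha hb => exact mul_ne_zero ha hb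

theorem closure_le_nonZeroDivisors : Submonoid.closure P ≤ nonZeroDivisors A := by
  intro s hs
  exact mem_nonZeroDivisors_of_ne_zero (ne_zero_of_mem_closure P hP hs)

theorem dvd_of_closure_dvd_mul {x : A} (hx : ∀ p ∈ P, ¬ p ∣ x) {s : A}
    (hs : s ∈ Submonoid.closure P) : ∀ c, s ∣ x * c → s ∣ c := by
  induction hs using Submonoid.closure_induction with
  | mem p hp => intro c h; exact ((hP p hp).dvd_or_dvd h).resolve_left (hx p hp)
  | one => intro c _; exact one_dvd _
  | mul a b ha hb iha ihb =>
    intro c h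
    obtain ⟨c₁, rfl⟩ := iha c (dvd_trans (dvd_mul_right a b) h)
    have h' : a * b ∣ a * (x * c₁) := by
      have : x * (a * c₁) = a * (x * c₁) := by ring
      rwa [this] at h
    have h'' : b ∣ x * c₁ := (mul_dvd_mul_iff_left (ne_zero_of_mem_closure P hP ha)).1 h'
    obtain ⟨c₂, rfl⟩ := ihb c₁ h''
    exact ⟨c₂, by ring⟩

theorem exists_split_of_closure_dvd_mul {r : A} (hr : r ∈ Submonoid.closure P) :
    ∀ a b : A, r ∣ a * b → ∃ r₁ ∈ Submonoid.closure P, ∃ r₂ ∈ Submonoid.closure P,
      r = r₁ * r₂ ∧ r₁ ∣ a ∧ r₂ ∣ b := by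
  induction hr using Submonoid.closure_induction with
  | mem p hp =>
    intro a b h
    rcases (hP p hp).dvd_or_dvd h with h1 | h1
    · exact ⟨p, Submonoid.subset_closure hp, 1, Submonoid.one_mem _, by ring, h1, one_dvd _⟩
    · exact ⟨1, Submonoid.one_mem _, p, Submonoid.subset_closure hp, by ring, one_dvd _, h1⟩
  | one =>
    intro a b _
    exact ⟨1, Submonoid.one_mem _, 1, Submonoid.one_mem _, by ring, one_dvd _, one_dvd _⟩
  | mul r' r'' hr' hr'' ih' ih'' =>
    intro a b h
    obtain ⟨r₁', h₁', r₂', h₂', rfl, ⟨a₁, rfl⟩, ⟨b₁, rfl⟩⟩ :=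
      ih' a b (dvd_trans (dvd_mul_right r' r'') h)
    have hne : r₁' * r₂' ≠ 0 := ne_zero_of_mem_closure P hP hr'
    have h2 : r₁' * r₂' * r'' ∣ r₁' * r₂' * (a₁ * b₁) := by
      have : r₁' * a₁ * (r₂' * b₁) = r₁' * r₂' * (a₁ * b₁) := by ring
      rwa [this] at h
    have h3 : r'' ∣ a₁ * b₁ := (mul_dvd_mul_iff_left hne).1 h2
    obtain ⟨r₁'', h₁'', r₂'', h₂'', rfl, ⟨a₂, rfl⟩, ⟨b₂, rfl⟩⟩ := ih'' a₁ b₁ h3
    exact ⟨r₁' * r₁'', Submonoid.mul_mem _ h₁' h₁'', r₂' * r₂'', Submonoid.mul_mem _ h₂' h₂'',
      by ring, ⟨a₂, by ring⟩, ⟨b₂, by ring⟩⟩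

variable [IsDomain (Localization (Submonoid.closure P))]
  (hS : UniqueFactorizationMonoid (Localization (Submonoid.closure P)))

include hS

theorem prime_of_irreducible_of_not_dvd {x : A} (hirr : Irreducible x) (hx : ∀ p ∈ P, ¬ p ∣ x) :
    Prime x := by
  set B := Localization (Submonoid.closure P)
  have hinj : Function.Injective (algebraMap A B) :=
    IsLocalization.injective B (closure_le_nonZeroDivisors P hP)
  have hunitS : ∀ s ∈ Submonoid.closure P, IsUnit (algebraMap A B s) := fun s hs =>
    IsLocalization.map_units B ⟨s, hs⟩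
  -- (a) not a unit in B
  have hnu : ¬ IsUnit (algebraMap A B x) := by
    intro hu
    obtain ⟨b, hb⟩ := hu.exists_right_inv
    obtain ⟨a, s, rfl⟩ := IsLocalization.exists_mk'_eq (Submonoid.closure P) b
    have h1 : algebraMap A B (x * a) = algebraMap A B s := by
      have := IsLocalization.mk'_spec B a s
      rw [map_mul]
      calc algebraMap A B x * algebraMap A B a
          = algebraMap A B x * (IsLocalization.mk' B a s * algebraMap A B s) := by rw [this]
        _ = (algebraMap A B x * IsLocalization.mk' B a s) * algebraMap A B s := by ring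
        _ = algebraMap A B s := by rw [hb, one_mul]
    have h2 : x * a = s := hinj h1
    obtain ⟨a', ha'⟩ := dvd_of_closure_dvd_mul P hP hx s.2 a ⟨1, by rw [mul_one, h2]⟩
    have hs0 : (s : A) ≠ 0 := ne_zero_of_mem_closure P hP s.2
    have h3 : x * a' = 1 := by
      have : (s : A) * (x * a') = (s : A) * 1 := by
        calc (s : A) * (x * a') = x * (s * a') := by ring
          _ = x * a := by rw [← ha']
          _ = s := h2
          _ = (s : A) * 1 := (mul_one _).symm
      exact mul_left_cancel₀ hs0 this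
    exact hirr.not_isUnit (IsUnit.of_mul_eq_one _ h3)
  -- (b) irreducible in B
  have hirrB : Irreducible (algebraMap A B x) := by
    refine ⟨hnu, ?_⟩
    intro u v huv
    obtain ⟨a, s, rfl⟩ := IsLocalization.exists_mk'_eq (Submonoid.closure P) u
    obtain ⟨b, t, rfl⟩ := IsLocalization.exists_mk'_eq (Submonoid.closure P) v
    have h1 : algebraMap A B (x * (s * t)) = algebraMap A B (a * b) := by
      have ha := IsLocalization.mk'_spec B a s
      have hb := IsLocalization.mk'_spec B b t
      rw [map_mul, map_mul, map_mul, huv, ← ha, ← hb]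
      ring
    have h2 : x * (s * t) = a * b := hinj h1
    obtain ⟨r₁, hr₁, r₂, hr₂, hr, ⟨a', rfl⟩, ⟨b', rfl⟩⟩ :=
      exists_split_of_closure_dvd_mul P hP (Submonoid.mul_mem _ s.2 t.2) a b ⟨x, by rw [← h2]; ring⟩
    have hne : (s : A) * t ≠ 0 := ne_zero_of_mem_closure P hP (Submonoid.mul_mem _ s.2 t.2)
    have h3 : x = a' * b' := by
      have : (s : A) * t * x = (s : A) * t * (a' * b') := by
        calc (s : A) * t * x = x * (s * t) := by ring
          _ = r₁ * a' * (r₂ * b') := h2
          _ = (r₁ * r₂) * (a' * b') := by ring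
          _ = (s : A) * t * (a' * b') := by rw [← hr]
      exact mul_left_cancel₀ hne this
    rcases hirr.isUnit_or_isUnit h3 with hu | hu
    · left
      have : IsLocalization.mk' B (r₁ * a') s * algebraMap A B s = algebraMap A B (r₁ * a') :=
        IsLocalization.mk'_spec B _ s
      have hunit : IsUnit (algebraMap A B (r₁ * a')) := by
        rw [map_mul]; exact (hunitS r₁ hr₁).mul (hu.map _)
      rw [← this] at hunit
      exact isUnit_of_mul_isUnit_left hunit
    · right
      have : IsLocalization.mk' B (r₂ * b') t * algebraMap A B t = algebraMap A B (r₂ * b') :=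
        IsLocalization.mk'_spec B _ t
      have hunit : IsUnit (algebraMap A B (r₂ * b')) := by
        rw [map_mul]; exact (hunitS r₂ hr₂).mul (hu.map _)
      rw [← this] at hunit
      exact isUnit_of_mul_isUnit_left hunit
  have hprimeB : Prime (algebraMap A B x) :=
    UniqueFactorizationMonoid.irreducible_iff_prime.1 hirrB
  -- (c) prime in A
  have key : ∀ a : A, algebraMap A B x ∣ algebraMap A B a → x ∣ a := by
    rintro a ⟨v, hv⟩
    obtain ⟨c, s, rfl⟩ := IsLocalization.exists_mk'_eq (Submonoid.closure P) v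
    have h1 : algebraMap A B (a * s) = algebraMap A B (x * c) := by
      have hc := IsLocalization.mk'_spec B c s
      rw [map_mul, map_mul, hv, ← hc]; ring
    have h2 : a * s = x * c := hinj h1
    obtain ⟨c', rfl⟩ := dvd_of_closure_dvd_mul P hP hx s.2 c ⟨a, by rw [← h2]; ring⟩
    have hs0 : (s : A) ≠ 0 := ne_zero_of_mem_closure P hP s.2
    refine ⟨c', ?_⟩
    have : (s : A) * a = (s : A) * (x * c') := by
      calc (s : A) * a = a * s := by ring
        _ = x * (s * c') := h2
        _ = (s : A) * (x * c') := by ring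
    exact mul_left_cancel₀ hs0 this
  refine ⟨hirr.ne_zero, hirr.not_isUnit, ?_⟩
  intro a b hab
  have : algebraMap A B x ∣ algebraMap A B a * algebraMap A B b := by
    rw [← map_mul]; exact map_dvd _ hab
  rcases hprimeB.dvd_or_dvd this with h | h
  · exact Or.inl (key a h)
  · exact Or.inr (key b h)

theorem prime_of_irreducible {x : A} (hirr : Irreducible x) : Prime x := by
  by_cases hx : ∀ p ∈ P, ¬ p ∣ x
  · exact prime_of_irreducible_of_not_dvd P hP hS hirr hx
  · push Not at hx
    obtain ⟨p, hp, y, rfl⟩ := hx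
    rcases hirr.isUnit_or_isUnit rfl with hu | hu
    · exact absurd hu (hP p hp).not_isUnit
    · exact (associated_mul_unit_right p y hu).prime (hP p hp)

theorem ufm_of_localization
    (hfac : ∀ a : A, a ≠ 0 → ¬ IsUnit a →
      ∃ f : Multiset A, (∀ b ∈ f, Irreducible b) ∧ Associated f.prod a) :
    UniqueFactorizationMonoid A := by
  apply UniqueFactorizationMonoid.of_exists_prime_factors
  intro a ha
  by_cases hu : IsUnit a
  · exact ⟨0, by simp, by simpa using (associated_one_iff_isUnit.2 hu).symm⟩
  · obtain ⟨f, hf, hfa⟩ := hfac a ha hu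
    exact ⟨f, fun b hb => prime_of_irreducible P hP hS (hf b hb), hfa⟩

end

end Groth.Agent.H11
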