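import Mathlib

/-!
# Noether normalization over a domain (after inverting one element)
-/

namespace Groth.Agent.H11.NoetherDomain

open MvPolynomial

section scale

variable {K : Type*} [CommRing K] {σ : Type*}

/-- the scaling endomorphism `X i ↦ c i * X i` of a polynomial ring -/
noncomputable def scale (c : σ → K) : MvPolynomial σ K →ₐ[K] MvPolynomial σ K :=
  MvPolynomial.aeval (fun i => MvPolynomial.C (c i) * MvPolynomial.X i)

lemma scale_comp (c c' : σ → K) (h : ∀ i, c i * c' i = 1) :
    (scale c).comp (scale c') = AlgHom.id K _ := by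
  apply MvPolynomial.algHom_ext
  intro i
  simp only [scale, AlgHom.comp_apply, aeval_X, map_mul, aeval_C, AlgHom.id_apply]
  rw [← mul_assoc, MvPolynomial.algebraMap_eq, ← map_mul, mul_comm (c' i), h, map_one, one_mul]

lemma scale_scale (c c' : σ → K) (h : ∀ i, c i * c' i = 1) (p) :
    scale c (scale c' p) = p := by
  have := DFunLike.congr_fun (scale_comp c c' h) p
  rwa [AlgHom.comp_apply, AlgHom.id_apply] at this

end scale

section scaleField

universe u

lemma comp_scale_injective {K T : Type u} [Field K] [CommRing T] [Algebra K T] (d : ℕ)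
    (g : MvPolynomial (Fin d) K →ₐ[K] T)
    (hginj : Function.Injective g) (c : Fin d → K) (hc : ∀ i, c i ≠ 0) :
    Function.Injective (g.comp (scale c)) := by
  have hc'c : ∀ i, (c i)⁻¹ * c i = 1 := fun i => inv_mul_cancel₀ (hc i)
  have : Function.Injective (scale c) :=
    Function.LeftInverse.injective (g := scale (fun i => (c i)⁻¹)) (scale_scale _ _ hc'c)
  rw [AlgHom.coe_comp]
  exact hginj.comp this

lemma comp_scale_integral {K T : Type u} [Field K] [CommRing T] [Algebra K T] (d : ℕ)
    (g : MvPolynomial (Fin d) K →ₐ[K] T)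
    (hgint : g.IsIntegral) (c : Fin d → K) (hc : ∀ i, c i ≠ 0) :
    (∀ t, (g.comp (scale c)).toRingHom.IsIntegralElem t) := by
  have hcc' : ∀ i, c i * (c i)⁻¹ = 1 := fun i => mul_inv_cancel₀ (hc i)
  intro t
  obtain ⟨p, hp, hp0⟩ := hgint t
  refine ⟨p.map (scale (fun i => (c i)⁻¹)).toRingHom, hp.map _, ?_⟩
  rw [Polynomial.eval₂_map]
  have : (g.comp (scale c)).toRingHom.comp (scale (fun i => (c i)⁻¹)).toRingHom
      = g.toRingHom := by
    apply RingHom.ext
    intro q
    rw [RingHom.comp_apply, AlgHom.toRingHom_eq_coe, AlgHom.toRingHom_eq_coe,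
      AlgHom.toRingHom_eq_coe, RingHom.coe_coe, RingHom.coe_coe, RingHom.coe_coe,
      AlgHom.comp_apply, scale_scale _ _ hcc']
  rw [this]; exact hp0

end scaleField

section descend

variable {R K S T : Type*} [CommRing R] [CommRing K] [CommRing S] [CommRing T]
  [Algebra R K] [Algebra R S] [Algebra R T] [Algebra K T] [IsScalarTower R K T]

attribute [local instance] MvPolynomial.algebraMvPolynomial

theorem descend_integral (M : Submonoid R) [IsLocalization M K] {σ : Type*}
    (ι : S →ₐ[R] T) (hι : ∀ s, ι s = 0 → ∃ m ∈ M, m • s = 0) (y : σ → S)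
    (g' : MvPolynomial σ K →ₐ[K] T) (hg' : ∀ i, g' (X i) = ι (y i)) (x : S)
    (hx : g'.toRingHom.IsIntegralElem (ι x)) :
    ∃ m ∈ M, IsIntegral (Algebra.adjoin R (Set.range y)) (m • x) := by
  classical
  letI algKT : Algebra (MvPolynomial σ K) T := g'.toRingHom.toAlgebra
  letI algAT : Algebra (MvPolynomial σ R) T :=
    (g'.toRingHom.comp (algebraMap (MvPolynomial σ R) (MvPolynomial σ K))).toAlgebra
  haveI : IsScalarTower (MvPolynomial σ R) (MvPolynomial σ K) T :=
    IsScalarTower.of_algebraMap_eq (fun _ => rfl)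
  have hx' : IsIntegral (MvPolynomial σ K) (ι x) := hx
  obtain ⟨⟨_, r, hr, rfl⟩, hm⟩ :=
    IsIntegral.exists_multiple_integral_of_isLocalization (M.map (C (σ := σ))) (ι x) hx'
  let h : MvPolynomial σ R →ₐ[R] S := aeval y
  have hAT : algebraMap (MvPolynomial σ R) T = ι.toRingHom.comp h.toRingHom := by
    apply MvPolynomial.ringHom_ext
    · intro a
      change g' (MvPolynomial.map (algebraMap R K) (C a)) = ι (h (C a))
      rw [MvPolynomial.map_C]
      simp only [h, aeval_C, AlgHom.commutes]
      rw [← MvPolynomial.algebraMap_eq, AlgHom.commutes, ← IsScalarTower.algebraMap_apply]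
    · intro i
      change g' (MvPolynomial.map (algebraMap R K) (X i)) = ι (h (X i))
      rw [MvPolynomial.map_X, hg']
      simp [h]
  have hsm : ((⟨C r, r, hr, rfl⟩ : M.map (C (σ := σ))) • ι x : T) = ι (r • x) := by
    rw [Submonoid.smul_def, Algebra.smul_def, hAT]
    simp only [RingHom.coe_comp, Function.comp_apply, AlgHom.toRingHom_eq_coe, RingHom.coe_coe]
    rw [← map_mul]
    congr 1
    simp [h, Algebra.smul_def]
  rw [hsm] at hm
  obtain ⟨P, hPmonic, hP⟩ := hm
  rw [hAT] at hP
  have hP' : ι (Polynomial.eval₂ h.toRingHom (r • x) P) = 0 :=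
    (Polynomial.hom_eval₂ P h.toRingHom (ι : S →+* T) (r • x)).trans hP
  obtain ⟨m', hm'M, hm'0⟩ := hι _ hP'
  refine ⟨m' * r, M.mul_mem hm'M hr, ?_⟩
  rw [Algebra.adjoin_range_eq_range_aeval]
  -- the scaled polynomial
  have hC : h.toRingHom (C m') = algebraMap R S m' := by
    simp [h]
  have key : ∃ P' : Polynomial (MvPolynomial σ R), P'.Monic ∧
      Polynomial.eval₂ h.toRingHom ((m' * r) • x) P' = 0 := by
    by_cases hdeg : P.natDegree = 0
    · have hP1 : P = 1 := Polynomial.eq_one_of_monic_natDegree_zero hPmonic hdeg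
      rw [hP1, Polynomial.eval₂_one, Algebra.smul_def, mul_one] at hm'0
      have : (m' * r) • x = 0 := by
        rw [mul_smul, Algebra.smul_def, hm'0, zero_mul]
      refine ⟨Polynomial.X, Polynomial.monic_X, ?_⟩
      rw [this, Polynomial.eval₂_X]
    · refine ⟨Polynomial.scaleRoots P (C m'), (Polynomial.monic_scaleRoots_iff _).mpr hPmonic, ?_⟩
      have e1 : (m' * r) • x = h.toRingHom (C m') * (r • x) := by
        rw [hC, mul_smul, Algebra.smul_def m']
      rw [e1, Polynomial.scaleRoots_eval₂_mul]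
      obtain ⟨n, hn⟩ := Nat.exists_eq_succ_of_ne_zero hdeg
      rw [hn, pow_succ, mul_assoc]
      have e2 : h.toRingHom (C m') * Polynomial.eval₂ h.toRingHom (r • x) P = 0 := by
        rw [← hm'0, hC, Algebra.smul_def m']
      rw [e2, mul_zero]
  obtain ⟨P', hP'monic, hP'0⟩ := key
  refine ⟨P'.map h.rangeRestrict.toRingHom, hP'monic.map _, ?_⟩
  rw [Polynomial.eval₂_map]
  exact hP'0

end descend

universe u

open TensorProduct in
lemma includeRight_eq_zero {R S : Type*} [CommRing R] [CommRing S] [Algebra R S] (s : S)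
    (hs : (Algebra.TensorProduct.includeRight : S →ₐ[R] (FractionRing R) ⊗[R] S) s = 0) :
    ∃ m ∈ nonZeroDivisors R, m • s = 0 := by
  have : (TensorProduct.mk R (FractionRing R) S 1) s = 0 := hs
  rw [IsLocalizedModule.eq_zero_iff (nonZeroDivisors R)] at this
  obtain ⟨m, hm⟩ := this
  exact ⟨m, m.2, hm⟩

open TensorProduct in
lemma exists_normalization {R S : Type u} [CommRing R] [IsDomain R] [CommRing S] [Algebra R S]
    [Algebra.FiniteType R S] (hinj : Function.Injective (algebraMap R S)) :
    ∃ (d : ℕ) (y : Fin d → S)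
      (g' : MvPolynomial (Fin d) (FractionRing R) →ₐ[FractionRing R] ((FractionRing R) ⊗[R] S)),
      Function.Injective g' ∧ (∀ t, g'.toRingHom.IsIntegralElem t) ∧
      ∀ i, g' (X i) = (Algebra.TensorProduct.includeRight :
        S →ₐ[R] (FractionRing R) ⊗[R] S) (y i) := by
  classical
  haveI : Nontrivial ((FractionRing R) ⊗[R] S) := by
    refine ⟨⟨1, 0, fun h10 => ?_⟩⟩
    obtain ⟨m, hmM, hm⟩ := includeRight_eq_zero (R := R) (1 : S) (by rw [map_one]; exact h10)
    rw [Algebra.smul_def, mul_one] at hm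
    have : m = 0 := hinj (by rw [hm, map_zero])
    exact nonZeroDivisors.ne_zero hmM this
  obtain ⟨d, g, hginj, hgint⟩ :=
    exists_integral_inj_algHom_of_fg (FractionRing R) ((FractionRing R) ⊗[R] S)
  have hsurj : ∀ i : Fin d, ∃ p : S × nonZeroDivisors R,
      p.2 • g (X i) = (TensorProduct.mk R (FractionRing R) S 1) p.1 := fun i =>
    IsLocalizedModule.surj (nonZeroDivisors R) (TensorProduct.mk R (FractionRing R) S 1) (g (X i))
  choose yr hyr using hsurj
  let c : Fin d → FractionRing R := fun i => algebraMap R (FractionRing R) ((yr i).2 : R)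
  have hc : ∀ i, c i ≠ 0 := fun i => by
    simp only [c]
    exact IsFractionRing.to_map_ne_zero_of_mem_nonZeroDivisors (yr i).2.2
  refine ⟨d, fun i => (yr i).1, g.comp (scale c), comp_scale_injective d g hginj c hc,
    comp_scale_integral d g hgint c hc, ?_⟩
  intro i
  rw [AlgHom.comp_apply]
  simp only [scale, aeval_X, map_mul]
  rw [Algebra.TensorProduct.includeRight_apply, ← TensorProduct.mk_apply, ← hyr i,
    ← MvPolynomial.algebraMap_eq, AlgHom.commutes, Submonoid.smul_def,
    ← Algebra.smul_def, algebraMap_smul]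

theorem main {R S : Type u} [CommRing R] [IsDomain R] [CommRing S] [Algebra R S]
    [Algebra.FiniteType R S] (hinj : Function.Injective (algebraMap R S)) :
    ∃ (d : ℕ) (y : Fin d → S) (S' : Subalgebra R S), AlgebraicIndependent R y ∧
      (∀ i, y i ∈ S') ∧ S'.FG ∧
      (∀ s ∈ S', IsIntegral (Algebra.adjoin R (Set.range y)) s) ∧
      ∃ f : R, f ≠ 0 ∧ ∀ s : S, ∃ n : ℕ, (f ^ n) • s ∈ S' := by
  classical
  obtain ⟨d, y, g', hg'inj, hg'int, hg'⟩ := exists_normalization hinj
  have hyK : AlgebraicIndependent (FractionRing R) (fun i =>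
      (Algebra.TensorProduct.includeRight :
        S →ₐ[R] TensorProduct R (FractionRing R) S) (y i)) := by
    rw [algebraicIndependent_iff_injective_aeval]
    have : g' = aeval (fun i => (Algebra.TensorProduct.includeRight :
        S →ₐ[R] TensorProduct R (FractionRing R) S) (y i)) := by
      rw [MvPolynomial.aeval_unique g']
      congr 1; funext i; exact hg' i
    rw [← this]; exact hg'inj
  have hyR : AlgebraicIndependent R y := by
    have h1 := hyK.restrictScalars (IsFractionRing.injective R (FractionRing R))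
    exact AlgebraicIndependent.of_comp _ h1
  obtain ⟨G, hG⟩ := (Algebra.FiniteType.out : (⊤ : Subalgebra R S).FG)
  have hint : ∀ x ∈ G, ∃ m ∈ nonZeroDivisors R,
      IsIntegral (Algebra.adjoin R (Set.range y)) (m • x) := fun x _ =>
    descend_integral (nonZeroDivisors R) _ includeRight_eq_zero y g' hg' x (hg'int _)
  choose! mm hmmM hmmI using hint
  let f : R := ∏ x ∈ G, mm x
  have hfM : f ∈ nonZeroDivisors R := Submonoid.prod_mem _ (fun x hx => hmmM x hx)
  have hfx : ∀ x ∈ G, IsIntegral (Algebra.adjoin R (Set.range y)) (f • x) := by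
    intro x hx
    have : f = (∏ x' ∈ G.erase x, mm x') * mm x := by rw [Finset.prod_erase_mul _ _ hx]
    rw [this, mul_smul]
    exact IsIntegral.smul _ (hmmI x hx)
  let S' : Subalgebra R S := Algebra.adjoin R (Set.range y ∪ (fun x => f • x) '' (G : Set S))
  refine ⟨d, y, S', hyR, ?_, ?_, ?_, f, nonZeroDivisors.ne_zero hfM, ?_⟩
  · intro i; exact Algebra.subset_adjoin (Or.inl ⟨i, rfl⟩)
  · exact Subalgebra.fg_def.mpr
      ⟨_, (Set.finite_range y).union (G.finite_toSet.image _), rfl⟩
  · intro s hs
    have hle : S' ≤ (integralClosure (Algebra.adjoin R (Set.range y)) S).restrictScalars R := by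
      apply Algebra.adjoin_le
      rintro z (⟨i, rfl⟩ | ⟨x, hx, rfl⟩)
      · have : IsIntegral (Algebra.adjoin R (Set.range y))
            (algebraMap (Algebra.adjoin R (Set.range y)) S
              ⟨y i, Algebra.subset_adjoin ⟨i, rfl⟩⟩) := isIntegral_algebraMap
        exact this
      · exact hfx x hx
    exact hle hs
  · intro s
    have hs : s ∈ Algebra.adjoin R (G : Set S) := by rw [hG]; trivial
    induction hs using Algebra.adjoin_induction with
    | mem x hx =>
      exact ⟨1, by rw [pow_one]; exact Algebra.subset_adjoin (Or.inr ⟨x, hx, rfl⟩)⟩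
    | algebraMap r => exact ⟨0, by rw [pow_zero, one_smul]; exact Subalgebra.algebraMap_mem _ r⟩
    | add a b _ _ ha hb =>
      obtain ⟨n, hn⟩ := ha
      obtain ⟨m, hm⟩ := hb
      refine ⟨n + m, ?_⟩
      have : f ^ (n + m) • (a + b) = f ^ m • (f ^ n • a) + f ^ n • (f ^ m • b) := by
        simp only [smul_add, smul_smul, pow_add]
        rw [mul_comm]
      rw [this]
      exact S'.add_mem (S'.smul_mem hn _) (S'.smul_mem hm _)
    | mul a b _ _ ha hb =>
      obtain ⟨n, hn⟩ := ha
      obtain ⟨m, hm⟩ := hb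
      refine ⟨n + m, ?_⟩
      have : f ^ (n + m) • (a * b) = (f ^ n • a) * (f ^ m • b) := by
        rw [pow_add, smul_mul_smul_comm]
      rw [this]
      exact S'.mul_mem hn hm

end Groth.Agent.H11.NoetherDomain
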