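import Groth.Agent.H11.NumType
import Mathlib.Tactic

set_option autoImplicit false
open Finset

namespace Groth.Agent.H11.NT

variable {n : ℕ} (T : Models.NumericalType n)

/-- `d i = - a i i / w i`. -/
def dd (i : Fin n) : ℤ := -(T.a i i / T.w i)

theorem a_diag (i : Fin n) : T.a i i = -(dd T i * T.w i) := by
  unfold dd
  rw [neg_mul, neg_neg, Int.ediv_mul_cancel (T.w_dvd i i)]

theorem dd_pos (hn : 1 < n) (i : Fin n) : 1 ≤ dd T i := by
  have h1 := a_diag T i
  have h2 := diag_neg T hn i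
  have hw := T.w_pos i
  by_contra h
  rw [not_le] at h
  have : dd T i ≤ 0 := by omega
  have : dd T i * T.w i ≤ 0 := mul_nonpos_of_nonpos_of_nonneg this hw.le
  omega

theorem dd_ge_two (hn : 1 < n) (hmin : T.IsMinimal) (i : Fin n) (hg : T.g i = 0) : 2 ≤ dd T i := by
  have h1 := dd_pos T hn i
  by_contra h
  have h2 : dd T i = 1 := by omega
  exact hmin i ⟨hg, by rw [a_diag T i, h2]; ring⟩

theorem two_genus (T : Models.NumericalType n) :
    2 * T.genus - 2 = ∑ i, T.m i * T.w i * (2 * T.g i - 2 + dd T i) := by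
  obtain ⟨k, hk⟩ := two_dvd_sum T
  unfold Models.NumericalType.genus
  rw [hk, Int.mul_ediv_cancel_left _ (by norm_num : (2:ℤ) ≠ 0)]
  have h1 : ∑ i, T.m i * T.w i * (2 * T.g i - 2 + dd T i) =
      2 * ∑ i, T.m i * T.w i * (T.g i - 1) - ∑ i, T.m i * T.a i i := by
    rw [Finset.mul_sum, ← Finset.sum_sub_distrib]
    refine Finset.sum_congr rfl (fun i _ => ?_)
    rw [a_diag T i]; ring
  rw [h1, hk]; ring

/-- `p i j = a i j / w i`. -/
theorem a_eq (i j : Fin n) : T.a i j = T.w i * (T.a i j / T.w i) :=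
  (Int.mul_ediv_cancel' (T.w_dvd i j)).symm

theorem p_pos (i j : Fin n) (h : 0 < T.a i j) : 1 ≤ T.a i j / T.w i := by
  have h1 := a_eq T i j
  have hw := T.w_pos i
  by_contra hlt
  rw [not_le] at hlt
  have : T.a i j / T.w i ≤ 0 := by omega
  have : T.w i * (T.a i j / T.w i) ≤ 0 := mul_nonpos_of_nonneg_of_nonpos hw.le this
  omega

/-- Row relation: `d i * m i = Σ_{j ≠ i} p i j * m j`. -/
theorem dd_mul_m (i : Fin n) :
    dd T i * T.m i = ∑ j ∈ univ.erase i, (T.a i j / T.w i) * T.m j := by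
  have h1 := row_split T i
  have h2 : ∑ j ∈ univ.erase i, T.a i j * T.m j =
      T.w i * ∑ j ∈ univ.erase i, (T.a i j / T.w i) * T.m j := by
    rw [Finset.mul_sum]
    refine Finset.sum_congr rfl (fun j _ => ?_)
    rw [← mul_assoc, ← a_eq]
  rw [h2, a_diag T i] at h1
  have hw := (T.w_pos i).ne'
  have h3 : T.w i * (∑ j ∈ univ.erase i, (T.a i j / T.w i) * T.m j - dd T i * T.m i) = 0 := by
    linear_combination h1
  rcases mul_eq_zero.1 h3 with h | h
  · exact absurd h hw
  · linarith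

/-- number of ordered adjacent pairs is twice the edge count -/
theorem card_ordered :
    (univ.filter fun p : Fin n × Fin n => p.1 ≠ p.2 ∧ 0 < T.a p.1 p.2).card = 2 * T.edgeCount := by
  classical
  have hsplit : (univ.filter fun p : Fin n × Fin n => p.1 ≠ p.2 ∧ 0 < T.a p.1 p.2) =
      (univ.filter fun p : Fin n × Fin n => p.1 < p.2 ∧ 0 < T.a p.1 p.2) ∪
      (univ.filter fun p : Fin n × Fin n => p.2 < p.1 ∧ 0 < T.a p.1 p.2) := by
    ext p
    simp only [mem_filter, mem_univ, true_and, mem_union]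
    constructor
    · rintro ⟨h1, h2⟩
      rcases lt_or_gt_of_ne h1 with h | h
      · exact Or.inl ⟨h, h2⟩
      · exact Or.inr ⟨h, h2⟩
    · rintro (⟨h1, h2⟩ | ⟨h1, h2⟩)
      · exact ⟨h1.ne, h2⟩
      · exact ⟨h1.ne', h2⟩
  have hdisj : Disjoint
      (univ.filter fun p : Fin n × Fin n => p.1 < p.2 ∧ 0 < T.a p.1 p.2)
      (univ.filter fun p : Fin n × Fin n => p.2 < p.1 ∧ 0 < T.a p.1 p.2) := by
    rw [Finset.disjoint_left]
    intro p hp hp'
    simp only [mem_filter, mem_univ, true_and] at hp hp'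
    exact absurd hp.1 (not_lt.2 hp'.1.le)
  have hswap : (univ.filter fun p : Fin n × Fin n => p.2 < p.1 ∧ 0 < T.a p.1 p.2).card =
      (univ.filter fun p : Fin n × Fin n => p.1 < p.2 ∧ 0 < T.a p.1 p.2).card := by
    apply Finset.card_bij (fun p _ => (p.2, p.1))
    · intro p hp
      simp only [mem_filter, mem_univ, true_and] at hp ⊢
      exact ⟨hp.1, by rw [a_symm]; exact hp.2⟩
    · intro p _ q _ h
      simp only [Prod.mk.injEq] at h
      exact Prod.ext h.2 h.1
    · intro q hq
      simp only [mem_filter, mem_univ, true_and] at hq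
      refine ⟨(q.2, q.1), ?_, rfl⟩
      simp only [mem_filter, mem_univ, true_and]
      exact ⟨hq.1, by rw [a_symm]; exact hq.2⟩
  rw [hsplit, Finset.card_union_of_disjoint hdisj, hswap]
  unfold Models.NumericalType.edgeCount
  ring

/-- `Σ d i ≥ 2 e`. -/
theorem sum_dd_ge : 2 * (T.edgeCount : ℤ) ≤ ∑ i, dd T i := by
  classical
  -- work over ℚ
  let x : Fin n → Fin n → ℚ := fun i j =>
    if i = j then 0 else ((T.a i j / T.w i : ℤ) : ℚ) * (T.m j : ℚ) / (T.m i : ℚ)
  let ind : Fin n → Fin n → ℚ := fun i j => if i ≠ j ∧ 0 < T.a i j then 1 else 0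
  have hmq : ∀ i, (0 : ℚ) < (T.m i : ℚ) := fun i => by exact_mod_cast T.m_pos i
  have hrow : ∀ i, ∑ j, x i j = (dd T i : ℚ) := by
    intro i
    have h1 : ∑ j, x i j = ∑ j ∈ univ.erase i, x i j := by
      rw [← Finset.add_sum_erase univ (fun j => x i j) (Finset.mem_univ i)]
      simp [x]
    rw [h1]
    have h2 : ∀ j ∈ univ.erase i, x i j =
        ((T.a i j / T.w i : ℤ) : ℚ) * (T.m j : ℚ) / (T.m i : ℚ) := by
      intro j hj
      have : i ≠ j := (Finset.ne_of_mem_erase hj).symm
      simp [x, this]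
    rw [Finset.sum_congr rfl h2, ← Finset.sum_div, div_eq_iff (hmq i).ne']
    have := dd_mul_m T i
    exact_mod_cast this.symm
  have hpair : ∀ i j, 2 * ind i j ≤ x i j + x j i := by
    intro i j
    by_cases hij : i = j
    · subst hij
      simp [x, ind]
    · have hji : j ≠ i := fun h => hij h.symm
      by_cases hpos : 0 < T.a i j
      · have hpos' : 0 < T.a j i := by rw [a_symm]; exact hpos
        have hp1 : (1 : ℚ) ≤ ((T.a i j / T.w i : ℤ) : ℚ) := by exact_mod_cast p_pos T i j hpos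
        have hp2 : (1 : ℚ) ≤ ((T.a j i / T.w j : ℤ) : ℚ) := by exact_mod_cast p_pos T j i hpos'
        have hi := hmq i
        have hj := hmq j
        simp only [x, ind, hij, hji, if_false, ne_eq, not_false_eq_true, hpos, and_self, if_true]
        have h3 : (T.m j : ℚ) / (T.m i : ℚ) ≤
            ((T.a i j / T.w i : ℤ) : ℚ) * (T.m j : ℚ) / (T.m i : ℚ) := by
          rw [mul_div_assoc]
          exact le_mul_of_one_le_left (div_pos hj hi).le hp1
        have h4 : (T.m i : ℚ) / (T.m j : ℚ) ≤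
            ((T.a j i / T.w j : ℤ) : ℚ) * (T.m i : ℚ) / (T.m j : ℚ) := by
          rw [mul_div_assoc]
          exact le_mul_of_one_le_left (div_pos hi hj).le hp2
        have h5 : (2 : ℚ) ≤ (T.m j : ℚ) / (T.m i : ℚ) + (T.m i : ℚ) / (T.m j : ℚ) := by
          rw [div_add_div _ _ hi.ne' hj.ne', le_div_iff₀ (mul_pos hi hj)]
          nlinarith [sq_nonneg ((T.m i : ℚ) - (T.m j : ℚ))]
        linarith
      · have h0 : T.a i j = 0 := le_antisymm (not_lt.1 hpos) (T.offDiag_nonneg i j hij)
        have h0' : T.a j i = 0 := by rw [a_symm]; exact h0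
        simp [x, ind, hij, hji, h0, h0']
  have hind : ∑ i, ∑ j, ind i j = 2 * (T.edgeCount : ℚ) := by
    rw [← Finset.sum_product']
    simp only [ind]
    rw [Finset.sum_boole]
    have := card_ordered T
    simp only [univ_product_univ]
    exact_mod_cast this
  have hsum : ∑ i, ∑ j, (x i j + x j i) = 2 * ∑ i, (dd T i : ℚ) := by
    simp only [Finset.sum_add_distrib]
    rw [Finset.sum_comm (f := fun i j => x j i)]
    simp only [hrow]
    ring
  have hfinal : 2 * (2 * (T.edgeCount : ℚ)) ≤ 2 * ∑ i, (dd T i : ℚ) := by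
    rw [← hsum, ← hind, Finset.mul_sum]
    refine Finset.sum_le_sum (fun i _ => ?_)
    rw [Finset.mul_sum]
    exact Finset.sum_le_sum (fun j _ => hpair i j)
  have : (2 * (T.edgeCount : ℤ) : ℚ) ≤ ((∑ i, dd T i : ℤ) : ℚ) := by
    push_cast
    linarith
  exact_mod_cast this

theorem topGenus_le_genus (hmin : T.IsMinimal) (hn : 1 < n) : T.topGenus ≤ T.genus := by
  have h1 := two_genus T
  have h2 := sum_dd_ge T
  have h3 : ∀ i, dd T i - 2 ≤ T.m i * T.w i * (2 * T.g i - 2 + dd T i) := by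
    intro i
    have hmw : 1 ≤ T.m i * T.w i := by
      have := mul_pos (T.m_pos i) (T.w_pos i)
      omega
    by_cases hg0 : T.g i = 0
    · have := dd_ge_two T hn hmin i hg0
      rw [hg0]
      nlinarith
    · have hg1 : 1 ≤ T.g i := by have := T.g_nonneg i; omega
      have := dd_pos T hn i
      nlinarith
  have h4 : ∑ i, (dd T i - 2) ≤ ∑ i, T.m i * T.w i * (2 * T.g i - 2 + dd T i) :=
    Finset.sum_le_sum (fun i _ => h3 i)
  rw [Finset.sum_sub_distrib] at h4
  simp only [Finset.sum_const, Finset.card_univ, Fintype.card_fin, nsmul_eq_mul] at h4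
  unfold Models.NumericalType.topGenus
  linarith

end Groth.Agent.H11.NT
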