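import Mathlib.LinearAlgebra.Matrix.ToLin
import Mathlib.Data.Real.Basic
import Mathlib.LinearAlgebra.Matrix.Symmetric
import Mathlib.Tactic

set_option autoImplicit false
open Finset

namespace Groth.Agent.H11

/-- The basic identity for a symmetric matrix `A`, a vector `m` and `x i = c i * m i`. -/
theorem quad_identity {R : Type*} [CommRing R] {n : ℕ} (A : Matrix (Fin n) (Fin n) R) (m c : Fin n → R)
    (hsymm : A.IsSymm) :
    2 * ∑ i, (c i * m i) * (A.mulVec (fun j => c j * m j)) i =
      2 * ∑ i, c i ^ 2 * m i * (A.mulVec m) i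
        - ∑ i, ∑ j, A i j * m i * m j * (c i - c j) ^ 2 := by
  have hsym : ∀ i j, A i j = A j i := fun i j => (hsymm.apply i j).symm
  have hS12 : ∑ i, ∑ j, A i j * m i * m j * c i ^ 2 = ∑ i, ∑ j, A i j * m i * m j * c j ^ 2 := by
    rw [Finset.sum_comm]
    refine Finset.sum_congr rfl (fun i _ => Finset.sum_congr rfl (fun j _ => ?_))
    rw [hsym j i]; ring
  have hq : ∑ i, (c i * m i) * (A.mulVec (fun j => c j * m j)) i =
      ∑ i, ∑ j, A i j * m i * m j * (c i * c j) := by
    refine Finset.sum_congr rfl (fun i _ => ?_)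
    simp only [Matrix.mulVec, dotProduct, Finset.mul_sum]
    refine Finset.sum_congr rfl (fun j _ => ?_)
    ring
  have hd : ∑ i, c i ^ 2 * m i * (A.mulVec m) i = ∑ i, ∑ j, A i j * m i * m j * c i ^ 2 := by
    refine Finset.sum_congr rfl (fun i _ => ?_)
    simp only [Matrix.mulVec, dotProduct, Finset.mul_sum]
    refine Finset.sum_congr rfl (fun j _ => ?_)
    ring
  have hsq : ∑ i, ∑ j, A i j * m i * m j * (c i - c j) ^ 2 =
      ∑ i, ∑ j, A i j * m i * m j * c i ^ 2 + ∑ i, ∑ j, A i j * m i * m j * c j ^ 2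
        - 2 * ∑ i, ∑ j, A i j * m i * m j * (c i * c j) := by
    rw [Finset.mul_sum, ← Finset.sum_add_distrib, ← Finset.sum_sub_distrib]
    refine Finset.sum_congr rfl (fun i _ => ?_)
    rw [Finset.mul_sum, ← Finset.sum_add_distrib, ← Finset.sum_sub_distrib]
    refine Finset.sum_congr rfl (fun j _ => ?_)
    ring
  rw [hsq, hd, ← hS12, hq]; ring

/-- Connectedness forces a function which is constant along edges to be constant. -/
theorem const_of_connected {R α : Type*} [Zero R] {n : ℕ} (A : Matrix (Fin n) (Fin n) R)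
    (hconn : ∀ I : Finset (Fin n), I.Nonempty → I ≠ univ → ∃ i ∈ I, ∃ j ∉ I, A i j ≠ 0)
    (c : Fin n → α) (h : ∀ i j, A i j ≠ 0 → c i = c j) (i j : Fin n) : c i = c j := by
  classical
  by_contra hne
  have hI : (univ.filter (fun k => c k = c i)).Nonempty := ⟨i, by simp⟩
  have hI' : univ.filter (fun k => c k = c i) ≠ univ := by
    intro heq
    have : j ∈ univ.filter (fun k => c k = c i) := by rw [heq]; exact Finset.mem_univ j
    simp only [Finset.mem_filter, Finset.mem_univ, true_and] at this
    exact hne this.symm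
  obtain ⟨a, ha, b, hb, hab⟩ := hconn _ hI hI'
  simp only [Finset.mem_filter, Finset.mem_univ, true_and] at ha hb
  exact hb ((h a b hab).symm.trans ha)

end Groth.Agent.H11
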