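import Groth.Agent.H11.NumType
import Groth.Agent.S2171
import Mathlib.LinearAlgebra.Dimension.Localization
import Mathlib.LinearAlgebra.Dimension.RankNullity
import Mathlib.Tactic

set_option autoImplicit false
open Finset

namespace Groth.Agent.H11.NT

variable {n : ℕ} (T : Models.NumericalType n)

/-- Integer vectors in the kernel of `a` are proportional to `m`. -/
theorem ker_int (v : Fin n → ℤ) (hv : T.a.mulVec v = 0) (i j : Fin n) :
    v i * T.m j = v j * T.m i := by
  let f : ℤ →+* ℝ := Int.castRingHom ℝ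
  have hsymm : (T.a.map f).IsSymm := T.symm.map f
  have hA : ∀ i j, i ≠ j → 0 ≤ (T.a.map f) i j := by
    intro i j hij
    simp only [Matrix.map_apply, f, Int.coe_castRingHom]
    exact_mod_cast T.offDiag_nonneg i j hij
  have hm : ∀ i, 0 < (f ∘ T.m) i := by
    intro i
    simp only [Function.comp_apply, f, Int.coe_castRingHom]
    exact_mod_cast T.m_pos i
  have hAm : (T.a.map f).mulVec (f ∘ T.m) = 0 := by
    ext i
    rw [← RingHom.map_mulVec, T.mulVec_m]
    simp
  have hconn : ∀ I : Finset (Fin n), I.Nonempty → I ≠ univ →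
      ∃ i ∈ I, ∃ j ∉ I, (T.a.map f) i j ≠ 0 := by
    intro I h1 h2
    obtain ⟨i, hi, j, hj, hij⟩ := T.connected I h1 h2
    refine ⟨i, hi, j, hj, ?_⟩
    simp only [Matrix.map_apply, f, Int.coe_castRingHom]
    exact_mod_cast hij
  have hAv : (T.a.map f).mulVec (f ∘ v) = 0 := by
    ext i
    rw [← RingHom.map_mulVec, hv]
    simp
  have h := (Groth.Agent.S2171.result (T.a.map f) (f ∘ T.m) hsymm hA hm hAm hconn (f ∘ v)).2
  have h0 : dotProduct (f ∘ v) ((T.a.map f).mulVec (f ∘ v)) = 0 := by
    rw [hAv]; simp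
  obtain ⟨q, hq⟩ := h.1 h0
  have hi := congr_fun hq i
  have hj := congr_fun hq j
  simp only [Function.comp_apply, Pi.smul_apply, smul_eq_mul, f, Int.coe_castRingHom] at hi hj
  have : ((v i * T.m j : ℤ) : ℝ) = ((v j * T.m i : ℤ) : ℝ) := by
    push_cast
    rw [hi, hj]
    ring
  exact_mod_cast this

/-- The kernel of an integer matrix whose kernel consists of vectors proportional to a positive
vector `m` in the kernel has rank one. -/
theorem finrank_ker_eq_one (hn : 0 < n) (P : Matrix (Fin n) (Fin n) ℤ) (m : Fin n → ℤ)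
    (hm : ∀ i, 0 < m i) (hPm : P.mulVec m = 0)
    (hker : ∀ v : Fin n → ℤ, P.mulVec v = 0 → ∀ i j, v i * m j = v j * m i) :
    Module.finrank ℤ (LinearMap.ker (Matrix.mulVecLin P)) = 1 := by
  let i0 : Fin n := ⟨0, hn⟩
  apply le_antisymm
  · -- injective map to ℤ
    let φ : LinearMap.ker (Matrix.mulVecLin P) →ₗ[ℤ] ℤ :=
      (LinearMap.proj i0).comp (Submodule.subtype _)
    have hφ : Function.Injective φ := by
      rw [injective_iff_map_eq_zero]
      intro v hv
      have hv0 : v.1 i0 = 0 := hv
      have hvk : P.mulVec v.1 = 0 := by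
        have := v.2
        rw [LinearMap.mem_ker, Matrix.mulVecLin_apply] at this
        exact this
      ext j
      have := hker v.1 hvk j i0
      rw [hv0, zero_mul] at this
      rcases mul_eq_zero.1 this with h | h
      · simpa using h
      · exact absurd h (hm i0).ne'
    have := LinearMap.finrank_le_finrank_of_injective hφ
    simpa using this
  · rw [Nat.succ_le_iff, Module.finrank_pos_iff_exists_ne_zero]
    refine ⟨⟨m, ?_⟩, ?_⟩
    · rw [LinearMap.mem_ker, Matrix.mulVecLin_apply]; exact hPm
    · intro h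
      have := congr_arg (fun v : LinearMap.ker (Matrix.mulVecLin P) => v.1 i0) h
      simp only [Submodule.coe_zero, Pi.zero_apply] at this
      exact (hm i0).ne' this

/-- Cokernel has rank one. -/
theorem finrank_coker_eq_one (hn : 0 < n) (P : Matrix (Fin n) (Fin n) ℤ) (m : Fin n → ℤ)
    (hm : ∀ i, 0 < m i) (hPm : P.mulVec m = 0)
    (hker : ∀ v : Fin n → ℤ, P.mulVec v = 0 → ∀ i j, v i * m j = v j * m i) :
    Module.finrank ℤ ((Fin n → ℤ) ⧸ LinearMap.range (Matrix.mulVecLin P)) = 1 := by
  have h1 := finrank_ker_eq_one hn P m hm hPm hker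
  have h2 := Submodule.finrank_quotient_add_finrank (LinearMap.ker (Matrix.mulVecLin P))
  have h3 := Submodule.finrank_quotient_add_finrank (LinearMap.range (Matrix.mulVecLin P))
  have h4 : Module.finrank ℤ ((Fin n → ℤ) ⧸ LinearMap.ker (Matrix.mulVecLin P)) =
      Module.finrank ℤ (LinearMap.range (Matrix.mulVecLin P)) :=
    LinearEquiv.finrank_eq (LinearMap.quotKerEquivRange (Matrix.mulVecLin P))
  have h5 : Module.finrank ℤ (Fin n → ℤ) = n := by simp
  omega

end Groth.Agent.H11.NT
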