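import Groth.Prelude.Def_Models
import Mathlib.Tactic

set_option autoImplicit false
open Finset

namespace Groth.Agent.H11

open Models

/-- Double sums of a symmetric integer function agree with the diagonal sum modulo 2. -/
theorem sum_sum_symm_mod_two : ∀ {n : ℕ} (f : Fin n → Fin n → ℤ) (_ : ∀ i j, f i j = f j i),
    ∃ k : ℤ, ∑ i, ∑ j, f i j = ∑ i, f i i + 2 * k := by
  intro n
  induction n with
  | zero => intro f _; exact ⟨0, by simp⟩
  | succ n ih =>
    intro f hf
    obtain ⟨k, hk⟩ := ih (fun i j => f i.succ j.succ) (fun i j => hf _ _)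
    refine ⟨k + ∑ j : Fin n, f 0 j.succ, ?_⟩
    rw [Fin.sum_univ_succ, Fin.sum_univ_succ]
    have h1 : ∑ i : Fin n, ∑ j : Fin (n + 1), f i.succ j =
        ∑ i : Fin n, f 0 i.succ + ∑ i : Fin n, ∑ j : Fin n, f i.succ j.succ := by
      rw [← Finset.sum_add_distrib]
      refine Finset.sum_congr rfl (fun i _ => ?_)
      rw [Fin.sum_univ_succ, hf i.succ 0]
    rw [h1, hk, Fin.sum_univ_succ (fun i => f i i)]
    ring

namespace NT

variable {n : ℕ} (T : NumericalType n)

theorem row_sum (i : Fin n) : ∑ j, T.a i j * T.m j = 0 := by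
  have := congr_fun T.mulVec_m i
  simpa [Matrix.mulVec, dotProduct] using this

theorem a_symm (i j : Fin n) : T.a i j = T.a j i := (T.symm.apply i j).symm

theorem row_split (i : Fin n) : T.a i i * T.m i + ∑ j ∈ univ.erase i, T.a i j * T.m j = 0 := by
  rw [Finset.add_sum_erase univ (fun j => T.a i j * T.m j) (Finset.mem_univ i)]
  exact row_sum T i

theorem offdiag_sum_nonneg (i : Fin n) : 0 ≤ ∑ j ∈ univ.erase i, T.a i j * T.m j :=
  Finset.sum_nonneg (fun j hj =>
    mul_nonneg (T.offDiag_nonneg i j (Finset.ne_of_mem_erase hj).symm) (T.m_pos j).le)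

theorem diag_nonpos (i : Fin n) : T.a i i ≤ 0 := by
  have h1 := row_split T i
  have h2 := offdiag_sum_nonneg T i
  have h3 : T.a i i * T.m i ≤ 0 := by linarith
  by_contra hpos
  rw [not_le] at hpos
  have := mul_pos hpos (T.m_pos i)
  linarith

/-- Off-diagonal term bound: `a i j * m j ≤ - a i i * m i` for `j ≠ i`. -/
theorem offdiag_le (i j : Fin n) (hij : j ≠ i) : T.a i j * T.m j ≤ -(T.a i i * T.m i) := by
  have h1 := row_split T i
  have h2 : T.a i j * T.m j ≤ ∑ k ∈ univ.erase i, T.a i k * T.m k :=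
    Finset.single_le_sum (f := fun k => T.a i k * T.m k)
      (fun k hk => mul_nonneg (T.offDiag_nonneg i k (Finset.ne_of_mem_erase hk).symm)
        (T.m_pos k).le)
      (Finset.mem_erase.2 ⟨hij, Finset.mem_univ j⟩)
  linarith

theorem exists_pos_offdiag (hn : 1 < n) (i : Fin n) : ∃ j, j ≠ i ∧ 0 < T.a i j := by
  have hne : ({i} : Finset (Fin n)) ≠ univ := by
    intro h
    have := congr_arg Finset.card h
    simp at this
    omega
  obtain ⟨i', hi', j, hj, hij⟩ := T.connected {i} ⟨i, Finset.mem_singleton_self i⟩ hne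
  rw [Finset.mem_singleton] at hi' hj
  subst hi'
  refine ⟨j, hj, lt_of_le_of_ne (T.offDiag_nonneg i' j (Ne.symm hj)) (Ne.symm hij)⟩

theorem diag_neg (hn : 1 < n) (i : Fin n) : T.a i i < 0 := by
  obtain ⟨j, hji, hpos⟩ := exists_pos_offdiag T hn i
  have h1 := offdiag_le T i j hji
  have h2 : 0 < T.a i j * T.m j := mul_pos hpos (T.m_pos j)
  have h3 : T.a i i * T.m i < 0 := by linarith
  by_contra hge
  rw [not_lt] at hge
  have := mul_nonneg hge (T.m_pos i).le
  linarith

theorem two_dvd_sum : (2 : ℤ) ∣ ∑ i, T.m i * T.a i i := by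
  obtain ⟨k, hk⟩ := sum_sum_symm_mod_two (fun i j => T.m i * T.a i j * T.m j)
    (fun i j => by rw [a_symm T i j]; ring)
  have h0 : ∑ i, ∑ j, T.m i * T.a i j * T.m j = 0 := by
    refine Finset.sum_eq_zero (fun i _ => ?_)
    have : ∑ j, T.m i * T.a i j * T.m j = T.m i * ∑ j, T.a i j * T.m j := by
      rw [Finset.mul_sum]; exact Finset.sum_congr rfl (fun j _ => by ring)
    rw [this, row_sum T i, mul_zero]
  rw [h0] at hk
  -- Σ m_i a_ii = Σ m_i a_ii m_i - Σ (m_i^2 - m_i) a_ii
  have hev : ∀ i, ∃ t : ℤ, T.m i * T.m i - T.m i = 2 * t := by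
    intro i
    obtain ⟨t, ht⟩ := Int.even_mul_pred_self (T.m i)
    exact ⟨t, by rw [mul_sub, mul_one] at ht; omega⟩
  choose t ht using hev
  have h1 : ∑ i, T.m i * T.a i i = ∑ i, T.m i * T.a i i * T.m i - 2 * ∑ i, t i * T.a i i := by
    rw [Finset.mul_sum, ← Finset.sum_sub_distrib]
    refine Finset.sum_congr rfl (fun i _ => ?_)
    have := ht i
    have h2 : T.m i * T.a i i * T.m i = (T.m i * T.m i) * T.a i i := by ring
    rw [h2]
    have h3 : T.m i * T.m i = T.m i + 2 * t i := by omega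
    rw [h3]; ring
  rw [h1]
  refine ⟨-k - ∑ i, t i * T.a i i, ?_⟩
  have : ∑ i, T.m i * T.a i i * T.m i = -(2 * k) := by linarith
  rw [this]; ring

end NT

end Groth.Agent.H11
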