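import Mathlib
import Groth.Agent.H29.Vasc1
import Groth.Agent.H78.CosetAvoid

/-!
# A nonzerodivisor generating a free rank-one submodule of the conormal module
-/

set_option autoImplicit false

open CategoryTheory IsLocalRing

namespace Groth.Agent.H11.NzdSummand

universe u

theorem main {R : Type u} [CommRing R] [IsNoetherianRing R] [IsLocalRing R] (I : Ideal R) (n : ℕ)
    (hpd : HasProjectiveDimensionLT (ModuleCat.of R I) n)
    (F : Submodule (R ⧸ I) I.Cotangent) (e : F ≃ₗ[R ⧸ I] (R ⧸ I)) :
    ∃ (x : R) (hx : x ∈ I), x ∈ nonZeroDivisors R ∧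
      Submodule.span (R ⧸ I) {I.toCotangent ⟨x, hx⟩} = F := by
  classical
  -- the generator of `F`
  have hFgen : Submodule.span (R ⧸ I) {((e.symm 1 : F) : I.Cotangent)} = F := by
    apply le_antisymm
    · rw [Submodule.span_le, Set.singleton_subset_iff]
      exact (e.symm 1).2
    · intro y hy
      have : (⟨y, hy⟩ : F) = e (⟨y, hy⟩ : F) • e.symm 1 := by
        rw [← map_smul, smul_eq_mul, mul_one, LinearEquiv.symm_apply_apply]
      have h2 := congrArg (fun z : F => (z : I.Cotangent)) this
      simp only [Submodule.coe_smul] at h2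
      rw [h2]
      exact Submodule.smul_mem _ _ (Submodule.subset_span rfl)
  by_cases hItop : I = ⊤
  · -- trivial case
    haveI : Subsingleton (R ⧸ I) := by
      rw [hItop]
      exact Ideal.Quotient.subsingleton_iff.mpr rfl
    haveI : Subsingleton I.Cotangent := Module.subsingleton (R ⧸ I) _
    refine ⟨1, by rw [hItop]; trivial, one_mem _, ?_⟩
    exact Subsingleton.elim _ _
  · haveI : Nontrivial (R ⧸ I) := Ideal.Quotient.nontrivial_iff.mpr hItop
    have hI0 : I ≠ ⊥ := by
      intro h0
      have hsub : Subsingleton I.Cotangent := by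
        have : Subsingleton I := by
          rw [h0]
          infer_instance
        exact Function.Surjective.subsingleton I.toCotangent_surjective
      have : Subsingleton F := inferInstance
      have h01 : (1 : R ⧸ I) = 0 := by
        rw [← e.apply_symm_apply 1, Subsingleton.elim (e.symm 1) 0, map_zero]
      exact one_ne_zero h01
    obtain ⟨e₀, he₀⟩ := I.toCotangent_surjective ((e.symm 1 : F) : I.Cotangent)
    have hpd' : HasProjectiveDimensionLT (ModuleCat.of R I) (n + 1) :=
      hasProjectiveDimensionLT_of_ge _ n _ (Nat.le_succ _)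
    have hass := fun p hp =>
      Groth.Agent.H29.Vasc.not_le_of_mem_associatedPrimes I hI0 n hpd' p hp
    have hfin : (associatedPrimes R R).Finite := associatedPrimes.finite R R
    obtain ⟨y, hy, havoid⟩ := Groth.Agent.H78.coset_prime_avoidance hfin.toFinset
      (fun P hP => (AssociatedPrimes.mem_iff.mp (hfin.mem_toFinset.mp hP)).isPrime)
      (e₀ : R) (I ^ 2) (by
        intro P hP ⟨_, hle⟩
        have hPprime := (AssociatedPrimes.mem_iff.mp (hfin.mem_toFinset.mp hP)).isPrime
        exact hass P (hfin.mem_toFinset.mp hP) (hPprime.le_of_pow_le hle))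
    have hyI : y ∈ I := Ideal.pow_le_self two_ne_zero hy
    have hxI : (e₀ : R) + y ∈ I := I.add_mem e₀.2 hyI
    refine ⟨(e₀ : R) + y, hxI, ?_, ?_⟩
    · -- nonzerodivisor
      rw [mem_nonZeroDivisors_iff_right]
      intro z hz
      by_contra hz0
      -- `x` lies in an associated prime
      have hmem : (e₀ : R) + y ∈ ⋃ p ∈ associatedPrimes R R, (p : Set R) := by
        rw [biUnion_associatedPrimes_eq_zero_divisors]
        exact ⟨z, hz0, by rw [smul_eq_mul, mul_comm]; exact hz⟩
      simp only [Set.mem_iUnion, SetLike.mem_coe] at hmem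
      obtain ⟨p, hp, hxp⟩ := hmem
      exact havoid p (hfin.mem_toFinset.mpr hp) hxp
    · rw [← hFgen, ← he₀]
      congr 2
      rw [Ideal.toCotangent_eq]
      simpa using hy

end Groth.Agent.H11.NzdSummand
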