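import Mathlib
import Groth.Prelude.Def_Flat
import Groth.Prelude.Def_FlatMod2
import Groth.Prelude.Def_Omega2
import Groth.Prelude.Def_Omega3
import Groth.Prelude.Def_Omega4
import Groth.Agent.H44.OmegaSections
import Groth.Agent.H44.AffineFree
import Groth.Agent.H44.OmegaLocal
import Groth.Agent.H44.OmegaUniversal
import Groth.Agent.H11.FtChart
import Groth.Agent.H11.CurveDVR
import Groth.Agent.H11.SmoothDim2
import Groth.Agent.H11.OmegaSmooth
import Groth.Agent.H11.CotSmoothSch
import Groth.Agent.H47.RegSmoothField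

/-!
# `Ω_{X/k}` locally free of rank `dim X` iff `X` regular (k algebraically closed)
-/

set_option autoImplicit false
universe u
open CategoryTheory CategoryTheory.Limits AlgebraicGeometry TopologicalSpace TensorProduct
  KaehlerDifferential

namespace Groth.Agent.H11.OmegaReg

open Groth.Agent.H11.FtChart Groth.Agent.H44

/-- Kähler differentials do not change when the base ring is replaced by a quotient of it. -/
noncomputable def kaehlerEquivOfSurjective (k Γ B : Type u) [CommRing k] [CommRing Γ] [CommRing B]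
    [Algebra k Γ] [Algebra Γ B] [Algebra k B] [IsScalarTower k Γ B]
    (h : Function.Surjective (algebraMap k Γ)) : Ω[B⁄k] ≃ₗ[B] Ω[B⁄Γ] :=
  LinearEquiv.ofBijective (KaehlerDifferential.map k Γ B B) ⟨by
    haveI := KaehlerDifferential.subsingleton_of_surjective k Γ h
    have hex := KaehlerDifferential.exact_mapBaseChange_map k Γ B
    rw [← LinearMap.ker_eq_bot, hex.linearMap_ker_eq, LinearMap.range_eq_bot]
    exact Subsingleton.elim _ _,
    KaehlerDifferential.map_surjective k Γ B⟩

/-- Over an algebraically closed field every reduced algebra is geometrically reduced. -/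
theorem isGeometricallyReduced_of_isAlgClosed (k : Type u) [Field k] [IsAlgClosed k]
    (A : Type u) [CommRing A] [Algebra k A] [IsReduced A] : Algebra.IsGeometricallyReduced k A := by
  rw [Algebra.isGeometricallyReduced_field_iff]
  have hb : Function.Bijective (algebraMap k (AlgebraicClosure k)) :=
    IsAlgClosed.algebraMap_bijective_of_isIntegral
  let e : k ≃ₐ[k] AlgebraicClosure k := AlgEquiv.ofBijective (Algebra.ofId k _) hb
  exact isReduced_of_injective
    ((Algebra.TensorProduct.congr e.symm (AlgEquiv.refl (R := k) (A₁ := A))).trans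
      (Algebra.TensorProduct.lid k A))
    ((Algebra.TensorProduct.congr e.symm (AlgEquiv.refl (R := k) (A₁ := A))).trans
      (Algebra.TensorProduct.lid k A)).injective

variable (k : Type u) [Field k]

/-- If `Ω_{X/k}` is free of rank `n = dim_x X` near `x`, then `X` is smooth over `k` at `x`. -/
theorem mem_smoothLocus_of_free {X : Scheme.{u}} [X.Over (Spec (CommRingCat.of k))]
    [LocallyOfFiniteType (X ↘ Spec (CommRingCat.of k))]
    [QuasiSeparated (X ↘ Spec (CommRingCat.of k))]
    (n : ℕ) (x : X) (hdim : FlatMor.localDim X x = n) (U₀ : X.Opens) (hxU₀ : x ∈ U₀)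
    (e₀ : (Omega.sheaf (X ↘ Spec (CommRingCat.of k))).restrict U₀.ι ≅
      FlatMod.freeMod U₀.toScheme n) :
    x ∈ (X ↘ Spec (CommRingCat.of k)).smoothLocus := by
  haveI : LocallyOfFinitePresentation (X ↘ Spec (CommRingCat.of k)) :=
    LocallyOfFinitePresentation.iff_locallyOfFiniteType.mpr inferInstance
  obtain ⟨U, hU, hxU, hUU₀⟩ := Opens.isBasis_iff_nbhd.mp X.isBasis_affineOpens hxU₀
  have hU : IsAffineOpen U := hU
  letI := secAlgebra k X U
  haveI := finiteType_sec k X hU
  rw [Groth.Agent.H11.CurveDVR.mem_smoothLocus_iff k hU x hxU,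
    Groth.Agent.H11.SmoothDim2.isSmoothAt_iff_finrank_le_localDim, ← localDim_eq hU x hxU, hdim]
  letI algΓ : Algebra Γ(Spec (CommRingCat.of k), ⊤) Γ(X, U) :=
    ((X ↘ Spec (CommRingCat.of k)).appLE ⊤ U le_top).hom.toAlgebra
  letI algk : Algebra k Γ(Spec (CommRingCat.of k), ⊤) :=
    (Scheme.ΓSpecIso (CommRingCat.of k)).inv.hom.toAlgebra
  haveI : IsScalarTower k Γ(Spec (CommRingCat.of k), ⊤) Γ(X, U) :=
    IsScalarTower.of_algebraMap_eq fun c => rfl
  have hsurj : Function.Surjective (algebraMap k Γ(Spec (CommRingCat.of k), ⊤)) :=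
    (ConcreteCategory.bijective_of_isIso (Scheme.ΓSpecIso (CommRingCat.of k)).inv).2
  obtain ⟨b₀⟩ := nonempty_basis_of_iso_freeMod (Omega.sheaf (X ↘ Spec (CommRingCat.of k))) hU
    hUU₀ e₀
  let b : Module.Basis (Fin n) Γ(X, U) Ω[Γ(X, U)⁄k] :=
    (b₀.map (omegaSectionsEquiv (X ↘ Spec (CommRingCat.of k)) hU (isAffineOpen_top _) le_top)).map
      (kaehlerEquivOfSurjective k Γ(Spec (CommRingCat.of k), ⊤) Γ(X, U) hsurj).symm
  rw [Module.finrank_eq_card_basis
    (b.baseChange (hU.primeIdealOf ⟨x, hxU⟩).asIdeal.ResidueField), Fintype.card_fin]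
  exact le_rfl

/-- Over an algebraically closed field, smooth points are exactly the regular points. -/
theorem mem_smoothLocus_iff_isRegularLocalRing [IsAlgClosed k] {X : Scheme.{u}}
    [X.Over (Spec (CommRingCat.of k))] [LocallyOfFiniteType (X ↘ Spec (CommRingCat.of k))]
    (x : X) :
    x ∈ (X ↘ Spec (CommRingCat.of k)).smoothLocus ↔ IsRegularLocalRing (X.presheaf.stalk x) := by
  haveI : LocallyOfFinitePresentation (X ↘ Spec (CommRingCat.of k)) :=
    LocallyOfFinitePresentation.iff_locallyOfFiniteType.mpr inferInstance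
  obtain ⟨V, hV, hxV, -⟩ := Opens.isBasis_iff_nbhd.mp X.isBasis_affineOpens
    (show x ∈ (⊤ : X.Opens) from trivial)
  have hV : IsAffineOpen V := hV
  letI := secAlgebra k X V
  haveI := finiteType_sec k X hV
  rw [Groth.Agent.H11.CurveDVR.mem_smoothLocus_iff k hV x hxV]
  letI algA := X.presheaf.algebra_section_stalk ⟨x, hxV⟩
  haveI := hV.isLocalization_stalk ⟨x, hxV⟩
  let e₁ : Localization.AtPrime (hV.primeIdealOf ⟨x, hxV⟩).asIdeal ≃ₐ[Γ(X, V)]
      X.presheaf.stalk x :=
    IsLocalization.algEquiv (hV.primeIdealOf ⟨x, hxV⟩).asIdeal.primeCompl _ _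
  haveI : Algebra.IsGeometricallyReduced k (hV.primeIdealOf ⟨x, hxV⟩).asIdeal.ResidueField :=
    isGeometricallyReduced_of_isAlgClosed k _
  rw [Groth.Agent.H47.RSF.isSmoothAt_iff_isRegularLocalRing k Γ(X, V)
    (hV.primeIdealOf ⟨x, hxV⟩).asIdeal]
  exact ⟨fun h => IsRegularLocalRing.of_ringEquiv e₁.toRingEquiv,
      fun h => IsRegularLocalRing.of_ringEquiv e₁.toRingEquiv.symm⟩

/-- Transfer of local freeness along an isomorphism. -/
theorem isFinLocFreeOfRank_of_iso {X : Scheme.{u}} {M N : X.Modules} (ε : M ≅ N) (n : ℕ)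
    (h : FlatMod.IsFinLocFreeOfRank n M) : FlatMod.IsFinLocFreeOfRank n N := by
  intro x
  obtain ⟨U, hxU, ⟨e⟩⟩ := h x
  exact ⟨U, hxU, ⟨(Scheme.Modules.restrictFunctor U.ι).mapIso ε.symm ≪≫ e⟩⟩

theorem localDim_spec_field (y : Spec (CommRingCat.of k)) :
    FlatMor.localDim (Spec (CommRingCat.of k)) y = ((0 : ℕ) : WithBot ℕ∞) := by
  refine Groth.Agent.H11.OmegaSmooth.localDim_eq_of_irreducible k (𝟙 _) 0 ?_ y
  change topologicalKrullDim (PrimeSpectrum k) = _
  rw [PrimeSpectrum.topologicalKrullDim_eq_ringKrullDim, ringKrullDim_eq_zero_of_field]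
  rfl

/-- **Hartshorne II.8.8 / II.8.15**: for an irreducible scheme of finite type over an
algebraically closed field, `Ω_{X/k}` is locally free of rank `dim X` iff `X` is regular. -/
theorem isFinLocFreeOfRank_omega_iff_regular [IsAlgClosed k] (n : ℕ) {X : Scheme.{u}}
    [X.Over (Spec (CommRingCat.of k))] [IrreducibleSpace ↥X]
    [QuasiSeparated (X ↘ Spec (CommRingCat.of k))]
    [LocallyOfFiniteType (X ↘ Spec (CommRingCat.of k))]
    (hn : topologicalKrullDim ↥X = (n : WithBot ℕ∞)) :
    FlatMod.IsFinLocFreeOfRank n (Omega.sheaf (X ↘ Spec (CommRingCat.of k))) ↔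
      ∀ x : ↥X, IsRegularLocalRing ↑(X.presheaf.stalk x) := by
  have hld : ∀ x : X, FlatMor.localDim X x = n := fun x =>
    Groth.Agent.H11.OmegaSmooth.localDim_eq_of_irreducible k (X ↘ Spec (CommRingCat.of k)) n hn x
  constructor
  · intro h x
    obtain ⟨U₀, hx, ⟨e₀⟩⟩ := h x
    exact (mem_smoothLocus_iff_isRegularLocalRing k x).mp
      (mem_smoothLocus_of_free k n x (hld x) U₀ hx e₀)
  · intro h
    haveI : LocallyOfFinitePresentation (X ↘ Spec (CommRingCat.of k)) :=
      LocallyOfFinitePresentation.iff_locallyOfFiniteType.mpr inferInstance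
    haveI hs : Smooth (X ↘ Spec (CommRingCat.of k)) := by
      rw [← Scheme.Hom.smoothLocus_eq_top_iff, eq_top_iff]
      intro x _
      exact (mem_smoothLocus_iff_isRegularLocalRing k x).mpr (h x)
    haveI : IsLocallyNoetherian X :=
      LocallyOfFiniteType.isLocallyNoetherian (X ↘ Spec (CommRingCat.of k))
    haveI : SmoothOfRelativeDimension n (X ↘ Spec (CommRingCat.of k)) :=
      Groth.Agent.H11.CotSmoothSch.smoothOfRelativeDimension_of_smooth
        (X ↘ Spec (CommRingCat.of k)) n 0 (localDim_spec_field k)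
        (fun x => by rw [hld x, zero_add])
    exact Groth.Agent.H11.OmegaSmooth.isFinLocFreeOfRank_of_smooth _ n

end Groth.Agent.H11.OmegaReg
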