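import Mathlib
import Groth.Prelude.Def_Flat
import Groth.Prelude.Def_FlatMod2
import Groth.Prelude.Def_Omega2
import Groth.Prelude.Def_Omega3
import Groth.Prelude.Def_Omega4
import Groth.Agent.H44.OmegaSections
import Groth.Agent.H44.AffineFree
import Groth.Agent.H44.OmegaLocal
import Groth.Agent.H44.UniversalFinite
import Groth.Agent.H44.BaseChangeOmega
import Groth.Agent.H11.FtChart
import Groth.Agent.H11.CurveDVR
import Groth.Agent.H11.SmoothDim2
import Groth.Agent.H11.OmegaReg
import Groth.Agent.H25.FibreSmoothPt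
import Groth.Agent.H51.SmoothFibreDim

/-!
# Smoothness at a point from flatness and freeness of the differentials
(EGA IV 17.10.2 / 17.15.?): `f` is smooth at `x` iff `f` is flat at `x` and `Ω_{X/Y}` is free near
`x` of rank the local dimension of the fibre.
-/

set_option autoImplicit false
universe u
open CategoryTheory CategoryTheory.Limits AlgebraicGeometry TopologicalSpace TensorProduct
  KaehlerDifferential

namespace Groth.Agent.H11.SmoothFree

open Groth.Agent.H11.FtChart Groth.Agent.H44 Groth.Agent.H11.OmegaReg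

section field

variable (k : Type u) [Field k]

/-- Chart-level criterion: if `Ω_{X/k}` is free of rank `n ≤ dim_x X` on an affine chart around
`x`, then `X` is smooth over `k` at `x`. -/
theorem mem_smoothLocus_of_basis {X : Scheme.{u}} [X.Over (Spec (CommRingCat.of k))]
    [LocallyOfFiniteType (X ↘ Spec (CommRingCat.of k))]
    (n : ℕ) (x : X) (hdim : (n : WithBot ℕ∞) ≤ FlatMor.localDim X x) {U : X.Opens}
    (hU : IsAffineOpen U) (hxU : x ∈ U)
    (b : letI := ((X ↘ Spec (CommRingCat.of k)).appLE ⊤ U le_top).hom.toAlgebra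
      Module.Basis (Fin n) Γ(X, U) Ω[Γ(X, U)⁄Γ(Spec (CommRingCat.of k), ⊤)]) :
    x ∈ (X ↘ Spec (CommRingCat.of k)).smoothLocus := by
  haveI : LocallyOfFinitePresentation (X ↘ Spec (CommRingCat.of k)) :=
    LocallyOfFinitePresentation.iff_locallyOfFiniteType.mpr inferInstance
  letI := secAlgebra k X U
  haveI := finiteType_sec k X hU
  rw [Groth.Agent.H11.CurveDVR.mem_smoothLocus_iff k hU x hxU,
    Groth.Agent.H11.SmoothDim2.isSmoothAt_iff_finrank_le_localDim, ← localDim_eq hU x hxU]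
  letI algΓ : Algebra Γ(Spec (CommRingCat.of k), ⊤) Γ(X, U) :=
    ((X ↘ Spec (CommRingCat.of k)).appLE ⊤ U le_top).hom.toAlgebra
  letI algk : Algebra k Γ(Spec (CommRingCat.of k), ⊤) :=
    (Scheme.ΓSpecIso (CommRingCat.of k)).inv.hom.toAlgebra
  haveI : IsScalarTower k Γ(Spec (CommRingCat.of k), ⊤) Γ(X, U) :=
    IsScalarTower.of_algebraMap_eq fun c => rfl
  have hsurj : Function.Surjective (algebraMap k Γ(Spec (CommRingCat.of k), ⊤)) :=
    (ConcreteCategory.bijective_of_isIso (Scheme.ΓSpecIso (CommRingCat.of k)).inv).2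
  let b' : Module.Basis (Fin n) Γ(X, U) Ω[Γ(X, U)⁄k] :=
    b.map (kaehlerEquivOfSurjective k Γ(Spec (CommRingCat.of k), ⊤) Γ(X, U) hsurj).symm
  rw [Module.finrank_eq_card_basis
    (b'.baseChange (hU.primeIdealOf ⟨x, hxU⟩).asIdeal.ResidueField), Fintype.card_fin]
  exact hdim

end field

section fibre

variable {X Y : Scheme.{u}} (f : X ⟶ Y)

/-- The fibre chart: if `Ω_{B/A}` is free of rank `n` on an affine chart `U → V`, then the fibre
through `x` has an affine chart around `x` on which its differentials are free of rank `n`. -/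
theorem exists_basis_fibre (x : X) {U : X.Opens} (hU : IsAffineOpen U) {V : Y.Opens}
    (hV : IsAffineOpen V) (e : U ≤ f ⁻¹ᵁ V) (hxU : x ∈ U) (n : ℕ)
    (b : letI := (f.appLE V U e).hom.toAlgebra
      Module.Basis (Fin n) Γ(X, U) Ω[Γ(X, U)⁄Γ(Y, V)]) :
    ∃ (W : (f.fiber (f x)).Opens) (_ : IsAffineOpen W), f.asFiber x ∈ W ∧
      letI := ((f.fiberToSpecResidueField (f x)).appLE ⊤ W le_top).hom.toAlgebra
      Nonempty (Module.Basis (Fin n) Γ(f.fiber (f x), W)
        Ω[Γ(f.fiber (f x), W)⁄Γ(Spec (Y.residueField (f x)), ⊤)]) := by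
  set y := f x with hy
  have H : IsPullback (f.fiberι y) (f.fiberToSpecResidueField y) f (Y.fromSpecResidueField y) :=
    IsPullback.of_hasPullback f (Y.fromSpecResidueField y)
  have hyV : y ∈ V := e hxU
  have leV : (⊤ : (Spec (Y.residueField y)).Opens) ≤ (Y.fromSpecResidueField y) ⁻¹ᵁ V := by
    intro z _
    change (Y.fromSpecResidueField y) z ∈ V
    have hz : z = IsLocalRing.closedPoint (Y.residueField y) := Subsingleton.elim _ _
    rw [hz, Scheme.fromSpecResidueField_apply]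
    exact hyV
  let t : BCChart f (Y.fromSpecResidueField y) :=
    ⟨U, V, ⊤, hU, hV, isAffineOpen_top _, e, leV⟩
  set W := t.U' (f.fiberι y) (f.fiberToSpecResidueField y) with hW
  have hWaff : IsAffineOpen W := t.isAffineOpen_U' H
  have hzW : f.asFiber x ∈ W := by
    refine ⟨?_, trivial⟩
    change f.fiberι y (f.asFiber x) ∈ U
    rw [f.fiberι_asFiber]
    exact hxU
  refine ⟨W, hWaff, hzW, ?_⟩
  have le : W ≤ (f.fiberι y) ⁻¹ᵁ U := inf_le_left
  have e' : W ≤ (f.fiberToSpecResidueField y) ⁻¹ᵁ ⊤ := le_top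
  letI algRA : Algebra Γ(Y, V) Γ(X, U) := (f.appLE V U e).hom.toAlgebra
  letI algR'A' : Algebra Γ(Spec (Y.residueField y), ⊤) Γ(f.fiber y, W) :=
    ((f.fiberToSpecResidueField y).appLE ⊤ W le_top).hom.toAlgebra
  letI algAA' : Algebra Γ(X, U) Γ(f.fiber y, W) := ((f.fiberι y).appLE U W le).hom.toAlgebra
  letI algRR' : Algebra Γ(Y, V) Γ(Spec (Y.residueField y), ⊤) :=
    ((Y.fromSpecResidueField y).appLE V ⊤ leV).hom.toAlgebra
  letI algRA' : Algebra Γ(Y, V) Γ(f.fiber y, W) :=
    (f.appLE V U e ≫ (f.fiberι y).appLE U W le).hom.toAlgebra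
  haveI t1 : IsScalarTower Γ(Y, V) Γ(X, U) Γ(f.fiber y, W) := .of_algebraMap_eq' rfl
  have hcomm : f.appLE V U e ≫ (f.fiberι y).appLE U W le =
      (Y.fromSpecResidueField y).appLE V ⊤ leV ≫
        (f.fiberToSpecResidueField y).appLE ⊤ W le_top := by
    rw [Scheme.Hom.appLE_comp_appLE, Scheme.Hom.appLE_comp_appLE]
    exact appLE_congr_hom H.w _ _ _ _
  haveI t2 : IsScalarTower Γ(Y, V) Γ(Spec (Y.residueField y), ⊤) Γ(f.fiber y, W) :=
    .of_algebraMap_eq' congr($(hcomm).hom)
  have hpo := (isIso_pushoutSection_iff H leV e rfl).1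
    (isIso_pushoutSection_of_isAffineOpen H leV e rfl hV (isAffineOpen_top _) hU)
  haveI p1 : Algebra.IsPushout Γ(Y, V) Γ(X, U) Γ(Spec (Y.residueField y), ⊤) Γ(f.fiber y, W) :=
    CommRingCat.isPushout_iff_isPushout.mp hpo
  haveI p2 : Algebra.IsPushout Γ(Y, V) Γ(Spec (Y.residueField y), ⊤) Γ(X, U) Γ(f.fiber y, W) :=
    p1.symm
  exact ⟨(b.baseChange Γ(f.fiber y, W)).map
    (KaehlerDifferential.tensorKaehlerEquiv Γ(Y, V) Γ(Spec (Y.residueField y), ⊤) Γ(X, U)
      Γ(f.fiber y, W))⟩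

/-- **Smoothness from flatness and free differentials** (chart form). -/
theorem mem_smoothLocus_of_flat_of_basis [LocallyOfFinitePresentation f] (x : X)
    (hflat : (f.stalkMap x).hom.Flat) {U : X.Opens} (hU : IsAffineOpen U) {V : Y.Opens}
    (hV : IsAffineOpen V) (e : U ≤ f ⁻¹ᵁ V) (hxU : x ∈ U) (n : ℕ)
    (b : letI := (f.appLE V U e).hom.toAlgebra
      Module.Basis (Fin n) Γ(X, U) Ω[Γ(X, U)⁄Γ(Y, V)])
    (hn : (n : WithBot ℕ∞) ≤ FlatMor.fibreDimAt f x) : x ∈ f.smoothLocus := by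
  haveI : LocallyOfFinitePresentation (f.fiberToSpecResidueField (f x)) :=
    MorphismProperty.pullback_snd _ _ inferInstance
  obtain ⟨W, hW, hzW, ⟨bW⟩⟩ := exists_basis_fibre f x hU hV e hxU n b
  refine Groth.Agent.H25.FibreSmoothPt.mem_smoothLocus_of_flat_of_fibre f x hflat ?_
  letI ovF : (f.fiber (f x)).Over (Spec (CommRingCat.of (Y.residueField (f x)))) :=
    ⟨f.fiberToSpecResidueField (f x)⟩
  haveI : LocallyOfFiniteType
      ((f.fiber (f x)) ↘ Spec (CommRingCat.of (Y.residueField (f x)))) :=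
    (inferInstance : LocallyOfFiniteType (f.fiberToSpecResidueField (f x)))
  exact mem_smoothLocus_of_basis (Y.residueField (f x)) n (f.asFiber x) hn hW hzW bW

end fibre

end Groth.Agent.H11.SmoothFree
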