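import Mathlib
import Groth.Agent.H11.SmoothFree
import Groth.Agent.H11.SmoothDim1
import Groth.Agent.H17.Chev.FibreLocal

/-!
# The local dimension of a fibre is at most the rank of the differentials at the point
-/

set_option autoImplicit false
universe u
open CategoryTheory CategoryTheory.Limits AlgebraicGeometry TopologicalSpace TensorProduct
  KaehlerDifferential

namespace Groth.Agent.H11.OmegaFibreDim

open Groth.Agent.H11.FtChart Groth.Agent.H44 Groth.Agent.H11.OmegaReg

/-- Finite type algebra over a field: the local dimension at a prime is at most the dimension of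
the fibre of the differentials. -/
theorem localDim_le_finrank {k S : Type u} [Field k] [CommRing S] [Algebra k S]
    [Algebra.FiniteType k S] (q : Ideal S) [q.IsPrime] :
    FlatMor.localDim (PrimeSpectrum S) ⟨q, inferInstance⟩ ≤
      ((Module.finrank q.ResidueField (q.ResidueField ⊗[S] Ω[S⁄k]) : ℕ∞) : WithBot ℕ∞) := by
  by_contra h
  rw [not_le] at h
  haveI hs : Algebra.IsSmoothAt k q :=
    (Groth.Agent.H11.SmoothDim2.isSmoothAt_iff_finrank_le_localDim q).mpr h.le
  have := Groth.Agent.H11.SmoothDim1.localDim_eq_finrank_of_isSmoothAt k q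
  rw [this] at h
  exact lt_irrefl _ h

/-- Scheme version over a field, on an affine chart. -/
theorem localDim_le_finrank_sch (k : Type u) [Field k] {X : Scheme.{u}}
    [X.Over (Spec (CommRingCat.of k))] [LocallyOfFiniteType (X ↘ Spec (CommRingCat.of k))]
    (x : X) {U : X.Opens} (hU : IsAffineOpen U) (hxU : x ∈ U) :
    letI := ((X ↘ Spec (CommRingCat.of k)).appLE ⊤ U le_top).hom.toAlgebra
    FlatMor.localDim X x ≤
      ((Module.finrank (hU.primeIdealOf ⟨x, hxU⟩).asIdeal.ResidueField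
        ((hU.primeIdealOf ⟨x, hxU⟩).asIdeal.ResidueField ⊗[Γ(X, U)]
          Ω[Γ(X, U)⁄Γ(Spec (CommRingCat.of k), ⊤)]) : ℕ∞) : WithBot ℕ∞) := by
  letI := secAlgebra k X U
  haveI := finiteType_sec k X hU
  letI algΓ : Algebra Γ(Spec (CommRingCat.of k), ⊤) Γ(X, U) :=
    ((X ↘ Spec (CommRingCat.of k)).appLE ⊤ U le_top).hom.toAlgebra
  letI algk : Algebra k Γ(Spec (CommRingCat.of k), ⊤) :=
    (Scheme.ΓSpecIso (CommRingCat.of k)).inv.hom.toAlgebra
  haveI : IsScalarTower k Γ(Spec (CommRingCat.of k), ⊤) Γ(X, U) :=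
    IsScalarTower.of_algebraMap_eq fun c => rfl
  have hsurj : Function.Surjective (algebraMap k Γ(Spec (CommRingCat.of k), ⊤)) :=
    (ConcreteCategory.bijective_of_isIso (Scheme.ΓSpecIso (CommRingCat.of k)).inv).2
  rw [localDim_eq hU x hxU]
  refine (localDim_le_finrank (k := k) (hU.primeIdealOf ⟨x, hxU⟩).asIdeal).trans (le_of_eq ?_)
  congr 2
  exact (TensorProduct.AlgebraTensorModule.congr
    (LinearEquiv.refl (hU.primeIdealOf ⟨x, hxU⟩).asIdeal.ResidueField
      (hU.primeIdealOf ⟨x, hxU⟩).asIdeal.ResidueField)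
    (kaehlerEquivOfSurjective k Γ(Spec (CommRingCat.of k), ⊤) Γ(X, U) hsurj)).finrank_eq

section fibre

variable {X Y : Scheme.{u}} (f : X ⟶ Y)

/-- The fibre chart, with the comparison of the ranks of the differentials at the point. -/
theorem exists_fibre_chart_finrank (x : X) {U : X.Opens} (hU : IsAffineOpen U) {V : Y.Opens}
    (hV : IsAffineOpen V) (e : U ≤ f ⁻¹ᵁ V) (hxU : x ∈ U) :
    ∃ (W : (f.fiber (f x)).Opens) (hW : IsAffineOpen W) (hzW : f.asFiber x ∈ W),
      letI := (f.appLE V U e).hom.toAlgebra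
      letI := ((f.fiberToSpecResidueField (f x)).appLE ⊤ W le_top).hom.toAlgebra
      Module.finrank (hW.primeIdealOf ⟨f.asFiber x, hzW⟩).asIdeal.ResidueField
        ((hW.primeIdealOf ⟨f.asFiber x, hzW⟩).asIdeal.ResidueField ⊗[Γ(f.fiber (f x), W)]
          Ω[Γ(f.fiber (f x), W)⁄Γ(Spec (Y.residueField (f x)), ⊤)]) =
      Module.finrank (hU.primeIdealOf ⟨x, hxU⟩).asIdeal.ResidueField
        ((hU.primeIdealOf ⟨x, hxU⟩).asIdeal.ResidueField ⊗[Γ(X, U)] Ω[Γ(X, U)⁄Γ(Y, V)]) := by
  set y := f x with hy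
  have H : IsPullback (f.fiberι y) (f.fiberToSpecResidueField y) f (Y.fromSpecResidueField y) :=
    IsPullback.of_hasPullback f (Y.fromSpecResidueField y)
  have hyV : y ∈ V := e hxU
  have leV : (⊤ : (Spec (Y.residueField y)).Opens) ≤ (Y.fromSpecResidueField y) ⁻¹ᵁ V := by
    intro z _
    change (Y.fromSpecResidueField y) z ∈ V
    have hz : z = IsLocalRing.closedPoint (Y.residueField y) := Subsingleton.elim _ _
    rw [hz, Scheme.fromSpecResidueField_apply]
    exact hyV
  let t : BCChart f (Y.fromSpecResidueField y) :=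
    ⟨U, V, ⊤, hU, hV, isAffineOpen_top _, e, leV⟩
  set W := t.U' (f.fiberι y) (f.fiberToSpecResidueField y) with hW
  have hWaff : IsAffineOpen W := t.isAffineOpen_U' H
  have hzW : f.asFiber x ∈ W := by
    refine ⟨?_, trivial⟩
    change f.fiberι y (f.asFiber x) ∈ U
    rw [f.fiberι_asFiber]
    exact hxU
  refine ⟨W, hWaff, hzW, ?_⟩
  have le : W ≤ (f.fiberι y) ⁻¹ᵁ U := inf_le_left
  letI algRA : Algebra Γ(Y, V) Γ(X, U) := (f.appLE V U e).hom.toAlgebra
  letI algR'A' : Algebra Γ(Spec (Y.residueField y), ⊤) Γ(f.fiber y, W) :=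
    ((f.fiberToSpecResidueField y).appLE ⊤ W le_top).hom.toAlgebra
  letI algAA' : Algebra Γ(X, U) Γ(f.fiber y, W) := ((f.fiberι y).appLE U W le).hom.toAlgebra
  letI algRR' : Algebra Γ(Y, V) Γ(Spec (Y.residueField y), ⊤) :=
    ((Y.fromSpecResidueField y).appLE V ⊤ leV).hom.toAlgebra
  letI algRA' : Algebra Γ(Y, V) Γ(f.fiber y, W) :=
    (f.appLE V U e ≫ (f.fiberι y).appLE U W le).hom.toAlgebra
  haveI t1 : IsScalarTower Γ(Y, V) Γ(X, U) Γ(f.fiber y, W) := .of_algebraMap_eq' rfl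
  have hcomm : f.appLE V U e ≫ (f.fiberι y).appLE U W le =
      (Y.fromSpecResidueField y).appLE V ⊤ leV ≫
        (f.fiberToSpecResidueField y).appLE ⊤ W le_top := by
    rw [Scheme.Hom.appLE_comp_appLE, Scheme.Hom.appLE_comp_appLE]
    exact appLE_congr_hom H.w _ _ _ _
  haveI t2 : IsScalarTower Γ(Y, V) Γ(Spec (Y.residueField y), ⊤) Γ(f.fiber y, W) :=
    .of_algebraMap_eq' congr($(hcomm).hom)
  have hpo := (isIso_pushoutSection_iff H leV e rfl).1
    (isIso_pushoutSection_of_isAffineOpen H leV e rfl hV (isAffineOpen_top _) hU)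
  haveI p1 : Algebra.IsPushout Γ(Y, V) Γ(X, U) Γ(Spec (Y.residueField y), ⊤) Γ(f.fiber y, W) :=
    CommRingCat.isPushout_iff_isPushout.mp hpo
  haveI p2 : Algebra.IsPushout Γ(Y, V) Γ(Spec (Y.residueField y), ⊤) Γ(X, U) Γ(f.fiber y, W) :=
    p1.symm
  -- the primes
  set Q := (hWaff.primeIdealOf ⟨f.asFiber x, hzW⟩).asIdeal with hQ
  set q := (hU.primeIdealOf ⟨x, hxU⟩).asIdeal with hq
  have hQq : q = Q.comap (algebraMap Γ(X, U) Γ(f.fiber y, W)) := by
    have h1 := IsAffineOpen.comap_primeIdealOf_appLE (f := f.fiberι y) U hU W hWaff le hzW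
    have h2 : hU.primeIdealOf ⟨(f.fiberι y) (f.asFiber x), le hzW⟩ = hU.primeIdealOf ⟨x, hxU⟩ := by
      congr 1
      exact Subtype.ext (f.fiberι_asFiber x)
    rw [h2] at h1
    exact congrArg PrimeSpectrum.asIdeal h1.symm
  letI algLK : Algebra q.ResidueField Q.ResidueField :=
    (Ideal.ResidueField.map q Q (algebraMap Γ(X, U) Γ(f.fiber y, W)) hQq).toAlgebra
  haveI : IsScalarTower Γ(X, U) q.ResidueField Q.ResidueField := by
    refine IsScalarTower.of_algebraMap_eq fun a => ?_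
    rw [RingHom.algebraMap_toAlgebra, Ideal.ResidueField.map_algebraMap,
      ← IsScalarTower.algebraMap_apply]
  -- the chain of equivalences
  have h1 : Module.finrank Q.ResidueField (Q.ResidueField ⊗[Γ(f.fiber y, W)]
      Ω[Γ(f.fiber y, W)⁄Γ(Spec (Y.residueField y), ⊤)]) =
      Module.finrank Q.ResidueField (Q.ResidueField ⊗[Γ(X, U)] Ω[Γ(X, U)⁄Γ(Y, V)]) := by
    refine LinearEquiv.finrank_eq ?_
    exact (TensorProduct.AlgebraTensorModule.congr (LinearEquiv.refl Q.ResidueField Q.ResidueField)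
      (KaehlerDifferential.tensorKaehlerEquiv Γ(Y, V) Γ(Spec (Y.residueField y), ⊤) Γ(X, U)
        Γ(f.fiber y, W)).symm) ≪≫ₗ
      (TensorProduct.AlgebraTensorModule.cancelBaseChange Γ(X, U) Γ(f.fiber y, W) Q.ResidueField
        Q.ResidueField Ω[Γ(X, U)⁄Γ(Y, V)])
  rw [h1, ← Module.finrank_baseChange (R := Q.ResidueField)
    (M' := q.ResidueField ⊗[Γ(X, U)] Ω[Γ(X, U)⁄Γ(Y, V)])]
  exact (TensorProduct.AlgebraTensorModule.cancelBaseChange Γ(X, U) q.ResidueField Q.ResidueField
    Q.ResidueField Ω[Γ(X, U)⁄Γ(Y, V)]).symm.finrank_eq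

/-- **The local dimension of the fibre is at most the rank of the differentials at the point.** -/
theorem fibreDimAt_le_finrank [LocallyOfFiniteType f] (x : X) {U : X.Opens} (hU : IsAffineOpen U)
    {V : Y.Opens} (hV : IsAffineOpen V) (e : U ≤ f ⁻¹ᵁ V) (hxU : x ∈ U) :
    letI := (f.appLE V U e).hom.toAlgebra
    FlatMor.fibreDimAt f x ≤
      ((Module.finrank (hU.primeIdealOf ⟨x, hxU⟩).asIdeal.ResidueField
        ((hU.primeIdealOf ⟨x, hxU⟩).asIdeal.ResidueField ⊗[Γ(X, U)] Ω[Γ(X, U)⁄Γ(Y, V)]) : ℕ∞) :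
          WithBot ℕ∞) := by
  obtain ⟨W, hW, hzW, hfr⟩ := exists_fibre_chart_finrank f x hU hV e hxU
  rw [← hfr]
  haveI : LocallyOfFiniteType (f.fiberToSpecResidueField (f x)) :=
    MorphismProperty.pullback_snd _ _ inferInstance
  letI ovF : (f.fiber (f x)).Over (Spec (CommRingCat.of (Y.residueField (f x)))) :=
    ⟨f.fiberToSpecResidueField (f x)⟩
  haveI : LocallyOfFiniteType
      ((f.fiber (f x)) ↘ Spec (CommRingCat.of (Y.residueField (f x)))) :=
    (inferInstance : LocallyOfFiniteType (f.fiberToSpecResidueField (f x)))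
  exact localDim_le_finrank_sch (Y.residueField (f x)) (f.asFiber x) hW hzW

end fibre

end Groth.Agent.H11.OmegaFibreDim
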