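import Mathlib
import Groth.Prelude.Def_FixPt
import Groth.Agent.H11.OmegaFibreDim
import Groth.Agent.H11.CotSmoothSch
import Groth.Agent.H8.QCohStalk
import Groth.Agent.H48.FieldDim2
import Groth.Agent.H44.OmegaFitting

/-!
# `dim Z ≤ dim_k Ω_{X/Y}(x)` for irreducible closed `Z` in the fibre through a closed point `x`
-/

set_option autoImplicit false
universe u
open CategoryTheory CategoryTheory.Limits AlgebraicGeometry TopologicalSpace TensorProduct
  KaehlerDifferential IsLocalRing

namespace Groth.Agent.H11.OmegaFibreDim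

open Groth.Agent.H11.FtChart Groth.Agent.H44

/-- An irreducible closed subset of the fibre through `x` containing `x` has dimension at most the
local dimension of the fibre at `x`. -/
theorem le_fibreDimAt {k : Type u} [Field k] {X Y : Scheme.{u}}
    (qX : X ⟶ Spec (CommRingCat.of k)) [LocallyOfFiniteType qX] (f : X ⟶ Y) (x : X) (Z : Set X)
    (hZ : IsIrreducible Z) (hZc : IsClosed Z) (hxZ : x ∈ Z)
    (hZf : Z ⊆ f.base ⁻¹' {f.base x}) :
    topologicalKrullDim ↥Z ≤ FlatMor.fibreDimAt f x := by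
  rw [Groth.Agent.H17.Chev.fibreDimAt_eq]
  unfold FlatMor.localDim
  refine le_iInf fun O => ?_
  obtain ⟨ξ, hξ⟩ := QuasiSober.sober hZ hZc
  obtain ⟨O', hO', hOO'⟩ := isOpen_induced_iff.mp O.1.isOpen
  have hxO' : x ∈ O' := by
    have h1 : (⟨x, rfl⟩ : ↥(f.base ⁻¹' {f.base x})) ∈ (O.1 : Set ↥(f.base ⁻¹' {f.base x})) := O.2
    rw [← hOO'] at h1
    exact h1
  have hξx : ξ ⤳ x := hξ.specializes hxZ
  have hξO' : ξ ∈ O' := hξx.mem_open hO' hxO'
  have h1 := Groth.Agent.H48.FieldDim2.topologicalKrullDim_closure_inter_open qX ξ O' hO' hξO'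
  rw [hξ.def] at h1
  rw [← h1]
  let g : ↥(Z ∩ O') → ↥(O.1 : Set ↥(f.base ⁻¹' {f.base x})) := fun z =>
    ⟨⟨z.1, hZf z.2.1⟩, by
      change (⟨z.1, hZf z.2.1⟩ : ↥(f.base ⁻¹' {f.base x})) ∈
        (O.1 : Set ↥(f.base ⁻¹' {f.base x}))
      rw [← hOO']
      exact z.2.2⟩
  have hg : Topology.IsInducing g := by
    refine Topology.IsInducing.of_comp (g := fun w => (w.1.1 : X)) ?_ ?_ ?_
    · exact Continuous.subtype_mk (Continuous.subtype_mk continuous_subtype_val _) _
    · exact continuous_subtype_val.comp continuous_subtype_val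
    · exact Topology.IsInducing.subtypeVal
  exact hg.topologicalKrullDim_le

section fiberD

variable (k : Type u) [Field k]

/-- finrank is unchanged along a bijective extension of the field of scalars. -/
theorem finrank_eq_of_bijective {K V : Type u} [Field K] [Algebra k K] [AddCommGroup V]
    [Module k V] [Module K V] [IsScalarTower k K V]
    (hb : Function.Bijective (algebraMap k K)) : Module.finrank k V = Module.finrank K V := by
  have h1 := Module.finrank_mul_finrank k K V
  have h2 : Module.finrank k K = 1 := by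
    rw [← (LinearEquiv.ofBijective (Algebra.linearMap k K) hb).finrank_eq, Module.finrank_self]
  rw [h2, one_mul] at h1
  exact h1.symm

variable [IsAlgClosed k]

/-- The dimension of the fibre `M(x)` of a quasi-coherent module at a closed point, computed on an
affine chart. -/
theorem finrank_fiber_eq {X : Scheme.{u}} [X.Over (Spec (CommRingCat.of k))]
    [LocallyOfFiniteType (X ↘ Spec (CommRingCat.of k))] (M : X.Modules) [M.IsQuasicoherent]
    (x : X) (hx : IsClosed ({x} : Set X)) {U : X.Opens} (hU : IsAffineOpen U) (hxU : x ∈ U) :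
    letI := FixPt.fiberModule k X M x
    Module.finrank k (FixPt.fiber M x) =
      Module.finrank (hU.primeIdealOf ⟨x, hxU⟩).asIdeal.ResidueField
        ((hU.primeIdealOf ⟨x, hxU⟩).asIdeal.ResidueField ⊗[Γ(X, U)] Γ(M, U)) := by
  letI modk := FixPt.fiberModule k X M x
  set q := (hU.primeIdealOf ⟨x, hxU⟩).asIdeal with hq
  letI algkR : Algebra k (X.presheaf.stalk x) := Curv2.stalkAlgebra k X x
  letI algBR : Algebra Γ(X, U) (X.presheaf.stalk x) := X.presheaf.algebra_section_stalk ⟨x, hxU⟩
  haveI locR := hU.isLocalization_stalk ⟨x, hxU⟩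
  letI modB : Module Γ(X, U) (M.presheaf.stalk x) := Groth.Agent.H8.stalkModule M hxU
  haveI towB : IsScalarTower Γ(X, U) (X.presheaf.stalk x) (M.presheaf.stalk x) :=
    IsScalarTower.of_algebraMap_smul fun r m => rfl
  haveI hloc := Groth.Agent.H8.isLocalizedModule_germₗ M hU hxU
  have hbc : IsBaseChange (X.presheaf.stalk x) (Groth.Agent.H8.germₗ M hxU) :=
    IsLocalizedModule.isBaseChange q.primeCompl (X.presheaf.stalk x) _
  -- D1
  let e1 : FixPt.fiber M x ≃ₗ[X.presheaf.stalk x]
      ResidueField (X.presheaf.stalk x) ⊗[X.presheaf.stalk x] M.presheaf.stalk x :=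
    (TensorProduct.quotTensorEquivQuotSMul (M.presheaf.stalk x)
      (maximalIdeal (X.presheaf.stalk x))).symm
  haveI towk : IsScalarTower k (X.presheaf.stalk x) (FixPt.fiber M x) :=
    IsScalarTower.of_algebraMap_smul fun c v => rfl
  have h1 : Module.finrank k (FixPt.fiber M x) =
      Module.finrank k
        (ResidueField (X.presheaf.stalk x) ⊗[X.presheaf.stalk x] M.presheaf.stalk x) :=
    (e1.restrictScalars k).finrank_eq
  -- D2
  have hb := Groth.Agent.H11.CotSmoothSch.bijective_algebraMap_residueField k X x hx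
  have h2 := finrank_eq_of_bijective k (K := ResidueField (X.presheaf.stalk x))
    (V := ResidueField (X.presheaf.stalk x) ⊗[X.presheaf.stalk x] M.presheaf.stalk x) hb
  -- D3
  have h3 : Module.finrank (ResidueField (X.presheaf.stalk x))
      (ResidueField (X.presheaf.stalk x) ⊗[X.presheaf.stalk x] M.presheaf.stalk x) =
      Module.finrank (ResidueField (X.presheaf.stalk x))
        (ResidueField (X.presheaf.stalk x) ⊗[Γ(X, U)] Γ(M, U)) := by
    refine LinearEquiv.finrank_eq ?_
    exact (TensorProduct.AlgebraTensorModule.congr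
      (LinearEquiv.refl (ResidueField (X.presheaf.stalk x)) (ResidueField (X.presheaf.stalk x)))
      hbc.equiv.symm) ≪≫ₗ
      (TensorProduct.AlgebraTensorModule.cancelBaseChange Γ(X, U) (X.presheaf.stalk x)
        (ResidueField (X.presheaf.stalk x)) (ResidueField (X.presheaf.stalk x)) Γ(M, U))
  -- D4
  let e : Localization.AtPrime q ≃ₐ[Γ(X, U)] X.presheaf.stalk x :=
    IsLocalization.algEquiv q.primeCompl _ _
  letI algLK : Algebra q.ResidueField (ResidueField (X.presheaf.stalk x)) :=
    (ResidueField.map (e.toRingEquiv : Localization.AtPrime q →+* X.presheaf.stalk x)).toAlgebra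
  haveI : IsScalarTower Γ(X, U) q.ResidueField (ResidueField (X.presheaf.stalk x)) := by
    refine IsScalarTower.of_algebraMap_eq fun b => ?_
    have hL : algebraMap Γ(X, U) q.ResidueField b =
        residue (Localization.AtPrime q) (algebraMap Γ(X, U) (Localization.AtPrime q) b) := rfl
    have hR : algebraMap Γ(X, U) (ResidueField (X.presheaf.stalk x)) b =
        residue (X.presheaf.stalk x) (algebraMap Γ(X, U) (X.presheaf.stalk x) b) := rfl
    rw [RingHom.algebraMap_toAlgebra, hL, hR, ResidueField.map_residue]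
    exact congrArg _ (e.commutes b).symm
  rw [h1, h2, h3, ← Module.finrank_baseChange (R := ResidueField (X.presheaf.stalk x))
    (M' := q.ResidueField ⊗[Γ(X, U)] Γ(M, U))]
  exact (TensorProduct.AlgebraTensorModule.cancelBaseChange Γ(X, U) q.ResidueField
    (ResidueField (X.presheaf.stalk x)) (ResidueField (X.presheaf.stalk x))
    Γ(M, U)).symm.finrank_eq

end fiberD

/-- **Main theorem**: `dim Z ≤ dim_k Ω_{X/Y}(x)`. -/
theorem le_finrank_fiber_omega (k : Type u) [Field k] [IsAlgClosed k]
    {X Y : Scheme.{u}} [X.Over (Spec (CommRingCat.of k))] [Y.Over (Spec (CommRingCat.of k))]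
    [LocallyOfFiniteType (X ↘ Spec (CommRingCat.of k))]
    [LocallyOfFiniteType (Y ↘ Spec (CommRingCat.of k))]
    (f : X ⟶ Y) (hf : f ≫ (Y ↘ Spec (CommRingCat.of k)) = X ↘ Spec (CommRingCat.of k))
    (x : X) (hx : IsClosed ({x} : Set X)) (Z : Set X) (hZ : IsIrreducible Z) (hZc : IsClosed Z)
    (hxZ : x ∈ Z) (hZf : Z ⊆ f.base ⁻¹' {f.base x}) (r : ℕ)
    (hr : topologicalKrullDim ↥Z = (r : WithBot ℕ∞)) :
    letI := FixPt.fiberModule k X (Omega.sheaf f) x
    r ≤ Module.finrank k (FixPt.fiber (Omega.sheaf f) x) := by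
  haveI : IsLocallyNoetherian X :=
    LocallyOfFiniteType.isLocallyNoetherian (X ↘ Spec (CommRingCat.of k))
  haveI : QuasiSeparated f := inferInstance
  haveI : LocallyOfFiniteType f := by
    haveI : LocallyOfFiniteType (f ≫ (Y ↘ Spec (CommRingCat.of k))) := by rw [hf]; infer_instance
    exact locallyOfFiniteType_of_comp f (Y ↘ Spec (CommRingCat.of k))
  obtain ⟨V, hV, hfxV, -⟩ := Opens.isBasis_iff_nbhd.mp Y.isBasis_affineOpens
    (show f x ∈ (⊤ : Y.Opens) from trivial)
  have hV : IsAffineOpen V := hV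
  obtain ⟨U, hU, hxU, e⟩ := Opens.isBasis_iff_nbhd.mp X.isBasis_affineOpens
    (show x ∈ f ⁻¹ᵁ V from hfxV)
  have hU : IsAffineOpen U := hU
  have h1 := le_fibreDimAt (X ↘ Spec (CommRingCat.of k)) f x Z hZ hZc hxZ hZf
  have h2 := fibreDimAt_le_finrank f x hU hV e hxU
  rw [finrank_fiber_eq k (Omega.sheaf f) x hx hU hxU]
  letI := (f.appLE V U e).hom.toAlgebra
  have h3 : Module.finrank (hU.primeIdealOf ⟨x, hxU⟩).asIdeal.ResidueField
      ((hU.primeIdealOf ⟨x, hxU⟩).asIdeal.ResidueField ⊗[Γ(X, U)] Γ(Omega.sheaf f, U)) =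
      Module.finrank (hU.primeIdealOf ⟨x, hxU⟩).asIdeal.ResidueField
        ((hU.primeIdealOf ⟨x, hxU⟩).asIdeal.ResidueField ⊗[Γ(X, U)] Ω[Γ(X, U)⁄Γ(Y, V)]) :=
    (TensorProduct.AlgebraTensorModule.congr
      (LinearEquiv.refl (hU.primeIdealOf ⟨x, hxU⟩).asIdeal.ResidueField
        (hU.primeIdealOf ⟨x, hxU⟩).asIdeal.ResidueField)
      (omegaSectionsEquiv f hU hV e)).finrank_eq
  rw [h3]
  rw [hr] at h1
  have h4 := h1.trans h2
  exact_mod_cast h4

end Groth.Agent.H11.OmegaFibreDim
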