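import Groth.Prelude.Def_DRing2
import Mathlib.Algebra.Homology.ShortComplex.ModuleCat
import Mathlib.Algebra.Homology.DerivedCategory.HomologySequence
import Mathlib.Algebra.Module.FinitePresentation
import Mathlib.Tactic

set_option autoImplicit false
universe u
open CategoryTheory

namespace Groth.Agent.H11.PCoh

/-- The kernel of a map out of a finite projective module with projective range is a retract. -/
theorem ker_finite_projective {A M N : Type*} [CommRing A] [AddCommGroup M] [Module A M]
    [AddCommGroup N] [Module A N] [Module.Finite A M] [Module.Projective A M] (f : M →ₗ[A] N)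
    [Module.Projective A (LinearMap.range f)] :
    Module.Finite A (LinearMap.ker f) ∧ Module.Projective A (LinearMap.ker f) := by
  obtain ⟨s, hs⟩ := Module.projective_lifting_property f.rangeRestrict LinearMap.id
    f.surjective_rangeRestrict
  have hfs : ∀ y : LinearMap.range f, f (s y) = y.1 := by
    intro y
    have := congr_arg (fun g : LinearMap.range f →ₗ[A] LinearMap.range f => (g y).1) hs
    simpa using this
  let r : M →ₗ[A] LinearMap.ker f :=
    (LinearMap.id - s.comp f.rangeRestrict).codRestrict (LinearMap.ker f) (by
      intro x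
      rw [LinearMap.mem_ker]
      simp only [LinearMap.sub_apply, LinearMap.id_apply, LinearMap.comp_apply, map_sub]
      rw [hfs]
      simp)
  have hr : r.comp (LinearMap.ker f).subtype = LinearMap.id := by
    apply LinearMap.ext
    intro x
    apply Subtype.ext
    have hx : f x.1 = 0 := x.2
    have h0 : f.rangeRestrict x.1 = 0 := by
      apply Subtype.ext
      simp [hx]
    simp [r, h0]
  refine ⟨?_, Module.Projective.of_split (LinearMap.ker f).subtype r hr⟩
  refine Module.Finite.of_surjective r ?_
  intro y
  exact ⟨y.1, by
    have := congr_arg (fun g : LinearMap.ker f →ₗ[A] LinearMap.ker f => g y) hr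
    simpa using this⟩

variable {A : Type u} [CommRing A] (E : CochainComplex (ModuleCat.{u} A) ℤ)

theorem range_eq_ker_of_exactAt (i : ℤ) (h : E.ExactAt (i + 1)) :
    LinearMap.range (E.d i (i + 1)).hom = LinearMap.ker (E.d (i + 1) (i + 1 + 1)).hom := by
  rw [E.exactAt_iff' i (i + 1) (i + 1 + 1) (by simp) (by simp)] at h
  exact (ShortComplex.moduleCat_exact_iff_range_eq_ker _).1 h

theorem ker_d_finite_projective (b m : ℤ) (hvan : ∀ i, b < i → Limits.IsZero (E.X i))
    (hfp : ∀ i, Module.Finite A (E.X i) ∧ Module.Projective A (E.X i))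
    (hex : ∀ i, m < i → E.ExactAt i) :
    ∀ i, m ≤ i → Module.Finite A (LinearMap.ker (E.d i (i + 1)).hom) ∧
      Module.Projective A (LinearMap.ker (E.d i (i + 1)).hom) := by
  have key : ∀ n : ℕ, ∀ i : ℤ, m ≤ i → b < i + n →
      Module.Finite A (LinearMap.ker (E.d i (i + 1)).hom) ∧
        Module.Projective A (LinearMap.ker (E.d i (i + 1)).hom) := by
    intro n
    induction n with
    | zero =>
      intro i _ hb
      have hz := hvan i (by simpa using hb)
      have : Subsingleton (E.X i) := ModuleCat.subsingleton_of_isZero hz
      have : Subsingleton (LinearMap.ker (E.d i (i + 1)).hom) := inferInstance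
      exact ⟨inferInstance, inferInstance⟩
    | succ n ih =>
      intro i hi hb
      obtain ⟨_, hproj⟩ := ih (i + 1) (by omega) (by push_cast at hb ⊢; omega)
      have hrk := range_eq_ker_of_exactAt E i (hex (i + 1) (by omega))
      have : Module.Projective A (LinearMap.range (E.d i (i + 1)).hom) := by
        rw [hrk]; exact hproj
      have := (hfp i).1
      have := (hfp i).2
      exact ker_finite_projective (E.d i (i + 1)).hom
  intro i hi
  exact key (b - i + 1).toNat i hi (by
    have : ((b - i + 1).toNat : ℤ) ≥ b - i + 1 := Int.self_le_toNat _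
    omega)

/-- The homology of `E` at `i` as an explicit module. -/
noncomputable def homologyIso (i : ℤ) :
    E.homology i ≅ (E.sc' (i - 1) i (i + 1)).moduleCatLeftHomologyData.H :=
  E.homologyIsoSc' (i - 1) i (i + 1) (by simp) (by simp) ≪≫
    (E.sc' (i - 1) i (i + 1)).moduleCatHomologyIso

theorem homology_finite (i : ℤ) (h : Module.Finite A (LinearMap.ker (E.d i (i + 1)).hom)) :
    Module.Finite A (E.homology i) := by
  have h1 : Module.Finite A (LinearMap.ker (E.sc' (i - 1) i (i + 1)).g.hom) := h
  have h2 : Module.Finite A ((E.sc' (i - 1) i (i + 1)).moduleCatLeftHomologyData.H) := by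
    change Module.Finite A (LinearMap.ker (E.sc' (i - 1) i (i + 1)).g.hom ⧸
      LinearMap.range (E.sc' (i - 1) i (i + 1)).moduleCatToCycles)
    infer_instance
  exact Module.Finite.equiv (homologyIso E i).symm.toLinearEquiv

theorem homology_fp (i : ℤ) (h : Module.Finite A (LinearMap.ker (E.d i (i + 1)).hom))
    (h' : Module.Projective A (LinearMap.ker (E.d i (i + 1)).hom))
    (hfin : Module.Finite A (E.X (i - 1))) :
    Module.FinitePresentation A (E.homology i) := by
  have h1 : Module.Finite A (LinearMap.ker (E.sc' (i - 1) i (i + 1)).g.hom) := h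
  have h1' : Module.Projective A (LinearMap.ker (E.sc' (i - 1) i (i + 1)).g.hom) := h'
  have h1'' : Module.FinitePresentation A (LinearMap.ker (E.sc' (i - 1) i (i + 1)).g.hom) :=
    Module.finitePresentation_of_projective _ _
  have hfin' : Module.Finite A ((E.sc' (i - 1) i (i + 1)).X₁) := hfin
  have h2 : Module.FinitePresentation A ((E.sc' (i - 1) i (i + 1)).moduleCatLeftHomologyData.H) := by
    change Module.FinitePresentation A (LinearMap.ker (E.sc' (i - 1) i (i + 1)).g.hom ⧸
      LinearMap.range (E.sc' (i - 1) i (i + 1)).moduleCatToCycles)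
    refine Module.finitePresentation_of_surjective
      (LinearMap.range (E.sc' (i - 1) i (i + 1)).moduleCatToCycles).mkQ
      (Submodule.mkQ_surjective _) ?_
    rw [Submodule.ker_mkQ, LinearMap.range_eq_map]
    exact Module.Finite.fg_top.map _
  exact Module.FinitePresentation.of_equiv (homologyIso E i).symm.toLinearEquiv

attribute [local instance] HasDerivedCategory.standard

theorem main {A : Type u} [CommRing A] (K : Dual.D A) (m : ℤ)
    (hK : DRing.IsPseudoCoherent A m K) :
    ((∀ i : ℤ, m < i → Limits.IsZero ((DerivedCategory.homologyFunctor (ModuleCat.{u} A) i).obj K)) →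
        Module.Finite A ((DerivedCategory.homologyFunctor (ModuleCat.{u} A) m).obj K)) ∧
      ((∀ i : ℤ, m + 1 < i →
          Limits.IsZero ((DerivedCategory.homologyFunctor (ModuleCat.{u} A) i).obj K)) →
        Module.FinitePresentation A
          ((DerivedCategory.homologyFunctor (ModuleCat.{u} A) (m + 1)).obj K)) := by
  obtain ⟨E, a, b, α, hvan, hff, hiso, hepi⟩ := hK
  let φ : ∀ i : ℤ, (DerivedCategory.homologyFunctor (ModuleCat.{u} A) i).obj
      (DerivedCategory.Q.obj E) ≅ E.homology i :=
    fun i => (DerivedCategory.homologyFunctorFactors (ModuleCat.{u} A) i).app E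
  have hfp : ∀ i, Module.Finite A (E.X i) ∧ Module.Projective A (E.X i) := fun i =>
    ⟨(hff i).1, have := (hff i).2; inferInstance⟩
  have hvan' : ∀ i, b < i → Limits.IsZero (E.X i) := fun i hi => hvan i (Or.inr hi)
  have hexact : ∀ m' : ℤ, m ≤ m' →
      (∀ i : ℤ, m' < i →
        Limits.IsZero ((DerivedCategory.homologyFunctor (ModuleCat.{u} A) i).obj K)) →
      ∀ i, m' < i → E.ExactAt i := by
    intro m' hm' hz i hi
    rw [HomologicalComplex.exactAt_iff_isZero_homology]
    have : IsIso ((DerivedCategory.homologyFunctor (ModuleCat.{u} A) i).map α) :=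
      hiso i (by omega)
    exact (hz i hi).of_iso ((φ i).symm ≪≫
      asIso ((DerivedCategory.homologyFunctor (ModuleCat.{u} A) i).map α))
  constructor
  · intro hz
    have hex := hexact m le_rfl hz
    obtain ⟨hf, _⟩ := ker_d_finite_projective E b m hvan' hfp hex m le_rfl
    have h1 : Module.Finite A (E.homology m) := homology_finite E m hf
    have h2 : Module.Finite A ((DerivedCategory.homologyFunctor (ModuleCat.{u} A) m).obj
        (DerivedCategory.Q.obj E)) := Module.Finite.equiv (φ m).symm.toLinearEquiv
    have hsurj : Function.Surjective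
        ((DerivedCategory.homologyFunctor (ModuleCat.{u} A) m).map α).hom :=
      (ModuleCat.epi_iff_surjective _).1 hepi
    exact Module.Finite.of_surjective _ hsurj
  · intro hz
    have hex := hexact (m + 1) (by omega) hz
    obtain ⟨hf, hp⟩ := ker_d_finite_projective E b (m + 1) hvan' hfp hex (m + 1) le_rfl
    have h1 := homology_fp E (m + 1) hf hp (hfp _).1
    have : IsIso ((DerivedCategory.homologyFunctor (ModuleCat.{u} A) (m + 1)).map α) :=
      hiso (m + 1) (by omega)
    exact Module.FinitePresentation.of_equiv ((φ (m + 1)).symm ≪≫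
      asIso ((DerivedCategory.homologyFunctor (ModuleCat.{u} A) (m + 1)).map α)).toLinearEquiv

end Groth.Agent.H11.PCoh
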