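import Mathlib
import Groth.Agent.Lead.SerreConverse

/-!
# The projective dimension of the residue field bounds the embedding dimension
-/

set_option autoImplicit false

open CategoryTheory IsLocalRing

namespace Groth.Agent.H11.PdCotangent

universe u

open Groth.Agent.Lead.RLR

theorem spanFinrank_le_of_hasProjectiveDimensionLT : ∀ (n : ℕ) (R : Type u) [CommRing R]
    [IsLocalRing R] [IsNoetherianRing R],
    HasProjectiveDimensionLT (ModuleCat.of R (ResidueField R)) (n + 1) →
    (maximalIdeal R).spanFinrank ≤ n := by
  intro n
  induction n with
  | zero =>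
    intro R _ _ _ hpd
    rw [zero_add, ← projective_iff_hasProjectiveDimensionLT_one] at hpd
    have hproj : Module.Projective R (ResidueField R) := (IsProjective.iff_projective _).mpr hpd
    haveI : Module.Free R (ResidueField R) := Module.free_of_flat_of_isLocalRing
    rw [maximalIdeal_eq_bot_of_free_residueField R]
    have h0 : (⊥ : Ideal R).spanFinrank = 0 := by
      rw [Submodule.spanFinrank_eq_zero_iff_eq_bot (Submodule.fg_bot)]
    rw [h0]
  | succ n ih =>
    intro R _ _ _ hpd
    by_cases hm : maximalIdeal R = ⊥
    · rw [hm]
      have h0 : (⊥ : Ideal R).spanFinrank = 0 := by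
        rw [Submodule.spanFinrank_eq_zero_iff_eq_bot (Submodule.fg_bot)]
      rw [h0]
      exact Nat.zero_le _
    rcases exists_nonZeroDivisor_or_socle R hm with ⟨x, hxm, hx2, hxreg⟩ | ⟨a, ha, ham⟩
    · have hne : Ideal.span {x} ≠ ⊤ := by
        intro h
        have h1 : (1 : R) ∈ maximalIdeal R := by
          have : Ideal.span {x} ≤ maximalIdeal R := (Ideal.span_singleton_le_iff_mem _).mpr hxm
          exact this (h ▸ Submodule.mem_top)
        exact (maximalIdeal.isMaximal R).ne_top ((Ideal.eq_top_iff_one _).mpr h1)
      haveI : IsLocalRing (R ⧸ Ideal.span {x}) := isLocalRing_quotient R _ hne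
      have hxR : IsSMulRegular R x := Module.Flat.isSMulRegular_of_nonZeroDivisors hxreg
      have hS := Groth.Agent.H29.GlDimL.shortExact_of_exact (maximalIdeal R).subtype
        (Algebra.linearMap R (ResidueField R)) Subtype.val_injective residue_surjective (by
          intro y
          constructor
          · intro hy
            exact ⟨⟨y, (residue_eq_zero_iff y).mp hy⟩, rfl⟩
          · rintro ⟨z, rfl⟩
            exact (residue_eq_zero_iff _).mpr z.2)
      have hprojR : Projective (ModuleCat.of R R) :=
        (IsProjective.iff_projective _).mp inferInstance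
      have hpdm : HasProjectiveDimensionLT (ModuleCat.of R (maximalIdeal R)) (n + 1) :=
        (hS.hasProjectiveDimensionLT_X₃_iff n hprojR).mp hpd
      have hmreg : IsSMulRegular (maximalIdeal R) x :=
        Groth.Agent.Lead.PdQuot.isSMulRegular_of_injective x (maximalIdeal R).subtype
          Subtype.val_injective hxR
      have hpdQ := Groth.Agent.Lead.PdQuot.hasProjectiveDimensionLT_quotSMulTop x hxR n
        (maximalIdeal R) hmreg hpdm
      obtain ⟨hretr⟩ := Groth.Agent.Lead.PdQuot.exists_retract x hxm hx2
      have hpdk' : HasProjectiveDimensionLT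
          (ModuleCat.of (R ⧸ Ideal.span {x}) (ResidueField (R ⧸ Ideal.span {x}))) (n + 1) :=
        hretr.hasProjectiveDimensionLT (n + 1)
      have h1 := ih (R ⧸ Ideal.span {x}) hpdk'
      have h2 := spanFinrank_maximalIdeal_le_quotient_add R x hxm
      omega
    · exfalso
      haveI : Module.Free R (ResidueField R) :=
        Groth.Agent.Lead.PdQuot.free_of_hasProjectiveDimensionLT_of_socle a ha ham (n + 1)
          (ResidueField R) hpd
      exact hm (maximalIdeal_eq_bot_of_free_residueField R)

theorem finrank_cotangentSpace_lt (R : Type u) [CommRing R] [IsLocalRing R] [IsNoetherianRing R]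
    (d : ℕ) (hd : HasProjectiveDimensionLT (ModuleCat.of R (ResidueField R)) d) :
    Module.finrank (ResidueField R) (CotangentSpace R) < d := by
  rcases d with _ | d
  · exfalso
    -- projective dimension `< 0` means zero object; the residue field is nonzero
    have h0 : Limits.IsZero (ModuleCat.of R (ResidueField R)) := by
      rw [← hasProjectiveDimensionLT_zero_iff_isZero]
      exact hd
    have : Subsingleton (ResidueField R) := ModuleCat.subsingleton_of_isZero h0
    exact one_ne_zero (Subsingleton.elim (1 : ResidueField R) 0)
  · rw [← spanFinrank_maximalIdeal_eq_finrank_cotangentSpace]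
    exact Nat.lt_succ_of_le (spanFinrank_le_of_hasProjectiveDimensionLT d R hd)

end Groth.Agent.H11.PdCotangent
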