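import Groth.Agent.H11.H1Quasi
import Groth.Agent.H19.QuasiRegInter

/-!
# Appending an `H_1`-regular sequence (mod `J`) to a quasi-regular sequence

`f` quasi-regular, `g` with `H_1`-regular image in `A/(f)`; then `(f, g)` is quasi-regular.
-/

set_option autoImplicit false
universe u

namespace Groth.Agent.H11.QRAppend

open MvPolynomial Groth.Agent.H19.QReg Groth.Agent.H11.H1Reg

variable {A : Type u} [CommRing A]

/-! ### (P1) a sharp binomial bound for ideals -/

theorem sup_pow_le_pow_sup (I K : Ideal A) (k : ℕ) : (I ⊔ K) ^ k ≤ I ^ k ⊔ K := by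
  induction k with
  | zero => simp
  | succ k ih =>
    rw [pow_succ]
    refine (Ideal.mul_mono_left ih).trans ?_
    rw [Ideal.sup_mul, Ideal.mul_sup]
    refine sup_le (sup_le ?_ ?_) ?_
    · rw [← pow_succ]; exact le_sup_left
    · exact Ideal.mul_le_right.trans le_sup_right
    · exact Ideal.mul_le_left.trans le_sup_right

theorem sup_pow_le (I K : Ideal A) :
    ∀ a b : ℕ, (I ⊔ K) ^ (a + b + 1) ≤ I ^ (a + 1) ⊔ K ^ (b + 1) := by
  intro a
  induction a with
  | zero =>
    intro b
    have := sup_pow_le_pow_sup K I (b + 1)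
    rw [sup_comm] at this
    simpa [sup_comm] using this
  | succ a iha =>
    intro b
    induction b with
    | zero => simpa using sup_pow_le_pow_sup I K (a + 1 + 1)
    | succ b ihb =>
      have e : a + 1 + (b + 1) + 1 = (a + (b + 1) + 1) + 1 := by ring
      rw [e, pow_succ, Ideal.mul_sup]
      refine sup_le ?_ ?_
      · refine (Ideal.mul_mono_left (iha (b + 1))).trans ?_
        rw [Ideal.sup_mul]
        refine sup_le ?_ ?_
        · rw [← pow_succ]; exact le_sup_left
        · exact Ideal.mul_le_left.trans le_sup_right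
      · have e2 : a + (b + 1) + 1 = a + 1 + b + 1 := by ring
        rw [e2]
        refine (Ideal.mul_mono_left ihb).trans ?_
        rw [Ideal.sup_mul]
        refine sup_le ?_ ?_
        · exact Ideal.mul_le_left.trans le_sup_left
        · rw [← pow_succ]; exact le_sup_right

/-! ### (P2) `H_1`-regularity of `g` modulo powers of `J` -/

variable {n m : ℕ}

theorem map_T {B : Type u} [CommRing B] (q : A →+* B) (g : Fin m → A) (t : Fin m → A)
    (ht : t ∈ T g) : (fun i => q (t i)) ∈ T (fun j => q (g j)) := by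
  unfold T at ht
  induction ht using Submodule.span_induction with
  | mem x hx =>
    obtain ⟨i, j, rfl⟩ := hx
    apply Submodule.subset_span
    refine ⟨i, j, ?_⟩
    ext k
    simp only [Pi.sub_apply, map_sub, Pi.single_apply]
    split_ifs <;> simp
  | zero =>
    have : (fun i => q ((0 : Fin m → A) i)) = 0 := by ext i; simp
    rw [this]; exact Submodule.zero_mem _
  | add x y _ _ hx hy =>
    have : (fun i => q ((x + y) i)) = (fun i => q (x i)) + fun i => q (y i) := by
      ext i; simp
    rw [this]; exact Submodule.add_mem _ hx hy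
  | smul r x _ hx =>
    have : (fun i => q ((r • x) i)) = q r • fun i => q (x i) := by
      ext i; simp
    rw [this]; exact Submodule.smul_mem _ _ hx

/-- The relation property modulo `K`. -/
def RelMod (g : Fin m → A) (K : Ideal A) : Prop :=
  ∀ a : Fin m → A, ∑ i, a i * g i ∈ K → ∃ t ∈ T g, ∀ i, a i - t i ∈ K

theorem relMod_one (f : Fin n → A) (g : Fin m → A)
    (hg : CAlgX.IsH1Regular (fun j => Ideal.Quotient.mk (J f) (g j))) : RelMod g (J f) := by
  intro a ha
  rw [isH1Regular_iff] at hg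
  have hrel : rel (fun j => Ideal.Quotient.mk (J f) (g j))
      (fun j => Ideal.Quotient.mk (J f) (a j)) = 0 := by
    rw [rel_apply]
    rw [← Ideal.Quotient.eq_zero_iff_mem] at ha
    simpa using ha
  obtain ⟨t, ht, htw⟩ := lift_T (J f) g _ (hg _ hrel)
  refine ⟨t, ht, fun i => ?_⟩
  rw [← Ideal.Quotient.eq_zero_iff_mem, map_sub, htw i, sub_self]

theorem rel_eq_zero_of_mem_T (g : Fin m → A) (t : Fin m → A) (ht : t ∈ T g) :
    ∑ i, t i * g i = 0 := by
  have := T_le_ker g ht
  rwa [LinearMap.mem_ker, rel_apply] at this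

theorem relMod_pow (f : Fin n → A) (g : Fin m → A) (hf : QR f) (h1 : RelMod g (J f)) :
    ∀ d : ℕ, RelMod g (J f ^ d) := by
  classical
  intro d
  induction d with
  | zero =>
    intro a _
    exact ⟨0, Submodule.zero_mem _, fun i => by rw [pow_zero, Ideal.one_eq_top]; trivial⟩
  | succ d ih =>
    intro a ha
    obtain ⟨t, ht, hu⟩ := ih a (Ideal.pow_le_pow_right (Nat.le_succ d) ha)
    -- u i = a i - t i ∈ J^d
    have hug : ∑ i, (a i - t i) * g i ∈ J f ^ (d + 1) := by
      simp only [sub_mul, Finset.sum_sub_distrib, rel_eq_zero_of_mem_T g t ht, sub_zero]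
      exact ha
    have hU : ∀ i, ∃ U : MvPolynomial (Fin n) A, U.IsHomogeneous d ∧ eval f U = a i - t i :=
      fun i => exists_homog_of_mem_pow f (hu i)
    choose U hUh hUe using hU
    let W : MvPolynomial (Fin n) A := ∑ i, C (g i) * U i
    have hWh : W.IsHomogeneous d := by
      refine IsHomogeneous.sum _ _ _ fun i _ => ?_
      have := (isHomogeneous_C (Fin n) (g i)).mul (hUh i)
      rwa [zero_add] at this
    have hWe : eval f W ∈ J f ^ (d + 1) := by
      have : eval f W = ∑ i, (a i - t i) * g i := by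
        simp only [W, map_sum, map_mul, eval_C, hUe]
        refine Finset.sum_congr rfl fun i _ => mul_comm _ _
      rw [this]; exact hug
    have hWc := hf d W hWh hWe
    have hcoef : ∀ e : Fin n →₀ ℕ, ∑ i, coeff e (U i) * g i ∈ J f := by
      intro e
      have := hWc e
      simp only [W, coeff_sum, coeff_C_mul] at this
      convert this using 1
      refine Finset.sum_congr rfl fun i _ => mul_comm _ _
    have hte : ∀ e : Fin n →₀ ℕ, ∃ t' ∈ T g, ∀ i, coeff e (U i) - t' i ∈ J f :=
      fun e => h1 _ (hcoef e)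
    choose t' ht' hct' using hte
    let E : Finset (Fin n →₀ ℕ) := Finset.univ.biUnion fun i => (U i).support
    let fe : (Fin n →₀ ℕ) → A := fun e => ∏ k ∈ e.support, f k ^ e k
    have hfe : ∀ e ∈ E, fe e ∈ J f ^ d := by
      intro e he
      obtain ⟨i, -, hi⟩ := Finset.mem_biUnion.mp he
      have hdeg : e.degree = d := (isHomogeneous_iff (U i) d).mp (hUh i) e (mem_support_iff.mp hi)
      rw [← hdeg]
      exact prod_pow_mem f e
    have hUsum : ∀ i, a i - t i = ∑ e ∈ E, coeff e (U i) * fe e := by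
      intro i
      rw [← hUe i, eval_eq]
      refine Finset.sum_subset ?_ ?_
      · intro e he
        exact Finset.mem_biUnion.mpr ⟨i, Finset.mem_univ i, he⟩
      · intro e _ he
        rw [notMem_support_iff.mp he, zero_mul]
    refine ⟨t + ∑ e ∈ E, fe e • t' e, ?_, ?_⟩
    · exact Submodule.add_mem _ ht
        (Submodule.sum_mem _ fun e _ => Submodule.smul_mem _ _ (ht' e))
    · intro i
      have : a i - (t + ∑ e ∈ E, fe e • t' e) i = ∑ e ∈ E, fe e * (coeff e (U i) - t' e i) := by
        simp only [Pi.add_apply, Finset.sum_apply, Pi.smul_apply, smul_eq_mul, mul_sub,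
          Finset.sum_sub_distrib]
        rw [← sub_sub, hUsum i]
        congr 1
        refine Finset.sum_congr rfl fun e _ => mul_comm _ _
      rw [this, pow_succ]
      exact Ideal.sum_mem _ fun e he => Ideal.mul_mem_mul (hfe e he) (hct' e i)


/-! ### (P3) quasi-regularity of `g` modulo `K` -/

theorem qr_mod (g : Fin m → A) (K : Ideal A) (hK : RelMod g K) (b : ℕ)
    (G : MvPolynomial (Fin m) A) (hG : G.IsHomogeneous b)
    (hev : eval g G ∈ J g ^ (b + 1) ⊔ K) : ∀ β, coeff β G ∈ J g ⊔ K := by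
  let q := Ideal.Quotient.mk K
  have hH1 : CAlgX.IsH1Regular (fun j => q (g j)) := by
    rw [isH1Regular_iff]
    intro a' ha'
    have hl : ∀ i, ∃ a : A, q a = a' i := fun i => Ideal.Quotient.mk_surjective (a' i)
    choose a ha using hl
    have hrel : ∑ i, a i * g i ∈ K := by
      rw [← Ideal.Quotient.eq_zero_iff_mem, map_sum]
      rw [rel_apply] at ha'
      rw [← ha']
      refine Finset.sum_congr rfl fun i _ => ?_
      rw [map_mul, ha i]
    obtain ⟨t, ht, hta⟩ := hK a hrel
    have : a' = fun i => q (t i) := by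
      ext i
      rw [← ha i]
      have := hta i
      rw [← Ideal.Quotient.eq_zero_iff_mem, map_sub, sub_eq_zero] at this
      exact this
    rw [this]
    exact map_T q g t ht
  have hqr : QR (q ∘ g) := (isQuasiRegular_iff _).mp
    (H1Quasi.isQuasiRegular_of_isH1Regular (fun j => q (g j)) hH1)
  have hev' : eval (q ∘ g) (map q G) ∈ J (q ∘ g) ^ (b + 1) := by
    rw [eval_quot, J_quot, ← Ideal.map_pow]
    obtain ⟨x, hx, k, hk, hxk⟩ := Submodule.mem_sup.mp hev
    rw [← hxk, map_add, Ideal.Quotient.eq_zero_iff_mem.mpr hk, add_zero]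
    exact Ideal.mem_map_of_mem _ hx
  intro β
  have h1 := hqr b (map q G) (hG.map _) hev' β
  rw [coeff_map, J_quot] at h1
  exact Ideal.mem_quotient_iff_mem_sup.mp h1


/-! ### (P4) splitting polynomials in two sets of variables -/

section Split

/-- `Y`-part of an exponent vector. -/
noncomputable def dL (d : Fin m ⊕ Fin n →₀ ℕ) : Fin m →₀ ℕ :=
  d.comapDomain Sum.inl Sum.inl_injective.injOn

/-- `X`-part of an exponent vector. -/
noncomputable def dR (d : Fin m ⊕ Fin n →₀ ℕ) : Fin n →₀ ℕ :=
  d.comapDomain Sum.inr Sum.inr_injective.injOn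

@[simp] theorem dL_apply (d : Fin m ⊕ Fin n →₀ ℕ) (j : Fin m) : dL d j = d (Sum.inl j) := rfl
@[simp] theorem dR_apply (d : Fin m ⊕ Fin n →₀ ℕ) (i : Fin n) : dR d i = d (Sum.inr i) := rfl

theorem eq_sumElim_iff (d : Fin m ⊕ Fin n →₀ ℕ) (β : Fin m →₀ ℕ) (α : Fin n →₀ ℕ) :
    d = Finsupp.sumElim β α ↔ dL d = β ∧ dR d = α := by
  constructor
  · rintro rfl
    constructor
    · ext j; simp
    · ext i; simp
  · rintro ⟨rfl, rfl⟩
    ext s
    cases s <;> simp

theorem dL_sumElim (β : Fin m →₀ ℕ) (α : Fin n →₀ ℕ) : dL (Finsupp.sumElim β α) = β :=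
  ((eq_sumElim_iff _ β α).mp rfl).1

theorem dR_sumElim (β : Fin m →₀ ℕ) (α : Fin n →₀ ℕ) : dR (Finsupp.sumElim β α) = α :=
  ((eq_sumElim_iff _ β α).mp rfl).2

theorem sumElim_dL_dR (d : Fin m ⊕ Fin n →₀ ℕ) : Finsupp.sumElim (dL d) (dR d) = d :=
  ((eq_sumElim_iff d _ _).mpr ⟨rfl, rfl⟩).symm

theorem degree_eq (d : Fin m ⊕ Fin n →₀ ℕ) : d.degree = (dL d).degree + (dR d).degree := by
  rw [Finsupp.degree_eq_sum, Finsupp.degree_eq_sum, Finsupp.degree_eq_sum, Fintype.sum_sum_type]
  rfl

variable (A n m) in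
/-- The splitting iso: outer variables `Y` (`Fin m`), inner variables `X` (`Fin n`). -/
noncomputable abbrev Phi :
    MvPolynomial (Fin m ⊕ Fin n) A ≃ₐ[A] MvPolynomial (Fin m) (MvPolynomial (Fin n) A) :=
  sumAlgEquiv A (Fin m) (Fin n)

theorem Phi_monomial (d : Fin m ⊕ Fin n →₀ ℕ) (c : A) :
    Phi A n m (monomial d c) = monomial (dL d) (monomial (dR d) c) := by
  rw [monomial_eq, Finsupp.prod_fintype _ _ (fun _ => pow_zero _), map_mul, map_prod,
    Fintype.prod_sum_type]
  simp only [map_pow, sumAlgEquiv_X_inl, sumAlgEquiv_X_inr, sumAlgEquiv_C_inl]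
  rw [monomial_eq (s := dL d), Finsupp.prod_fintype _ _ (fun _ => pow_zero _),
    monomial_eq (s := dR d), Finsupp.prod_fintype _ _ (fun _ => pow_zero _)]
  simp only [map_mul, map_prod, map_pow, dL_apply, dR_apply]
  ring

theorem coeff_coeff_Phi (P : MvPolynomial (Fin m ⊕ Fin n) A) (β : Fin m →₀ ℕ)
    (α : Fin n →₀ ℕ) :
    coeff α (coeff β (Phi A n m P)) = coeff (Finsupp.sumElim β α) P := by
  classical
  induction P using MvPolynomial.induction_on' with
  | monomial d c =>
    rw [Phi_monomial, coeff_monomial, coeff_monomial]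
    by_cases h1 : dL d = β
    · rw [if_pos h1, coeff_monomial]
      by_cases h2 : dR d = α
      · rw [if_pos h2, if_pos ((eq_sumElim_iff d β α).mpr ⟨h1, h2⟩)]
      · rw [if_neg h2, if_neg (fun h => h2 ((eq_sumElim_iff d β α).mp h).2)]
    · rw [if_neg h1, coeff_zero, if_neg (fun h => h1 ((eq_sumElim_iff d β α).mp h).1)]
  | add p q hp hq =>
    rw [map_add, coeff_add, coeff_add, coeff_add, hp, hq]

/-- evaluation at `Sum.elim g f` factors through the splitting -/
theorem eval_split (f : Fin n → A) (g : Fin m → A) (P : MvPolynomial (Fin m ⊕ Fin n) A) :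
    eval g (map (eval f) (Phi A n m P)) = eval (Sum.elim g f) P := by
  induction P using MvPolynomial.induction_on with
  | C a => simp
  | add p q hp hq => simp only [map_add, hp, hq]
  | mul_X p s hp =>
    simp only [map_mul, hp]
    congr 1
    cases s <;> simp

end Split


section Restrict

variable {σ : Type*}

/-- the part of a polynomial supported on exponents satisfying `p` -/
noncomputable def restrict (p : (σ →₀ ℕ) → Prop) [DecidablePred p] (P : MvPolynomial σ A) :
    MvPolynomial σ A :=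
  ∑ d ∈ P.support.filter p, monomial d (coeff d P)

theorem coeff_restrict (p : (σ →₀ ℕ) → Prop) [DecidablePred p] (P : MvPolynomial σ A)
    (e : σ →₀ ℕ) : coeff e (restrict p P) = if p e then coeff e P else 0 := by
  classical
  unfold restrict
  rw [coeff_sum]
  simp only [coeff_monomial]
  rw [Finset.sum_ite_eq']
  by_cases hp : p e
  · rw [if_pos hp]
    by_cases he : e ∈ P.support
    · rw [if_pos (Finset.mem_filter.mpr ⟨he, hp⟩)]
    · rw [if_neg (fun h => he (Finset.mem_filter.mp h).1), notMem_support_iff.mp he]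
  · rw [if_neg hp, if_neg (fun h => hp (Finset.mem_filter.mp h).2)]

theorem restrict_add_restrict_not (p : (σ →₀ ℕ) → Prop) [DecidablePred p]
    (P : MvPolynomial σ A) : restrict p P + restrict (fun d => ¬ p d) P = P := by
  ext e
  rw [coeff_add, coeff_restrict, coeff_restrict]
  by_cases hp : p e <;> simp [hp]

theorem restrict_isHomogeneous (p : (σ →₀ ℕ) → Prop) [DecidablePred p]
    (P : MvPolynomial σ A) (D : ℕ) (hP : P.IsHomogeneous D) : (restrict p P).IsHomogeneous D := by
  rw [isHomogeneous_iff]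
  intro d hd
  rw [coeff_restrict] at hd
  by_cases hp : p d
  · rw [if_pos hp] at hd
    exact (isHomogeneous_iff P D).mp hP d hd
  · rw [if_neg hp] at hd
    exact absurd rfl hd

end Restrict


section Main

variable (f : Fin n → A) (g : Fin m → A)

theorem J_elim : J (Sum.elim g f) = J g ⊔ J f := by
  unfold J
  rw [Set.Sum.elim_range, Ideal.span_union]

theorem exists_coeff_ne_zero_of_coeff_map_ne_zero
    (Q : MvPolynomial (Fin m) (MvPolynomial (Fin n) A)) (β : Fin m →₀ ℕ)
    (h : coeff β (map (eval f) Q) ≠ 0) : ∃ α, coeff α (coeff β Q) ≠ 0 := by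
  rw [coeff_map] at h
  have : coeff β Q ≠ 0 := fun h0 => h (by rw [h0, map_zero])
  exact MvPolynomial.ne_zero_iff.mp this

/-- the key step: the part of lowest `Y`-degree -/
theorem key (hf : QR f) (h1 : RelMod g (J f)) (a₀ b₀ : ℕ)
    (P₀ : MvPolynomial (Fin m ⊕ Fin n) A) (hP₀ : P₀.IsHomogeneous (b₀ + a₀))
    (hsupp : ∀ d, coeff d P₀ ≠ 0 → (dL d).degree = b₀)
    (hev : eval (Sum.elim g f) P₀ ∈ J g ^ (b₀ + 1) ⊔ J f ^ (a₀ + 1)) :
    CoeffsIn (J g ⊔ J f) P₀ := by
  classical
  set Q := Phi A n m P₀ with hQ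
  set G := map (eval f) Q with hGdef
  have hG : G.IsHomogeneous b₀ := by
    rw [isHomogeneous_iff]
    intro β hβ
    obtain ⟨α, hα⟩ := exists_coeff_ne_zero_of_coeff_map_ne_zero f Q β hβ
    rw [hQ, coeff_coeff_Phi] at hα
    have := hsupp _ hα
    rwa [dL_sumElim] at this
  have hGev : eval g G = eval (Sum.elim g f) P₀ := eval_split f g P₀
  have hcoef := qr_mod g (J f ^ (a₀ + 1)) (relMod_pow f g hf h1 (a₀ + 1)) b₀ G hG
    (by rw [hGev]; exact hev)
  intro d
  by_cases hd : coeff d P₀ = 0
  · rw [hd]; exact Ideal.zero_mem _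
  have hβ : (dL d).degree = b₀ := hsupp d hd
  set β := dL d with hβdef
  set α := dR d with hαdef
  set F := coeff β Q with hF
  have hcF : ∀ α', coeff α' F = coeff (Finsupp.sumElim β α') P₀ := fun α' => by
    rw [hF, hQ, coeff_coeff_Phi]
  have hFh : F.IsHomogeneous a₀ := by
    rw [isHomogeneous_iff]
    intro α' hα'
    rw [hcF] at hα'
    have h2 := (isHomogeneous_iff P₀ (b₀ + a₀)).mp hP₀ _ hα'
    rw [degree_eq, dL_sumElim, dR_sumElim, hβ] at h2
    omega
  have hFe : eval f F = coeff β G := by rw [hGdef, coeff_map]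
  obtain ⟨x, hx, j', hj', hxj⟩ := Submodule.mem_sup.mp (hcoef β)
  obtain ⟨hh, hhx⟩ := Ideal.mem_span_range_iff_exists_fun.mp hx
  have hFa : eval f F ∈ J f ^ a₀ := by
    have := eval_mem f ⊤ hFh (fun _ => trivial)
    rwa [Ideal.top_mul] at this
  have hx' : ∑ k, hh k * g k ∈ J f ^ a₀ := by
    have : ∑ k, hh k * g k = eval f F - j' := by
      rw [hhx, hFe, ← hxj]; ring
    rw [this]
    exact Ideal.sub_mem _ hFa (Ideal.pow_le_pow_right (Nat.le_succ a₀) hj')
  obtain ⟨t, ht, hu⟩ := relMod_pow f g hf h1 a₀ hh hx'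
  have hU : ∀ k, ∃ U : MvPolynomial (Fin n) A, U.IsHomogeneous a₀ ∧ eval f U = hh k - t k :=
    fun k => exists_homog_of_mem_pow f (hu k)
  choose U hUh hUe using hU
  set V := F - ∑ k, C (g k) * U k with hV
  have hVh : V.IsHomogeneous a₀ := by
    refine hFh.sub (IsHomogeneous.sum _ _ _ fun k _ => ?_)
    have := (isHomogeneous_C (Fin n) (g k)).mul (hUh k)
    rwa [zero_add] at this
  have hVe : eval f V ∈ J f ^ (a₀ + 1) := by
    have : eval f V = j' := by
      rw [hV, map_sub, map_sum]
      simp only [map_mul, eval_C, hUe]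
      have h3 : ∑ k, g k * (hh k - t k) = x := by
        rw [← hhx]
        simp only [mul_sub, Finset.sum_sub_distrib]
        have := rel_eq_zero_of_mem_T g t ht
        have h4 : ∑ k, g k * t k = 0 := by
          rw [← this]; exact Finset.sum_congr rfl fun k _ => mul_comm _ _
        rw [h4, sub_zero]
        exact Finset.sum_congr rfl fun k _ => mul_comm _ _
      rw [h3, hFe, ← hxj]; ring
    rw [this]; exact hj'
  have hVc := hf a₀ V hVh hVe
  have hdc : coeff d P₀ = coeff α F := by
    rw [hcF, hβdef, hαdef, sumElim_dL_dR]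
  rw [hdc]
  have : coeff α F = coeff α V + ∑ k, g k * coeff α (U k) := by
    rw [hV, coeff_sub, coeff_sum]
    simp only [coeff_C_mul]
    ring
  rw [this]
  refine Ideal.add_mem _ (Ideal.mem_sup_right (hVc α)) (Ideal.mem_sup_left ?_)
  exact Ideal.sum_mem _ fun k _ => Ideal.mul_mem_right _ _ (Ideal.subset_span ⟨k, rfl⟩)

theorem eval_mem_pow_of_support (b : ℕ) (P₁ : MvPolynomial (Fin m ⊕ Fin n) A)
    (hsupp : ∀ d, coeff d P₁ ≠ 0 → b ≤ (dL d).degree) :
    eval (Sum.elim g f) P₁ ∈ J g ^ b := by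
  classical
  rw [← eval_split f g P₁, eval_eq]
  refine Ideal.sum_mem _ fun β hβ => ?_
  have hβ' : coeff β (map (eval f) (Phi A n m P₁)) ≠ 0 := mem_support_iff.mp hβ
  obtain ⟨α, hα⟩ := exists_coeff_ne_zero_of_coeff_map_ne_zero f _ β hβ'
  rw [coeff_coeff_Phi] at hα
  have h1 := hsupp _ hα
  rw [dL_sumElim] at h1
  exact Ideal.mul_mem_left _ _ (Ideal.pow_le_pow_right h1 (prod_pow_mem g β))

theorem main_aux (hf : QR f) (h1 : RelMod g (J f)) (D : ℕ) :
    ∀ (k : ℕ) (P : MvPolynomial (Fin m ⊕ Fin n) A), P.IsHomogeneous D →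
      eval (Sum.elim g f) P ∈ (J g ⊔ J f) ^ (D + 1) →
      (∀ d, coeff d P ≠ 0 → D + 1 ≤ (dL d).degree + k) → CoeffsIn (J g ⊔ J f) P := by
  classical
  intro k
  induction k with
  | zero =>
    intro P hP _ hsupp d
    by_cases hd : coeff d P = 0
    · rw [hd]; exact Ideal.zero_mem _
    · exfalso
      have h2 := hsupp d hd
      have h3 := (isHomogeneous_iff P D).mp hP d hd
      rw [degree_eq] at h3
      omega
  | succ k ih =>
    intro P hP hev hsupp
    by_cases hk : k ≤ D
    · obtain ⟨b₀, hb₀⟩ : ∃ b₀, D = b₀ + k := ⟨D - k, by omega⟩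
      let p : (Fin m ⊕ Fin n →₀ ℕ) → Prop := fun d => (dL d).degree = b₀
      set P₀ := restrict p P with hP₀
      set P₁ := restrict (fun d => ¬ p d) P with hP₁
      have hsum : P₀ + P₁ = P := restrict_add_restrict_not p P
      have hP₀h : P₀.IsHomogeneous D := restrict_isHomogeneous p P D hP
      have hP₁h : P₁.IsHomogeneous D := restrict_isHomogeneous _ P D hP
      have hP₀supp : ∀ d, coeff d P₀ ≠ 0 → (dL d).degree = b₀ := by
        intro d hd
        rw [hP₀, coeff_restrict] at hd
        by_contra hne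
        exact hd (if_neg hne)
      have hP₁supp : ∀ d, coeff d P₁ ≠ 0 → D + 1 ≤ (dL d).degree + k := by
        intro d hd
        rw [hP₁, coeff_restrict] at hd
        by_cases hpd : p d
        · exact absurd (if_neg (not_not.mpr hpd)) hd
        · rw [if_pos hpd] at hd
          have h2 := hsupp d hd
          have h3 : (dL d).degree ≠ b₀ := hpd
          omega
      have hP₁g : eval (Sum.elim g f) P₁ ∈ J g ^ (b₀ + 1) :=
        eval_mem_pow_of_support f g (b₀ + 1) P₁ (fun d hd => by
          have := hP₁supp d hd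
          omega)
      have hle : (J g ⊔ J f) ^ (D + 1) ≤ J g ^ (b₀ + 1) ⊔ J f ^ (k + 1) := by
        rw [hb₀]; exact sup_pow_le (J g) (J f) b₀ k
      have hev₀ : eval (Sum.elim g f) P₀ ∈ J g ^ (b₀ + 1) ⊔ J f ^ (k + 1) := by
        have : eval (Sum.elim g f) P₀ = eval (Sum.elim g f) P - eval (Sum.elim g f) P₁ := by
          rw [← hsum, map_add]; ring
        rw [this]
        exact Ideal.sub_mem _ (hle hev) (Ideal.mem_sup_left hP₁g)
      have hP₀c : CoeffsIn (J g ⊔ J f) P₀ :=
        key f g hf h1 k b₀ P₀ (hb₀ ▸ hP₀h) hP₀supp hev₀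
      have hP₀ev : eval (Sum.elim g f) P₀ ∈ (J g ⊔ J f) ^ (D + 1) := by
        have := eval_mem (Sum.elim g f) (J g ⊔ J f) hP₀h hP₀c
        rwa [J_elim, ← pow_succ'] at this
      have hP₁ev : eval (Sum.elim g f) P₁ ∈ (J g ⊔ J f) ^ (D + 1) := by
        have : eval (Sum.elim g f) P₁ = eval (Sum.elim g f) P - eval (Sum.elim g f) P₀ := by
          rw [← hsum, map_add]; ring
        rw [this]
        exact Ideal.sub_mem _ hev hP₀ev
      have hP₁c := ih P₁ hP₁h hP₁ev hP₁supp
      rw [← hsum]
      exact hP₀c.add hP₁c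
    · exact ih P hP hev (fun d _ => by omega)

theorem qr_sumElim (hf : QR f)
    (hg : CAlgX.IsH1Regular (fun j => Ideal.Quotient.mk (J f) (g j))) : QR (Sum.elim g f) := by
  intro D P hP hev
  rw [J_elim] at hev ⊢
  exact main_aux f g hf (relMod_one f g hg) D (D + 1) P hP hev (fun d _ => by omega)

theorem qr_append (hf : QR f)
    (hg : CAlgX.IsH1Regular (fun j => Ideal.Quotient.mk (J f) (g j))) :
    QR (Fin.append f g) := by
  have h := qr_comp_equiv (Sum.elim g f) (qr_sumElim f g hf hg)
    (finSumFinEquiv.symm.trans (Equiv.sumComm (Fin n) (Fin m)))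
  convert h using 1
  ext k
  refine Fin.addCases (fun i => ?_) (fun j => ?_) k
  · simp
  · simp

end Main

end Groth.Agent.H11.QRAppend
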