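import Mathlib
import Groth.Prelude.Def_CurvBase
import Groth.Agent.H25.GenFibre

/-!
# An integral `k`-scheme with a normal `k`-rational point is geometrically irreducible
-/

set_option autoImplicit false
universe u
open CategoryTheory CategoryTheory.Limits AlgebraicGeometry TopologicalSpace Polynomial
attribute [local instance] Curv2.resAlgebra Curv2.stalkAlgebra

namespace Groth.Agent.H11.RatPtIrr

theorem geometricallyIrreducible_of_rational_normal (k : Type u) [Field k] (X : Scheme.{u})
    [X.Over (Spec (CommRingCat.of k))] [IsIntegral X]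
    (x : X) (hx : Function.Surjective (Curv2.resMap k X x))
    [IsIntegrallyClosed (X.presheaf.stalk x)] :
    GeometricallyIrreducible (X ↘ Spec (CommRingCat.of k)) := by
  rw [Groth.Agent.H25.GenFibre.geometricallyIrreducible_iff_sepClosedIn k X]
  intro a ha
  have hsp : genericPoint X ⤳ x := (genericPoint_spec X).specializes trivial
  -- the maps
  let σx : k →+* X.presheaf.stalk x := Curv2.stalkMap k X x
  let σ : k →+* X.functionField := Curv2.stalkMap k X (genericPoint X)
  let φ : X.presheaf.stalk x →+* X.functionField := algebraMap _ _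
  have hφinj : Function.Injective φ := IsFractionRing.injective _ _
  have hφk : ∀ c : k, φ (σx c) = σ c := by
    intro c
    exact TopCat.Presheaf.germ_stalkSpecializes_apply X.presheaf
      (show x ∈ (⊤ : X.Opens) from trivial) hsp _
  have hφσ : φ.comp σx = σ := RingHom.ext hφk
  let ρ : X.functionField →+* X.residueField (genericPoint X) :=
    (X.residue (genericPoint X)).hom
  have hρinj : Function.Injective ρ := RingHom.injective ρ
  have hρsurj : Function.Surjective ρ := IsLocalRing.residue_surjective
  have hρσ : ρ.comp σ = algebraMap k (X.residueField (genericPoint X)) := rfl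
  obtain ⟨b, rfl⟩ := hρsurj a
  -- `b` is integral over `k`
  have hbint : IsIntegral k b := by
    obtain ⟨p, hpm, hp⟩ := ha.isIntegral
    refine ⟨p, hpm, ?_⟩
    apply hρinj
    rw [map_zero, Polynomial.hom_eval₂]
    exact hp
  -- hence over the local ring at `x`
  have hbint' : IsIntegral (X.presheaf.stalk x) b := by
    obtain ⟨p, hpm, hp⟩ := hbint
    refine ⟨p.map σx, hpm.map σx, ?_⟩
    rw [Polynomial.eval₂_map]
    have : (algebraMap (X.presheaf.stalk x) X.functionField).comp σx = σ := hφσ
    rw [this]
    exact hp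
  obtain ⟨c, hc⟩ := IsIntegrallyClosed.algebraMap_eq_of_integral hbint'
  obtain ⟨c₀, hc₀⟩ := hx (X.residue x c)
  -- claim: `b = σ c₀`
  have hclaim : b = σ c₀ := by
    by_contra hne
    have hb'ne : b - σ c₀ ≠ 0 := sub_ne_zero.mpr hne
    have hb'int : IsIntegral k (b - σ c₀) := hbint.sub isIntegral_algebraMap
    have hq0 := minpoly.coeff_zero_ne_zero hb'int hb'ne
    have hq : Polynomial.eval₂ σ (b - σ c₀) (minpoly k (b - σ c₀)) = 0 := minpoly.aeval k _
    have hc' : φ (c - σx c₀) = b - σ c₀ := by
      rw [map_sub, hφk]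
      congr 1
    have hq' : Polynomial.eval₂ σx (c - σx c₀) (minpoly k (b - σ c₀)) = 0 := by
      apply hφinj
      rw [map_zero, Polynomial.hom_eval₂, hφσ, hc']
      exact hq
    have hmem : c - σx c₀ ∈ IsLocalRing.maximalIdeal (X.presheaf.stalk x) := by
      rw [← IsLocalRing.residue_eq_zero_iff, map_sub, sub_eq_zero]
      exact hc₀.symm
    have hdecomp := Polynomial.divX_mul_X_add (minpoly k (b - σ c₀))
    rw [← hdecomp, Polynomial.eval₂_add, Polynomial.eval₂_mul, Polynomial.eval₂_X,
      Polynomial.eval₂_C] at hq'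
    have hunit : IsUnit (σx ((minpoly k (b - σ c₀)).coeff 0)) :=
      (IsUnit.mk0 _ hq0).map σx
    have hmem2 : σx ((minpoly k (b - σ c₀)).coeff 0) ∈
        IsLocalRing.maximalIdeal (X.presheaf.stalk x) := by
      have : σx ((minpoly k (b - σ c₀)).coeff 0) =
          -(Polynomial.eval₂ σx (c - σx c₀) (minpoly k (b - σ c₀)).divX * (c - σx c₀)) :=
        eq_neg_of_add_eq_zero_right hq'
      rw [this]
      exact neg_mem (Ideal.mul_mem_left _ _ hmem)
    exact (IsLocalRing.mem_maximalIdeal _).1 hmem2 hunit
  exact ⟨c₀, by rw [hclaim]; rfl⟩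

end Groth.Agent.H11.RatPtIrr
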