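import Groth.Agent.H34.ReflexiveDepth
import Groth.Agent.H34.SkHom
import Groth.Agent.H14.ZClos.Serre
import Groth.Agent.H14.ZClos.DepthLocal
import Groth.Agent.H15.CDivNormal

/-!
# Normal Noetherian domains satisfy `(S_2)`; localizations at primes of height `≤ 1` are PIDs
-/

namespace Groth.Agent.H11.ReflS2

universe u

open LocCoh

variable {R : Type u} [CommRing R] [IsDomain R] [IsNoetherianRing R]

/-- the `R_p`-linear identification of `LocalizedModule p.primeCompl R` with `R_p`. -/
noncomputable def locEquiv (p : Ideal R) [p.IsPrime] :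
    LocalizedModule p.primeCompl R ≃ₗ[Localization.AtPrime p] Localization.AtPrime p :=
  (IsLocalizedModule.iso p.primeCompl
    (Algebra.linearMap R (Localization.AtPrime p))).extendScalarsOfIsLocalization p.primeCompl
      (Localization.AtPrime p)

theorem depth_locEquiv (p : Ideal R) [p.IsPrime] :
    depth (Localization.AtPrime p) (LocalizedModule p.primeCompl R) =
      depth (Localization.AtPrime p) (Localization.AtPrime p) := by
  unfold depth
  exact Groth.Agent.H34.idealDepth_congr (locEquiv p) _

theorem not_mem_associatedPrimes_self (p : Ideal R) [p.IsPrime] (hp : p ≠ ⊥) :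
    p ∉ associatedPrimes R R := by
  intro hass
  obtain ⟨hprime, x, hx⟩ := hass
  by_cases hx0 : x = 0
  · apply hprime.ne_top
    rw [hx, eq_top_iff]
    intro r _
    refine Ideal.le_radical ?_
    rw [Submodule.mem_colon_singleton, hx0, smul_zero]
    exact Submodule.zero_mem _
  · apply hp
    rw [hx, eq_bot_iff]
    intro r hr
    obtain ⟨n, hn⟩ := hr
    rw [Submodule.mem_colon_singleton, Submodule.mem_bot, smul_eq_mul] at hn
    rcases mul_eq_zero.mp hn with h | h
    · exact eq_zero_of_pow_eq_zero h   -- r ^ n = 0
    · exact absurd h hx0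


theorem hasSk_two_self [IsIntegrallyClosed R] : HasSk 2 R R := by
  have hsupp : Module.support R R = Set.univ := Module.support_of_noZeroSMulDivisors
  rw [Groth.Agent.H14.ZClos.hasSk_iff 2 hsupp]
  intro p hp
  by_cases h2 : 2 ≤ depth (Localization.AtPrime p) (LocalizedModule p.primeCompl R)
  · exact le_trans (min_le_left _ _) (by exact_mod_cast h2)
  by_cases hp0 : p = ⊥
  · subst hp0
    rw [Ideal.height_bot]
    simp
  have h1 : 1 ≤ depth (Localization.AtPrime p) (LocalizedModule p.primeCompl R) :=
    (Groth.Agent.H14.ZClos.one_le_depth_localization_iff R p).mpr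
      (not_mem_associatedPrimes_self p hp0)
  have hd1 : depth (Localization.AtPrime p) (LocalizedModule p.primeCompl R) = 1 := by
    apply le_antisymm _ h1
    rw [not_le] at h2
    have : (2 : ℕ∞) = 1 + 1 := by norm_num
    rw [this] at h2
    exact (ENat.lt_add_one_iff (by norm_num)).mp h2
  rw [depth_locEquiv] at hd1
  haveI : IsIntegrallyClosed (Localization.AtPrime p) :=
    isIntegrallyClosed_of_isLocalization (Localization.AtPrime p) p.primeCompl
      p.primeCompl_le_nonZeroDivisors
  haveI := Groth.Agent.H15.CDivAlg.isDiscreteValuationRing_of_depth_eq_one hd1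
  have hdim : ringKrullDim (Localization.AtPrime p) ≤ 1 :=
    Ring.krullDimLE_iff.mp inferInstance
  rw [IsLocalization.AtPrime.ringKrullDim_eq_height p] at hdim
  have hht : p.height ≤ 1 := by exact_mod_cast hdim
  rw [depth_locEquiv, hd1]
  exact le_trans (min_le_right _ _) hht


theorem isPrincipalIdealRing_of_height_le_one [IsIntegrallyClosed R] (p : Ideal R) [p.IsPrime]
    (hp : p.height ≤ 1) : IsPrincipalIdealRing (Localization.AtPrime p) := by
  haveI : IsIntegrallyClosed (Localization.AtPrime p) :=
    isIntegrallyClosed_of_isLocalization (Localization.AtPrime p) p.primeCompl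
      p.primeCompl_le_nonZeroDivisors
  have htfae := (tfae_of_isNoetherianRing_of_isLocalRing_of_isDomain
    (Localization.AtPrime p)).out 0 3
  rw [htfae]
  refine ⟨inferInstance, ?_⟩
  intro P hP0 hPprime
  -- `P` is the extension of its contraction `q ⊆ p`
  set q := P.comap (algebraMap R (Localization.AtPrime p)) with hq
  have hqprime : q.IsPrime := Ideal.comap_isPrime _ _
  have hPq : P = q.map (algebraMap R (Localization.AtPrime p)) :=
    (IsLocalization.map_comap p.primeCompl (Localization.AtPrime p) P).symm
  have hqp : q ≤ p := by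
    intro x hx
    by_contra hxp
    have hu : IsUnit (algebraMap R (Localization.AtPrime p) x) :=
      IsLocalization.map_units (Localization.AtPrime p) (⟨x, hxp⟩ : p.primeCompl)
    exact hPprime.ne_top (Ideal.eq_top_of_isUnit_mem _ hx hu)
  have hq0 : q ≠ ⊥ := by
    intro h0
    apply hP0
    rw [hPq, h0, Ideal.map_bot]
  have hqeq : q = p := by
    by_contra hne
    have hlt : q < p := lt_of_le_of_ne hqp hne
    have h1 : q.height + 1 ≤ p.height := Ideal.height_add_one_le_of_lt_of_isPrime hlt
    have h2 : 1 ≤ q.height := by
      rw [Order.one_le_iff_ne_zero, Ne, Ideal.height_eq_zero_iff_eq_bot]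
      exact hq0
    have h3 : (1 : ℕ∞) + 1 ≤ 1 := le_trans (le_trans (add_le_add_left h2 1) h1) hp
    norm_num at h3
  rw [hPq, hqeq]
  exact Localization.AtPrime.map_eq_maximalIdeal

end Groth.Agent.H11.ReflS2
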