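import Mathlib
import Groth.Agent.H11.GeomRedDiff
import Groth.Agent.Lead.RegularLocal3

/-!
# Regular local rings with separable residue field via generators and differentials
(EGA IV 17.15.x, finite type over a field)
-/

set_option autoImplicit false
set_option linter.unusedSectionVars false

namespace Groth.Agent.H11.RegSepGen

open TensorProduct IsLocalRing

universe u

section comb

theorem ncard_lt_le (n r : ℕ) : {i : Fin n | (i : ℕ) < r}.ncard ≤ r := by
  have h1 : {i : Fin n | (i : ℕ) < r}.ncard = (Fin.val '' {i : Fin n | (i : ℕ) < r}).ncard :=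
    (Set.ncard_image_of_injective _ Fin.val_injective).symm
  rw [h1]
  have h2 : Fin.val '' {i : Fin n | (i : ℕ) < r} ⊆ Set.Iio r := by
    rintro _ ⟨i, hi, rfl⟩
    exact hi
  refine (Set.ncard_le_ncard h2 (Set.finite_Iio r)).trans ?_
  simp [Set.ncard_eq_toFinset_card']

theorem ncard_ge_le (n r : ℕ) : {i : Fin n | r ≤ (i : ℕ)}.ncard ≤ n - r := by
  have h1 : {i : Fin n | r ≤ (i : ℕ)}.ncard = (Fin.val '' {i : Fin n | r ≤ (i : ℕ)}).ncard :=
    (Set.ncard_image_of_injective _ Fin.val_injective).symm
  rw [h1]
  have h2 : Fin.val '' {i : Fin n | r ≤ (i : ℕ)} ⊆ Set.Ico r n := by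
    rintro _ ⟨i, hi, rfl⟩
    exact ⟨hi, i.2⟩
  refine (Set.ncard_le_ncard h2 (Set.finite_Ico r n)).trans ?_
  simp [Set.ncard_eq_toFinset_card']

theorem finrank_le_ncard_of_span_eq_top {K V : Type*} [Field K] [AddCommGroup V] [Module K V]
    (s : Set V) (hs : s.Finite) (h : Submodule.span K s = ⊤) : Module.finrank K V ≤ s.ncard := by
  haveI := hs.fintype
  rw [← finrank_top K V, ← h, Set.ncard_eq_toFinset_card']
  exact finrank_span_le_card s

end comb

variable (k A : Type u) [Field k] [CommRing A] [Algebra k A] [Algebra.FiniteType k A]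
  (p : Ideal A) [p.IsPrime]

include k in
/-- `dim A_p ≤ localDim` and `dim A/p = localDim - dim A_p`. -/
theorem dim_le_of_localDim_eq (n r : ℕ)
    (hn : FlatMor.localDim (PrimeSpectrum A) ⟨p, inferInstance⟩ = (n : WithBot ℕ∞))
    (hr : ringKrullDim (Localization.AtPrime p) = (r : WithBot ℕ∞)) :
    r ≤ n ∧ Order.coheight (⟨p, inferInstance⟩ : PrimeSpectrum A) = ((n - r : ℕ) : ℕ∞) := by
  have e1 := Groth.Agent.H11.FtDim.localDim_eq_height_add_coheight (k := k)
    (⟨p, inferInstance⟩ : PrimeSpectrum A)
  have e2 : ringKrullDim (Localization.AtPrime p) = p.height :=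
    IsLocalization.AtPrime.ringKrullDim_eq_height p (Localization.AtPrime p)
  have e3 : p.height = Order.height (⟨p, inferInstance⟩ : PrimeSpectrum A) :=
    PrimeSpectrum.height_eq_orderHeight ⟨p, inferInstance⟩
  rw [hr, e3] at e2
  have e4 : Order.height (⟨p, inferInstance⟩ : PrimeSpectrum A) = (r : ℕ∞) := by
    exact_mod_cast e2.symm
  rw [hn, e4] at e1
  have e5 : ((n : ℕ) : ℕ∞) = (r : ℕ∞) + Order.coheight (⟨p, inferInstance⟩ : PrimeSpectrum A) := by
    exact_mod_cast e1
  have hfin : Order.coheight (⟨p, inferInstance⟩ : PrimeSpectrum A) ≠ ⊤ := by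
    intro htop
    rw [htop, add_top] at e5
    exact ENat.natCast_ne_top n e5
  obtain ⟨c, hc⟩ := ENat.ne_top_iff_exists.mp hfin
  rw [← hc] at e5 ⊢
  have e6 : n = r + c := by exact_mod_cast e5
  refine ⟨by omega, ?_⟩
  have : c = n - r := by omega
  rw [this]

/-- EGA IV 17.15.x: `A_p` is regular with separable residue field iff there are `n = localDim`
elements of `A_p`, the first `r = dim A_p` generating the maximal ideal and the differentials of
the residue classes of the others generating `Ω[κ(p)/k]`. -/
theorem regular_and_geomReduced_iff (n r : ℕ)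
    (hn : FlatMor.localDim (PrimeSpectrum A) ⟨p, inferInstance⟩ = (n : WithBot ℕ∞))
    (hr : ringKrullDim (Localization.AtPrime p) = (r : WithBot ℕ∞)) :
    (IsRegularLocalRing (Localization.AtPrime p) ∧
        Algebra.IsGeometricallyReduced k p.ResidueField) ↔
      ∃ g : Fin n → Localization.AtPrime p,
        Ideal.span (g '' {i : Fin n | (i : ℕ) < r}) = maximalIdeal (Localization.AtPrime p) ∧
          Submodule.span p.ResidueField ((fun i : Fin n =>
            KaehlerDifferential.D k p.ResidueField (residue (Localization.AtPrime p) (g i))) ''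
              {i : Fin n | r ≤ (i : ℕ)}) = ⊤ := by
  obtain ⟨hrn, hcoht⟩ := dim_le_of_localDim_eq k A p n r hn hr
  have hGR := Groth.Agent.H11.GeomRedDiff.isGeometricallyReduced_residueField_iff k A p (n - r) hcoht
  haveI : IsNoetherianRing A := Algebra.FiniteType.isNoetherianRing k A
  haveI : Algebra.EssFiniteType k p.ResidueField := Algebra.EssFiniteType.comp k A _
  haveI : Module.Finite p.ResidueField Ω[p.ResidueField⁄k] := inferInstance
  constructor
  · rintro ⟨hreg, hgr⟩
    have hd' := hGR.mp hgr
    have hsf : (maximalIdeal (Localization.AtPrime p)).spanFinrank = r := by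
      have h1 := IsRegularLocalRing.spanFinrank_maximalIdeal (R := Localization.AtPrime p)
      rw [hr] at h1
      exact_mod_cast h1
    obtain ⟨s, hscard, hsspan⟩ := Submodule.FG.exists_span_finset_card_eq_spanFinrank
      (maximalIdeal (Localization.AtPrime p)).fg_of_isNoetherianRing
    obtain ⟨y, hy⟩ := Groth.Agent.Lead.RLR.exists_fin_range_eq s r (hscard.trans hsf)
    have hyspan : Ideal.span (Set.range y) = maximalIdeal (Localization.AtPrime p) := by
      rw [hy]
      exact hsspan
    have hspanD : Submodule.span p.ResidueField (Set.range fun t : Localization.AtPrime p =>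
        KaehlerDifferential.D k p.ResidueField (residue (Localization.AtPrime p) t)) = ⊤ := by
      have h1 := KaehlerDifferential.span_range_derivation k p.ResidueField
      rw [← h1]
      congr 1
      exact (residue_surjective (R := Localization.AtPrime p)).range_comp
        (KaehlerDifferential.D k p.ResidueField)
    obtain ⟨f, hf, hfspan, -⟩ := Submodule.exists_fun_fin_finrank_span_eq p.ResidueField
      (Set.range fun t : Localization.AtPrime p =>
        KaehlerDifferential.D k p.ResidueField (residue (Localization.AtPrime p) t))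
    have hm' : Module.finrank p.ResidueField (Submodule.span p.ResidueField
        (Set.range fun t : Localization.AtPrime p =>
          KaehlerDifferential.D k p.ResidueField (residue (Localization.AtPrime p) t))) ≤
        n - r := by
      rw [hspanD, finrank_top]
      exact hd'
    generalize Module.finrank p.ResidueField (Submodule.span p.ResidueField
        (Set.range fun t : Localization.AtPrime p =>
          KaehlerDifferential.D k p.ResidueField (residue (Localization.AtPrime p) t))) = m'
      at f hf hfspan hm'
    choose t ht using hf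
    refine ⟨fun i => if h : (i : ℕ) < r then y ⟨i, h⟩ else
      if h' : (i : ℕ) - r < m' then t ⟨(i : ℕ) - r, h'⟩ else 0, ?_, ?_⟩
    · rw [← hyspan]
      congr 1
      ext x
      constructor
      · rintro ⟨i, hi, rfl⟩
        have hi' : (i : ℕ) < r := hi
        exact ⟨⟨i, hi'⟩, by simp only [dif_pos hi']⟩
      · rintro ⟨j, rfl⟩
        refine ⟨⟨j, lt_of_lt_of_le j.2 hrn⟩, j.2, ?_⟩
        simp only [dif_pos j.2]
    · rw [eq_top_iff, ← hspanD, ← hfspan, Submodule.span_le]
      rintro _ ⟨j, rfl⟩
      have hj : r + (j : ℕ) < n := by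
        have := j.2
        omega
      have h1 : ¬ ((⟨r + j, hj⟩ : Fin n) : ℕ) < r := by simp
      have h2 : ((⟨r + j, hj⟩ : Fin n) : ℕ) - r < m' := by simp
      apply Submodule.subset_span
      refine ⟨⟨r + j, hj⟩, by simp, ?_⟩
      simp only [dif_neg h1, dif_pos h2]
      rw [← ht j]
      congr 3
      ext
      simp
  · rintro ⟨g, h1, h2⟩
    constructor
    · apply IsRegularLocalRing.of_spanFinrank_maximalIdeal_le
      rw [hr, ← h1]
      have h3 : (Ideal.span (g '' {i : Fin n | (i : ℕ) < r})).spanFinrank ≤ r :=
        (Submodule.spanFinrank_span_le_ncard_of_finite (Set.toFinite _)).trans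
          ((Set.ncard_image_le (Set.toFinite _)).trans (ncard_lt_le n r))
      exact_mod_cast h3
    · rw [hGR]
      exact (finrank_le_ncard_of_span_eq_top _ (Set.toFinite _) h2).trans
        ((Set.ncard_image_le (Set.toFinite _)).trans (ncard_ge_le n r))

end Groth.Agent.H11.RegSepGen
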