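import Mathlib
import Groth.Prelude.Def_RegImm
import Groth.Prelude.Def_Flat
import Groth.Agent.H11.FtDim
import Groth.Agent.H17.Chev.TopLocalDim

/-!
# Fibres of a relative global complete intersection are equidimensional

For a relative global complete intersection `R[x₁..xₙ]/(F₁..F_c)` every fibre ring
`κ(p) ⊗ R[x]/(F)` has local dimension `n - c` at every point.
-/

set_option autoImplicit false
set_option linter.unusedSectionVars false

namespace Groth.Agent.H11.RelGCIFibre

open TensorProduct MvPolynomial
open Groth.Agent.H11.FtDim Groth.Agent.H24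

universe u

variable (R : Type u) [CommRing R] (n c : ℕ) (F : Fin c → MvPolynomial (Fin n) R)
variable (p : Ideal R) [p.IsPrime]

/-- The presentation `κ(p)[x] → κ(p) ⊗ R[x]/(F)` of the fibre ring. -/
noncomputable def sig : MvPolynomial (Fin n) p.ResidueField →ₐ[p.ResidueField]
    p.Fiber (Synt.RelGCIRing R n c F) :=
  MvPolynomial.aeval (fun i => (1 : p.ResidueField) ⊗ₜ[R]
    (Ideal.Quotient.mk (Ideal.span (Set.range F)) (X i) : Synt.RelGCIRing R n c F))

theorem sig_map (b : MvPolynomial (Fin n) R) :
    sig R n c F p (MvPolynomial.map (algebraMap R p.ResidueField) b) =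
      (1 : p.ResidueField) ⊗ₜ[R] (Ideal.Quotient.mk (Ideal.span (Set.range F)) b) := by
  have h : ((sig R n c F p).toRingHom.comp (MvPolynomial.map (algebraMap R p.ResidueField))) =
      (Algebra.TensorProduct.includeRight (R := R) (A := p.ResidueField)
        (B := Synt.RelGCIRing R n c F)).toRingHom.comp
        (Ideal.Quotient.mk (Ideal.span (Set.range F))) := by
    apply MvPolynomial.ringHom_ext
    · intro r
      simp only [RingHom.comp_apply, MvPolynomial.map_C, AlgHom.toRingHom_eq_coe, RingHom.coe_coe,
        Algebra.TensorProduct.includeRight_apply]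
      rw [sig, MvPolynomial.aeval_C, ← IsScalarTower.algebraMap_apply R p.ResidueField,
        Algebra.TensorProduct.algebraMap_apply, Algebra.TensorProduct.tmul_one_eq_one_tmul]
      rfl
    · intro i
      simp [sig]
  exact congrArg (fun f => f b) h

theorem sig_surjective : Function.Surjective (sig R n c F p) := by
  intro z
  induction z using TensorProduct.induction_on with
  | zero => exact ⟨0, map_zero _⟩
  | tmul a b =>
    obtain ⟨b, rfl⟩ := Ideal.Quotient.mk_surjective b
    refine ⟨C a * MvPolynomial.map (algebraMap R p.ResidueField) b, ?_⟩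
    rw [map_mul, sig_map]
    rw [sig, MvPolynomial.aeval_C, Algebra.TensorProduct.algebraMap_apply,
      Algebra.TensorProduct.tmul_mul_tmul, mul_one, one_mul]
    rfl
  | add x y hx hy =>
    obtain ⟨zx, hzx⟩ := hx
    obtain ⟨zy, hzy⟩ := hy
    exact ⟨zx + zy, by rw [map_add, hzx, hzy]⟩

/-- The relations of the fibre ring. -/
noncomputable abbrev Fbar : Fin c → MvPolynomial (Fin n) p.ResidueField :=
  fun j => MvPolynomial.map (algebraMap R p.ResidueField) (F j)

/-- The inverse map `κ(p) ⊗ R[x]/(F) → κ(p)[x]/(F̄)`. -/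
noncomputable def theta : p.Fiber (Synt.RelGCIRing R n c F) →ₐ[R]
    (MvPolynomial (Fin n) p.ResidueField ⧸ Ideal.span (Set.range (Fbar R n c F p))) :=
  let φ : MvPolynomial (Fin n) R →ₐ[R]
      (MvPolynomial (Fin n) p.ResidueField ⧸ Ideal.span (Set.range (Fbar R n c F p))) :=
    (Ideal.Quotient.mkₐ R _).comp (MvPolynomial.mapAlgHom (Algebra.ofId R p.ResidueField))
  have hφ : ∀ a ∈ Ideal.span (Set.range F), φ a = 0 := by
    intro a ha
    have hle : Ideal.span (Set.range F) ≤ RingHom.ker φ.toRingHom := by
      rw [Ideal.span_le]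
      rintro _ ⟨j, rfl⟩
      exact Ideal.Quotient.eq_zero_iff_mem.mpr (Ideal.subset_span ⟨j, rfl⟩)
    exact hle ha
  let g₂ : Synt.RelGCIRing R n c F →ₐ[R]
      (MvPolynomial (Fin n) p.ResidueField ⧸ Ideal.span (Set.range (Fbar R n c F p))) :=
    Ideal.Quotient.liftₐ (Ideal.span (Set.range F)) φ hφ
  let g₁ : p.ResidueField →ₐ[R]
      (MvPolynomial (Fin n) p.ResidueField ⧸ Ideal.span (Set.range (Fbar R n c F p))) :=
    (Ideal.Quotient.mkₐ R _).comp (IsScalarTower.toAlgHom R p.ResidueField _)
  Algebra.TensorProduct.productMap g₁ g₂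

theorem theta_sig (a : MvPolynomial (Fin n) p.ResidueField) :
    theta R n c F p (sig R n c F p a) =
      Ideal.Quotient.mk (Ideal.span (Set.range (Fbar R n c F p))) a := by
  have h : (theta R n c F p).toRingHom.comp (sig R n c F p).toRingHom =
      Ideal.Quotient.mk (Ideal.span (Set.range (Fbar R n c F p))) := by
    apply MvPolynomial.ringHom_ext
    · intro a
      simp only [RingHom.comp_apply, AlgHom.toRingHom_eq_coe, RingHom.coe_coe]
      rw [sig, MvPolynomial.aeval_C, Algebra.TensorProduct.algebraMap_apply, theta,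
        Algebra.TensorProduct.productMap_apply_tmul, map_one, mul_one]
      rfl
    · intro i
      simp only [RingHom.comp_apply, AlgHom.toRingHom_eq_coe, RingHom.coe_coe]
      rw [sig, MvPolynomial.aeval_X, theta, Algebra.TensorProduct.productMap_apply_tmul, map_one,
        one_mul]
      simp
  exact congrArg (fun f => f a) h

theorem ker_sig : RingHom.ker (sig R n c F p).toRingHom =
    Ideal.span (Set.range (Fbar R n c F p)) := by
  apply le_antisymm
  · intro a ha
    rw [RingHom.mem_ker] at ha
    have h1 := theta_sig R n c F p a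
    have h2 : sig R n c F p a = 0 := ha
    rw [h2, map_zero] at h1
    exact Ideal.Quotient.eq_zero_iff_mem.mp h1.symm
  · rw [Ideal.span_le]
    rintro _ ⟨j, rfl⟩
    change sig R n c F p (MvPolynomial.map (algebraMap R p.ResidueField) (F j)) = 0
    have h0 : (Ideal.Quotient.mk (Ideal.span (Set.range F)) (F j) : Synt.RelGCIRing R n c F) = 0 :=
      Ideal.Quotient.eq_zero_iff_mem.mpr (Ideal.subset_span (Set.mem_range_self j))
    rw [sig_map, h0, tmul_zero]


/-- A finite type algebra over a field presented by `n` variables and `c` relations, of dimension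
`n - c`, has local dimension `n - c` at every point. -/
theorem localDim_eq_of_presentation (κ : Type u) [Field κ] (S : Type u) [CommRing S] [Algebra κ S]
    (n c : ℕ) (σ : MvPolynomial (Fin n) κ →ₐ[κ] S) (hσ : Function.Surjective σ)
    (G : Fin c → MvPolynomial (Fin n) κ)
    (hker : RingHom.ker σ.toRingHom = Ideal.span (Set.range G))
    (hdim : ringKrullDim S = ((n - c : ℕ) : WithBot ℕ∞)) (Q : PrimeSpectrum S) :
    FlatMor.localDim (PrimeSpectrum S) Q = ((n - c : ℕ) : WithBot ℕ∞) := by
  classical
  haveI : Algebra.FiniteType κ S := Algebra.FiniteType.of_surjective σ hσ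
  apply le_antisymm
  · calc FlatMor.localDim (PrimeSpectrum S) Q
        ≤ topologicalKrullDim (PrimeSpectrum S) := Groth.Agent.H17.Chev.localDim_le_dim Q
      _ = ringKrullDim S := PrimeSpectrum.topologicalKrullDim_eq_ringKrullDim _
      _ = _ := hdim
  · obtain ⟨q, hq, hqQ⟩ := Ideal.exists_minimalPrimes_le (bot_le : (⊥ : Ideal S) ≤ Q.asIdeal)
    haveI : q.IsPrime := hq.1.1
    refine le_trans ?_ (localDim_ge (k := κ) Q q hqQ)
    let f : MvPolynomial (Fin n) κ →+* S ⧸ q := (Ideal.Quotient.mk q).comp σ.toRingHom
    have hfsurj : Function.Surjective f := Ideal.Quotient.mk_surjective.comp hσ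
    haveI hq'prime : (RingHom.ker f).IsPrime := RingHom.ker_isPrime f
    have hq'eq : RingHom.ker f = q.comap σ.toRingHom := by
      rw [← RingHom.comap_ker, Ideal.mk_ker]
    have hmin : RingHom.ker f ∈ (Ideal.span (Set.range G)).minimalPrimes := by
      rw [← hker, hq'eq, RingHom.ker_eq_comap_bot,
        Ideal.comap_minimalPrimes_eq_of_surjective (f := σ.toRingHom) hσ]
      exact ⟨q, hq, rfl⟩
    have hht : (RingHom.ker f).height ≤ (c : ℕ∞) := by
      have hs : ((Finset.univ.image G : Finset _) : Set _) = Set.range G := by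
        rw [Finset.coe_image, Finset.coe_univ, Set.image_univ]
      rw [← hs] at hmin
      refine (Ideal.height_le_card_of_mem_minimalPrimes_span_finset hmin).trans ?_
      have := Finset.card_image_le (s := (Finset.univ : Finset (Fin c))) (f := G)
      rw [Finset.card_univ, Fintype.card_fin] at this
      exact_mod_cast this
    have e := RingHom.quotientKerEquivOfSurjective hfsurj
    rw [← ringKrullDim_eq_of_ringEquiv e]
    have e1 := height_add_coheight_eq κ (MvPolynomial (Fin n) κ) ⟨RingHom.ker f, inferInstance⟩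
    rw [Groth.Agent.H54.ringKrullDim_mvPolynomial_fin_field] at e1
    have e2 := coheight_eq_ringKrullDim_quotient
      (⟨RingHom.ker f, inferInstance⟩ : PrimeSpectrum (MvPolynomial (Fin n) κ))
    have e3 : (RingHom.ker f).height = Order.height
        (⟨RingHom.ker f, inferInstance⟩ : PrimeSpectrum (MvPolynomial (Fin n) κ)) :=
      PrimeSpectrum.height_eq_orderHeight ⟨RingHom.ker f, inferInstance⟩
    rw [← e2]
    rw [e3] at hht
    have e4 : Order.height (⟨RingHom.ker f, inferInstance⟩ :
          PrimeSpectrum (MvPolynomial (Fin n) κ)) +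
        Order.coheight (⟨RingHom.ker f, inferInstance⟩ :
          PrimeSpectrum (MvPolynomial (Fin n) κ)) = (n : ℕ∞) := by
      exact_mod_cast e1
    have h0 : ((n - c : ℕ) : WithBot ℕ∞) = (((n - c : ℕ) : ℕ∞) : WithBot ℕ∞) := rfl
    rw [h0, WithBot.coe_le_coe]
    have e5 : (n : ℕ∞) ≤ (c : ℕ∞) + Order.coheight (⟨RingHom.ker f, inferInstance⟩ :
          PrimeSpectrum (MvPolynomial (Fin n) κ)) := by
      rw [← e4]
      exact add_le_add_left hht _
    generalize Order.coheight (⟨RingHom.ker f, inferInstance⟩ :
      PrimeSpectrum (MvPolynomial (Fin n) κ)) = t at e5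
    cases t with
    | top => exact le_top
    | coe t =>
      have : n ≤ c + t := by exact_mod_cast e5
      have : n - c ≤ t := by omega
      exact_mod_cast this

/-- Every point of a fibre of a relative global complete intersection has local dimension
`n - c`. -/
theorem localDim_fiber_eq (hF : Synt.IsRelGCI R n c F)
    (Q : PrimeSpectrum (p.Fiber (Synt.RelGCIRing R n c F))) :
    FlatMor.localDim (PrimeSpectrum (p.Fiber (Synt.RelGCIRing R n c F))) Q =
      ((n - c : ℕ) : WithBot ℕ∞) := by
  haveI hnon : Nontrivial (p.Fiber (Synt.RelGCIRing R n c F)) := Q.nontrivial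
  obtain ⟨hcn, hdim⟩ := hF ⟨p, inferInstance⟩ hnon
  exact localDim_eq_of_presentation p.ResidueField (p.Fiber (Synt.RelGCIRing R n c F)) n c
    (sig R n c F p) (sig_surjective R n c F p) (Fbar R n c F p) (ker_sig R n c F p) hdim Q

end Groth.Agent.H11.RelGCIFibre
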