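import Mathlib
import Groth.Prelude.Def_RegImm
import Groth.Agent.H11.StdElem
import Groth.Agent.H11.FtDim

/-!
# Smoothness of relative global complete intersections via Jacobian minors
-/

set_option autoImplicit false
set_option linter.unusedSectionVars false

namespace Groth.Agent.H11.RelGCISmooth

open TensorProduct MvPolynomial
open Groth.Agent.H23.Jacobian Groth.Agent.H11.FtDim Groth.Agent.H24

universe u

section linalg

/-- A linearly dependent family over a field has a member that can be omitted without changing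
the span. -/
theorem exists_span_succAbove_eq {K V : Type*} [Field K] [AddCommGroup V] [Module K V] {c : ℕ}
    (v : Fin (c + 1) → V) (h : ¬ LinearIndependent K v) :
    ∃ j₀ : Fin (c + 1), Submodule.span K (Set.range (v ∘ j₀.succAbove)) =
      Submodule.span K (Set.range v) := by
  rw [linearIndependent_iff_notMem_span] at h
  push Not at h
  obtain ⟨j₀, hj₀⟩ := h
  refine ⟨j₀, le_antisymm (Submodule.span_mono ?_) ?_⟩
  · rintro _ ⟨i, rfl⟩
    exact ⟨_, rfl⟩
  · have himg : v '' (Set.univ \ {j₀}) = Set.range (v ∘ j₀.succAbove) := by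
      rw [Set.range_comp, Fin.range_succAbove, Set.compl_eq_univ_diff]
    rw [himg] at hj₀
    rw [Submodule.span_le]
    rintro _ ⟨j, rfl⟩
    by_cases hj : j = j₀
    · rw [hj]; exact hj₀
    · obtain ⟨i, rfl⟩ := Fin.exists_succAbove_eq hj
      exact Submodule.subset_span ⟨i, rfl⟩

end linalg

section fibre

variable (R : Type u) [CommRing R] (n c' : ℕ) (F : Fin (c' + 1) → MvPolynomial (Fin n) R)

/-- In a relative global complete intersection no relation is redundant at any prime. -/
theorem false_of_redundant (hF : Synt.IsRelGCI R n (c' + 1) F)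
    (q' : Ideal (MvPolynomial (Fin n) R)) [q'.IsPrime]
    (hJq' : Ideal.span (Set.range F) ≤ q') (j₀ : Fin (c' + 1)) (t : MvPolynomial (Fin n) R)
    (ht : t ∉ q') (htF : t * F j₀ ∈ Ideal.span (Set.range (F ∘ j₀.succAbove))) : False := by
  classical
  set p : Ideal R := q'.comap (C : R →+* MvPolynomial (Fin n) R) with hp
  haveI : p.IsPrime := Ideal.comap_isPrime _ _
  let ρ : p.ResidueField →+* q'.ResidueField :=
    Ideal.ResidueField.map p q' (C : R →+* MvPolynomial (Fin n) R) rfl
  let ψ : MvPolynomial (Fin n) p.ResidueField →+* q'.ResidueField :=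
    MvPolynomial.eval₂Hom ρ (fun i => algebraMap (MvPolynomial (Fin n) R) q'.ResidueField (X i))
  have hcompat : ψ.comp (MvPolynomial.map (algebraMap R p.ResidueField)) =
      algebraMap (MvPolynomial (Fin n) R) q'.ResidueField := by
    apply MvPolynomial.ringHom_ext
    · intro r
      simp only [RingHom.comp_apply, MvPolynomial.map_C, ψ, MvPolynomial.coe_eval₂Hom,
        MvPolynomial.eval₂_C]
      exact Ideal.ResidueField.map_algebraMap p q' _ rfl r
    · intro i
      simp [ψ]
  have hcompat' : ∀ b, ψ (MvPolynomial.map (algebraMap R p.ResidueField) b) =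
      algebraMap (MvPolynomial (Fin n) R) q'.ResidueField b := fun b => congrArg (fun f => f b) hcompat
  have hFq' : ∀ j, F j ∈ q' := fun j => hJq' (Ideal.subset_span ⟨j, rfl⟩)
  have hψF : ∀ j, ψ (MvPolynomial.map (algebraMap R p.ResidueField) (F j)) = 0 := by
    intro j
    rw [hcompat', Ideal.algebraMap_residueField_eq_zero]
    exact hFq' j
  have hJ₀ : Ideal.span (Set.range fun i : Fin c' =>
      MvPolynomial.map (algebraMap R p.ResidueField) (F (j₀.succAbove i))) ≤ RingHom.ker ψ := by
    rw [Ideal.span_le]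
    rintro _ ⟨i, rfl⟩
    exact hψF _
  haveI : (RingHom.ker ψ).IsPrime := RingHom.ker_isPrime ψ
  obtain ⟨P, hPmin, hPle⟩ := Ideal.exists_minimalPrimes_le hJ₀
  haveI : P.IsPrime := hPmin.1.1
  have hht : P.height ≤ (c' : ℕ∞) := by
    have hs : ((Finset.univ.image fun i : Fin c' =>
        MvPolynomial.map (algebraMap R p.ResidueField) (F (j₀.succAbove i)) : Finset _) : Set _) =
        Set.range fun i : Fin c' =>
          MvPolynomial.map (algebraMap R p.ResidueField) (F (j₀.succAbove i)) := by
      rw [Finset.coe_image, Finset.coe_univ, Set.image_univ]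
    rw [← hs] at hPmin
    refine (Ideal.height_le_card_of_mem_minimalPrimes_span_finset hPmin).trans ?_
    have := Finset.card_image_le (s := (Finset.univ : Finset (Fin c')))
      (f := fun i : Fin c' => MvPolynomial.map (algebraMap R p.ResidueField) (F (j₀.succAbove i)))
    rw [Finset.card_univ, Fintype.card_fin] at this
    exact_mod_cast this
  have htP : MvPolynomial.map (algebraMap R p.ResidueField) t ∉ P := by
    intro h
    have h1 := hPle h
    rw [RingHom.mem_ker, hcompat', Ideal.algebraMap_residueField_eq_zero] at h1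
    exact ht h1
  have htF' : MvPolynomial.map (algebraMap R p.ResidueField) (t * F j₀) ∈ P := by
    have h1 := Ideal.mem_map_of_mem (MvPolynomial.map (algebraMap R p.ResidueField)) htF
    rw [Ideal.map_span, ← Set.range_comp] at h1
    exact hPmin.1.2 h1
  rw [map_mul] at htF'
  have hj₀ : MvPolynomial.map (algebraMap R p.ResidueField) (F j₀) ∈ P :=
    (‹P.IsPrime›.mem_or_mem htF').resolve_left htP
  have hall : ∀ j, MvPolynomial.map (algebraMap R p.ResidueField) (F j) ∈ P := by
    intro j
    by_cases hj : j = j₀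
    · rw [hj]; exact hj₀
    · obtain ⟨i, rfl⟩ := Fin.exists_succAbove_eq hj
      exact hPmin.1.2 (Ideal.subset_span ⟨i, rfl⟩)
  -- the surjection from the fibre ring
  let φ : MvPolynomial (Fin n) R →ₐ[R] (MvPolynomial (Fin n) p.ResidueField ⧸ P) :=
    (Ideal.Quotient.mkₐ R P).comp (MvPolynomial.mapAlgHom (Algebra.ofId R p.ResidueField))
  have hφ : ∀ a ∈ Ideal.span (Set.range F), φ a = 0 := by
    intro a ha
    have hle : Ideal.span (Set.range F) ≤ RingHom.ker φ.toRingHom := by
      rw [Ideal.span_le]
      rintro _ ⟨j, rfl⟩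
      exact Ideal.Quotient.eq_zero_iff_mem.mpr (hall j)
    exact hle ha
  let g₂ : Synt.RelGCIRing R n (c' + 1) F →ₐ[R] (MvPolynomial (Fin n) p.ResidueField ⧸ P) :=
    Ideal.Quotient.liftₐ (Ideal.span (Set.range F)) φ hφ
  let g₁ : p.ResidueField →ₐ[R] (MvPolynomial (Fin n) p.ResidueField ⧸ P) :=
    (Ideal.Quotient.mkₐ R P).comp (IsScalarTower.toAlgHom R p.ResidueField _)
  let θ : p.Fiber (Synt.RelGCIRing R n (c' + 1) F) →ₐ[R]
      (MvPolynomial (Fin n) p.ResidueField ⧸ P) := Algebra.TensorProduct.productMap g₁ g₂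
  have hsurj : Function.Surjective θ := by
    intro d
    obtain ⟨b, rfl⟩ := Ideal.Quotient.mk_surjective d
    induction b using MvPolynomial.induction_on with
    | C a =>
      refine ⟨a ⊗ₜ 1, ?_⟩
      rw [Algebra.TensorProduct.productMap_apply_tmul, map_one, mul_one]
      rfl
    | add x y hx hy =>
      obtain ⟨zx, hzx⟩ := hx
      obtain ⟨zy, hzy⟩ := hy
      exact ⟨zx + zy, by rw [map_add, hzx, hzy, map_add]⟩
    | mul_X x i hx =>
      obtain ⟨zx, hzx⟩ := hx
      refine ⟨zx * (1 ⊗ₜ Ideal.Quotient.mk _ (X i)), ?_⟩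
      rw [map_mul, hzx, Algebra.TensorProduct.productMap_apply_tmul, map_one, one_mul, map_mul]
      congr 1
      change φ (X i) = _
      simp [φ]
  haveI : Nontrivial (MvPolynomial (Fin n) p.ResidueField ⧸ P) :=
    Ideal.Quotient.nontrivial_iff.mpr ‹P.IsPrime›.ne_top
  have hnon : Nontrivial (p.Fiber (Synt.RelGCIRing R n (c' + 1) F)) :=
    θ.toRingHom.domain_nontrivial
  obtain ⟨hcn, hdim⟩ := hF ⟨p, inferInstance⟩ hnon
  have hle : ringKrullDim (MvPolynomial (Fin n) p.ResidueField ⧸ P) ≤
      ringKrullDim (p.Fiber (Synt.RelGCIRing R n (c' + 1) F)) :=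
    ringKrullDim_le_of_surjective θ.toRingHom hsurj
  have e1 := height_add_coheight_eq p.ResidueField (MvPolynomial (Fin n) p.ResidueField)
    ⟨P, inferInstance⟩
  rw [Groth.Agent.H54.ringKrullDim_mvPolynomial_fin_field] at e1
  have e2 := coheight_eq_ringKrullDim_quotient
    (⟨P, inferInstance⟩ : PrimeSpectrum (MvPolynomial (Fin n) p.ResidueField))
  have e3 : P.height = Order.height
      (⟨P, inferInstance⟩ : PrimeSpectrum (MvPolynomial (Fin n) p.ResidueField)) :=
    PrimeSpectrum.height_eq_orderHeight ⟨P, inferInstance⟩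
  change ringKrullDim (p.Fiber (Synt.RelGCIRing R n (c' + 1) F)) = _ at hdim
  rw [hdim, ← e2] at hle
  have hle' : Order.coheight
      (⟨P, inferInstance⟩ : PrimeSpectrum (MvPolynomial (Fin n) p.ResidueField)) ≤
      ((n - (c' + 1) : ℕ) : ℕ∞) := by
    have h0 : ((n - (c' + 1) : ℕ) : WithBot ℕ∞) = (((n - (c' + 1) : ℕ) : ℕ∞) : WithBot ℕ∞) := rfl
    rw [h0] at hle
    exact WithBot.coe_le_coe.mp hle
  rw [e3] at hht
  have e4 : Order.height (⟨P, inferInstance⟩ : PrimeSpectrum (MvPolynomial (Fin n) p.ResidueField)) +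
      Order.coheight (⟨P, inferInstance⟩ : PrimeSpectrum (MvPolynomial (Fin n) p.ResidueField)) =
      (n : ℕ∞) := by exact_mod_cast e1
  have e5 : (n : ℕ∞) ≤ (c' : ℕ∞) + ((n - (c' + 1) : ℕ) : ℕ∞) := by
    rw [← e4]
    exact add_le_add hht hle'
  have e6 : n ≤ c' + (n - (c' + 1)) := by exact_mod_cast e5
  omega

end fibre

section main

variable (R : Type u) [CommRing R] (n c : ℕ) (F : Fin c → MvPolynomial (Fin n) R)

/-- **Jacobian criterion for relative global complete intersections.** -/
theorem isSmoothAt_iff_minor (hF : Synt.IsRelGCI R n c F)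
    (q : Ideal (Synt.RelGCIRing R n c F)) [q.IsPrime] :
    Algebra.IsSmoothAt R q ↔ ∃ I : Fin c ↪ Fin n,
      Ideal.Quotient.mk (Ideal.span (Set.range F))
        (Matrix.det (Matrix.of fun j i => MvPolynomial.pderiv (I i) (F j))) ∉ q := by
  classical
  set J := Ideal.span (Set.range F) with hJ
  set q' : Ideal (MvPolynomial (Fin n) R) := q.comap (Ideal.Quotient.mk J) with hq'
  haveI : q'.IsPrime := Ideal.comap_isPrime _ _
  have hJq' : J ≤ q' := fun x hx => by
    rw [hq', Ideal.mem_comap, Ideal.Quotient.eq_zero_iff_mem.mpr hx]; exact zero_mem _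
  have hmap : q'.map (Ideal.Quotient.mk J) = q :=
    Ideal.map_comap_of_surjective _ Ideal.Quotient.mk_surjective q
  haveI hp : (q'.map (Ideal.Quotient.mk J)).IsPrime := hmap ▸ ‹q.IsPrime›
  have htrans : Algebra.IsSmoothAt R q ↔
      Algebra.FormallySmooth R (Localization.AtPrime (q'.map (Ideal.Quotient.mk J))) := by
    have key : ∀ (Q : Ideal (MvPolynomial (Fin n) R ⧸ J)) [Q.IsPrime], Q = q →
        (Algebra.FormallySmooth R (Localization.AtPrime q) ↔
          Algebra.FormallySmooth R (Localization.AtPrime Q)) := by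
      intro Q _ h
      subst h
      rfl
    exact key _ hmap
  have hfJ : ∀ j, F j ∈ J := fun j => Ideal.subset_span ⟨j, rfl⟩
  have hJfg : J.FG := Submodule.fg_span (Set.finite_range F)
  have hgen : J.map (algebraMap _ (Localization.AtPrime q')) =
      Ideal.span (Set.range fun i => algebraMap _ (Localization.AtPrime q') (F i)) := by
    rw [hJ, Ideal.map_span, ← Set.range_comp]
    rfl
  rw [htrans]
  constructor
  · intro hsm
    have hinj := Groth.Agent.H11.StdElem.UU_injective_of_formallySmooth (A := R) J q' hJfg hsm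
    have hspan := span_of_gen (A := R) J q' hJq' F hfJ hgen
    have hli : LinearIndependent (κκ J q') (fun j => cl (A := R) J q' ⟨F j, hfJ j⟩) := by
      by_contra hnot
      obtain ⟨c', rfl⟩ : ∃ c', c = c' + 1 := by
        rcases c with _ | c'
        · exact absurd linearIndependent_empty_type hnot
        · exact ⟨c', rfl⟩
      obtain ⟨j₀, hj₀⟩ := exists_span_succAbove_eq _ hnot
      rw [hspan] at hj₀
      have hgen' := gen_of_span (A := R) J q' hJq' (F ∘ j₀.succAbove) (fun i => hfJ _) hJfg hj₀
      have h1 : algebraMap _ (Localization.AtPrime q') (F j₀) ∈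
          J.map (algebraMap _ (Localization.AtPrime q')) := Ideal.mem_map_of_mem _ (hfJ j₀)
      rw [hgen'] at h1
      have h2 : (Set.range fun i => algebraMap (MvPolynomial (Fin n) R) (Localization.AtPrime q')
          ((F ∘ j₀.succAbove) i)) =
          (algebraMap (MvPolynomial (Fin n) R) (Localization.AtPrime q')) ''
            (Set.range (F ∘ j₀.succAbove)) := by
        rw [← Set.range_comp]; rfl
      rw [h2, ← Ideal.map_span,
        IsLocalization.mem_map_algebraMap_iff q'.primeCompl (Localization.AtPrime q')] at h1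
      obtain ⟨⟨⟨y, hy⟩, s⟩, hys⟩ := h1
      simp only at hys
      rw [← map_mul, IsLocalization.eq_iff_exists q'.primeCompl (Localization.AtPrime q')] at hys
      obtain ⟨t, ht⟩ := hys
      refine false_of_redundant R n c' F hF q' hJq' j₀ ((t : MvPolynomial (Fin n) R) * s) ?_ ?_
      · exact fun h => (‹q'.IsPrime›.mem_or_mem h).elim t.2 s.2
      · have h3 : (t : MvPolynomial (Fin n) R) * s * F j₀ = t * y := by
          rw [← ht]; ring
        rw [h3]
        exact Ideal.mul_mem_left _ _ hy
    have hw : LinearIndependent (κκ J q')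
        (fun j => UU (A := R) J q' (cl (A := R) J q' ⟨F j, hfJ j⟩)) :=
      hli.map' _ (LinearMap.ker_eq_bot.mpr hinj)
    obtain ⟨cols, hdet⟩ := exists_det_ne_zero
      (fun k : Fin n => φφ (A := R) J q'
        ((KaehlerDifferential.mvPolynomialBasis R (Fin n)).coord k))
      (Groth.Agent.H11.StdElem.coord_sep J q') _ hw
    have e1 : (Matrix.of fun a b => φφ (A := R) J q'
        ((KaehlerDifferential.mvPolynomialBasis R (Fin n)).coord (cols b))
        (UU (A := R) J q' (cl (A := R) J q' ⟨F a, hfJ a⟩))) =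
        (algebraMap _ (κκ J q')).mapMatrix
          (Matrix.of fun a b => MvPolynomial.pderiv (cols b) (F a)) := by
      ext a b
      simp only [Matrix.of_apply, RingHom.mapMatrix_apply, Matrix.map_apply]
      rw [UU_cl, φφ_tmul, mul_one, Module.Basis.coord_apply,
        KaehlerDifferential.mvPolynomialBasis_repr_apply]
    rw [e1, ← RingHom.map_det, Ne, res_eq_zero_iff J q' hJq'] at hdet
    have hcols : Function.Injective cols := by
      intro a b hab
      by_contra hne
      apply hdet
      rw [Matrix.det_zero_of_column_eq hne (fun k => by simp [hab])]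
      exact zero_mem _
    exact ⟨⟨cols, hcols⟩, fun hmem => hdet hmem⟩
  · rintro ⟨I, hI⟩
    exact (Groth.Agent.H23.Jacobian.main (A := R) J q' hJq' hJfg).mpr
      ⟨c, F, fun b => MvPolynomial.pderiv (I b), hfJ, hgen, hI⟩

end main

end Groth.Agent.H11.RelGCISmooth
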