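import Mathlib.Algebra.Module.Projective
import Mathlib.LinearAlgebra.Prod
import Mathlib.Tactic

set_option autoImplicit false

namespace Groth.Agent.H11

universe u v w

section

variable {R : Type u} [CommRing R]

/-- A surjection onto a projective module splits its source. -/
theorem nonempty_equiv_ker_prod {X : Type v} {P : Type w} [AddCommGroup X] [Module R X]
    [AddCommGroup P] [Module R P] [Module.Projective R P] (f : X →ₗ[R] P)
    (hf : Function.Surjective f) : Nonempty (X ≃ₗ[R] (LinearMap.ker f × P)) := by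
  obtain ⟨s, hs⟩ := Module.projective_lifting_property f LinearMap.id hf
  have hs' : ∀ p, f (s p) = p := fun p => by
    have := LinearMap.congr_fun hs p
    simpa using this
  refine ⟨LinearEquiv.ofLinearMap
    (LinearMap.prod
      (LinearMap.codRestrict (LinearMap.ker f) (LinearMap.id - s.comp f) (fun x => by
        simp [hs']))
      f)
    (LinearMap.coprod (LinearMap.ker f).subtype s) ?_ ?_⟩
  · apply LinearMap.ext
    rintro ⟨⟨k, hk⟩, p⟩
    have hk' : f k = 0 := hk
    ext <;> simp [hs', hk']
  · apply LinearMap.ext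
    intro x
    simp

/-- The pullback of two maps to `M`, as a submodule of the product. -/
def pullbackSub {M : Type u} {P Q : Type u} [AddCommGroup M] [Module R M] [AddCommGroup P] [Module R P]
    [AddCommGroup Q] [Module R Q] (p : P →ₗ[R] M) (q : Q →ₗ[R] M) : Submodule R (P × Q) :=
  LinearMap.eqLocus (p.comp (LinearMap.fst R P Q)) (q.comp (LinearMap.snd R P Q))

variable {M : Type u} {P Q : Type u} [AddCommGroup M] [Module R M] [AddCommGroup P] [Module R P]
    [AddCommGroup Q] [Module R Q] (p : P →ₗ[R] M) (q : Q →ₗ[R] M)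

theorem mem_pullbackSub (x : P × Q) : x ∈ pullbackSub p q ↔ p x.1 = q x.2 := by
  simp [pullbackSub, LinearMap.mem_eqLocus]

/-- First projection from the pullback. -/
def pullbackFst : pullbackSub p q →ₗ[R] P := (LinearMap.fst R P Q).comp (pullbackSub p q).subtype

/-- Second projection from the pullback. -/
def pullbackSnd : pullbackSub p q →ₗ[R] Q := (LinearMap.snd R P Q).comp (pullbackSub p q).subtype

theorem pullbackFst_surjective (hq : Function.Surjective q) : Function.Surjective (pullbackFst p q) := by
  intro a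
  obtain ⟨b, hb⟩ := hq (p a)
  exact ⟨⟨(a, b), (mem_pullbackSub p q _).2 hb.symm⟩, rfl⟩

theorem pullbackSnd_surjective (hp : Function.Surjective p) : Function.Surjective (pullbackSnd p q) := by
  intro b
  obtain ⟨a, ha⟩ := hp (q b)
  exact ⟨⟨(a, b), (mem_pullbackSub p q _).2 ha⟩, rfl⟩

/-- The kernel of the first projection is the kernel of `q`. -/
def kerPullbackFstEquiv : LinearMap.ker (pullbackFst p q) ≃ₗ[R] LinearMap.ker q where
  toFun x := ⟨x.1.1.2, by
    have h1 : p x.1.1.1 = q x.1.1.2 := (mem_pullbackSub p q _).1 x.1.2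
    have h2 : x.1.1.1 = 0 := x.2
    rw [LinearMap.mem_ker, ← h1, h2, map_zero]⟩
  map_add' x y := rfl
  map_smul' c x := rfl
  invFun b := ⟨⟨(0, b.1), (mem_pullbackSub p q _).2 (by
    have : q b.1 = 0 := b.2
    simp [this])⟩, rfl⟩
  left_inv x := by
    have h2 : x.1.1.1 = 0 := x.2
    apply Subtype.ext
    apply Subtype.ext
    exact Prod.ext h2.symm rfl
  right_inv b := rfl

/-- The kernel of the second projection is the kernel of `p`. -/
def kerPullbackSndEquiv : LinearMap.ker (pullbackSnd p q) ≃ₗ[R] LinearMap.ker p where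
  toFun x := ⟨x.1.1.1, by
    have h1 : p x.1.1.1 = q x.1.1.2 := (mem_pullbackSub p q _).1 x.1.2
    have h2 : x.1.1.2 = 0 := x.2
    rw [LinearMap.mem_ker, h1, h2, map_zero]⟩
  map_add' x y := rfl
  map_smul' c x := rfl
  invFun a := ⟨⟨(a.1, 0), (mem_pullbackSub p q _).2 (by
    have : p a.1 = 0 := a.2
    simp [this])⟩, rfl⟩
  left_inv x := by
    have h2 : x.1.1.2 = 0 := x.2
    apply Subtype.ext
    apply Subtype.ext
    exact Prod.ext rfl h2.symm
  right_inv a := rfl

theorem schanuel [Module.Projective R P] [Module.Projective R Q]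
    (hp : Function.Surjective p) (hq : Function.Surjective q) :
    Nonempty ((LinearMap.ker p × Q) ≃ₗ[R] (LinearMap.ker q × P)) := by
  obtain ⟨e1⟩ := nonempty_equiv_ker_prod (pullbackFst p q) (pullbackFst_surjective p q hq)
  obtain ⟨e2⟩ := nonempty_equiv_ker_prod (pullbackSnd p q) (pullbackSnd_surjective p q hp)
  exact ⟨((LinearEquiv.prodCongr (kerPullbackSndEquiv p q) (LinearEquiv.refl R Q)).symm.trans
    e2.symm).trans (e1.trans (LinearEquiv.prodCongr (kerPullbackFstEquiv p q) (LinearEquiv.refl R P)))⟩

end

end Groth.Agent.H11
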