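import Mathlib

/-!
# Local algebra for smooth effective Cartier divisors through a point

* `exists_mem_maximalIdeal_of_ker_ne_bot`: if `κ ⊗ Ω[T/R] → Ω[κ/R]` has nonzero kernel, some
  `h ∈ 𝔪_T` has `1 ⊗ dh ≠ 0`.
* `exists_D_ne_zero_of_formallySmooth_residue`: `T/R` formally smooth, ess. of finite type, local,
  `κ(T)/κ(R)` formally smooth and `𝔪_T ≠ 𝔪_R T`: some `h ∈ 𝔪_T` has `1 ⊗ dh ≠ 0`.
-/

set_option autoImplicit false

namespace Groth.Agent.H11.SmoothCartierLocal

open TensorProduct KaehlerDifferential IsLocalRing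

universe u

theorem exists_mem_maximalIdeal_of_ker_ne_bot {R T : Type u} [CommRing R] [CommRing T]
    [IsLocalRing T] [Algebra R T] [Algebra R (ResidueField T)]
    [IsScalarTower R T (ResidueField T)]
    (hker : LinearMap.ker (KaehlerDifferential.mapBaseChange R T (ResidueField T)) ≠ ⊥) :
    ∃ h ∈ maximalIdeal T, (1 : ResidueField T) ⊗ₜ[T] D R T h ≠ 0 := by
  obtain ⟨ω, hω, hω0⟩ := Submodule.exists_mem_ne_zero_of_ne_bot hker
  have hex := KaehlerDifferential.exact_kerCotangentToTensor_mapBaseChange R T (ResidueField T)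
    Ideal.Quotient.mk_surjective
  obtain ⟨c, rfl⟩ := (hex ω).mp hω
  obtain ⟨⟨h, hh⟩, rfl⟩ := Ideal.toCotangent_surjective _ c
  refine ⟨h, ?_, ?_⟩
  · have : algebraMap T (ResidueField T) h = 0 := hh
    exact (IsLocalRing.residue_eq_zero_iff h).mp this
  · rwa [KaehlerDifferential.kerCotangentToTensor_toCotangent] at hω0

end Groth.Agent.H11.SmoothCartierLocal
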