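import Mathlib

/-!
# Local algebra: separable residue extension and nonzero differentials

`exists_D_ne_zero_of_formallySmooth_residue`: `T/R` local, formally smooth, ess. of finite type,
`κ(T)/κ(R)` formally smooth and `𝔪_T ≠ 𝔪_R T`: some `h ∈ 𝔪_T` has `1 ⊗ dh ≠ 0` in `κ(T) ⊗ Ω[T/R]`.
-/

set_option autoImplicit false

namespace Groth.Agent.H11.SmoothCartierLocal2

open TensorProduct KaehlerDifferential IsLocalRing

universe u

variable {R T : Type u} [CommRing R] [CommRing T] [IsLocalRing R] [IsLocalRing T] [Algebra R T]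
  [IsLocalHom (algebraMap R T)]

set_option backward.inferInstanceAs.wrap.data false in
set_option maxHeartbeats 1600000 in
theorem exists_D_ne_zero_of_formallySmooth_residue [Algebra.FormallySmooth R T]
    [Algebra.EssFiniteType R T]
    [Algebra.FormallySmooth (ResidueField R) (ResidueField T)]
    (hne : ¬ maximalIdeal T ≤ (maximalIdeal R).map (algebraMap R T)) :
    ∃ h ∈ maximalIdeal T, (1 : ResidueField T) ⊗ₜ[T] D R T h ≠ 0 := by
  classical
  let mR := (maximalIdeal R).map (algebraMap R T)
  have hmR : mR ≤ maximalIdeal T := ((local_hom_TFAE (algebraMap R T)).out 0 2 rfl rfl).mp ‹_›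
  let : Algebra (ResidueField R) (T ⧸ mR) := (inferInstanceAs <| Algebra (R ⧸ _) _)
  have : IsScalarTower R (ResidueField R) (T ⧸ mR) :=
    (inferInstanceAs <| IsScalarTower R (R ⧸ _) _)
  have : Algebra.EssFiniteType (ResidueField R) (T ⧸ mR) := .of_comp R _ _
  have : IsNoetherianRing (T ⧸ mR) := Algebra.EssFiniteType.isNoetherianRing (ResidueField R) _
  have : Nontrivial (T ⧸ mR) :=
    Ideal.Quotient.nontrivial_iff.mpr <| ne_top_of_le_ne_top (maximalIdeal.isMaximal T).ne_top hmR
  have : IsLocalRing (T ⧸ mR) := .of_surjective' _ Ideal.Quotient.mk_surjective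
  have hfs : Algebra.FormallySmooth (R ⧸ maximalIdeal R)
      (T ⧸ (maximalIdeal R).map (algebraMap R T)) :=
    Algebra.FormallySmooth.of_equiv (A := (R ⧸ maximalIdeal R) ⊗[R] T)
      (Algebra.TensorProduct.quotIdealMapEquivQuotTensor T (maximalIdeal R)).symm
  have : Algebra.FormallySmooth (ResidueField R) (T ⧸ mR) := hfs
  let π : (T ⧸ mR) →+* ResidueField T := Ideal.Quotient.factor hmR
  let : Algebra (T ⧸ mR) (ResidueField T) := π.toAlgebra
  have : IsScalarTower T (T ⧸ mR) (ResidueField T) :=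
    IsScalarTower.of_algebraMap_eq (fun _ => rfl)
  have : IsScalarTower (ResidueField R) (T ⧸ mR) (ResidueField T) := by
    apply IsScalarTower.of_algebraMap_eq
    intro c
    obtain ⟨r, rfl⟩ := residue_surjective c
    rfl
  have hπ : Function.Surjective (algebraMap (T ⧸ mR) (ResidueField T)) :=
    Ideal.Quotient.factor_surjective hmR
  have hπmk : ∀ t, π (Ideal.Quotient.mk mR t) = residue T t := fun t => rfl
  have hker : RingHom.ker (algebraMap (T ⧸ mR) (ResidueField T)) = maximalIdeal (T ⧸ mR) := by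
    apply eq_maximalIdeal
    exact RingHom.ker_isMaximal_of_surjective _ hπ
  have hn_ne : maximalIdeal (T ⧸ mR) ≠ ⊥ := by
    intro h0
    apply hne
    intro t ht
    have h1 : Ideal.Quotient.mk mR t ∈ maximalIdeal (T ⧸ mR) := by
      rw [← hker, RingHom.mem_ker]
      show π (Ideal.Quotient.mk mR t) = 0
      rw [hπmk]
      exact (residue_eq_zero_iff t).mpr ht
    rw [h0, Ideal.mem_bot, Ideal.Quotient.eq_zero_iff_mem] at h1
    exact h1
  have hnsq : ¬ maximalIdeal (T ⧸ mR) ≤ maximalIdeal (T ⧸ mR) ^ 2 := by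
    intro hle
    apply hn_ne
    refine Submodule.eq_bot_of_le_smul_of_le_jacobson_bot (maximalIdeal (T ⧸ mR)) _
      (IsNoetherian.noetherian _) ?_ (maximalIdeal_le_jacobson _)
    rwa [sq] at hle
  obtain ⟨hb, hbmem, hbsq⟩ := SetLike.not_le_iff_exists.mp hnsq
  obtain ⟨l, hl⟩ := (Algebra.FormallySmooth.iff_split_injection (R := ResidueField R)
    (P := T ⧸ mR) (A := ResidueField T) hπ).mp inferInstance
  have hbker : hb ∈ RingHom.ker (algebraMap (T ⧸ mR) (ResidueField T)) := hker ▸ hbmem
  have hc : (RingHom.ker (algebraMap (T ⧸ mR) (ResidueField T))).toCotangent ⟨hb, hbker⟩ ≠ 0 := by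
    rw [Ne, Ideal.toCotangent_eq_zero]
    intro hmem
    apply hbsq
    rw [← hker]
    exact hmem
  have hD : (1 : ResidueField T) ⊗ₜ[T ⧸ mR] D (ResidueField R) (T ⧸ mR) hb ≠ 0 := by
    rw [← KaehlerDifferential.kerCotangentToTensor_toCotangent (R := ResidueField R)
      (A := T ⧸ mR) (B := ResidueField T) ⟨hb, hbker⟩]
    intro h0
    apply hc
    have h1 := congrArg l h0
    rwa [map_zero, ← LinearMap.comp_apply, hl, LinearMap.id_apply] at h1
  obtain ⟨h, rfl⟩ := Ideal.Quotient.mk_surjective hb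
  refine ⟨h, ?_, ?_⟩
  · have h1 : π (Ideal.Quotient.mk mR h) = 0 := hbker
    rw [hπmk] at h1
    exact (residue_eq_zero_iff h).mp h1
  · intro h0
    apply hD
    have h1 := congrArg (LinearMap.baseChange (ResidueField T)
      (KaehlerDifferential.map R (ResidueField R) T (T ⧸ mR))) h0
    rw [LinearMap.baseChange_tmul, KaehlerDifferential.map_D, map_zero] at h1
    have h2 := congrArg (TensorProduct.mapOfCompatibleSMul (T ⧸ mR) T T (ResidueField T)
      Ω[(T ⧸ mR)⁄(ResidueField R)]) h1
    rw [TensorProduct.mapOfCompatibleSMul_tmul, map_zero] at h2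
    exact h2

end Groth.Agent.H11.SmoothCartierLocal2
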