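import Mathlib
import Groth.Agent.H11.SmoothCartier
import Groth.Agent.H7.LocalStd

/-!
# Smooth effective Cartier divisors through a point (scheme level)
-/

set_option autoImplicit false

namespace Groth.Agent.H11.SmoothCartierSch

open AlgebraicGeometry CategoryTheory TensorProduct

universe u

set_option maxHeartbeats 1600000 in
/-- `f` smooth near `x`, `h ∈ 𝒪_{X,x}` with `1 ⊗ dh ≠ 0` in `κ(x) ⊗ Ω_{𝒪_{X,x}/𝒪_{S,f x}}`. Then there
is an affine open `U ∋ x` and a nonzerodivisor `h' ∈ Γ(X, U)` with germ `h` such that `V(h')` is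
smooth over `S`. -/
theorem exists_smooth_effCartier {X S : Scheme.{u}} (f : X ⟶ S) (x : X)
    (W : X.Opens) (hxW : x ∈ W) [Smooth (W.ι ≫ f)]
    (h : ↑(X.presheaf.stalk x))
    (hd : letI := (f.stalkMap x).hom.toAlgebra
      (1 : IsLocalRing.ResidueField ↑(X.presheaf.stalk x)) ⊗ₜ[↑(X.presheaf.stalk x)]
          (KaehlerDifferential.D ↑(S.presheaf.stalk (f x)) ↑(X.presheaf.stalk x) h) ≠ 0) :
    ∃ (U : X.Opens) (hU : IsAffineOpen U) (hx : x ∈ U) (h' : Γ(X, U)),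
      X.presheaf.germ U x hx h' = h ∧ h' ∈ nonZeroDivisors Γ(X, U) ∧
      Smooth (Spec.map (CommRingCat.ofHom (Ideal.Quotient.mk (Ideal.span {h'}))) ≫
        hU.fromSpec ≫ f) := by
  obtain ⟨_, ⟨V₁, hV₁, rfl⟩, hxV₁, -⟩ :=
    S.isBasis_affineOpens.exists_subset_of_mem_open (Set.mem_univ (f x)) isOpen_univ
  obtain ⟨V, hV, hxV⟩ : ∃ V : S.Opens, IsAffineOpen V ∧ f x ∈ V := ⟨V₁, hV₁, hxV₁⟩
  clear hxV₁ hV₁
  obtain ⟨U', hxU', s', hs'⟩ := TopCat.Presheaf.exists_germ_eq X.presheaf h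
  obtain ⟨_, ⟨U₁, hU₁, rfl⟩, hxU₁, hU₁le⟩ := X.isBasis_affineOpens.exists_subset_of_mem_open
    (show x ∈ W ⊓ f ⁻¹ᵁ V ⊓ U' from ⟨⟨hxW, hxV⟩, hxU'⟩) (W ⊓ f ⁻¹ᵁ V ⊓ U').2
  obtain ⟨U₀, hU₀, hxU₀, hU₀le⟩ : ∃ U₀ : X.Opens, IsAffineOpen U₀ ∧ x ∈ U₀ ∧
      U₀ ≤ W ⊓ f ⁻¹ᵁ V ⊓ U' := ⟨U₁, hU₁, hxU₁, hU₁le⟩
  clear hxU₁ hU₁le hU₁
  have hW : U₀ ≤ W := fun y hy ↦ (hU₀le hy).1.1
  have e₀ : U₀ ≤ f ⁻¹ᵁ V := fun y hy ↦ (hU₀le hy).1.2
  have hU' : U₀ ≤ U' := fun y hy ↦ (hU₀le hy).2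
  have hsm : Smooth (U₀.ι ≫ f) := by
    rw [← X.homOfLE_ι hW, Category.assoc]
    infer_instance
  have : IsAffine U₀.toScheme := hU₀
  have hQ := HasRingHomProperty.appLE @Smooth (U₀.ι ≫ f) hsm ⟨V, hV⟩ ⟨⊤, isAffineOpen_top _⟩
    (by rw [Scheme.Hom.comp_preimage]; intro y _; exact e₀ y.2)
  rw [Groth.Agent.H7.ι_comp_appLE_top f U₀ V e₀, CommRingCat.hom_comp,
    RingHom.Smooth.respectsIso.cancel_right_isIso] at hQ
  letI algAB : Algebra Γ(S, V) Γ(X, U₀) := (f.appLE V U₀ e₀).hom.toAlgebra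
  haveI hsmA : Algebra.Smooth Γ(S, V) Γ(X, U₀) := hQ
  letI algBT := X.presheaf.algebra_section_stalk ⟨x, hxU₀⟩
  haveI locT := hU₀.isLocalization_stalk ⟨x, hxU₀⟩
  letI algAR := S.presheaf.algebra_section_stalk ⟨f x, hxV⟩
  letI algRT : Algebra (S.presheaf.stalk (f x)) (X.presheaf.stalk x) :=
    (f.stalkMap x).hom.toAlgebra
  letI algAT : Algebra Γ(S, V) (X.presheaf.stalk x) :=
    ((algebraMap Γ(X, U₀) (X.presheaf.stalk x)).comp (algebraMap Γ(S, V) Γ(X, U₀))).toAlgebra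
  haveI : IsScalarTower Γ(S, V) Γ(X, U₀) (X.presheaf.stalk x) :=
    IsScalarTower.of_algebraMap_eq' rfl
  haveI : IsScalarTower Γ(S, V) (S.presheaf.stalk (f x)) (X.presheaf.stalk x) := by
    apply IsScalarTower.of_algebraMap_eq
    intro a
    show X.presheaf.germ U₀ x hxU₀ (f.appLE V U₀ e₀ a) =
      f.stalkMap x (S.presheaf.germ V (f x) hxV a)
    rw [Scheme.Hom.germ_stalkMap_apply, Scheme.Hom.appLE]
    simp only [CommRingCat.comp_apply]
    exact X.presheaf.germ_res_apply _ _ _ _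
  let h₀ : Γ(X, U₀) := X.presheaf.map (homOfLE hU').op s'
  have hh₀ : algebraMap Γ(X, U₀) (X.presheaf.stalk x) h₀ = h := by
    show X.presheaf.germ U₀ x hxU₀ (X.presheaf.map (homOfLE hU').op s') = h
    rw [X.presheaf.germ_res_apply]; exact hs'
  have hne : (1 : IsLocalRing.ResidueField (X.presheaf.stalk x)) ⊗ₜ[X.presheaf.stalk x]
      KaehlerDifferential.D Γ(S, V) (X.presheaf.stalk x)
        (algebraMap Γ(X, U₀) (X.presheaf.stalk x) h₀) ≠ 0 := by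
    intro h0
    apply hd
    have h1 := congrArg (LinearMap.baseChange (IsLocalRing.ResidueField (X.presheaf.stalk x))
      (KaehlerDifferential.map Γ(S, V) (S.presheaf.stalk (f x)) (X.presheaf.stalk x)
        (X.presheaf.stalk x))) h0
    rw [LinearMap.baseChange_tmul, KaehlerDifferential.map_D, map_zero, hh₀] at h1
    simpa using h1
  obtain ⟨g, hg, hcore⟩ := Groth.Agent.H11.SmoothCartier.core (A := Γ(S, V)) (B := Γ(X, U₀))
    (hU₀.primeIdealOf ⟨x, hxU₀⟩).asIdeal (X.presheaf.stalk x) h₀ hne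
  have hxU : x ∈ X.basicOpen g :=
    (Groth.Agent.H7.mem_basicOpen_iff_notMem_primeIdealOf hU₀ x hxU₀ g).mpr hg
  have hUaff : IsAffineOpen (X.basicOpen g) := hU₀.basicOpen g
  have hle : X.basicOpen g ≤ U₀ := X.basicOpen_le g
  haveI hloc : IsLocalization.Away g Γ(X, X.basicOpen g) := hU₀.isLocalization_basicOpen g
  letI algAB' : Algebra Γ(S, V) Γ(X, X.basicOpen g) :=
    (f.appLE V (X.basicOpen g) (hle.trans e₀)).hom.toAlgebra
  haveI : IsScalarTower Γ(S, V) Γ(X, U₀) Γ(X, X.basicOpen g) := by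
    apply IsScalarTower.of_algebraMap_eq'
    show (f.appLE V (X.basicOpen g) (hle.trans e₀)).hom =
      (X.presheaf.map (homOfLE hle).op).hom.comp (f.appLE V U₀ e₀).hom
    rw [← CommRingCat.hom_comp, Scheme.Hom.appLE_map]
  obtain ⟨hnzd, hsmq⟩ := hcore Γ(X, X.basicOpen g)
  refine ⟨X.basicOpen g, hUaff, hxU, algebraMap Γ(X, U₀) Γ(X, X.basicOpen g) h₀, ?_, hnzd, ?_⟩
  · rw [← hh₀]
    exact X.presheaf.germ_res_apply _ _ _ _
  · have hfac : Spec.map (CommRingCat.ofHom (Ideal.Quotient.mk (Ideal.span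
          {algebraMap Γ(X, U₀) Γ(X, X.basicOpen g) h₀}))) ≫ hUaff.fromSpec ≫ f =
        Spec.map (CommRingCat.ofHom (algebraMap Γ(S, V) (Γ(X, X.basicOpen g) ⧸ Ideal.span
          {algebraMap Γ(X, U₀) Γ(X, X.basicOpen g) h₀}))) ≫ hV.fromSpec := by
      rw [← IsAffineOpen.SpecMap_appLE_fromSpec f hV hUaff (hle.trans e₀), ← Category.assoc,
        ← Spec.map_comp]
      rfl
    rw [hfac]
    haveI : Smooth (Spec.map (CommRingCat.ofHom (algebraMap Γ(S, V) (Γ(X, X.basicOpen g) ⧸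
        Ideal.span {algebraMap Γ(X, U₀) Γ(X, X.basicOpen g) h₀})))) := by
      rw [HasRingHomProperty.Spec_iff (P := @Smooth)]
      exact RingHom.smooth_algebraMap.mpr hsmq
    infer_instance

end Groth.Agent.H11.SmoothCartierSch
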