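import Mathlib
import Groth.Agent.H11.SmoothCartierSch
import Groth.Agent.H11.SmoothCartierLocal2
import Groth.Agent.H49.FibreStalk

/-!
# Smooth effective Cartier divisors through a point with separable residue field extension
-/

set_option autoImplicit false

namespace Groth.Agent.H11.SmoothCartierSch2

open AlgebraicGeometry CategoryTheory TensorProduct IsLocalRing

universe u

set_option maxHeartbeats 1600000 in
/-- If `f` is smooth near `x`, the stalk map is formally smooth and essentially of finite type. -/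
theorem formallySmooth_essFiniteType_stalkMap {X S : Scheme.{u}} (f : X ⟶ S) (x : X)
    (W : X.Opens) (hxW : x ∈ W) [Smooth (W.ι ≫ f)] :
    letI := (f.stalkMap x).hom.toAlgebra
    Algebra.FormallySmooth (S.presheaf.stalk (f x)) (X.presheaf.stalk x) ∧
      Algebra.EssFiniteType (S.presheaf.stalk (f x)) (X.presheaf.stalk x) := by
  obtain ⟨_, ⟨V₁, hV₁, rfl⟩, hxV₁, -⟩ :=
    S.isBasis_affineOpens.exists_subset_of_mem_open (Set.mem_univ (f x)) isOpen_univ
  obtain ⟨V, hV, hxV⟩ : ∃ V : S.Opens, IsAffineOpen V ∧ f x ∈ V := ⟨V₁, hV₁, hxV₁⟩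
  clear hxV₁ hV₁
  obtain ⟨_, ⟨U₁, hU₁, rfl⟩, hxU₁, hU₁le⟩ := X.isBasis_affineOpens.exists_subset_of_mem_open
    (show x ∈ W ⊓ f ⁻¹ᵁ V from ⟨hxW, hxV⟩) (W ⊓ f ⁻¹ᵁ V).2
  obtain ⟨U₀, hU₀, hxU₀, hU₀le⟩ : ∃ U₀ : X.Opens, IsAffineOpen U₀ ∧ x ∈ U₀ ∧
      U₀ ≤ W ⊓ f ⁻¹ᵁ V := ⟨U₁, hU₁, hxU₁, hU₁le⟩
  clear hxU₁ hU₁le hU₁
  have hW : U₀ ≤ W := fun y hy ↦ (hU₀le hy).1
  have e₀ : U₀ ≤ f ⁻¹ᵁ V := fun y hy ↦ (hU₀le hy).2
  have hsm : Smooth (U₀.ι ≫ f) := by
    rw [← X.homOfLE_ι hW, Category.assoc]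
    infer_instance
  have : IsAffine U₀.toScheme := hU₀
  have hQ := HasRingHomProperty.appLE @Smooth (U₀.ι ≫ f) hsm ⟨V, hV⟩ ⟨⊤, isAffineOpen_top _⟩
    (by rw [Scheme.Hom.comp_preimage]; intro y _; exact e₀ y.2)
  rw [Groth.Agent.H7.ι_comp_appLE_top f U₀ V e₀, CommRingCat.hom_comp,
    RingHom.Smooth.respectsIso.cancel_right_isIso] at hQ
  letI algAB : Algebra Γ(S, V) Γ(X, U₀) := (f.appLE V U₀ e₀).hom.toAlgebra
  haveI hsmA : Algebra.Smooth Γ(S, V) Γ(X, U₀) := hQ
  letI algBT := X.presheaf.algebra_section_stalk ⟨x, hxU₀⟩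
  haveI locT := hU₀.isLocalization_stalk ⟨x, hxU₀⟩
  letI algAR := S.presheaf.algebra_section_stalk ⟨f x, hxV⟩
  letI algRT : Algebra (S.presheaf.stalk (f x)) (X.presheaf.stalk x) :=
    (f.stalkMap x).hom.toAlgebra
  letI algAT : Algebra Γ(S, V) (X.presheaf.stalk x) :=
    ((algebraMap Γ(X, U₀) (X.presheaf.stalk x)).comp (algebraMap Γ(S, V) Γ(X, U₀))).toAlgebra
  haveI : IsScalarTower Γ(S, V) Γ(X, U₀) (X.presheaf.stalk x) :=
    IsScalarTower.of_algebraMap_eq' rfl
  haveI : IsScalarTower Γ(S, V) (S.presheaf.stalk (f x)) (X.presheaf.stalk x) := by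
    apply IsScalarTower.of_algebraMap_eq
    intro a
    show X.presheaf.germ U₀ x hxU₀ (f.appLE V U₀ e₀ a) =
      f.stalkMap x (S.presheaf.germ V (f x) hxV a)
    rw [Scheme.Hom.germ_stalkMap_apply, Scheme.Hom.appLE]
    simp only [CommRingCat.comp_apply]
    exact X.presheaf.germ_res_apply _ _ _ _
  constructor
  · have h0 : Algebra.IsSmoothAt Γ(S, V) (hU₀.primeIdealOf ⟨x, hxU₀⟩).asIdeal := inferInstance
    have h1 : (f.stalkMap x).hom.FormallySmooth :=
      (formallySmooth_stalkMap_iff V hV U₀ hU₀ e₀ hxU₀).mpr h0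
    exact h1
  · haveI : Algebra.EssFiniteType Γ(X, U₀) (X.presheaf.stalk x) :=
      Algebra.EssFiniteType.of_isLocalization _ (hU₀.primeIdealOf ⟨x, hxU₀⟩).asIdeal.primeCompl
    haveI : Algebra.EssFiniteType Γ(S, V) (X.presheaf.stalk x) :=
      Algebra.EssFiniteType.comp Γ(S, V) Γ(X, U₀) (X.presheaf.stalk x)
    exact Algebra.EssFiniteType.of_comp Γ(S, V) (S.presheaf.stalk (f x)) (X.presheaf.stalk x)

set_option maxHeartbeats 1600000 in
/-- `f` smooth near `x`, `κ(x)/κ(f x)` formally smooth, `x` not a generic point of its fibre: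
there is `h ∈ 𝔪_x` with `1 ⊗ dh ≠ 0`. -/
theorem exists_D_ne_zero_of_sep {X S : Scheme.{u}} (f : X ⟶ S) (x : X)
    (W : X.Opens) (hxW : x ∈ W) [Smooth (W.ι ≫ f)]
    (hsep : letI := (f.residueFieldMap x).hom.toAlgebra
      Algebra.FormallySmooth (S.residueField (f x)) (X.residueField x))
    (hgen : IsLocalRing.maximalIdeal ↑((f.fiber (f x)).presheaf.stalk (f.asFiber x)) ≠ ⊥) :
    letI := (f.stalkMap x).hom.toAlgebra
    ∃ h ∈ maximalIdeal (X.presheaf.stalk x),
      (1 : IsLocalRing.ResidueField ↑(X.presheaf.stalk x)) ⊗ₜ[↑(X.presheaf.stalk x)]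
          (KaehlerDifferential.D ↑(S.presheaf.stalk (f x)) ↑(X.presheaf.stalk x) h) ≠ 0 := by
  letI algRT : Algebra (S.presheaf.stalk (f x)) (X.presheaf.stalk x) :=
    (f.stalkMap x).hom.toAlgebra
  haveI : IsLocalHom (algebraMap (S.presheaf.stalk (f x)) (X.presheaf.stalk x)) :=
    (inferInstance : IsLocalHom (f.stalkMap x).hom)
  obtain ⟨hfs, heft⟩ := formallySmooth_essFiniteType_stalkMap f x W hxW
  haveI := hfs
  haveI := heft
  haveI : Algebra.FormallySmooth (ResidueField (S.presheaf.stalk (f x)))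
      (ResidueField (X.presheaf.stalk x)) := by
    have heq : (inferInstance : Algebra (ResidueField (S.presheaf.stalk (f x)))
        (ResidueField (X.presheaf.stalk x))) = (f.residueFieldMap x).hom.toAlgebra := by
      apply Algebra.algebra_ext
      intro c
      obtain ⟨r, rfl⟩ := residue_surjective c
      rfl
    have key : ∀ (a₁ a₂ : Algebra (ResidueField (S.presheaf.stalk (f x)))
        (ResidueField (X.presheaf.stalk x))), a₁ = a₂ →
        @Algebra.FormallySmooth _ _ _ _ a₂ → @Algebra.FormallySmooth _ _ _ _ a₁ := by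
      rintro a₁ a₂ rfl h
      exact h
    exact key _ _ heq hsep
  apply Groth.Agent.H11.SmoothCartierLocal2.exists_D_ne_zero_of_formallySmooth_residue
  intro hle
  apply hgen
  let e := Groth.Agent.H49.FibreStalk.quotientEquivStalkAsFiber f x
  rw [eq_bot_iff]
  intro y hy
  obtain ⟨z, rfl⟩ := e.surjective y
  obtain ⟨t, rfl⟩ := Ideal.Quotient.mk_surjective z
  have ht : t ∈ maximalIdeal (X.presheaf.stalk x) := by
    by_contra hnot
    have hu : IsUnit t := by
      by_contra hnu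
      exact hnot ((IsLocalRing.mem_maximalIdeal t).mpr hnu)
    have hu' : IsUnit (e (Ideal.Quotient.mk _ t)) := (hu.map (Ideal.Quotient.mk _)).map e
    exact (IsLocalRing.mem_maximalIdeal _).mp hy hu'
  have h0 : Ideal.Quotient.mk (Groth.Agent.H49.FibreStalk.fibreIdeal f x) t = 0 :=
    Ideal.Quotient.eq_zero_iff_mem.mpr (hle ht)
  rw [h0, map_zero]
  exact Submodule.zero_mem _

end Groth.Agent.H11.SmoothCartierSch2
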