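import Mathlib
import Groth.Agent.H11.SmoothChart
import Groth.Agent.H11.SmoothCartierSch2
import Groth.Agent.H7.LocalStd
import Groth.Agent.H25.FibreSmoothPt

/-!
# Étale charts adapted to a section (scheme level)
-/

set_option autoImplicit false

namespace Groth.Agent.H11.SmoothChartSch

open AlgebraicGeometry CategoryTheory TensorProduct IsLocalRing

universe u

/-- A morphism from an affine scheme to an affine space over an affine base is étale if the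
corresponding map from the polynomial ring is. -/
theorem etale_homOfVector_of_isAffine {X S : Scheme.{u}} [IsAffine X] [IsAffine S] (f : X ⟶ S)
    {n : Type u} (v : n → Γ(X, ⊤))
    (h : (MvPolynomial.eval₂Hom f.appTop.hom v).Etale) : Etale (AffineSpace.homOfVector f v) := by
  have h1 : Etale (AffineSpace.homOfVector f v ≫ (AffineSpace.isoOfIsAffine n S).hom) := by
    rw [HasRingHomProperty.iff_of_isAffine (P := @Etale)]
    rw [Scheme.Hom.comp_appTop, AffineSpace.isoOfIsAffine_hom_appTop, Category.assoc,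
      CommRingCat.hom_comp, RingHom.Etale.respectsIso.cancel_left_isIso]
    have heq : (CommRingCat.ofHom (MvPolynomial.eval₂Hom ((𝔸(n; S) ↘ S).appTop).hom
        (AffineSpace.coord S)) ≫ (AffineSpace.homOfVector f v).appTop).hom =
        MvPolynomial.eval₂Hom f.appTop.hom v := by
      apply MvPolynomial.ringHom_ext
      · intro a
        have h2 : (AffineSpace.homOfVector f v ≫ 𝔸(n; S) ↘ S).appTop = f.appTop := by
          rw [AffineSpace.homOfVector_over]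
        rw [Scheme.Hom.comp_appTop] at h2
        have h3 := congrArg (fun φ => φ.hom a) h2
        simpa using h3
      · intro i
        simp
    rw [← heq] at h
    exact h
  exact (MorphismProperty.cancel_right_of_respectsIso (P := @Etale) _ _).mp h1

/-- `homOfVector g v ≫ map n t = homOfVector (g ≫ t) v`. -/
theorem homOfVector_comp_map {X S T : Scheme.{u}} {n : Type u} (g : X ⟶ S) (v : n → Γ(X, ⊤))
    (t : S ⟶ T) :
    AffineSpace.homOfVector g v ≫ AffineSpace.map n t = AffineSpace.homOfVector (g ≫ t) v := by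
  apply AffineSpace.hom_ext
  · rw [Category.assoc, AffineSpace.map_over, AffineSpace.homOfVector_over_assoc,
      AffineSpace.homOfVector_over]
  · intro j
    rw [Scheme.Hom.comp_appTop, CommRingCat.comp_apply, AffineSpace.map_appTop_coord,
      AffineSpace.homOfVector_appTop_coord, AffineSpace.homOfVector_appTop_coord]

/-- Cancel a monomorphism on the right for a property stable under base change. -/
theorem etale_of_comp_mono {X Y Z : Scheme.{u}} (h : X ⟶ Y) (g : Y ⟶ Z) [Mono g]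
    [Etale (h ≫ g)] : Etale h := by
  have sq : IsPullback (𝟙 X) h (h ≫ g) g := IsPullback.of_horiz_isIso_mono ⟨by simp⟩
  exact MorphismProperty.of_isPullback (P := @Etale) sq inferInstance

set_option maxHeartbeats 1600000 in
/-- If `X` is smooth over `Y` at `i y` for a section `i`, there is an étale chart around `i y`
carrying the section to the zero section. -/
theorem exists_etale_chart_of_section {X Y : Scheme.{u}} (f : X ⟶ Y)
    [LocallyOfFinitePresentation f]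
    (i : Y ⟶ X) (hi : i ≫ f = 𝟙 Y) (y : Y) (hx : i.base y ∈ f.smoothLocus) :
    ∃ (U : Y.Opens) (V : X.Opens) (_ : y ∈ U) (hUV : U ≤ i ⁻¹ᵁ V) (hVU : V ≤ f ⁻¹ᵁ U) (m : ℕ)
        (v : ULift.{u} (Fin m) → Γ(V, ⊤)),
        Etale (AffineSpace.homOfVector (f.resLE U V hVU) v) ∧
          ∀ j, (i.resLE V U hUV).appTop (v j) = 0 := by
  haveI hW : Smooth (f.smoothLocus.ι ≫ f) :=
    Groth.Agent.H25.FibreSmoothPt.smooth_smoothLocus_ι_comp f
  have hfi : ∀ z : Y, f.base (i.base z) = z := by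
    intro z
    have := congrArg (fun g : Y ⟶ Y => g.base z) hi
    simpa using this
  obtain ⟨_, ⟨V₀', hV₀', rfl⟩, hyV₀', -⟩ :=
    Y.isBasis_affineOpens.exists_subset_of_mem_open (Set.mem_univ y) isOpen_univ
  obtain ⟨V₀, hV₀, hyV₀⟩ : ∃ V₀ : Y.Opens, IsAffineOpen V₀ ∧ y ∈ V₀ := ⟨V₀', hV₀', hyV₀'⟩
  clear hyV₀' hV₀'
  have hxV₀ : i.base y ∈ f ⁻¹ᵁ V₀ := by
    show f.base (i.base y) ∈ V₀
    rw [hfi]; exact hyV₀
  obtain ⟨_, ⟨U₀', hU₀', rfl⟩, hxU₀', hU₀le'⟩ := X.isBasis_affineOpens.exists_subset_of_mem_open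
    (show i.base y ∈ f.smoothLocus ⊓ f ⁻¹ᵁ V₀ from ⟨hx, hxV₀⟩) (f.smoothLocus ⊓ f ⁻¹ᵁ V₀).2
  obtain ⟨U₀, hU₀, hxU₀, hU₀le⟩ : ∃ U₀ : X.Opens, IsAffineOpen U₀ ∧ i.base y ∈ U₀ ∧
      U₀ ≤ f.smoothLocus ⊓ f ⁻¹ᵁ V₀ := ⟨U₀', hU₀', hxU₀', hU₀le'⟩
  clear hxU₀' hU₀le' hU₀'
  have e₀ : U₀ ≤ f ⁻¹ᵁ V₀ := fun z hz ↦ (hU₀le hz).2
  obtain ⟨a, ha_le, hya⟩ := hV₀.exists_basicOpen_le (V := V₀ ⊓ i ⁻¹ᵁ U₀) ⟨y, ⟨hyV₀, hxU₀⟩⟩ hyV₀
  obtain ⟨V₁, hV₁def⟩ : ∃ V₁ : Y.Opens, V₁ = Y.basicOpen a := ⟨_, rfl⟩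
  have hV₁ : IsAffineOpen V₁ := hV₁def ▸ hV₀.basicOpen a
  have hyV₁ : y ∈ V₁ := hV₁def ▸ hya
  have hV₁le : V₁ ≤ V₀ ⊓ i ⁻¹ᵁ U₀ := hV₁def ▸ ha_le
  obtain ⟨U₁, hU₁def⟩ : ∃ U₁ : X.Opens, U₁ = X.basicOpen (f.appLE V₀ U₀ e₀ a) := ⟨_, rfl⟩
  have hU₁ : IsAffineOpen U₁ := hU₁def ▸ hU₀.basicOpen _
  have hU₁eq : U₁ = U₀ ⊓ f ⁻¹ᵁ V₁ := by rw [hU₁def, hV₁def, Scheme.basicOpen_appLE]
  have hU₁U₀ : U₁ ≤ U₀ := hU₁eq ▸ inf_le_left
  have e₁ : U₁ ≤ f ⁻¹ᵁ V₁ := hU₁eq ▸ inf_le_right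
  have hi₁ : V₁ ≤ i ⁻¹ᵁ U₁ := by
    intro z hz
    show i.base z ∈ U₁
    rw [hU₁eq]
    refine ⟨(hV₁le hz).2, ?_⟩
    show f.base (i.base z) ∈ V₁
    rw [hfi]; exact hz
  have hxU₁ : i.base y ∈ U₁ := hi₁ hyV₁
  have hU₁W : U₁ ≤ f.smoothLocus := fun z hz ↦ (hU₀le (hU₁U₀ hz)).1
  have hsm : Smooth (U₁.ι ≫ f) := by
    rw [← X.homOfLE_ι hU₁W, Category.assoc]
    infer_instance
  have : IsAffine U₁.toScheme := hU₁
  have hQ := HasRingHomProperty.appLE @Smooth (U₁.ι ≫ f) hsm ⟨V₁, hV₁⟩ ⟨⊤, isAffineOpen_top _⟩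
    (by rw [Scheme.Hom.comp_preimage]; intro z _; exact e₁ z.2)
  rw [Groth.Agent.H7.ι_comp_appLE_top f U₁ V₁ e₁, CommRingCat.hom_comp,
    RingHom.Smooth.respectsIso.cancel_right_isIso] at hQ
  letI algAB : Algebra Γ(Y, V₁) Γ(X, U₁) := (f.appLE V₁ U₁ e₁).hom.toAlgebra
  haveI hsmA : Algebra.Smooth Γ(Y, V₁) Γ(X, U₁) := hQ
  letI algBT := X.presheaf.algebra_section_stalk ⟨i.base y, hxU₁⟩
  haveI locT := hU₁.isLocalization_stalk ⟨i.base y, hxU₁⟩
  letI algAT : Algebra Γ(Y, V₁) (X.presheaf.stalk (i.base y)) :=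
    ((algebraMap Γ(X, U₁) (X.presheaf.stalk (i.base y))).comp
      (algebraMap Γ(Y, V₁) Γ(X, U₁))).toAlgebra
  haveI : IsScalarTower Γ(Y, V₁) Γ(X, U₁) (X.presheaf.stalk (i.base y)) :=
    IsScalarTower.of_algebraMap_eq' rfl
  have hσ : ∀ a' : Γ(Y, V₁),
      (i.appLE U₁ V₁ hi₁).hom (algebraMap Γ(Y, V₁) Γ(X, U₁) a') = a' := by
    intro a'
    show (i.appLE U₁ V₁ hi₁).hom ((f.appLE V₁ U₁ e₁).hom a') = a'
    have h1 := Scheme.Hom.appLE_comp_appLE i f V₁ U₁ V₁ e₁ hi₁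
    have key : ∀ (g : Y ⟶ Y) (_ : g = 𝟙 Y) (e : V₁ ≤ g ⁻¹ᵁ V₁), g.appLE V₁ V₁ e = 𝟙 _ := by
      rintro g rfl e
      simp only [Scheme.Hom.appLE, Scheme.Hom.id_app]
      erw [Category.id_comp]
      exact Y.presheaf.map_id _
    rw [key _ hi] at h1
    have h2 := congrArg (fun φ => φ.hom a') h1
    simpa using h2
  obtain ⟨m, h, hσh, g, hg, hét⟩ := Groth.Agent.H11.SmoothChart.exists_etale_chart_of_section
    (A := Γ(Y, V₁)) (B := Γ(X, U₁)) (hU₁.primeIdealOf ⟨i.base y, hxU₁⟩).asIdeal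
    (X.presheaf.stalk (i.base y)) (i.appLE U₁ V₁ hi₁).hom hσ
  have hxD : i.base y ∈ X.basicOpen g :=
    (Groth.Agent.H7.mem_basicOpen_iff_notMem_primeIdealOf hU₁ (i.base y) hxU₁ g).mpr hg
  have hD : IsAffineOpen (X.basicOpen g) := hU₁.basicOpen g
  have hDle : X.basicOpen g ≤ U₁ := X.basicOpen_le g
  haveI hloc : IsLocalization.Away g Γ(X, X.basicOpen g) := hU₁.isLocalization_basicOpen g
  letI algAB' : Algebra Γ(Y, V₁) Γ(X, X.basicOpen g) :=
    (f.appLE V₁ (X.basicOpen g) (hDle.trans e₁)).hom.toAlgebra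
  haveI : IsScalarTower Γ(Y, V₁) Γ(X, U₁) Γ(X, X.basicOpen g) := by
    apply IsScalarTower.of_algebraMap_eq'
    show (f.appLE V₁ (X.basicOpen g) (hDle.trans e₁)).hom =
      (X.presheaf.map (homOfLE hDle).op).hom.comp (f.appLE V₁ U₁ e₁).hom
    rw [← CommRingCat.hom_comp, Scheme.Hom.appLE_map]
  have hétD := hét Γ(X, X.basicOpen g)
  obtain ⟨U, hUdef⟩ : ∃ U : Y.Opens, U = V₁ ⊓ i ⁻¹ᵁ (X.basicOpen g) := ⟨_, rfl⟩
  obtain ⟨V, hVdef⟩ : ∃ V : X.Opens, V = X.basicOpen g ⊓ f ⁻¹ᵁ U := ⟨_, rfl⟩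
  have hyU : y ∈ U := hUdef ▸ ⟨hyV₁, hxD⟩
  have hUV₁ : U ≤ V₁ := hUdef ▸ inf_le_left
  have hVD : V ≤ X.basicOpen g := hVdef ▸ inf_le_left
  have hVU : V ≤ f ⁻¹ᵁ U := hVdef ▸ inf_le_right
  have hUV : U ≤ i ⁻¹ᵁ V := by
    intro z hz
    show i.base z ∈ V
    rw [hVdef]
    refine ⟨?_, ?_⟩
    · have : z ∈ V₁ ⊓ i ⁻¹ᵁ (X.basicOpen g) := hUdef ▸ hz
      exact this.2
    · show f.base (i.base z) ∈ U
      rw [hfi]; exact hz
  have hD₁ : X.basicOpen g ≤ f ⁻¹ᵁ V₁ := hDle.trans e₁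
  let vD : ULift.{u} (Fin m) → Γ((X.basicOpen g).toScheme, ⊤) := fun j =>
    (X.basicOpen g).topIso.inv (algebraMap Γ(X, U₁) Γ(X, X.basicOpen g) (h j))
  haveI : IsAffine (X.basicOpen g).toScheme := hD
  haveI : IsAffine V₁.toScheme := hV₁
  have hFD : Etale (AffineSpace.homOfVector (f.resLE V₁ (X.basicOpen g) hD₁) vD) := by
    apply etale_homOfVector_of_isAffine
    have heq : MvPolynomial.eval₂Hom (f.resLE V₁ (X.basicOpen g) hD₁).appTop.hom vD =
        ((X.basicOpen g).topIso.inv.hom.comp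
          ((MvPolynomial.aeval (fun j => algebraMap Γ(X, U₁) Γ(X, X.basicOpen g) (h j)) :
            MvPolynomial (ULift.{u} (Fin m)) Γ(Y, V₁) →ₐ[Γ(Y, V₁)]
              Γ(X, X.basicOpen g)).toRingHom)).comp
          (MvPolynomial.map V₁.topIso.hom.hom) := by
      apply MvPolynomial.ringHom_ext
      · intro a'
        rw [MvPolynomial.coe_eval₂Hom, MvPolynomial.eval₂_C]
        simp only [RingHom.comp_apply, MvPolynomial.map_C, AlgHom.toRingHom_eq_coe,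
          RingHom.coe_coe, MvPolynomial.aeval_C]
        rw [Scheme.Hom.appTop, Scheme.Hom.resLE_app_top]
        rfl
      · intro j
        rw [MvPolynomial.coe_eval₂Hom, MvPolynomial.eval₂_X]
        simp only [RingHom.comp_apply, MvPolynomial.map_X, AlgHom.toRingHom_eq_coe,
          RingHom.coe_coe, MvPolynomial.aeval_X]
        rfl
    rw [heq]
    refine RingHom.Etale.stableUnderComposition _ _ ?_
      (RingHom.Etale.stableUnderComposition _ _ hétD ?_)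
    · exact RingHom.Etale.of_bijective
        ⟨MvPolynomial.map_injective _ (ConcreteCategory.bijective_of_isIso V₁.topIso.hom).1,
          MvPolynomial.map_surjective _ (ConcreteCategory.bijective_of_isIso V₁.topIso.hom).2⟩
    · exact RingHom.Etale.of_bijective (ConcreteCategory.bijective_of_isIso _)
  let v : ULift.{u} (Fin m) → Γ(V.toScheme, ⊤) := fun j => (X.homOfLE hVD).appTop (vD j)
  have hcomp : AffineSpace.homOfVector (f.resLE U V hVU) v ≫
      AffineSpace.map (ULift.{u} (Fin m)) (Y.homOfLE hUV₁) =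
      X.homOfLE hVD ≫ AffineSpace.homOfVector (f.resLE V₁ (X.basicOpen g) hD₁) vD := by
    rw [homOfVector_comp_map, AffineSpace.comp_homOfVector, Scheme.Hom.resLE_map,
      Scheme.Hom.map_resLE]
    rfl
  haveI : IsOpenImmersion (AffineSpace.map (ULift.{u} (Fin m)) (Y.homOfLE hUV₁)) :=
    MorphismProperty.of_isPullback (P := @IsOpenImmersion)
      (AffineSpace.isPullback_map (n := ULift.{u} (Fin m)) (Y.homOfLE hUV₁)).flip inferInstance
  haveI : Etale (AffineSpace.homOfVector (f.resLE U V hVU) v ≫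
      AffineSpace.map (ULift.{u} (Fin m)) (Y.homOfLE hUV₁)) := by
    rw [hcomp]; infer_instance
  have hE : Etale (AffineSpace.homOfVector (f.resLE U V hVU) v) :=
    etale_of_comp_mono _ (AffineSpace.map (ULift.{u} (Fin m)) (Y.homOfLE hUV₁))
  refine ⟨U, V, hyU, hUV, hVU, m, v, hE, ?_⟩
  intro j
  have hDU : U ≤ i ⁻¹ᵁ (X.basicOpen g) := fun z hz => hVD (hUV hz)
  have h1 : (X.homOfLE hVD).appTop ≫ (i.resLE V U hUV).appTop =
      (i.resLE (X.basicOpen g) U hDU).appTop := by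
    rw [← Scheme.Hom.comp_appTop, Scheme.Hom.resLE_map]
  have h2 : (i.resLE V U hUV).appTop (v j) = (i.resLE (X.basicOpen g) U hDU).appTop (vD j) := by
    have := congrArg (fun φ => φ.hom (vD j)) h1
    exact this
  rw [h2, Scheme.Hom.appTop, Scheme.Hom.resLE_app_top]
  simp only [vD, CommRingCat.comp_apply]
  rw [Iso.inv_hom_id_apply]
  have h3 : i.appLE (X.basicOpen g) U hDU (algebraMap Γ(X, U₁) Γ(X, X.basicOpen g) (h j)) =
      Y.presheaf.map (homOfLE hUV₁).op (i.appLE U₁ V₁ hi₁ (h j)) := by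
    show i.appLE _ _ _ (X.presheaf.map (homOfLE hDle).op (h j)) = _
    rw [← CommRingCat.comp_apply, Scheme.Hom.map_appLE, ← CommRingCat.comp_apply,
      Scheme.Hom.appLE_map]
  rw [h3]
  have h4 : i.appLE U₁ V₁ hi₁ (h j) = 0 := hσh j
  rw [h4, map_zero, map_zero]

end Groth.Agent.H11.SmoothChartSch
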