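import Mathlib
import Groth.Agent.H11.FlatComplSch
import Groth.Agent.H25.FibreSmoothPt
import Groth.Agent.H49.SmoothFibreConstr

/-!
# Smoothness of a proper flat morphism from smoothness over a closed subscheme `V(J)` with `J`
in the Jacobson radical.
-/

set_option autoImplicit false
set_option linter.style.haveILetI false
universe u

open CategoryTheory CategoryTheory.Limits AlgebraicGeometry

namespace Groth.Agent.H11.SmoothComplSch

variable (A : Type u) [CommRing A] {X : Scheme.{u}} (h : X ⟶ Spec (.of A))

/-- If `h` is flat at `x`, the base change of `h` along `Spec B → Spec A` is smooth, and `h x` lies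
in the image of `Spec B`, then `h` is smooth at `x`. -/
theorem mem_smoothLocus_of_flat_of_smooth_baseChange [LocallyOfFinitePresentation h]
    (B : Type u) [CommRing B] (ψ : A →+* B)
    (hsm : Smooth (pullback.snd h (Spec.map (CommRingCat.ofHom ψ))))
    (x : X) (hflat : (h.stalkMap x).hom.Flat)
    (hx : h x ∈ Set.range (Spec.map (CommRingCat.ofHom ψ))) :
    x ∈ h.smoothLocus := by
  set g := Spec.map (CommRingCat.ofHom ψ) with hg
  obtain ⟨s, hs⟩ := hx
  obtain ⟨z, hz1, hz2⟩ := Scheme.Pullback.exists_preimage_pullback (f := h) (g := g) x s hs.symm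
  haveI := Groth.Agent.H49.SmoothFibreConstr.lfp_fiberToSpecResidueField h (h x)
  haveI : LocallyOfFinitePresentation (pullback.snd h g) :=
    MorphismProperty.pullback_snd _ _ inferInstance
  haveI := Groth.Agent.H49.SmoothFibreConstr.lfp_fiberToSpecResidueField (pullback.snd h g)
    ((pullback.snd h g) z)
  refine Groth.Agent.H25.FibreSmoothPt.mem_smoothLocus_of_flat_of_fibre h x hflat ?_
  have h1 : Groth.Agent.H49.SmoothFibreConstr.FibSm (pullback.snd h g) z :=
    (Groth.Agent.H25.FibreSmoothPt.flat_and_fibre_of_mem_smoothLocus (pullback.snd h g) z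
      ((pullback.snd h g).smoothLocus_eq_top ▸ trivial)).2
  have h2 := (Groth.Agent.H49.SmoothFibreConstr.fibSm_baseChange h (pullback.snd h g)
    (pullback.fst h g) g (IsPullback.of_hasPullback h g) z).mp h1
  rw [hz1] at h2
  exact h2

/-- A proper flat morphism to `Spec A` is smooth as soon as its base change along a surjection
`A → B` with kernel in the Jacobson radical is smooth. -/
theorem smooth_of_smooth_quotient [IsProper h] [Flat h] [LocallyOfFinitePresentation h]
    (B : Type u) [CommRing B] (ψ : A →+* B) (hψ : Function.Surjective ψ)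
    (hJ : RingHom.ker ψ ≤ Ideal.jacobson ⊥)
    (hsm : Smooth (pullback.snd h (Spec.map (CommRingCat.ofHom ψ)))) :
    Smooth h := by
  rw [← Scheme.Hom.smoothLocus_eq_top_iff, eq_top_iff]
  intro x _
  obtain ⟨x₀, hsp, hx₀⟩ := Groth.Agent.H11.FlatComplSch.exists_specializes_of_le_jacobson A h _ hJ
    h.isClosedMap x
  refine hsp.mem_open h.smoothLocus.isOpen ?_
  refine mem_smoothLocus_of_flat_of_smooth_baseChange A h B ψ hsm x₀ (Flat.stalkMap h x₀) ?_
  change h x₀ ∈ Set.range (PrimeSpectrum.comap ψ)
  rw [range_comap_of_surjective _ _ hψ]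
  exact hx₀

end Groth.Agent.H11.SmoothComplSch
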