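import Mathlib
import Groth.Prelude.Def_Flat
import Groth.Agent.H25.Dim
import Groth.Agent.H48.FieldDim2
import Groth.Agent.H49.FibreDimAtBC
import Groth.Agent.H51.SmoothFibreDim
import Groth.Agent.H11.CotSmoothSch

/-!
# Fibres of a morphism of smooth varieties with injective cotangent maps
-/

set_option autoImplicit false
universe u
open CategoryTheory CategoryTheory.Limits AlgebraicGeometry TopologicalSpace

namespace Groth.Agent.H11.SmoothFib

open Groth.Agent.H48.FieldDim Groth.Agent.H48.FieldDim2

/-- If all local dimensions of a scheme locally of finite type over a field equal `m`, then all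
irreducible components have dimension `m`. -/
theorem dim_irreducibleComponent_of_localDim {k : Type u} [Field k] {F : Scheme.{u}}
    (g : F ⟶ Spec (CommRingCat.of k)) [LocallyOfFiniteType g] (m : ℕ)
    (h : ∀ z : F, FlatMor.localDim F z = m) :
    ∀ Z ∈ irreducibleComponents (F : Type u), topologicalKrullDim Z = m := by
  intro Z hZ
  haveI : IsLocallyNoetherian F := LocallyOfFiniteType.isLocallyNoetherian g
  haveI : JacobsonSpace F := LocallyOfFiniteType.jacobsonSpace g
  obtain ⟨η, hη⟩ := QuasiSober.sober hZ.1 (isClosed_of_mem_irreducibleComponents Z hZ)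
  have hZc : Z = closure ({η} : Set F) := hη.def.symm
  have hdimZ : topologicalKrullDim Z = (((δ g η).toNat : ℕ∞) : WithBot ℕ∞) := by
    rw [hZc]; exact topologicalKrullDim_closure_eq g η
  rw [hdimZ]
  have hm := h η
  unfold FlatMor.localDim at hm
  apply le_antisymm
  · rw [← hm]
    refine le_iInf fun U => ?_
    rw [topologicalKrullDim_eq_iSup_of_isLocallyClosed g (U.1 : Set F) U.1.2.isLocallyClosed]
    exact le_iSup (fun z : (U.1 : Set F) => (((δ g z.1).toNat : ℕ∞) : WithBot ℕ∞)) ⟨η, U.2⟩
  · obtain ⟨o, ho, hne, hoZ⟩ := Groth.Agent.H25.exists_isOpen_nonempty_subset_irreducibleComponent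
      (X := F) (fun x => by
        obtain ⟨U, hU, hxU, -⟩ := Opens.isBasis_iff_nbhd.mp F.isBasis_affineOpens
          (show x ∈ (⊤ : F.Opens) from trivial)
        haveI : IsNoetherianRing Γ(F, U) := IsLocallyNoetherian.component_noetherian ⟨U, hU⟩
        exact ⟨U, U.2, hxU, noetherianSpace_of_isAffineOpen U hU⟩) Z hZ
    obtain ⟨u, hu⟩ := hne
    have hηu : η ⤳ u := by
      rw [specializes_iff_mem_closure, ← hZc]; exact hoZ hu
    have hηo : η ∈ o := hηu.mem_open ho hu
    rw [← hm]
    refine (iInf_le _ (⟨⟨o, ho⟩, hηo⟩ : {U : Opens F // η ∈ U})).trans ?_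
    change topologicalKrullDim ↥o ≤ _
    rw [topologicalKrullDim_eq_iSup_of_isLocallyClosed g o ho.isLocallyClosed]
    refine iSup_le fun z => ?_
    have hz : η ⤳ z.1 := by
      rw [specializes_iff_mem_closure, ← hZc]; exact hoZ z.2
    have h1 := Groth.Agent.H48.CycDim6.delta_mono F (δ g) (isDimFun g) hz
    have h2 : (δ g z.1).toNat ≤ (δ g η).toNat := Int.toNat_le_toNat h1
    exact_mod_cast h2

section main

variable (k : Type u) [Field k] [IsAlgClosed k]

/-- a morphism of smooth varieties whose cotangent maps at closed points are injective is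
smooth. -/
theorem smooth_of_cot {X Y : Scheme.{u}}
    (qX : X ⟶ Spec (CommRingCat.of k)) (qY : Y ⟶ Spec (CommRingCat.of k))
    [LocallyOfFiniteType qX] [Smooth qX] [LocallyOfFiniteType qY] [Smooth qY]
    (f : X ⟶ Y) (hf : f ≫ qY = qX)
    (hT : ∀ x : X, IsClosed ({x} : Set ↥X) →
      Function.Injective (FixPt.cotangentMapAt f x (f.base x) rfl)) : Smooth f := by
  letI : X.Over (Spec (CommRingCat.of k)) := ⟨qX⟩
  letI : Y.Over (Spec (CommRingCat.of k)) := ⟨qY⟩
  haveI : LocallyOfFiniteType (X ↘ Spec (CommRingCat.of k)) := ‹LocallyOfFiniteType qX›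
  haveI : LocallyOfFiniteType (Y ↘ Spec (CommRingCat.of k)) := ‹LocallyOfFiniteType qY›
  haveI : Smooth (X ↘ Spec (CommRingCat.of k)) := ‹Smooth qX›
  haveI : Smooth (Y ↘ Spec (CommRingCat.of k)) := ‹Smooth qY›
  haveI : IsLocallyNoetherian Y := LocallyOfFiniteType.isLocallyNoetherian qY
  haveI : JacobsonSpace X := LocallyOfFiniteType.jacobsonSpace qX
  haveI : LocallyOfFiniteType (f ≫ qY) := by rw [hf]; infer_instance
  haveI : LocallyOfFiniteType f := locallyOfFiniteType_of_comp f qY
  haveI : LocallyOfFinitePresentation f :=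
    LocallyOfFinitePresentation.iff_locallyOfFiniteType.mpr inferInstance
  exact Groth.Agent.H11.CotSmoothSch.smooth_of_closedPoints f fun x hx =>
    (Groth.Agent.H11.CotSmoothSch.formallySmooth_stalkMap_iff_cot k f hf x hx).mpr (hT x hx)

theorem result_S19460 {X Y : Scheme.{u}}
    (qX : X ⟶ Spec (CommRingCat.of k)) (qY : Y ⟶ Spec (CommRingCat.of k))
    [IsIntegral X] [LocallyOfFiniteType qX] [Smooth qX]
    [IsIntegral Y] [LocallyOfFiniteType qY] [Smooth qY]
    (f : X ⟶ Y) (hf : f ≫ qY = qX) (dX dY : ℕ) (hX : topologicalKrullDim ↥X = dX)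
    (hY : topologicalKrullDim ↥Y = dY)
    (hT : ∀ x : X, IsClosed ({x} : Set ↥X) →
      Function.Injective (FixPt.cotangentMapAt f x (f.base x) rfl)) :
    DenseRange f.base ∧ dY ≤ dX ∧
      ∀ y : Y, IsClosed ({y} : Set ↥Y) → y ∈ Set.range f.base →
        Smooth (f.fiberToSpecResidueField y) ∧
          ∀ Z ∈ irreducibleComponents ↥(f.fiber y),
            topologicalKrullDim ↥Z = ((dX - dY : ℕ) : WithBot ℕ∞) := by
  haveI : Smooth f := smooth_of_cot k qX qY f hf hT
  haveI : IsLocallyNoetherian X := LocallyOfFiniteType.isLocallyNoetherian qX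
  haveI : IsLocallyNoetherian Y := LocallyOfFiniteType.isLocallyNoetherian qY
  have hLX := Groth.Agent.H11.OmegaSmooth.localDim_eq_of_irreducible k qX dX hX
  have hLY := Groth.Agent.H11.OmegaSmooth.localDim_eq_of_irreducible k qY dY hY
  -- fibre dimensions
  have hfd : ∀ x : X, dY ≤ dX ∧ FlatMor.fibreDimAt f x = ((dX - dY : ℕ) : WithBot ℕ∞) := by
    intro x
    obtain ⟨V, n, hxV, hV⟩ := Groth.Agent.H51.exists_open_fibreDimAt_eq_of_smooth f x
    have h2 := Groth.Agent.H51.localDim_eq_add_fibreDimAt_of_smooth f x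
    rw [hLX, hLY, hV x hxV] at h2
    have h3 : dX = dY + n := by exact_mod_cast h2
    refine ⟨by omega, ?_⟩
    rw [hV x hxV]
    have : n = dX - dY := by omega
    rw [this]
  refine ⟨?_, ?_, ?_⟩
  · have hopen : IsOpen (Set.range f.base) := f.isOpenMap.isOpen_range
    have hne : (Set.range f.base).Nonempty := Set.range_nonempty _
    exact hopen.dense hne
  · obtain ⟨x₀⟩ : Nonempty X := inferInstance
    exact (hfd x₀).1
  · intro y _ _
    refine ⟨(inferInstance : Smooth (pullback.snd f (Y.fromSpecResidueField y))), ?_⟩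
    letI ovF : (f.fiber y).Over (Spec (CommRingCat.of (Y.residueField y))) :=
      ⟨f.fiberToSpecResidueField y⟩
    haveI : LocallyOfFiniteType ((f.fiber y) ↘ Spec (CommRingCat.of (Y.residueField y))) :=
      (inferInstance : LocallyOfFiniteType (pullback.snd f (Y.fromSpecResidueField y)))
    refine dim_irreducibleComponent_of_localDim
      ((f.fiber y) ↘ Spec (CommRingCat.of (Y.residueField y))) (dX - dY) ?_
    intro z
    rw [Groth.Agent.H49.FibreDimAtBC.localDim_fiber_eq f y z]
    exact (hfd _).2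

end main

end Groth.Agent.H11.SmoothFib
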