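import Mathlib
import Groth.Agent.H11.SmoothFree
import Groth.Agent.H39.SmoothStalk

/-!
# Smooth points: free differentials of rank the fibre dimension (universal receptacles)
-/

set_option autoImplicit false
universe u
open CategoryTheory CategoryTheory.Limits AlgebraicGeometry TopologicalSpace TensorProduct
  KaehlerDifferential

namespace Groth.Agent.H11.SmoothFree

open Groth.Agent.H44

variable {X Y : Scheme.{u}} (f : X ⟶ Y)

/-- Around a smooth point there is a standard smooth chart of some relative dimension. -/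
theorem exists_chart_of_mem_smoothLocus [LocallyOfFinitePresentation f] (x : X)
    (hx : x ∈ f.smoothLocus) :
    ∃ (V : Y.Opens) (_ : IsAffineOpen V) (U : X.Opens) (_ : IsAffineOpen U) (e : U ≤ f ⁻¹ᵁ V)
      (n : ℕ), x ∈ U ∧ RingHom.IsStandardSmoothOfRelativeDimension n (f.appLE V U e).hom := by
  set W := f.smoothLocus with hW
  haveI : Smooth (W.ι ≫ f) := Groth.Agent.H25.FibreSmoothPt.smooth_smoothLocus_ι_comp f
  obtain ⟨V, hV, U', hU', hxU', e', hstd⟩ :=
    Smooth.exists_isStandardSmooth (W.ι ≫ f) (⟨x, hx⟩ : W)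
  obtain ⟨n, hn⟩ := Groth.Agent.H51.exists_isStandardSmoothOfRelativeDimension _ hstd
  have hU : IsAffineOpen (W.ι ''ᵁ U') := hU'.image_of_isOpenImmersion W.ι
  have e : W.ι ''ᵁ U' ≤ f ⁻¹ᵁ V := by
    rintro _ ⟨z, hz, rfl⟩
    exact e' hz
  refine ⟨V, hV, W.ι ''ᵁ U', hU, e, n, ⟨⟨x, hx⟩, hxU', rfl⟩, ?_⟩
  have h1 : f.appLE V (W.ι ''ᵁ U') e ≫
      W.ι.appLE (W.ι ''ᵁ U') U' (W.ι.preimage_image_eq U').ge = (W.ι ≫ f).appLE V U' e' :=
    Scheme.Hom.appLE_comp_appLE _ _ _ _ _ _ _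
  rw [← Scheme.Hom.appIso_hom'] at h1
  rw [← h1, CommRingCat.hom_comp] at hn
  exact ((RingHom.isStandardSmoothOfRelativeDimension_respectsIso (n := n)).cancel_right_isIso
    (f.appLE V (W.ι ''ᵁ U') e) (W.ι.appIso U').hom).mp hn

variable {Ω' : X.Modules} (d : OmegaSh.Der f Ω') (hd : OmegaSh.IsUniversal d)

include hd in
/-- **EGA IV 17.10.2 (⇒)**: at a smooth point the differentials are free near the point, of rank
the local dimension of the fibre. -/
theorem exists_free_of_mem_smoothLocus [LocallyOfFinitePresentation f] (x : X)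
    (hx : x ∈ f.smoothLocus) :
    ∃ (U : X.Opens) (n : ℕ), x ∈ U ∧ Nonempty (Ω'.restrict U.ι ≅ FlatMod.freeMod (↑U) n) ∧
      FlatMor.fibreDimAt f x = (n : WithBot ℕ∞) := by
  obtain ⟨V, hV, U, hU, e, n, hxU, hstd⟩ := exists_chart_of_mem_smoothLocus f x hx
  haveI := isQuasicoherent_of_isUniversal d hd
  have hfd := Groth.Agent.H51.fibreDimAt_eq_of_isStandardSmoothOfRelativeDimension f n hV hU e hstd
    x hxU
  letI := (f.appLE V U e).hom.toAlgebra
  haveI : Algebra.IsStandardSmoothOfRelativeDimension n Γ(Y, V) Γ(X, U) := hstd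
  haveI : Nonempty U := ⟨⟨x, hxU⟩⟩
  haveI : Nontrivial Γ(X, U) := inferInstance
  haveI : Algebra.IsStandardSmooth Γ(Y, V) Γ(X, U) :=
    Algebra.IsStandardSmoothOfRelativeDimension.isStandardSmooth n
  have hrank := Algebra.IsStandardSmoothOfRelativeDimension.rank_kaehlerDifferential
    (R := Γ(Y, V)) (S := Γ(X, U)) n
  have hfr : Module.finrank Γ(X, U) Ω[Γ(X, U)⁄Γ(Y, V)] = n := Module.finrank_eq_of_rank_eq hrank
  let b := Module.finBasisOfFinrankEq Γ(X, U) Ω[Γ(X, U)⁄Γ(Y, V)] hfr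
  obtain ⟨Φ, -⟩ := exists_kaehler_equiv_of_isUniversal d hU hV e hd
  let b' := b.map Φ.symm
  obtain ⟨i⟩ := nonempty_iso_freeMod_of_basis Ω' hU b'
  exact ⟨U, n, hxU, ⟨i⟩, hfd⟩

include hd in
/-- **EGA IV 17.10.2 (⇐)**: `f` flat at `x` and the differentials free near `x` of rank at most the
local dimension of the fibre implies `f` smooth at `x`. -/
theorem mem_smoothLocus_of_flat_of_free [LocallyOfFinitePresentation f] (x : X)
    (hflat : (f.stalkMap x).hom.Flat) (U₀ : X.Opens) (n : ℕ) (hxU₀ : x ∈ U₀)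
    (e₀ : Ω'.restrict U₀.ι ≅ FlatMod.freeMod (↑U₀) n)
    (hn : (n : WithBot ℕ∞) ≤ FlatMor.fibreDimAt f x) : x ∈ f.smoothLocus := by
  obtain ⟨V, hV, hfxV, -⟩ := Opens.isBasis_iff_nbhd.mp Y.isBasis_affineOpens
    (show f x ∈ (⊤ : Y.Opens) from trivial)
  have hV : IsAffineOpen V := hV
  obtain ⟨U, hU, hxU, hUle⟩ := Opens.isBasis_iff_nbhd.mp X.isBasis_affineOpens
    (show x ∈ U₀ ⊓ f ⁻¹ᵁ V from ⟨hxU₀, hfxV⟩)
  have hU : IsAffineOpen U := hU
  have hUU₀ : U ≤ U₀ := hUle.trans inf_le_left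
  have e : U ≤ f ⁻¹ᵁ V := hUle.trans inf_le_right
  letI := (f.appLE V U e).hom.toAlgebra
  obtain ⟨b₀⟩ := nonempty_basis_of_iso_freeMod Ω' hU hUU₀ e₀
  obtain ⟨Φ, -⟩ := exists_kaehler_equiv_of_isUniversal d hU hV e hd
  exact mem_smoothLocus_of_flat_of_basis f x hflat hU hV e hxU n (b₀.map Φ) hn

end Groth.Agent.H11.SmoothFree
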