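import Mathlib
import Groth.Agent.H11.SmoothFree2
import Groth.Agent.H39.RegularCrit
import Groth.Agent.H49.FibreStalk
import Groth.Agent.H57.HBReg
import Groth.Agent.S2082

/-!
# Smoothness over a regular base from free differentials and the dimension formula
(EGA IV 17.15.x)
-/

set_option autoImplicit false
universe u
open CategoryTheory CategoryTheory.Limits AlgebraicGeometry TopologicalSpace TensorProduct
  KaehlerDifferential

namespace Groth.Agent.H11.SmoothFree

open Groth.Agent.H44

theorem isRegularLocalRing_stalk_spec_field (K : Type u) [Field K]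
    (p : Spec (CommRingCat.of K)) :
    IsRegularLocalRing ((Spec (CommRingCat.of K)).presheaf.stalk p) := by
  obtain rfl : p = IsLocalRing.closedPoint K := Subsingleton.elim _ _
  let e : (Spec (CommRingCat.of K)).presheaf.stalk (IsLocalRing.closedPoint K) ≃+* K :=
    (stalkClosedPointIso (CommRingCat.of K)).commRingCatIsoToRingEquiv
  exact IsRegularLocalRing.of_ringEquiv e.symm

variable {X Y : Scheme.{u}} (f : X ⟶ Y)

variable {Ω' : X.Modules} (d : OmegaSh.Der f Ω') (hd : OmegaSh.IsUniversal d)

include hd in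
/-- If the differentials are free near `x` of rank at most the local dimension of the fibre, the
fibre is smooth at `x`. -/
theorem fibre_mem_smoothLocus_of_free [LocallyOfFinitePresentation f] (x : X)
    [LocallyOfFinitePresentation (f.fiberToSpecResidueField (f x))]
    (U₀ : X.Opens) (n : ℕ) (hxU₀ : x ∈ U₀)
    (e₀ : Ω'.restrict U₀.ι ≅ FlatMod.freeMod (↑U₀) n)
    (hn : (n : WithBot ℕ∞) ≤ FlatMor.fibreDimAt f x) :
    f.asFiber x ∈ (f.fiberToSpecResidueField (f x)).smoothLocus := by
  obtain ⟨V, hV, hfxV, -⟩ := Opens.isBasis_iff_nbhd.mp Y.isBasis_affineOpens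
    (show f x ∈ (⊤ : Y.Opens) from trivial)
  have hV : IsAffineOpen V := hV
  obtain ⟨U, hU, hxU, hUle⟩ := Opens.isBasis_iff_nbhd.mp X.isBasis_affineOpens
    (show x ∈ U₀ ⊓ f ⁻¹ᵁ V from ⟨hxU₀, hfxV⟩)
  have hU : IsAffineOpen U := hU
  have hUU₀ : U ≤ U₀ := hUle.trans inf_le_left
  have e : U ≤ f ⁻¹ᵁ V := hUle.trans inf_le_right
  letI := (f.appLE V U e).hom.toAlgebra
  obtain ⟨b₀⟩ := nonempty_basis_of_iso_freeMod Ω' hU hUU₀ e₀
  obtain ⟨Φ, -⟩ := exists_kaehler_equiv_of_isUniversal d hU hV e hd
  obtain ⟨W, hW, hzW, ⟨bW⟩⟩ := exists_basis_fibre f x hU hV e hxU n (b₀.map Φ)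
  letI ovF : (f.fiber (f x)).Over (Spec (CommRingCat.of (Y.residueField (f x)))) :=
    ⟨f.fiberToSpecResidueField (f x)⟩
  haveI : LocallyOfFiniteType
      ((f.fiber (f x)) ↘ Spec (CommRingCat.of (Y.residueField (f x)))) :=
    (inferInstance : LocallyOfFiniteType (f.fiberToSpecResidueField (f x)))
  exact mem_smoothLocus_of_basis (Y.residueField (f x)) n (f.asFiber x) hn hW hzW bW

/-- Flatness over a regular base from a smooth fibre and the dimension formula (miracle flatness). -/
theorem flat_stalkMap_of_regular [IsLocallyNoetherian Y] [LocallyOfFiniteType f]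
    [LocallyOfFinitePresentation f] (x : X)
    [LocallyOfFinitePresentation (f.fiberToSpecResidueField (f x))]
    (hreg : IsRegularLocalRing (Y.presheaf.stalk (f x)))
    (hdim : ringKrullDim (X.presheaf.stalk x) =
      ringKrullDim ((f.fiber (f x)).presheaf.stalk (f.asFiber x)) +
        ringKrullDim (Y.presheaf.stalk (f x)))
    (hz : f.asFiber x ∈ (f.fiberToSpecResidueField (f x)).smoothLocus) :
    (f.stalkMap x).hom.Flat := by
  haveI : IsLocallyNoetherian X := LocallyOfFiniteType.isLocallyNoetherian f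
  -- the local ring of the fibre is regular
  have hF : IsRegularLocalRing ((f.fiber (f x)).presheaf.stalk (f.asFiber x)) :=
    Groth.Agent.H39.SmoothStalk.isRegularLocalRing_stalk_of_mem_smoothLocus
      (f.fiberToSpecResidueField (f x)) (f.asFiber x) hz
      (isRegularLocalRing_stalk_spec_field (Y.residueField (f x)) _)
  let e := Groth.Agent.H49.FibreStalk.quotientEquivStalkAsFiber f x
  set I := Groth.Agent.H49.FibreStalk.fibreIdeal f x with hI
  haveI hQ : IsRegularLocalRing (X.presheaf.stalk x ⧸ I) := IsRegularLocalRing.of_ringEquiv e.symm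
  have hdimQ : ringKrullDim (X.presheaf.stalk x ⧸ I) =
      ringKrullDim ((f.fiber (f x)).presheaf.stalk (f.asFiber x)) := ringKrullDim_eq_of_ringEquiv e
  -- the local ring of `X` is regular
  have h1 := Groth.Agent.H39.spanFinrank_maximalIdeal_le_add (A := X.presheaf.stalk x) I
  have h2 : I.spanFinrank ≤ (IsLocalRing.maximalIdeal (Y.presheaf.stalk (f x))).spanFinrank :=
    Ideal.spanFinrank_map_le_of_fg _ (IsNoetherian.noetherian _)
  have h3 : ((IsLocalRing.maximalIdeal (X.presheaf.stalk x ⧸ I)).spanFinrank : WithBot ℕ∞) =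
      ringKrullDim (X.presheaf.stalk x ⧸ I) := IsRegularLocalRing.spanFinrank_maximalIdeal
  have h4 : ((IsLocalRing.maximalIdeal (Y.presheaf.stalk (f x))).spanFinrank : WithBot ℕ∞) =
      ringKrullDim (Y.presheaf.stalk (f x)) := IsRegularLocalRing.spanFinrank_maximalIdeal
  haveI hA : IsRegularLocalRing (X.presheaf.stalk x) := by
    apply IsRegularLocalRing.of_spanFinrank_maximalIdeal_le
    rw [hdim, ← hdimQ, ← h3, ← h4]
    have : (IsLocalRing.maximalIdeal (X.presheaf.stalk x)).spanFinrank ≤
        (IsLocalRing.maximalIdeal (X.presheaf.stalk x ⧸ I)).spanFinrank +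
          (IsLocalRing.maximalIdeal (Y.presheaf.stalk (f x))).spanFinrank := by omega
    exact_mod_cast this
  -- miracle flatness
  haveI := Groth.Agent.H57.HBReg.isCM (X.presheaf.stalk x)
  letI := (f.stalkMap x).hom.toAlgebra
  haveI : IsLocalHom (algebraMap (Y.presheaf.stalk (f x)) (X.presheaf.stalk x)) :=
    (inferInstance : IsLocalHom (f.stalkMap x).hom)
  have hflat : Module.Flat (Y.presheaf.stalk (f x)) (X.presheaf.stalk x) := by
    apply Groth.Agent.S2082.result
    rw [hdim, add_comm, ← hdimQ]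
    rfl
  exact hflat

include hd in
/-- **Smoothness over a regular base**: free differentials of rank the fibre dimension plus the
dimension formula imply smoothness. -/
theorem mem_smoothLocus_of_regular_of_free [IsLocallyNoetherian Y] [LocallyOfFiniteType f]
    [LocallyOfFinitePresentation f] (x : X)
    (hreg : IsRegularLocalRing (Y.presheaf.stalk (f x)))
    (hdim : ringKrullDim (X.presheaf.stalk x) =
      ringKrullDim ((f.fiber (f x)).presheaf.stalk (f.asFiber x)) +
        ringKrullDim (Y.presheaf.stalk (f x)))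
    (U₀ : X.Opens) (n : ℕ) (hxU₀ : x ∈ U₀)
    (e₀ : Ω'.restrict U₀.ι ≅ FlatMod.freeMod (↑U₀) n)
    (hn : (n : WithBot ℕ∞) ≤ FlatMor.fibreDimAt f x) : x ∈ f.smoothLocus := by
  haveI : LocallyOfFinitePresentation (f.fiberToSpecResidueField (f x)) :=
    MorphismProperty.pullback_snd _ _ inferInstance
  have hz := fibre_mem_smoothLocus_of_free f d hd x U₀ n hxU₀ e₀ hn
  exact mem_smoothLocus_of_flat_of_free f d hd x (flat_stalkMap_of_regular f x hreg hdim hz)
    U₀ n hxU₀ e₀ hn

end Groth.Agent.H11.SmoothFree
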