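import Mathlib
import Groth.Agent.H11.RegChart
import Groth.Agent.H11.NzdSmooth2
import Groth.Agent.H11.LciFittSch
import Groth.Agent.H7.LocalStd
import Groth.Agent.H25.FibreSmoothPt

/-!
# A closed subscheme smooth at a point of smoothness of the ambient scheme is regularly immersed

`isRegularImmersionAt_of_mem_smoothLocus`: `f : X → S` locally of finite presentation,
`j : Y → X` a closed immersion with `j ≫ f` locally of finite presentation. If `f` is smooth at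
`j y` and `j ≫ f` is smooth at `y`, then `j` is a regular immersion at `y`.
-/

set_option autoImplicit false

namespace Groth.Agent.H11.SmoothPairAt

open AlgebraicGeometry CategoryTheory Limits TensorProduct IsLocalRing

universe u

set_option maxHeartbeats 3200000 in
/-- **EGA IV 17.12.1, a) ⇒ c), pointwise.** -/
theorem isRegularImmersionAt_of_mem_smoothLocus {X Y S : Scheme.{u}} (f : X ⟶ S)
    [LocallyOfFinitePresentation f] (j : Y ⟶ X) [IsClosedImmersion j]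
    [LocallyOfFinitePresentation (j ≫ f)] (y : Y) (hx : j.base y ∈ f.smoothLocus)
    (hy : y ∈ (j ≫ f).smoothLocus) :
    RegImm.IsRegularImmersionAt RegImm.Kind.regular j y := by
  haveI hW : Smooth (f.smoothLocus.ι ≫ f) :=
    Groth.Agent.H25.FibreSmoothPt.smooth_smoothLocus_ι_comp f
  obtain ⟨_, ⟨V₀, hV₀, rfl⟩, hxV₀, -⟩ :=
    S.isBasis_affineOpens.exists_subset_of_mem_open (Set.mem_univ (f.base (j.base y))) isOpen_univ
  obtain ⟨U₀, hU₀, hxU₀, e₀, hstd⟩ :=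
    Groth.Agent.H7.exists_isStandardSmooth_appLE_of_smooth_nhd f (j.base y) V₀ hV₀ hxV₀
      f.smoothLocus hx
  letI algAB : Algebra Γ(S, V₀) Γ(X, U₀) := (f.appLE V₀ U₀ e₀).hom.toAlgebra
  haveI : Algebra.IsStandardSmooth Γ(S, V₀) Γ(X, U₀) := hstd
  haveI hsmA : Algebra.Smooth Γ(S, V₀) Γ(X, U₀) := inferInstance
  have hY₀ : IsAffineOpen (j ⁻¹ᵁ U₀) := hU₀.preimage j
  have eY : j ⁻¹ᵁ U₀ ≤ (j ≫ f) ⁻¹ᵁ V₀ := fun z hz => e₀ hz
  letI algAC : Algebra Γ(S, V₀) Γ(Y, j ⁻¹ᵁ U₀) :=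
    ((j ≫ f).appLE V₀ (j ⁻¹ᵁ U₀) eY).hom.toAlgebra
  haveI : Algebra.FinitePresentation Γ(S, V₀) Γ(Y, j ⁻¹ᵁ U₀) :=
    HasRingHomProperty.appLE @LocallyOfFinitePresentation (j ≫ f) inferInstance ⟨V₀, hV₀⟩
      ⟨j ⁻¹ᵁ U₀, hY₀⟩ eY
  have hcomm : ∀ a : Γ(S, V₀), (j.app U₀).hom (algebraMap Γ(S, V₀) Γ(X, U₀) a) =
      algebraMap Γ(S, V₀) Γ(Y, j ⁻¹ᵁ U₀) a := by
    intro a
    have h1 := Scheme.Hom.appLE_comp_appLE j f V₀ U₀ (j ⁻¹ᵁ U₀) e₀ le_rfl
    rw [Scheme.Hom.appLE_eq_app] at h1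
    have h2 := congrArg (fun φ => φ.hom a) h1
    exact h2
  let φ : Γ(X, U₀) →ₐ[Γ(S, V₀)] Γ(Y, j ⁻¹ᵁ U₀) :=
    { (j.app U₀).hom with commutes' := hcomm }
  have hφsurj : Function.Surjective φ := j.app_surjective U₀ hU₀
  obtain ⟨J, hJdef⟩ : ∃ J : Ideal Γ(X, U₀), J = RingHom.ker φ := ⟨_, rfl⟩
  have hJker : J = RingHom.ker (j.app U₀).hom := by rw [hJdef]; rfl
  have hJfg : J.FG := by
    rw [hJdef]; exact Algebra.FinitePresentation.ker_fG_of_surjective φ hφsurj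
  have hyU₀ : y ∈ j ⁻¹ᵁ U₀ := hxU₀
  have hqq : (hU₀.primeIdealOf ⟨j.base y, hxU₀⟩).asIdeal =
      (hY₀.primeIdealOf ⟨y, hyU₀⟩).asIdeal.comap φ := by
    have := IsAffineOpen.comap_primeIdealOf_appLE U₀ hU₀ (j ⁻¹ᵁ U₀) hY₀ le_rfl hyU₀ (f := j)
    rw [Scheme.Hom.appLE_eq_app] at this
    exact congrArg PrimeSpectrum.asIdeal this.symm
  have hJq : J ≤ (hU₀.primeIdealOf ⟨j.base y, hxU₀⟩).asIdeal := by
    intro b hb
    rw [hqq, Ideal.mem_comap]
    rw [hJdef, RingHom.mem_ker] at hb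
    rw [hb]
    exact Ideal.zero_mem _
  haveI hp : ((hU₀.primeIdealOf ⟨j.base y, hxU₀⟩).asIdeal.map (Ideal.Quotient.mk J)).IsPrime :=
    Groth.Agent.H11.NzdSmooth2.isPrime_map_mk _ _ hJq
  have hsmC : Algebra.FormallySmooth Γ(S, V₀)
      (Localization.AtPrime (hY₀.primeIdealOf ⟨y, hyU₀⟩).asIdeal) :=
    (formallySmooth_stalkMap_iff V₀ hV₀ (j ⁻¹ᵁ U₀) hY₀ eY hyU₀).mp
      (Scheme.Hom.mem_smoothLocus.mp hy)
  have hsmQ : Algebra.FormallySmooth Γ(S, V₀) (Localization.AtPrime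
      ((hU₀.primeIdealOf ⟨j.base y, hxU₀⟩).asIdeal.map (Ideal.Quotient.mk J))) :=
    (Groth.Agent.H11.NzdSmooth2.smAt_iff (A := Γ(S, V₀)) φ hφsurj J hJdef
      (hU₀.primeIdealOf ⟨j.base y, hxU₀⟩).asIdeal (hY₀.primeIdealOf ⟨y, hyU₀⟩).asIdeal
      hqq).mpr hsmC hp
  -- the stalk
  letI algBT := X.presheaf.algebra_section_stalk ⟨j.base y, hxU₀⟩
  haveI locT := hU₀.isLocalization_stalk ⟨j.base y, hxU₀⟩
  letI algAT : Algebra Γ(S, V₀) (X.presheaf.stalk (j.base y)) :=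
    ((algebraMap Γ(X, U₀) (X.presheaf.stalk (j.base y))).comp
      (algebraMap Γ(S, V₀) Γ(X, U₀))).toAlgebra
  haveI : IsScalarTower Γ(S, V₀) Γ(X, U₀) (X.presheaf.stalk (j.base y)) :=
    IsScalarTower.of_algebraMap_eq' rfl
  obtain ⟨n, h, hJh, g, hg, H⟩ := Groth.Agent.H11.RegChart.exists_regular_chart
    (A := Γ(S, V₀)) J (hU₀.primeIdealOf ⟨j.base y, hxU₀⟩).asIdeal hJq hJfg hsmQ
    (X.presheaf.stalk (j.base y))
  have hxU : j.base y ∈ X.basicOpen g :=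
    (Groth.Agent.H7.mem_basicOpen_iff_notMem_primeIdealOf hU₀ (j.base y) hxU₀ g).mpr hg
  have hU : IsAffineOpen (X.basicOpen g) := hU₀.basicOpen g
  have hUle : X.basicOpen g ≤ U₀ := X.basicOpen_le g
  haveI hloc : IsLocalization.Away g Γ(X, X.basicOpen g) := hU₀.isLocalization_basicOpen g
  letI algAB' : Algebra Γ(S, V₀) Γ(X, X.basicOpen g) :=
    (f.appLE V₀ (X.basicOpen g) (hUle.trans e₀)).hom.toAlgebra
  haveI : IsScalarTower Γ(S, V₀) Γ(X, U₀) Γ(X, X.basicOpen g) := by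
    apply IsScalarTower.of_algebraMap_eq'
    show (f.appLE V₀ (X.basicOpen g) (hUle.trans e₀)).hom =
      (X.presheaf.map (homOfLE hUle).op).hom.comp (f.appLE V₀ U₀ e₀).hom
    rw [← CommRingCat.hom_comp, Scheme.Hom.appLE_map]
  obtain ⟨hreg, hJB', -⟩ := H Γ(X, X.basicOpen g)
  have hkerU : RingHom.ker (j.app (X.basicOpen g)).hom =
      Ideal.span (Set.range fun k => algebraMap Γ(X, U₀) Γ(X, X.basicOpen g) (h k)) := by
    rw [Groth.Agent.H11.LciFittSch.ker_app_basicOpen j hU₀ hY₀ g, ← hJker]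
    exact hJB'
  have hofList : Ideal.ofList (List.ofFn fun k => algebraMap Γ(X, U₀) Γ(X, X.basicOpen g) (h k)) =
      Ideal.span (Set.range fun k => algebraMap Γ(X, U₀) Γ(X, X.basicOpen g) (h k)) := by
    unfold Ideal.ofList
    congr 1
    ext t
    simp [List.mem_ofFn]
  refine ⟨⟨X.basicOpen g, hU⟩, hxU, inferInstance,
    List.ofFn fun k => algebraMap Γ(X, U₀) Γ(X, X.basicOpen g) (h k), ?_, ?_⟩
  · show RingTheory.Sequence.IsRegular _ _
    refine ⟨hreg, ?_⟩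
    rw [smul_eq_mul, Ideal.mul_top, hofList, ← hkerU]
    intro htop
    have h1 : (1 : Γ(X, X.basicOpen g)) ∈ RingHom.ker (j.app (X.basicOpen g)).hom := by
      rw [← htop]; trivial
    rw [RingHom.mem_ker, map_one] at h1
    haveI : Nonempty ↥(j ⁻¹ᵁ X.basicOpen g) := ⟨⟨y, hxU⟩⟩
    haveI : Nontrivial Γ(Y, j ⁻¹ᵁ X.basicOpen g) := inferInstance
    exact one_ne_zero h1
  · rw [hkerU, hofList]

end Groth.Agent.H11.SmoothPairAt
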