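import Mathlib
import Groth.Agent.H11.SmoothPair
import Groth.Agent.H11.SmoothChartSch
import Groth.Agent.H7.LocalStd

/-!
# Étale charts adapted to a smooth closed subscheme (scheme level)
-/

set_option autoImplicit false

namespace Groth.Agent.H11.SmoothPairSch

open AlgebraicGeometry CategoryTheory Limits TensorProduct IsLocalRing

universe u

/-- Étaleness of a chart `U → 𝔸(n; V₀)` for affine opens, from étaleness of the ring map. -/
theorem etale_homOfVector_resLE {X S : Scheme.{u}} (f : X ⟶ S) {V₀ : S.Opens} (hV₀ : IsAffineOpen V₀)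
    {U : X.Opens} (hU : IsAffineOpen U) (e : U ≤ f ⁻¹ᵁ V₀) {n : Type u} (h : n → Γ(X, U))
    (hét : letI := (f.appLE V₀ U e).hom.toAlgebra
      ((MvPolynomial.aeval h : MvPolynomial n Γ(S, V₀) →ₐ[Γ(S, V₀)] Γ(X, U)).toRingHom).Etale) :
    Etale (AffineSpace.homOfVector (f.resLE V₀ U e) (fun j => U.topIso.inv (h j))) := by
  letI := (f.appLE V₀ U e).hom.toAlgebra
  haveI : IsAffine U.toScheme := hU
  haveI : IsAffine V₀.toScheme := hV₀
  apply Groth.Agent.H11.SmoothChartSch.etale_homOfVector_of_isAffine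
  have heq : MvPolynomial.eval₂Hom (f.resLE V₀ U e).appTop.hom (fun j => U.topIso.inv (h j)) =
      (U.topIso.inv.hom.comp
        ((MvPolynomial.aeval h : MvPolynomial n Γ(S, V₀) →ₐ[Γ(S, V₀)] Γ(X, U)).toRingHom)).comp
        (MvPolynomial.map V₀.topIso.hom.hom) := by
    apply MvPolynomial.ringHom_ext
    · intro a'
      rw [MvPolynomial.coe_eval₂Hom, MvPolynomial.eval₂_C]
      simp only [RingHom.comp_apply, MvPolynomial.map_C, AlgHom.toRingHom_eq_coe,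
        RingHom.coe_coe, MvPolynomial.aeval_C]
      rw [Scheme.Hom.appTop, Scheme.Hom.resLE_app_top]
      rfl
    · intro j
      rw [MvPolynomial.coe_eval₂Hom, MvPolynomial.eval₂_X]
      simp only [RingHom.comp_apply, MvPolynomial.map_X, AlgHom.toRingHom_eq_coe,
        RingHom.coe_coe, MvPolynomial.aeval_X]
  rw [heq]
  refine RingHom.Etale.stableUnderComposition _ _ ?_
    (RingHom.Etale.stableUnderComposition _ _ hét ?_)
  · exact RingHom.Etale.of_bijective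
      ⟨MvPolynomial.map_injective _ (ConcreteCategory.bijective_of_isIso V₀.topIso.hom).1,
        MvPolynomial.map_surjective _ (ConcreteCategory.bijective_of_isIso V₀.topIso.hom).2⟩
  · exact RingHom.Etale.of_bijective (ConcreteCategory.bijective_of_isIso _)

/-- `𝔸(n; U) → 𝔸(n; S)` is an open immersion for an open immersion `U → S`. -/
instance isOpenImmersion_map {S T : Scheme.{u}} (n : Type u) (t : S ⟶ T) [IsOpenImmersion t] :
    IsOpenImmersion (AffineSpace.map n t) :=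
  MorphismProperty.of_isPullback (P := @IsOpenImmersion)
    (AffineSpace.isPullback_map (n := n) t).flip inferInstance

/-- The coordinate subspace `𝔸^m → 𝔸^{m+n}`. -/
noncomputable abbrev emb (S : Scheme.{u}) (m n : ℕ) :
    𝔸(ULift.{u} (Fin m); S) ⟶ 𝔸(ULift.{u} (Fin m ⊕ Fin n); S) :=
  AffineSpace.homOfVector (𝔸(ULift.{u} (Fin m); S) ↘ S)
    (fun j : ULift.{u} (Fin m ⊕ Fin n) =>
      Sum.elim (fun a => AffineSpace.coord S (ULift.up a)) (fun _ => 0) j.down)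

theorem emb_comp_reindex (S : Scheme.{u}) (m n : ℕ) :
    emb S m n ≫ AffineSpace.reindex (fun a : ULift.{u} (Fin m) => (⟨Sum.inl a.down⟩ :
      ULift.{u} (Fin m ⊕ Fin n))) S = 𝟙 _ := by
  apply AffineSpace.hom_ext
  · rw [Category.assoc, AffineSpace.reindex_over, AffineSpace.homOfVector_over, Category.id_comp]
  · intro a
    rw [Scheme.Hom.comp_appTop, CommRingCat.comp_apply, AffineSpace.reindex_appTop_coord,
      AffineSpace.homOfVector_appTop_coord]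
    simp

instance (S : Scheme.{u}) (m n : ℕ) : Mono (emb S m n) :=
  mono_of_mono_fac (emb_comp_reindex S m n)

set_option maxHeartbeats 3200000 in
/-- **Étale local structure of a smooth closed subscheme of a smooth scheme.** -/
theorem exists_chart_pair {S X Y : Scheme.{u}} (pX : X ⟶ S) (pY : Y ⟶ S) [Smooth pX] [Smooth pY]
    (i : Y ⟶ X) [IsClosedImmersion i] (w : i ≫ pX = pY) (y : Y) :
    ∃ (U : X.Opens) (m n : ℕ) (π : (U : Scheme.{u}) ⟶ 𝔸(ULift.{u} (Fin m ⊕ Fin n); S))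
      (ρ : (↑(i ⁻¹ᵁ U) : Scheme.{u}) ⟶ 𝔸(ULift.{u} (Fin m); S)),
      i.base y ∈ U ∧ Etale π ∧ π ≫ (𝔸(ULift.{u} (Fin m ⊕ Fin n); S) ↘ S) = U.ι ≫ pX ∧
      IsPullback ρ (i ∣_ U) (emb S m n) π := by
  subst w
  obtain ⟨_, ⟨V₁, hV₁, rfl⟩, hxV₁, -⟩ :=
    S.isBasis_affineOpens.exists_subset_of_mem_open (Set.mem_univ (pX.base (i.base y))) isOpen_univ
  obtain ⟨V₀, hV₀, hxV₀⟩ : ∃ V₀ : S.Opens, IsAffineOpen V₀ ∧ pX.base (i.base y) ∈ V₀ :=
    ⟨V₁, hV₁, hxV₁⟩
  clear hxV₁ hV₁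
  obtain ⟨_, ⟨U₁, hU₁, rfl⟩, hxU₁, hU₁le⟩ := X.isBasis_affineOpens.exists_subset_of_mem_open
    (show i.base y ∈ pX ⁻¹ᵁ V₀ from hxV₀) (pX ⁻¹ᵁ V₀).2
  obtain ⟨U₀, hU₀, hxU₀, e₀⟩ : ∃ U₀ : X.Opens, IsAffineOpen U₀ ∧ i.base y ∈ U₀ ∧
      U₀ ≤ pX ⁻¹ᵁ V₀ := ⟨U₁, hU₁, hxU₁, hU₁le⟩
  clear hxU₁ hU₁le hU₁
  -- `A → B` smooth
  have hsmX : Smooth (U₀.ι ≫ pX) := inferInstance
  have : IsAffine U₀.toScheme := hU₀
  have hQ := HasRingHomProperty.appLE @Smooth (U₀.ι ≫ pX) hsmX ⟨V₀, hV₀⟩ ⟨⊤, isAffineOpen_top _⟩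
    (by rw [Scheme.Hom.comp_preimage]; intro z _; exact e₀ z.2)
  rw [Groth.Agent.H7.ι_comp_appLE_top pX U₀ V₀ e₀, CommRingCat.hom_comp,
    RingHom.Smooth.respectsIso.cancel_right_isIso] at hQ
  letI algAB : Algebra Γ(S, V₀) Γ(X, U₀) := (pX.appLE V₀ U₀ e₀).hom.toAlgebra
  haveI hsmA : Algebra.Smooth Γ(S, V₀) Γ(X, U₀) := hQ
  -- `A → C` smooth
  have hY₀ : IsAffineOpen (i ⁻¹ᵁ U₀) := hU₀.preimage i
  have eY : i ⁻¹ᵁ U₀ ≤ (i ≫ pX) ⁻¹ᵁ V₀ := fun z hz => e₀ hz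
  have hsmY : Smooth ((i ⁻¹ᵁ U₀).ι ≫ i ≫ pX) := inferInstance
  have : IsAffine (i ⁻¹ᵁ U₀).toScheme := hY₀
  have hQ' := HasRingHomProperty.appLE @Smooth ((i ⁻¹ᵁ U₀).ι ≫ i ≫ pX) hsmY ⟨V₀, hV₀⟩
    ⟨⊤, isAffineOpen_top _⟩
    (by rw [Scheme.Hom.comp_preimage]; intro z _; exact eY z.2)
  rw [Groth.Agent.H7.ι_comp_appLE_top (i ≫ pX) (i ⁻¹ᵁ U₀) V₀ eY, CommRingCat.hom_comp,
    RingHom.Smooth.respectsIso.cancel_right_isIso] at hQ'
  letI algAC : Algebra Γ(S, V₀) Γ(Y, i ⁻¹ᵁ U₀) :=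
    ((i ≫ pX).appLE V₀ (i ⁻¹ᵁ U₀) eY).hom.toAlgebra
  haveI hsmC : Algebra.Smooth Γ(S, V₀) Γ(Y, i ⁻¹ᵁ U₀) := hQ'
  -- the surjection `B → C`
  have hcomm : ∀ a : Γ(S, V₀), (i.app U₀).hom (algebraMap Γ(S, V₀) Γ(X, U₀) a) =
      algebraMap Γ(S, V₀) Γ(Y, i ⁻¹ᵁ U₀) a := by
    intro a
    have h1 := Scheme.Hom.appLE_comp_appLE i pX V₀ U₀ (i ⁻¹ᵁ U₀) e₀ le_rfl
    rw [Scheme.Hom.appLE_eq_app] at h1
    have h2 := congrArg (fun φ => φ.hom a) h1
    exact h2
  let φ : Γ(X, U₀) →ₐ[Γ(S, V₀)] Γ(Y, i ⁻¹ᵁ U₀) :=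
    { (i.app U₀).hom with commutes' := hcomm }
  have hφ : ∀ b, φ b = (i.app U₀).hom b := fun b => rfl
  have hφsurj : Function.Surjective φ := i.app_surjective U₀ hU₀
  obtain ⟨J, hJdef⟩ : ∃ J : Ideal Γ(X, U₀), J = RingHom.ker φ := ⟨_, rfl⟩
  have hJmem : ∀ b, b ∈ J ↔ (i.app U₀).hom b = 0 := fun b => by
    rw [hJdef, RingHom.mem_ker]; rfl
  have hJfg : J.FG := by
    rw [hJdef]; exact Algebra.FinitePresentation.ker_fG_of_surjective φ hφsurj
  have hJq : J ≤ (hU₀.primeIdealOf ⟨i.base y, hxU₀⟩).asIdeal := by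
    intro b hb
    by_contra hnot
    have h1 : i.base y ∈ X.basicOpen b :=
      (Groth.Agent.H7.mem_basicOpen_iff_notMem_primeIdealOf hU₀ _ hxU₀ b).mpr hnot
    have h2 : y ∈ i ⁻¹ᵁ X.basicOpen b := h1
    have h3 : i.app U₀ b = 0 := (hJmem b).mp hb
    rw [Scheme.preimage_basicOpen, h3, Scheme.basicOpen_zero] at h2
    exact h2.elim
  haveI hp : ((hU₀.primeIdealOf ⟨i.base y, hxU₀⟩).asIdeal.map (Ideal.Quotient.mk J)).IsPrime :=
    Ideal.map_isPrime_of_surjective Ideal.Quotient.mk_surjective (by rw [Ideal.mk_ker]; exact hJq)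
  have hsmQ : Algebra.FormallySmooth Γ(S, V₀) (Localization.AtPrime
      ((hU₀.primeIdealOf ⟨i.base y, hxU₀⟩).asIdeal.map (Ideal.Quotient.mk J))) := by
    let ε : (Γ(X, U₀) ⧸ J) ≃ₐ[Γ(S, V₀)] Γ(Y, i ⁻¹ᵁ U₀) :=
      (Ideal.quotientEquivAlgOfEq _ hJdef).trans (Ideal.quotientKerAlgEquivOfSurjective hφsurj)
    haveI : Algebra.FormallySmooth Γ(S, V₀) (Γ(X, U₀) ⧸ J) :=
      Algebra.FormallySmooth.of_equiv ε.symm
    haveI : Algebra.FormallySmooth (Γ(X, U₀) ⧸ J) (Localization.AtPrime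
        ((hU₀.primeIdealOf ⟨i.base y, hxU₀⟩).asIdeal.map (Ideal.Quotient.mk J))) :=
      Algebra.FormallySmooth.of_isLocalization
        ((hU₀.primeIdealOf ⟨i.base y, hxU₀⟩).asIdeal.map (Ideal.Quotient.mk J)).primeCompl
    exact Algebra.FormallySmooth.comp _ (Γ(X, U₀) ⧸ J) _
  -- the stalk
  letI algBT := X.presheaf.algebra_section_stalk ⟨i.base y, hxU₀⟩
  haveI locT := hU₀.isLocalization_stalk ⟨i.base y, hxU₀⟩
  letI algAT : Algebra Γ(S, V₀) (X.presheaf.stalk (i.base y)) :=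
    ((algebraMap Γ(X, U₀) (X.presheaf.stalk (i.base y))).comp
      (algebraMap Γ(S, V₀) Γ(X, U₀))).toAlgebra
  haveI : IsScalarTower Γ(S, V₀) Γ(X, U₀) (X.presheaf.stalk (i.base y)) :=
    IsScalarTower.of_algebraMap_eq' rfl
  obtain ⟨m, n, h, hJh, g, hg, H⟩ := Groth.Agent.H11.SmoothPair.exists_etale_chart_pair
    (A := Γ(S, V₀)) J (hU₀.primeIdealOf ⟨i.base y, hxU₀⟩).asIdeal hJq hJfg hsmQ
    (X.presheaf.stalk (i.base y))
  have hxU : i.base y ∈ X.basicOpen g :=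
    (Groth.Agent.H7.mem_basicOpen_iff_notMem_primeIdealOf hU₀ (i.base y) hxU₀ g).mpr hg
  have hU : IsAffineOpen (X.basicOpen g) := hU₀.basicOpen g
  have hUle : X.basicOpen g ≤ U₀ := X.basicOpen_le g
  haveI hloc : IsLocalization.Away g Γ(X, X.basicOpen g) := hU₀.isLocalization_basicOpen g
  letI algAB' : Algebra Γ(S, V₀) Γ(X, X.basicOpen g) :=
    (pX.appLE V₀ (X.basicOpen g) (hUle.trans e₀)).hom.toAlgebra
  haveI : IsScalarTower Γ(S, V₀) Γ(X, U₀) Γ(X, X.basicOpen g) := by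
    apply IsScalarTower.of_algebraMap_eq'
    show (pX.appLE V₀ (X.basicOpen g) (hUle.trans e₀)).hom =
      (X.presheaf.map (homOfLE hUle).op).hom.comp (pX.appLE V₀ U₀ e₀).hom
    rw [← CommRingCat.hom_comp, Scheme.Hom.appLE_map]
  obtain ⟨hét, hJB'⟩ := H Γ(X, X.basicOpen g)
  haveI : IsAffine (X.basicOpen g).toScheme := hU
  -- the chart
  let v : ULift.{u} (Fin m ⊕ Fin n) → Γ((X.basicOpen g).toScheme, ⊤) := fun j =>
    (X.basicOpen g).topIso.inv (algebraMap Γ(X, U₀) Γ(X, X.basicOpen g) (h j))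
  have hπ₀ : Etale (AffineSpace.homOfVector (pX.resLE V₀ (X.basicOpen g) (hUle.trans e₀)) v) :=
    etale_homOfVector_resLE pX hV₀ hU (hUle.trans e₀)
      (fun j => algebraMap Γ(X, U₀) Γ(X, X.basicOpen g) (h j)) hét
  let π : (X.basicOpen g).toScheme ⟶ 𝔸(ULift.{u} (Fin m ⊕ Fin n); S) :=
    AffineSpace.homOfVector ((X.basicOpen g).ι ≫ pX) v
  have hπeq : π = AffineSpace.homOfVector (pX.resLE V₀ (X.basicOpen g) (hUle.trans e₀)) v ≫
      AffineSpace.map _ V₀.ι := by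
    rw [Groth.Agent.H11.SmoothChartSch.homOfVector_comp_map, Scheme.Hom.resLE_comp_ι]
  have hπét : Etale π := by rw [hπeq]; infer_instance
  let ρ : (i ⁻¹ᵁ X.basicOpen g).toScheme ⟶ 𝔸(ULift.{u} (Fin m); S) :=
    AffineSpace.homOfVector ((i ⁻¹ᵁ X.basicOpen g).ι ≫ i ≫ pX)
      (fun a => (i ∣_ X.basicOpen g).appTop (v ⟨Sum.inl a.down⟩))
  refine ⟨X.basicOpen g, m, n, π, ρ, hxU, hπét, AffineSpace.homOfVector_over _ _, ?_⟩
  -- restriction of `i` on global sections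
  have hres : ∀ t : Γ(X, X.basicOpen g), (i ∣_ X.basicOpen g).appTop ((X.basicOpen g).topIso.inv t) =
      (i ⁻¹ᵁ X.basicOpen g).topIso.inv (i.app (X.basicOpen g) t) := by
    intro t
    rw [← Scheme.Hom.resLE_eq_morphismRestrict, Scheme.Hom.appTop, Scheme.Hom.resLE_app_top,
      Scheme.Hom.appLE_eq_app]
    simp only [CommRingCat.comp_apply]
    rw [Iso.inv_hom_id_apply]
  have hnat : ∀ b : Γ(X, U₀), i.app (X.basicOpen g) (algebraMap Γ(X, U₀) Γ(X, X.basicOpen g) b) =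
      Y.presheaf.map (homOfLE (show i ⁻¹ᵁ X.basicOpen g ≤ i ⁻¹ᵁ U₀ from fun z hz => hUle hz)).op
        (i.app U₀ b) := by
    intro b
    have h1 := i.naturality (homOfLE hUle).op
    have h2 := congrArg (fun φ => φ.hom b) h1
    exact h2
  have hvan : ∀ k : Fin n, (i ∣_ X.basicOpen g).appTop (v ⟨Sum.inr k⟩) = 0 := by
    intro k
    show (i ∣_ X.basicOpen g).appTop ((X.basicOpen g).topIso.inv _) = 0
    rw [hres, hnat]
    have h3 : i.app U₀ (h ⟨Sum.inr k⟩) = 0 := (hJmem _).mp (hJh k)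
    rw [h3, map_zero, map_zero]
  -- the square commutes
  have hsq : ρ ≫ emb S m n = (i ∣_ X.basicOpen g) ≫ π := by
    apply AffineSpace.hom_ext
    · rw [Category.assoc, AffineSpace.homOfVector_over, AffineSpace.homOfVector_over,
        Category.assoc, AffineSpace.homOfVector_over, morphismRestrict_ι_assoc]
    · rintro ⟨j | k⟩
      · rw [Scheme.Hom.comp_appTop, CommRingCat.comp_apply, AffineSpace.homOfVector_appTop_coord,
          Scheme.Hom.comp_appTop, CommRingCat.comp_apply, AffineSpace.homOfVector_appTop_coord]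
        exact AffineSpace.homOfVector_appTop_coord _ _ _
      · rw [Scheme.Hom.comp_appTop, CommRingCat.comp_apply, AffineSpace.homOfVector_appTop_coord,
          Scheme.Hom.comp_appTop, CommRingCat.comp_apply, AffineSpace.homOfVector_appTop_coord,
          hvan]
        exact map_zero _
  -- the kernel of `Γ(X, U) → Γ(Y, i⁻¹U)` is `J Γ(X, U)`
  have hlocker : ∀ t : Γ(X, X.basicOpen g), i.app (X.basicOpen g) t = 0 →
      t ∈ J.map (algebraMap Γ(X, U₀) Γ(X, X.basicOpen g)) := by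
    intro t ht
    obtain ⟨⟨b, s⟩, hbs⟩ := IsLocalization.surj (Submonoid.powers g) t
    have hbs' : t * algebraMap Γ(X, U₀) Γ(X, X.basicOpen g) s =
        algebraMap Γ(X, U₀) Γ(X, X.basicOpen g) b := hbs
    have h1 : i.app (X.basicOpen g) (algebraMap Γ(X, U₀) Γ(X, X.basicOpen g) b) = 0 := by
      rw [← hbs', map_mul, ht, zero_mul]
    rw [hnat] at h1
    have hle1 : Y.basicOpen (i.app U₀ g) ≤ i ⁻¹ᵁ X.basicOpen g :=
      (Scheme.preimage_basicOpen i g).ge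
    have h2 : Y.presheaf.map (homOfLE hle1).op (Y.presheaf.map (homOfLE
        (show i ⁻¹ᵁ X.basicOpen g ≤ i ⁻¹ᵁ U₀ from fun z hz => hUle hz)).op (i.app U₀ b)) = 0 := by
      rw [h1, map_zero]
    rw [← CommRingCat.comp_apply, ← Functor.map_comp] at h2
    obtain ⟨l, hl⟩ := exists_pow_mul_eq_zero_of_res_basicOpen_eq_zero_of_isAffineOpen Y hY₀
      (i.app U₀ b) (i.app U₀ g) h2
    have h3 : g ^ l * b ∈ J := by
      rw [hJmem]
      show i.app U₀ (g ^ l * b) = 0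
      rw [map_mul, map_pow]; exact hl
    have h4 : algebraMap Γ(X, U₀) Γ(X, X.basicOpen g) (g ^ l * b) ∈
        J.map (algebraMap Γ(X, U₀) Γ(X, X.basicOpen g)) := Ideal.mem_map_of_mem _ h3
    have hug : IsUnit (algebraMap Γ(X, U₀) Γ(X, X.basicOpen g) g) :=
      IsLocalization.Away.algebraMap_isUnit g
    have hus : IsUnit (algebraMap Γ(X, U₀) Γ(X, X.basicOpen g) s) :=
      IsLocalization.map_units _ s
    rw [map_mul, map_pow, ← hbs', Ideal.unit_mul_mem_iff_mem _ (hug.pow l),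
      Ideal.mul_unit_mem_iff_mem _ hus] at h4
    exact h4
  -- the kernel condition for lifting
  have hkerle : ∀ (W : Scheme.{u}) (a : W ⟶ 𝔸(ULift.{u} (Fin m); S))
      (b : W ⟶ (X.basicOpen g).toScheme), a ≫ emb S m n = b ≫ π →
      (i ∣_ X.basicOpen g).ker ≤ b.ker := by
    intro W a b hab
    rw [Scheme.ker_of_isAffine, Scheme.ker_of_isAffine]
    apply Scheme.IdealSheafData.le_of_isAffine
    rw [Scheme.IdealSheafData.ofIdealTop_ideal, Scheme.IdealSheafData.ofIdealTop_ideal]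
    apply Ideal.map_mono
    intro t ht
    rw [RingHom.mem_ker] at ht ⊢
    obtain ⟨t', rfl⟩ : ∃ t', (X.basicOpen g).topIso.inv t' = t :=
      ⟨(X.basicOpen g).topIso.hom t, Iso.hom_inv_id_apply _ _⟩
    have ht' : (i ∣_ X.basicOpen g).appTop ((X.basicOpen g).topIso.inv t') = 0 := ht
    rw [hres] at ht'
    have h1 : i.app (X.basicOpen g) t' = 0 := by
      have := congrArg (i ⁻¹ᵁ X.basicOpen g).topIso.hom ht'
      rw [Iso.inv_hom_id_apply, map_zero] at this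
      exact this
    have h2 := hlocker t' h1
    rw [hJB'] at h2
    let β : Γ(X, X.basicOpen g) →+* Γ(W, ⊤) :=
      b.appTop.hom.comp (X.basicOpen g).topIso.inv.hom
    have hβ : Ideal.span (Set.range fun k : Fin n =>
        algebraMap Γ(X, U₀) Γ(X, X.basicOpen g) (h ⟨Sum.inr k⟩)) ≤ RingHom.ker β := by
      rw [Ideal.span_le]
      rintro _ ⟨k, rfl⟩
      show b.appTop (v ⟨Sum.inr k⟩) = 0
      have h3 : (b ≫ π).appTop (AffineSpace.coord S ⟨Sum.inr k⟩) = b.appTop (v ⟨Sum.inr k⟩) := by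
        rw [Scheme.Hom.comp_appTop, CommRingCat.comp_apply, AffineSpace.homOfVector_appTop_coord]
      rw [← h3, ← hab, Scheme.Hom.comp_appTop, CommRingCat.comp_apply,
        AffineSpace.homOfVector_appTop_coord]
      exact map_zero _
    exact hβ h2
  refine IsPullback.of_isLimit (c := PullbackCone.mk ρ (i ∣_ X.basicOpen g) hsq)
    (PullbackCone.IsLimit.mk hsq
      (fun s => IsClosedImmersion.lift (i ∣_ X.basicOpen g) s.snd (hkerle _ s.fst s.snd s.condition))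
      ?_ ?_ ?_)
  · intro s
    rw [← cancel_mono (emb S m n), Category.assoc, hsq, IsClosedImmersion.lift_fac_assoc,
      s.condition]
  · intro s
    exact IsClosedImmersion.lift_fac _ _ _
  · intro s l _ hl
    rw [← cancel_mono (i ∣_ X.basicOpen g), hl, IsClosedImmersion.lift_fac]

end Groth.Agent.H11.SmoothPairSch
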