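import Mathlib
import Groth.Agent.H11.SmoothFree
import Groth.Agent.H11.EtaleDiff

/-!
# Smoothness at a point from flatness and generation of the differentials by `n ≤ dim` elements
(variants of `H11.SmoothFree` with spanning families instead of bases)
-/

set_option autoImplicit false
universe u
open CategoryTheory CategoryTheory.Limits AlgebraicGeometry TopologicalSpace TensorProduct
  KaehlerDifferential

namespace Groth.Agent.H11.SmoothSpan

open Groth.Agent.H11.FtChart Groth.Agent.H44 Groth.Agent.H11.OmegaReg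

section field

variable (k : Type u) [Field k]

theorem mem_smoothLocus_of_span {X : Scheme.{u}} [X.Over (Spec (CommRingCat.of k))]
    [LocallyOfFiniteType (X ↘ Spec (CommRingCat.of k))]
    (n : ℕ) (x : X) (hdim : (n : WithBot ℕ∞) ≤ FlatMor.localDim X x) {U : X.Opens}
    (hU : IsAffineOpen U) (hxU : x ∈ U)
    (v : letI := ((X ↘ Spec (CommRingCat.of k)).appLE ⊤ U le_top).hom.toAlgebra
      Fin n → Ω[Γ(X, U)⁄Γ(Spec (CommRingCat.of k), ⊤)])
    (hv : letI := ((X ↘ Spec (CommRingCat.of k)).appLE ⊤ U le_top).hom.toAlgebra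
      Submodule.span Γ(X, U) (Set.range v) = ⊤) :
    x ∈ (X ↘ Spec (CommRingCat.of k)).smoothLocus := by
  haveI : LocallyOfFinitePresentation (X ↘ Spec (CommRingCat.of k)) :=
    LocallyOfFinitePresentation.iff_locallyOfFiniteType.mpr inferInstance
  letI := secAlgebra k X U
  haveI := finiteType_sec k X hU
  rw [Groth.Agent.H11.CurveDVR.mem_smoothLocus_iff k hU x hxU,
    Groth.Agent.H11.SmoothDim2.isSmoothAt_iff_finrank_le_localDim, ← localDim_eq hU x hxU]
  letI algΓ : Algebra Γ(Spec (CommRingCat.of k), ⊤) Γ(X, U) :=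
    ((X ↘ Spec (CommRingCat.of k)).appLE ⊤ U le_top).hom.toAlgebra
  letI algk : Algebra k Γ(Spec (CommRingCat.of k), ⊤) :=
    (Scheme.ΓSpecIso (CommRingCat.of k)).inv.hom.toAlgebra
  haveI : IsScalarTower k Γ(Spec (CommRingCat.of k), ⊤) Γ(X, U) :=
    IsScalarTower.of_algebraMap_eq fun c => rfl
  have hsurj : Function.Surjective (algebraMap k Γ(Spec (CommRingCat.of k), ⊤)) :=
    (ConcreteCategory.bijective_of_isIso (Scheme.ΓSpecIso (CommRingCat.of k)).inv).2
  let Φ := (kaehlerEquivOfSurjective k Γ(Spec (CommRingCat.of k), ⊤) Γ(X, U) hsurj).symm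
  have hv' : Submodule.span Γ(X, U) (Set.range (fun i => Φ (v i))) = ⊤ := by
    have h1 := congrArg (Submodule.map Φ.toLinearMap) hv
    rw [Submodule.map_span, Submodule.map_top, LinearEquiv.range, ← Set.range_comp] at h1
    exact h1
  have h2 := Groth.Agent.H11.EtaleDiff.finrank_baseChange_le_of_span_eq_top
    (hU.primeIdealOf ⟨x, hxU⟩).asIdeal.ResidueField (fun i => Φ (v i)) hv'
  rw [Fintype.card_fin] at h2
  exact le_trans (by exact_mod_cast h2) hdim

end field

section fibre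

variable {X Y : Scheme.{u}} (f : X ⟶ Y)

theorem exists_span_fibre (x : X) {U : X.Opens} (hU : IsAffineOpen U) {V : Y.Opens}
    (hV : IsAffineOpen V) (e : U ≤ f ⁻¹ᵁ V) (hxU : x ∈ U) (n : ℕ)
    (v : letI := (f.appLE V U e).hom.toAlgebra
      Fin n → Ω[Γ(X, U)⁄Γ(Y, V)])
    (hv : letI := (f.appLE V U e).hom.toAlgebra
      Submodule.span Γ(X, U) (Set.range v) = ⊤) :
    ∃ (W : (f.fiber (f x)).Opens) (_ : IsAffineOpen W), f.asFiber x ∈ W ∧
      letI := ((f.fiberToSpecResidueField (f x)).appLE ⊤ W le_top).hom.toAlgebra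
      ∃ w : Fin n → Ω[Γ(f.fiber (f x), W)⁄Γ(Spec (Y.residueField (f x)), ⊤)],
        Submodule.span Γ(f.fiber (f x), W) (Set.range w) = ⊤ := by
  set y := f x with hy
  have H : IsPullback (f.fiberι y) (f.fiberToSpecResidueField y) f (Y.fromSpecResidueField y) :=
    IsPullback.of_hasPullback f (Y.fromSpecResidueField y)
  have hyV : y ∈ V := e hxU
  have leV : (⊤ : (Spec (Y.residueField y)).Opens) ≤ (Y.fromSpecResidueField y) ⁻¹ᵁ V := by
    intro z _
    change (Y.fromSpecResidueField y) z ∈ V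
    have hz : z = IsLocalRing.closedPoint (Y.residueField y) := Subsingleton.elim _ _
    rw [hz, Scheme.fromSpecResidueField_apply]
    exact hyV
  let t : BCChart f (Y.fromSpecResidueField y) :=
    ⟨U, V, ⊤, hU, hV, isAffineOpen_top _, e, leV⟩
  set W := t.U' (f.fiberι y) (f.fiberToSpecResidueField y) with hW
  have hWaff : IsAffineOpen W := t.isAffineOpen_U' H
  have hzW : f.asFiber x ∈ W := by
    refine ⟨?_, trivial⟩
    change f.fiberι y (f.asFiber x) ∈ U
    rw [f.fiberι_asFiber]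
    exact hxU
  refine ⟨W, hWaff, hzW, ?_⟩
  have le : W ≤ (f.fiberι y) ⁻¹ᵁ U := inf_le_left
  have e' : W ≤ (f.fiberToSpecResidueField y) ⁻¹ᵁ ⊤ := le_top
  letI algRA : Algebra Γ(Y, V) Γ(X, U) := (f.appLE V U e).hom.toAlgebra
  letI algR'A' : Algebra Γ(Spec (Y.residueField y), ⊤) Γ(f.fiber y, W) :=
    ((f.fiberToSpecResidueField y).appLE ⊤ W le_top).hom.toAlgebra
  letI algAA' : Algebra Γ(X, U) Γ(f.fiber y, W) := ((f.fiberι y).appLE U W le).hom.toAlgebra
  letI algRR' : Algebra Γ(Y, V) Γ(Spec (Y.residueField y), ⊤) :=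
    ((Y.fromSpecResidueField y).appLE V ⊤ leV).hom.toAlgebra
  letI algRA' : Algebra Γ(Y, V) Γ(f.fiber y, W) :=
    (f.appLE V U e ≫ (f.fiberι y).appLE U W le).hom.toAlgebra
  haveI t1 : IsScalarTower Γ(Y, V) Γ(X, U) Γ(f.fiber y, W) := .of_algebraMap_eq' rfl
  have hcomm : f.appLE V U e ≫ (f.fiberι y).appLE U W le =
      (Y.fromSpecResidueField y).appLE V ⊤ leV ≫
        (f.fiberToSpecResidueField y).appLE ⊤ W le_top := by
    rw [Scheme.Hom.appLE_comp_appLE, Scheme.Hom.appLE_comp_appLE]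
    exact appLE_congr_hom H.w _ _ _ _
  haveI t2 : IsScalarTower Γ(Y, V) Γ(Spec (Y.residueField y), ⊤) Γ(f.fiber y, W) :=
    .of_algebraMap_eq' congr($(hcomm).hom)
  have hpo := (isIso_pushoutSection_iff H leV e rfl).1
    (isIso_pushoutSection_of_isAffineOpen H leV e rfl hV (isAffineOpen_top _) hU)
  haveI p1 : Algebra.IsPushout Γ(Y, V) Γ(X, U) Γ(Spec (Y.residueField y), ⊤) Γ(f.fiber y, W) :=
    CommRingCat.isPushout_iff_isPushout.mp hpo
  haveI p2 : Algebra.IsPushout Γ(Y, V) Γ(Spec (Y.residueField y), ⊤) Γ(X, U) Γ(f.fiber y, W) :=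
    p1.symm
  let Ψ := KaehlerDifferential.tensorKaehlerEquiv Γ(Y, V) Γ(Spec (Y.residueField y), ⊤) Γ(X, U)
    Γ(f.fiber y, W)
  refine ⟨fun i => Ψ ((1 : Γ(f.fiber y, W)) ⊗ₜ[Γ(X, U)] v i), ?_⟩
  have h1 : Submodule.span Γ(f.fiber y, W)
      (Set.range fun i => (1 : Γ(f.fiber y, W)) ⊗ₜ[Γ(X, U)] v i) = ⊤ := by
    have h2 := Submodule.baseChange_span (R := Γ(X, U)) (M := Ω[Γ(X, U)⁄Γ(Y, V)])
      Γ(f.fiber y, W) (Set.range v)
    rw [hv, Submodule.baseChange_top] at h2
    rw [h2, ← Set.range_comp]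
    rfl
  have h3 := congrArg (Submodule.map Ψ.toLinearMap) h1
  rw [Submodule.map_span, Submodule.map_top, LinearEquiv.range, ← Set.range_comp] at h3
  exact h3

/-- **Smoothness from flatness and differentials generated by `n ≤ dim` elements** (chart form). -/
theorem mem_smoothLocus_of_flat_of_span [LocallyOfFinitePresentation f] (x : X)
    (hflat : (f.stalkMap x).hom.Flat) {U : X.Opens} (hU : IsAffineOpen U) {V : Y.Opens}
    (hV : IsAffineOpen V) (e : U ≤ f ⁻¹ᵁ V) (hxU : x ∈ U) (n : ℕ)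
    (v : letI := (f.appLE V U e).hom.toAlgebra
      Fin n → Ω[Γ(X, U)⁄Γ(Y, V)])
    (hv : letI := (f.appLE V U e).hom.toAlgebra
      Submodule.span Γ(X, U) (Set.range v) = ⊤)
    (hn : (n : WithBot ℕ∞) ≤ FlatMor.fibreDimAt f x) : x ∈ f.smoothLocus := by
  haveI : LocallyOfFinitePresentation (f.fiberToSpecResidueField (f x)) :=
    MorphismProperty.pullback_snd _ _ inferInstance
  obtain ⟨W, hW, hzW, w, hw⟩ := exists_span_fibre f x hU hV e hxU n v hv
  refine Groth.Agent.H25.FibreSmoothPt.mem_smoothLocus_of_flat_of_fibre f x hflat ?_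
  letI ovF : (f.fiber (f x)).Over (Spec (CommRingCat.of (Y.residueField (f x)))) :=
    ⟨f.fiberToSpecResidueField (f x)⟩
  haveI : LocallyOfFiniteType
      ((f.fiber (f x)) ↘ Spec (CommRingCat.of (Y.residueField (f x)))) :=
    (inferInstance : LocallyOfFiniteType (f.fiberToSpecResidueField (f x)))
  exact mem_smoothLocus_of_span (Y.residueField (f x)) n (f.asFiber x) hn hW hzW w hw

end fibre

end Groth.Agent.H11.SmoothSpan
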