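import Groth.Agent.H11.UnivSplit
import Mathlib.RingTheory.Filtration
import Mathlib.LinearAlgebra.TensorProduct.RightExactness
import Mathlib.RingTheory.Finiteness.ModuleFinitePresentation

set_option autoImplicit false
open TensorProduct

namespace Groth.Agent.H11

universe u

variable {R : Type u} [CommRing R]

/-- `y ⊗ q ∈ J • ⊤` when `y ∈ J • ⊤`. -/
theorem tmul_mem_smul_top {N Q : Type u} [AddCommGroup N] [Module R N] [AddCommGroup Q]
    [Module R Q] (J : Ideal R) (y : N) (hy : y ∈ J • (⊤ : Submodule R N)) (q : Q) :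
    y ⊗ₜ[R] q ∈ J • (⊤ : Submodule R (N ⊗[R] Q)) := by
  refine Submodule.smul_induction_on hy (fun r hr n _ => ?_) (fun x y hx hy => ?_)
  · rw [← TensorProduct.smul_tmul']
    exact Submodule.smul_mem_smul hr Submodule.mem_top
  · rw [TensorProduct.add_tmul]
    exact Submodule.add_mem _ hx hy

theorem range_rTensor_subtype_le {N Q : Type u} [AddCommGroup N] [Module R N] [AddCommGroup Q]
    [Module R Q] (J : Ideal R) :
    LinearMap.range ((J • (⊤ : Submodule R N)).subtype.rTensor Q) ≤
      J • (⊤ : Submodule R (N ⊗[R] Q)) := by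
  rintro _ ⟨t, rfl⟩
  induction t with
  | zero => simp
  | tmul y q =>
    rw [LinearMap.rTensor_tmul]
    exact tmul_mem_smul_top J y.1 y.2 q
  | add a b ha hb =>
    rw [map_add]
    exact Submodule.add_mem _ ha hb

theorem split_of_split_mod_powers {M N : Type u} [IsNoetherianRing R] (I : Ideal R)
    (hI : I ≤ (⊥ : Ideal R).jacobson) [AddCommGroup M] [Module R M] [Module.Finite R M]
    [AddCommGroup N] [Module R N] [Module.Finite R N] (u : N →ₗ[R] M)
    (h : ∀ n₀ : ℕ, ∃ n, n₀ ≤ n ∧ ∃ s : (M ⧸ (I ^ n) • (⊤ : Submodule R M)) →ₗ[R]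
        (N ⧸ (I ^ n) • (⊤ : Submodule R N)),
      ∀ x : N, s (Submodule.Quotient.mk (u x)) = Submodule.Quotient.mk x) :
    ∃ s : M →ₗ[R] N, s.comp u = LinearMap.id := by
  classical
  -- injectivity after tensoring with finite modules
  have hinjQ : ∀ (Q : Type u) [AddCommGroup Q] [Module R Q] [Module.Finite R Q],
      Function.Injective (u.rTensor Q) := by
    intro Q _ _ _
    rw [injective_iff_map_eq_zero]
    intro ξ hξ
    have hmem : ∀ n₀ : ℕ, ξ ∈ I ^ n₀ • (⊤ : Submodule R (N ⊗[R] Q)) := by
      intro n₀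
      obtain ⟨n, hn, s, hs⟩ := h n₀
      have hcomp : (s.comp ((I ^ n • (⊤ : Submodule R M)).mkQ)).comp u =
          (I ^ n • (⊤ : Submodule R N)).mkQ := by
        apply LinearMap.ext
        intro x
        exact hs x
      have h1 : ((I ^ n • (⊤ : Submodule R N)).mkQ.rTensor Q) ξ = 0 := by
        rw [← hcomp, LinearMap.rTensor_comp, LinearMap.comp_apply, hξ, map_zero]
      have h2 : ξ ∈ LinearMap.ker ((I ^ n • (⊤ : Submodule R N)).mkQ.rTensor Q) := h1
      rw [rTensor_mkQ] at h2
      have h3 := range_rTensor_subtype_le (N := N) (Q := Q) (I ^ n) h2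
      exact Submodule.smul_mono_left (Ideal.pow_le_pow_right hn) h3
    have : ξ ∈ (⨅ i : ℕ, I ^ i • ⊤ : Submodule R (N ⊗[R] Q)) := by
      rw [Submodule.mem_iInf]
      exact hmem
    rw [Ideal.iInf_pow_smul_eq_bot_of_le_jacobson I hI] at this
    exact (Submodule.mem_bot R).1 this
  have hinj : Function.Injective u := by
    have := hinjQ R
    intro x y hxy
    have h1 : (u.rTensor R) (x ⊗ₜ[R] (1 : R)) = (u.rTensor R) (y ⊗ₜ[R] (1 : R)) := by
      rw [LinearMap.rTensor_tmul, LinearMap.rTensor_tmul, hxy]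
    have h2 := this h1
    have h3 := congr_arg (TensorProduct.rid R N) h2
    simpa using h3
  have hfp : Module.FinitePresentation R (M ⧸ LinearMap.range u) :=
    Module.finitePresentation_of_finite R _
  obtain ⟨s, hs⟩ := exists_section_of_rTensor_injective u (LinearMap.range u).mkQ
    (LinearMap.exact_map_mkQ_range u) (Submodule.mkQ_surjective _)
    (fun n m a => by
      exact hinjQ _)
  exact exists_retraction_of_section u (LinearMap.range u).mkQ
    (LinearMap.exact_map_mkQ_range u) hinj s hs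

end Groth.Agent.H11
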