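import Mathlib

/-!
# Smoothness of the symmetric algebra
-/

set_option autoImplicit false

namespace Groth.Agent.H11.SymSmooth

universe u

open TrivSqZeroExt

section

variable {A : Type u} [CommRing A]

/-- the opposite module structure on a module over a commutative ring -/
@[reducible] def opMod (M : Type u) [AddCommGroup M] [Module A M] : Module Aᵐᵒᵖ M :=
  Module.compHom M ((RingHom.id A).fromOpposite (fun a b => mul_comm a b))

attribute [local instance 10] opMod

theorem central (M : Type u) [AddCommGroup M] [Module A M] : IsCentralScalar A M :=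
  ⟨fun _ _ => rfl⟩

attribute [local instance 10] central

variable (M : Type u) [AddCommGroup M] [Module A M]

/-- the map from the symmetric algebra to the trivial square zero extension -/
noncomputable def phi : SymmetricAlgebra A M →ₐ[A] TrivSqZeroExt A M :=
  SymmetricAlgebra.lift (TrivSqZeroExt.inrHom A M)

theorem phi_ι (m : M) : phi M (SymmetricAlgebra.ι A M m) = inr m := by
  simp [phi]

variable {M}

/-! ### projective from formally smooth -/

theorem projective_of_formallySmooth [Algebra.FormallySmooth A (SymmetricAlgebra A M)] :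
    Module.Projective A M := by
  classical
  let g : (M →₀ A) →ₗ[A] M := Finsupp.linearCombination A id
  have hg : Function.Surjective g := fun m => ⟨Finsupp.single m 1, by simp [g]⟩
  let G : TrivSqZeroExt A (M →₀ A) →ₐ[A] TrivSqZeroExt A M := TrivSqZeroExt.map g
  have hG : Function.Surjective G := by
    intro x
    obtain ⟨y, hy⟩ := hg x.snd
    refine ⟨inl x.fst + inr y, ?_⟩
    rw [map_add]
    simp only [G, TrivSqZeroExt.map_inl, TrivSqZeroExt.map_inr, hy]
    exact TrivSqZeroExt.inl_fst_add_inr_snd_eq x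
  let I : Ideal (TrivSqZeroExt A (M →₀ A)) := RingHom.ker G.toRingHom
  have hI : I ^ 2 = ⊥ := by
    rw [pow_two, eq_bot_iff, Ideal.mul_le]
    intro x hx y hy
    have hx0 : x.fst = 0 := by
      have := congrArg TrivSqZeroExt.fst ((RingHom.mem_ker).mp hx)
      simpa [G] using this
    have hy0 : y.fst = 0 := by
      have := congrArg TrivSqZeroExt.fst ((RingHom.mem_ker).mp hy)
      simpa [G] using this
    rw [Ideal.mem_bot]
    apply TrivSqZeroExt.ext
    · simp [hx0]
    · rw [TrivSqZeroExt.snd_mul, hx0, hy0]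
      simp
  let e : (TrivSqZeroExt A (M →₀ A) ⧸ I) ≃ₐ[A] TrivSqZeroExt A M :=
    Ideal.quotientKerAlgEquivOfSurjective hG
  obtain ⟨ψ, hψ⟩ := Algebra.FormallySmooth.comp_surjective A (SymmetricAlgebra A M) I hI
    (e.symm.toAlgHom.comp (phi M))
  have hGψ : ∀ s, G (ψ s) = phi M s := by
    intro s
    have h1 := congrArg (fun F => e (F s)) hψ
    simp only [AlgHom.comp_apply, AlgEquiv.coe_toAlgHom, AlgEquiv.apply_symm_apply] at h1
    rw [← h1]
    rfl
  rw [Module.projective_def']
  refine ⟨(TrivSqZeroExt.sndHom A (M →₀ A)) ∘ₗ ψ.toLinearMap ∘ₗ SymmetricAlgebra.ι A M, ?_⟩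
  ext m
  simp only [LinearMap.comp_apply, LinearMap.id_apply]
  change g (ψ (SymmetricAlgebra.ι A M m)).snd = m
  rw [← TrivSqZeroExt.snd_map, ]
  change (G (ψ (SymmetricAlgebra.ι A M m))).snd = m
  rw [hGψ, phi_ι, TrivSqZeroExt.snd_inr]

/-! ### finite from finite type -/

theorem ι_eq_algebraMap_imp (m : M) (a : A)
    (h : SymmetricAlgebra.ι A M m = algebraMap A (SymmetricAlgebra A M) a) : m = 0 := by
  have := congrArg (fun s => (phi M s).snd) h
  simpa [phi_ι, TrivSqZeroExt.algebraMap_eq_inl] using this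

theorem exists_fg_mem_adjoin (s : SymmetricAlgebra A M) :
    ∃ N : Submodule A M, N.FG ∧ s ∈ Algebra.adjoin A (SymmetricAlgebra.ι A M '' (N : Set M)) := by
  induction s using SymmetricAlgebra.induction with
  | algebraMap r => exact ⟨⊥, Submodule.fg_bot, Subalgebra.algebraMap_mem _ r⟩
  | ι x =>
    refine ⟨Submodule.span A {x}, Submodule.fg_span_singleton x, ?_⟩
    exact Algebra.subset_adjoin ⟨x, Submodule.mem_span_singleton_self x, rfl⟩
  | mul a b ha hb =>
    obtain ⟨N₁, h₁, ha⟩ := ha
    obtain ⟨N₂, h₂, hb⟩ := hb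
    refine ⟨N₁ ⊔ N₂, h₁.sup h₂, ?_⟩
    have m1 : Algebra.adjoin A (SymmetricAlgebra.ι A M '' (N₁ : Set M)) ≤
        Algebra.adjoin A (SymmetricAlgebra.ι A M '' ((N₁ ⊔ N₂ : Submodule A M) : Set M)) :=
      Algebra.adjoin_mono (Set.image_mono (SetLike.coe_subset_coe.mpr le_sup_left))
    have m2 : Algebra.adjoin A (SymmetricAlgebra.ι A M '' (N₂ : Set M)) ≤
        Algebra.adjoin A (SymmetricAlgebra.ι A M '' ((N₁ ⊔ N₂ : Submodule A M) : Set M)) :=
      Algebra.adjoin_mono (Set.image_mono (SetLike.coe_subset_coe.mpr le_sup_right))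
    exact Subalgebra.mul_mem _ (m1 ha) (m2 hb)
  | add a b ha hb =>
    obtain ⟨N₁, h₁, ha⟩ := ha
    obtain ⟨N₂, h₂, hb⟩ := hb
    refine ⟨N₁ ⊔ N₂, h₁.sup h₂, ?_⟩
    have m1 : Algebra.adjoin A (SymmetricAlgebra.ι A M '' (N₁ : Set M)) ≤
        Algebra.adjoin A (SymmetricAlgebra.ι A M '' ((N₁ ⊔ N₂ : Submodule A M) : Set M)) :=
      Algebra.adjoin_mono (Set.image_mono (SetLike.coe_subset_coe.mpr le_sup_left))
    have m2 : Algebra.adjoin A (SymmetricAlgebra.ι A M '' (N₂ : Set M)) ≤
        Algebra.adjoin A (SymmetricAlgebra.ι A M '' ((N₁ ⊔ N₂ : Submodule A M) : Set M)) :=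
      Algebra.adjoin_mono (Set.image_mono (SetLike.coe_subset_coe.mpr le_sup_right))
    exact Subalgebra.add_mem _ (m1 ha) (m2 hb)

theorem finite_of_finiteType [Algebra.FiniteType A (SymmetricAlgebra A M)] :
    Module.Finite A M := by
  classical
  obtain ⟨t, ht⟩ := (Algebra.FiniteType.out : (⊤ : Subalgebra A (SymmetricAlgebra A M)).FG)
  choose N hNfg hN using fun s : SymmetricAlgebra A M => exists_fg_mem_adjoin s
  let N₀ : Submodule A M := t.sup N
  have hN₀fg : N₀.FG := Submodule.fg_finset_sup t N (fun s _ => hNfg s)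
  have htop : Algebra.adjoin A (SymmetricAlgebra.ι A M '' (N₀ : Set M)) = ⊤ := by
    rw [eq_top_iff, ← ht]
    apply Algebra.adjoin_le
    intro s hs
    have hle : N s ≤ N₀ := Finset.le_sup (f := N) hs
    exact Algebra.adjoin_mono (Set.image_mono (SetLike.coe_subset_coe.mpr hle)) (hN s)
  -- the quotient map kills everything
  let Sπ : SymmetricAlgebra A M →ₐ[A] SymmetricAlgebra A (M ⧸ N₀) :=
    SymmetricAlgebra.lift (SymmetricAlgebra.ι A (M ⧸ N₀) ∘ₗ N₀.mkQ)
  have hbot : ∀ s : SymmetricAlgebra A M, Sπ s ∈ (⊥ : Subalgebra A (SymmetricAlgebra A (M ⧸ N₀))) := by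
    intro s
    have hs : s ∈ Algebra.adjoin A (SymmetricAlgebra.ι A M '' (N₀ : Set M)) := by
      rw [htop]; trivial
    have hle : Algebra.adjoin A (SymmetricAlgebra.ι A M '' (N₀ : Set M)) ≤
        (⊥ : Subalgebra A (SymmetricAlgebra A (M ⧸ N₀))).comap Sπ := by
      apply Algebra.adjoin_le
      rintro _ ⟨n, hn, rfl⟩
      change Sπ (SymmetricAlgebra.ι A M n) ∈ (⊥ : Subalgebra A (SymmetricAlgebra A (M ⧸ N₀)))
      have : Sπ (SymmetricAlgebra.ι A M n) = 0 := by
        simp only [Sπ, SymmetricAlgebra.lift_ι_apply, LinearMap.comp_apply]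
        rw [Submodule.mkQ_apply, (Submodule.Quotient.mk_eq_zero N₀).mpr hn, map_zero]
      rw [this]
      exact Subalgebra.zero_mem _
    exact hle hs
  have hall : ∀ x : M, x ∈ N₀ := by
    intro x
    obtain ⟨a, ha⟩ := Algebra.mem_bot.mp (hbot (SymmetricAlgebra.ι A M x))
    have h1 : Sπ (SymmetricAlgebra.ι A M x) = SymmetricAlgebra.ι A (M ⧸ N₀) (N₀.mkQ x) := by
      simp [Sπ]
    rw [h1] at ha
    have := ι_eq_algebraMap_imp (N₀.mkQ x) a ha.symm
    exact (Submodule.Quotient.mk_eq_zero N₀).mp this
  have : N₀ = ⊤ := eq_top_iff.mpr fun x _ => hall x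
  exact ⟨this ▸ hN₀fg⟩

/-! ### the converse -/

theorem formallySmooth_of_projective [Module.Projective A M] :
    Algebra.FormallySmooth A (SymmetricAlgebra A M) := by
  apply Algebra.FormallySmooth.of_comp_surjective
  intro B _ _ I _ f
  obtain ⟨l, hl⟩ := Module.projective_lifting_property (Ideal.Quotient.mkₐ A I).toLinearMap
    (f.toLinearMap ∘ₗ SymmetricAlgebra.ι A M) Ideal.Quotient.mk_surjective
  refine ⟨SymmetricAlgebra.lift l, ?_⟩
  apply SymmetricAlgebra.algHom_ext
  ext m
  have := congrArg (fun F => F m) hl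
  simpa using this

theorem finitePresentation_of_finite_projective [Module.Finite A M] [Module.Projective A M] :
    Algebra.FinitePresentation A (SymmetricAlgebra A M) := by
  classical
  obtain ⟨n, π, hπ⟩ := Module.Finite.exists_fin' A M
  obtain ⟨s, hs⟩ := Module.projective_lifting_property π LinearMap.id hπ
  have hC : Algebra.FinitePresentation A (SymmetricAlgebra A (Fin n → A)) :=
    Algebra.FinitePresentation.equiv
      (SymmetricAlgebra.equivMvPolynomial (Pi.basisFun A (Fin n))).symm
  let i : SymmetricAlgebra A M →ₐ[A] SymmetricAlgebra A (Fin n → A) :=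
    SymmetricAlgebra.lift (SymmetricAlgebra.ι A (Fin n → A) ∘ₗ s)
  let r : SymmetricAlgebra A (Fin n → A) →ₐ[A] SymmetricAlgebra A M :=
    SymmetricAlgebra.lift (SymmetricAlgebra.ι A M ∘ₗ π)
  have hri : ∀ x, r (i x) = x := by
    intro x
    have : r.comp i = AlgHom.id A _ := by
      apply SymmetricAlgebra.algHom_ext
      ext m
      have := congrArg (fun F => F m) hs
      simp only [LinearMap.comp_apply, LinearMap.id_apply] at this
      simp [i, r, this]
    exact congrArg (fun F => F x) this
  have hr : Function.Surjective r := fun x => ⟨i x, hri x⟩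
  refine Algebra.FinitePresentation.of_surjective hr ?_
  -- the kernel is generated by `e_j - i (r e_j)`
  let e : Fin n → SymmetricAlgebra A (Fin n → A) := fun j =>
    SymmetricAlgebra.ι A (Fin n → A) (Pi.single j 1)
  let J : Ideal (SymmetricAlgebra A (Fin n → A)) :=
    Ideal.span (Set.range fun j => e j - i (r (e j)))
  have hJker : J ≤ RingHom.ker r.toRingHom := by
    rw [Ideal.span_le]
    rintro _ ⟨j, rfl⟩
    rw [SetLike.mem_coe, RingHom.mem_ker]
    change r (e j - i (r (e j))) = 0
    rw [map_sub, hri, sub_self]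
  have hall : ∀ c : SymmetricAlgebra A (Fin n → A), c - i (r c) ∈ J := by
    intro c
    induction c using SymmetricAlgebra.induction with
    | algebraMap a =>
      rw [AlgHom.commutes, AlgHom.commutes, sub_self]
      exact J.zero_mem
    | ι x =>
      have hx : x = ∑ j, x j • (Pi.single j 1 : Fin n → A) := by
        funext k
        simp [Finset.sum_apply, Pi.single_apply]
      have h1 : SymmetricAlgebra.ι A (Fin n → A) x - i (r (SymmetricAlgebra.ι A (Fin n → A) x)) =
          ∑ j, x j • (e j - i (r (e j))) := by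
        conv_lhs => rw [hx]
        simp only [map_sum, map_smul, e]
        rw [← Finset.sum_sub_distrib]
        refine Finset.sum_congr rfl fun j _ => ?_
        rw [smul_sub]
      rw [h1]
      refine Ideal.sum_mem _ fun j _ => ?_
      rw [Algebra.smul_def]
      exact Ideal.mul_mem_left _ _ (Ideal.subset_span ⟨j, rfl⟩)
    | mul a b ha hb =>
      have : a * b - i (r (a * b)) = a * (b - i (r b)) + (a - i (r a)) * i (r b) := by
        rw [map_mul, map_mul]; ring
      rw [this]
      exact Ideal.add_mem _ (Ideal.mul_mem_left _ _ hb) (Ideal.mul_mem_right _ _ ha)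
    | add a b ha hb =>
      have : a + b - i (r (a + b)) = (a - i (r a)) + (b - i (r b)) := by
        rw [map_add, map_add]; ring
      rw [this]
      exact Ideal.add_mem _ ha hb
  have hker : RingHom.ker r.toRingHom = J := by
    refine le_antisymm ?_ hJker
    intro c hc
    have hc0 : r c = 0 := hc
    have := hall c
    rwa [hc0, map_zero, sub_zero] at this
  rw [hker]
  exact Submodule.fg_span (Set.finite_range _)

end

/-- the symmetric algebra is smooth iff the module is finite projective -/
theorem smooth_iff {A M : Type u} [CommRing A] [AddCommGroup M] [Module A M] :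
    Algebra.Smooth A (SymmetricAlgebra A M) ↔ Module.Finite A M ∧ Module.Projective A M := by
  constructor
  · intro h
    exact ⟨finite_of_finiteType, projective_of_formallySmooth⟩
  · rintro ⟨h1, h2⟩
    exact ⟨formallySmooth_of_projective, finitePresentation_of_finite_projective⟩

end Groth.Agent.H11.SymSmooth
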