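import Mathlib

/-!
# Regularity of elements outside `𝔭S` on base changes of `𝔭`-primary-like modules

Let `R → S` be flat, `𝔭 ⊂ R` a prime with `𝔮 = 𝔭S` prime.  If `M` is an `R`-module killed by `𝔭ⁿ`
on which every element outside `𝔭` acts injectively, then every `t ∈ S \ 𝔮` acts injectively on
`M ⊗[R] S`.
-/

namespace Groth.Agent.H11.SymbFlat

open TensorProduct

universe v

variable {R S : Type*} [CommRing R] [CommRing S] [Algebra R S]

/-- multiplication by `t` on the right factor of `M ⊗[R] S`. -/
noncomputable abbrev T (M : Type*) [AddCommGroup M] [Module R M] (t : S) :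
    M ⊗[R] S →ₗ[R] M ⊗[R] S :=
  LinearMap.lTensor M (LinearMap.mulLeft R t)

lemma T_tmul {M : Type*} [AddCommGroup M] [Module R M] (t : S) (m : M) (s : S) :
    T (R := R) M t (m ⊗ₜ[R] s) = m ⊗ₜ[R] (t * s) := by
  simp [T]

lemma tmul_eq_zero_of_mem_map {M : Type*} [AddCommGroup M] [Module R M] (p : Ideal R)
    (hM : ∀ a ∈ p, ∀ m : M, a • m = 0) (m : M) {s : S} (hs : s ∈ p.map (algebraMap R S)) :
    m ⊗ₜ[R] s = 0 := by
  rw [Ideal.map, Ideal.span] at hs
  induction hs using Submodule.span_induction with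
  | mem x hx =>
    obtain ⟨b, hb, rfl⟩ := hx
    rw [Algebra.algebraMap_eq_smul_one, TensorProduct.tmul_smul, TensorProduct.smul_tmul',
      hM b hb, zero_tmul]
  | zero => simp
  | add x y _ _ hx hy => rw [tmul_add, hx, hy, add_zero]
  | smul c x _ hx =>
    have := congrArg (T (R := R) M c) hx
    rw [T_tmul, map_zero] at this
    exact this

theorem ml1_aux [Module.Flat R S] (p : Ideal R) [p.IsPrime]
    (hq : (p.map (algebraMap R S)).IsPrime)
    (M : Type*) [AddCommGroup M] [Module R M] (hM : ∀ a ∈ p, ∀ m : M, a • m = 0)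
    (hreg : ∀ s ∉ p, IsSMulRegular M s) (t : S) (ht : t ∉ p.map (algebraMap R S)) :
    ∀ (r : ℕ) (m : Fin r → M) (s : Fin r → S),
      T (R := R) M t (∑ i, m i ⊗ₜ[R] s i) = 0 → ∑ i, m i ⊗ₜ[R] s i = 0 := by
  intro r
  induction r with
  | zero => intro m s _; simp
  | succ r ih =>
    intro m s hz
    by_cases hind : ∀ a : Fin (r + 1) → R, ∑ i, a i • m i = 0 → ∀ i, a i ∈ p
    · have hz' : ∑ i, m i ⊗ₜ[R] (t * s i) = 0 := by
        rw [map_sum] at hz
        simpa only [T_tmul] using hz
      have hinj : Function.Injective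
          (LinearMap.rTensor S (Submodule.span R (Set.range m)).subtype) :=
        Module.Flat.rTensor_preserves_injective_linearMap _ (Submodule.injective_subtype _)
      obtain ⟨k, a, y, h1, h2⟩ :=
        vanishesTrivially_of_sum_tmul_eq_zero_of_rTensor_injective R hinj hz'
      have hs : ∀ i, s i ∈ p.map (algebraMap R S) := by
        intro i
        have hts : t * s i ∈ p.map (algebraMap R S) := by
          have h1i : t * s i = ∑ j, a i j • y j := h1 i
          rw [h1i]
          refine Ideal.sum_mem _ fun j _ => ?_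
          rw [Algebra.smul_def]
          exact Ideal.mul_mem_right _ _
            (Ideal.mem_map_of_mem _ (hind (fun i => a i j) (h2 j) i))
        exact (hq.mem_or_mem hts).resolve_left ht
      exact Finset.sum_eq_zero fun i _ => tmul_eq_zero_of_mem_map p hM (m i) (hs i)
    · rw [not_forall] at hind
      obtain ⟨a, ha⟩ := hind
      rw [Classical.not_imp, not_forall] at ha
      obtain ⟨ha, i0, hi0⟩ := ha
      have ha' : a i0 • m i0 = - ∑ j, a (i0.succAbove j) • m (i0.succAbove j) := by
        rw [Fin.sum_univ_succAbove _ i0] at ha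
        exact eq_neg_of_add_eq_zero_left ha
      have key : a i0 • ∑ i, m i ⊗ₜ[R] s i =
          ∑ j, m (i0.succAbove j) ⊗ₜ[R]
            (a i0 • s (i0.succAbove j) - a (i0.succAbove j) • s i0) := by
        rw [Fin.sum_univ_succAbove _ i0, smul_add, TensorProduct.smul_tmul', ha', neg_tmul,
          sum_tmul, Finset.smul_sum, ← Finset.sum_neg_distrib, ← Finset.sum_add_distrib]
        refine Finset.sum_congr rfl fun j _ => ?_
        rw [tmul_sub, TensorProduct.smul_tmul, TensorProduct.smul_tmul', TensorProduct.smul_tmul]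
        abel
      have h3 : T (R := R) M t (∑ j, m (i0.succAbove j) ⊗ₜ[R]
            (a i0 • s (i0.succAbove j) - a (i0.succAbove j) • s i0)) = 0 := by
        rw [← key, map_smul, hz, smul_zero]
      have h4 := ih _ _ h3
      rw [← key] at h4
      have hregT : IsSMulRegular (M ⊗[R] S) (a i0) := (hreg (a i0) hi0).rTensor S
      exact hregT (by
        change a i0 • ∑ i, m i ⊗ₜ[R] s i = a i0 • (0 : M ⊗[R] S)
        rw [h4, smul_zero])

theorem ml1 [Module.Flat R S] (p : Ideal R) [p.IsPrime]
    (hq : (p.map (algebraMap R S)).IsPrime)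
    (M : Type*) [AddCommGroup M] [Module R M] (hM : ∀ a ∈ p, ∀ m : M, a • m = 0)
    (hreg : ∀ s ∉ p, IsSMulRegular M s) (t : S) (ht : t ∉ p.map (algebraMap R S)) :
    Function.Injective (T (R := R) M t) := by
  rw [injective_iff_map_eq_zero]
  intro z hz
  obtain ⟨r, m, s, rfl⟩ := exists_sum_tmul_eq z
  exact ml1_aux p hq M hM hreg t ht r m s hz


/-- the `p`-torsion submodule -/
def K (p : Ideal R) (M : Type*) [AddCommGroup M] [Module R M] : Submodule R M where
  carrier := {m | ∀ a ∈ p, a • m = 0}
  add_mem' := by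
    intro x y hx hy a ha
    rw [smul_add, hx a ha, hy a ha, add_zero]
  zero_mem' := by intro a _; rw [smul_zero]
  smul_mem' := by
    intro c x hx a ha
    rw [smul_comm, hx a ha, smul_zero]

theorem ml [Module.Flat R S] (p : Ideal R) [p.IsPrime]
    (hq : (p.map (algebraMap R S)).IsPrime) (n : ℕ) :
    ∀ (M : Type v) [AddCommGroup M] [Module R M], (∀ a ∈ p ^ n, ∀ m : M, a • m = 0) →
      (∀ s ∉ p, IsSMulRegular M s) → ∀ t : S, t ∉ p.map (algebraMap R S) →
      Function.Injective (T (R := R) M t) := by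
  induction n with
  | zero =>
    intro M _ _ hM _ t _
    have h0 : ∀ m : M, m = 0 := fun m => by
      have := hM 1 (by simp) m
      rwa [one_smul] at this
    have hz : ∀ z : M ⊗[R] S, z = 0 := fun z => by
      induction z with
      | zero => rfl
      | tmul m s => rw [h0 m, zero_tmul]
      | add x y hx hy => rw [hx, hy, add_zero]
    intro x y _
    rw [hz x, hz y]
  | succ n ih =>
    intro M _ _ hM hreg t ht
    -- the torsion submodule and the quotient
    have hK1 : ∀ a ∈ p, ∀ k : K p M, a • k = 0 := fun a ha k => Subtype.ext (k.2 a ha)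
    have hK2 : ∀ s ∉ p, IsSMulRegular (K p M) s := fun s hs => (hreg s hs).submodule _ s
    have hinjK := ml1 p hq (K p M) hK1 hK2 t ht
    have hQ1 : ∀ a ∈ p ^ n, ∀ x : M ⧸ K p M, a • x = 0 := by
      intro a ha x
      obtain ⟨m, rfl⟩ := Submodule.Quotient.mk_surjective _ x
      rw [← Submodule.Quotient.mk_smul, Submodule.Quotient.mk_eq_zero]
      intro b hb
      rw [smul_smul]
      refine hM _ ?_ m
      rw [pow_succ, mul_comm b a]
      exact Ideal.mul_mem_mul ha hb
    have hQ2 : ∀ s ∉ p, IsSMulRegular (M ⧸ K p M) s := by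
      intro s hs x y hxy
      obtain ⟨x, rfl⟩ := Submodule.Quotient.mk_surjective _ x
      obtain ⟨y, rfl⟩ := Submodule.Quotient.mk_surjective _ y
      change s • Submodule.Quotient.mk x = s • Submodule.Quotient.mk y at hxy
      rw [← Submodule.Quotient.mk_smul, ← Submodule.Quotient.mk_smul,
        Submodule.Quotient.eq] at hxy
      rw [Submodule.Quotient.eq]
      intro b hb
      have := hxy b hb
      rw [← smul_sub, smul_comm] at this
      exact hreg s hs (by
        change s • b • (x - y) = s • (0 : M)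
        rw [this, smul_zero])
    have hinjQ := ih (M ⧸ K p M) hQ1 hQ2 t ht
    -- the exact sequence
    have hex : Function.Exact (LinearMap.rTensor S (K p M).subtype)
        (LinearMap.rTensor S (K p M).mkQ) :=
      rTensor_exact S (LinearMap.exact_subtype_mkQ (K p M)) (Submodule.mkQ_surjective _)
    have hinj : Function.Injective (LinearMap.rTensor S (K p M).subtype) :=
      Module.Flat.rTensor_preserves_injective_linearMap _ (Submodule.injective_subtype _)
    rw [injective_iff_map_eq_zero]
    intro z hz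
    have hc1 : ∀ w, LinearMap.rTensor S (K p M).mkQ (T (R := R) M t w) =
        T (R := R) (M ⧸ K p M) t (LinearMap.rTensor S (K p M).mkQ w) := by
      intro w
      change (LinearMap.rTensor S (K p M).mkQ ∘ₗ LinearMap.lTensor M (LinearMap.mulLeft R t)) w =
        (LinearMap.lTensor _ (LinearMap.mulLeft R t) ∘ₗ LinearMap.rTensor S (K p M).mkQ) w
      rw [LinearMap.rTensor_comp_lTensor, LinearMap.lTensor_comp_rTensor]
    have hc2 : ∀ w, LinearMap.rTensor S (K p M).subtype (T (R := R) (K p M) t w) =
        T (R := R) M t (LinearMap.rTensor S (K p M).subtype w) := by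
      intro w
      change (LinearMap.rTensor S (K p M).subtype ∘ₗ
          LinearMap.lTensor _ (LinearMap.mulLeft R t)) w =
        (LinearMap.lTensor _ (LinearMap.mulLeft R t) ∘ₗ LinearMap.rTensor S (K p M).subtype) w
      rw [LinearMap.rTensor_comp_lTensor, LinearMap.lTensor_comp_rTensor]
    have h1 : LinearMap.rTensor S (K p M).mkQ z = 0 := by
      apply hinjQ
      rw [← hc1, hz, map_zero, map_zero]
    obtain ⟨w, rfl⟩ := (hex z).mp h1
    have h2 : T (R := R) (K p M) t w = 0 := by
      apply hinj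
      rw [hc2, hz, map_zero]
    have h3 : w = 0 := hinjK (by rw [h2, map_zero])
    rw [h3, map_zero]


lemma one_tmul_eq_zero_iff (I : Ideal R) (y : S) :
    (1 : R ⧸ I) ⊗ₜ[R] y = 0 ↔ y ∈ I.map (algebraMap R S) := by
  have h := Algebra.TensorProduct.quotIdealMapEquivQuotTensor_mk (A := R) S I y
  rw [← h, map_eq_zero_iff _ (AlgEquiv.injective _)]
  exact Ideal.Quotient.eq_zero_iff_mem

/-- flat + `𝔭S` prime implies `𝔭S ∩ R = 𝔭`. -/
theorem algebraMap_not_mem [Module.Flat R S] (p : Ideal R) [p.IsPrime]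
    (hq : (p.map (algebraMap R S)).IsPrime) {s : R} (hs : s ∉ p) :
    algebraMap R S s ∉ p.map (algebraMap R S) := by
  intro hmem
  have hreg : IsSMulRegular (R ⧸ p) s := by
    intro x y hxy
    obtain ⟨x, rfl⟩ := Ideal.Quotient.mk_surjective x
    obtain ⟨y, rfl⟩ := Ideal.Quotient.mk_surjective y
    change s • Ideal.Quotient.mk p x = s • Ideal.Quotient.mk p y at hxy
    rw [Algebra.smul_def, Algebra.smul_def, Ideal.Quotient.algebraMap_eq, ← map_mul, ← map_mul,
      Ideal.Quotient.eq, ← mul_sub] at hxy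
    rw [Ideal.Quotient.eq]
    exact (Ideal.IsPrime.mem_or_mem inferInstance hxy).resolve_left hs
  have hregT : IsSMulRegular ((R ⧸ p) ⊗[R] S) s := hreg.rTensor S
  have h1 : s • ((1 : R ⧸ p) ⊗ₜ[R] (1 : S)) = 0 := by
    rw [← TensorProduct.tmul_smul, ← Algebra.algebraMap_eq_smul_one]
    exact (one_tmul_eq_zero_iff p _).mpr hmem
  have h2 : (1 : R ⧸ p) ⊗ₜ[R] (1 : S) = 0 := hregT (by
    change s • ((1 : R ⧸ p) ⊗ₜ[R] (1 : S)) = s • (0 : (R ⧸ p) ⊗[R] S)
    rw [h1, smul_zero])
  exact hq.ne_top ((Ideal.eq_top_iff_one _).mpr ((one_tmul_eq_zero_iff p 1).mp h2))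

end Groth.Agent.H11.SymbFlat
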