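import Groth.Agent.H10.TorsionFlat
import Mathlib

/-!
# Power-torsion elements and flat base change

`R → S` flat with `R/I ≅ S/IS` (in the elementwise form `H10.QuotBij`), `I` finitely generated.
The `I`-power-torsion elements of `S ⊗ N` are exactly the `1 ⊗ y` with `y` an `I`-power-torsion
element of `N`, and `y` is unique.
-/

set_option autoImplicit false
universe u v w

namespace Groth.Agent.H11.TorsionHom

open TensorProduct Groth.Agent.H10

variable {R : Type u} {S : Type v} [CommRing R] [CommRing S] [Algebra R S]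

/-- The submodule of `I`-power-torsion elements. -/
def powTorsion (I : Ideal R) (N : Type w) [AddCommGroup N] [Module R N] : Submodule R N where
  carrier := {y | ∃ n : ℕ, ∀ a ∈ I ^ n, a • y = 0}
  add_mem' := by
    rintro x y ⟨n, hn⟩ ⟨m, hm⟩
    refine ⟨max n m, fun a ha => ?_⟩
    rw [smul_add, hn a (Ideal.pow_le_pow_right (le_max_left n m) ha),
      hm a (Ideal.pow_le_pow_right (le_max_right n m) ha), add_zero]
  zero_mem' := ⟨0, fun a _ => smul_zero a⟩
  smul_mem' := by
    rintro c y ⟨n, hn⟩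
    exact ⟨n, fun a ha => by rw [smul_comm, hn a ha, smul_zero]⟩

theorem mem_powTorsion {I : Ideal R} {N : Type w} [AddCommGroup N] [Module R N] {y : N} :
    y ∈ powTorsion I N ↔ ∃ n : ℕ, ∀ a ∈ I ^ n, a • y = 0 := Iff.rfl

/-- `QuotBij` from bijectivity of the algebra map of quotients. -/
theorem quotBij_of_bijective (I : Ideal R)
    (hq : Function.Bijective (algebraMap (R ⧸ I) (S ⧸ I.map (algebraMap R S)))) :
    QuotBij R S I := by
  have hmk : ∀ r : R, algebraMap (R ⧸ I) (S ⧸ I.map (algebraMap R S)) (Ideal.Quotient.mk I r) =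
      Ideal.Quotient.mk (I.map (algebraMap R S)) (algebraMap R S r) := fun r => rfl
  constructor
  · intro r hr
    have h0 : algebraMap (R ⧸ I) (S ⧸ I.map (algebraMap R S)) (Ideal.Quotient.mk I r) = 0 := by
      rw [hmk, Ideal.Quotient.eq_zero_iff_mem]; exact hr
    have := hq.1 (h0.trans (map_zero _).symm)
    rwa [Ideal.Quotient.eq_zero_iff_mem] at this
  · intro s
    obtain ⟨x, hx⟩ := hq.2 (Ideal.Quotient.mk _ s)
    obtain ⟨r, rfl⟩ := Ideal.Quotient.mk_surjective x
    rw [hmk, Ideal.Quotient.eq] at hx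
    exact ⟨r, hx⟩

variable [Module.Flat R S] (I : Ideal R) (hI : QuotBij R S I)
variable {N : Type w} [AddCommGroup N] [Module R N]

include hI in
/-- A power-torsion `y` with `1 ⊗ y = 0` is zero. -/
theorem eq_zero_of_tmul_eq_zero (y : N) (hy : y ∈ powTorsion I N)
    (h0 : (1 : S) ⊗ₜ[R] y = 0) : y = 0 := by
  have hK : ∀ m : powTorsion I N, ∃ n : ℕ, ∀ a ∈ I ^ n, a • m = 0 := by
    rintro ⟨m, n, hn⟩
    exact ⟨n, fun a ha => Subtype.ext (hn a ha)⟩
  have hbij := mk_bijective_of_pow_torsion I hI (powTorsion I N) hK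
  have hinj : Function.Injective (LinearMap.lTensor S (powTorsion I N).subtype) :=
    Module.Flat.lTensor_preserves_injective_linearMap _ (Submodule.injective_subtype _)
  have h1 : LinearMap.lTensor S (powTorsion I N).subtype ((1 : S) ⊗ₜ[R] (⟨y, hy⟩ : powTorsion I N))
      = 0 := by
    rw [LinearMap.lTensor_tmul]; exact h0
  have h2 : (1 : S) ⊗ₜ[R] (⟨y, hy⟩ : powTorsion I N) = 0 := hinj (h1.trans (map_zero _).symm)
  have h3 : (⟨y, hy⟩ : powTorsion I N) = 0 := hbij.1 (h2.trans (map_zero _).symm)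
  exact congrArg Subtype.val h3

include hI in
/-- An element of `S ⊗ N` killed by `I ^ n` is `1 ⊗ y` with `y` killed by `I ^ n`. -/
theorem exists_tmul_eq (hIfg : I.FG) (n : ℕ) (z : S ⊗[R] N) (hz : ∀ a ∈ I ^ n, a • z = 0) :
    ∃ y : N, (∀ a ∈ I ^ n, a • y = 0) ∧ (1 : S) ⊗ₜ[R] y = z := by
  classical
  obtain ⟨s, hs⟩ := (hIfg.pow (n := n))
  let φ : N →ₗ[R] (s → N) := LinearMap.pi fun a => LinearMap.lsmul R N (a : R)
  have key : ∀ z : S ⊗[R] N, TensorProduct.piRight R S S (fun _ : s => N) (LinearMap.lTensor S φ z) =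
      fun a : s => (a : R) • z := by
    intro z
    induction z using TensorProduct.induction_on with
    | zero => funext a; simp
    | tmul x y =>
      funext a
      simp [φ, TensorProduct.tmul_smul]
    | add z w hz hw =>
      rw [map_add, map_add, hz, hw]
      funext a
      simp [smul_add]
  have hzero : LinearMap.lTensor S φ z = 0 := by
    have h1 : TensorProduct.piRight R S S (fun _ : s => N) (LinearMap.lTensor S φ z) = 0 := by
      rw [key]
      funext a
      exact hz a (hs ▸ Ideal.subset_span a.2)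
    exact (LinearEquiv.map_eq_zero_iff _).mp h1
  have hex : Function.Exact (LinearMap.lTensor S (LinearMap.ker φ).subtype) (LinearMap.lTensor S φ) :=
    Module.Flat.lTensor_exact S (LinearMap.exact_subtype_ker_map φ)
  obtain ⟨z', hz'⟩ := (hex z).mp hzero
  have hker : ∀ m : LinearMap.ker φ, ∀ a ∈ I ^ n, a • (m : N) = 0 := by
    intro m a ha
    have hm : ∀ b : s, (b : R) • (m : N) = 0 := by
      intro b
      have := congrFun (LinearMap.mem_ker.mp m.2) b
      simpa [φ] using this
    have hle : I ^ n ≤ Ideal.torsionOf R N (m : N) := by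
      rw [← hs, Ideal.span_le]
      intro b hb
      exact (Ideal.mem_torsionOf_iff _ _).mpr (hm ⟨b, hb⟩)
    exact (Ideal.mem_torsionOf_iff _ _).mp (hle ha)
  have hK : ∀ m : LinearMap.ker φ, ∃ k : ℕ, ∀ a ∈ I ^ k, a • m = 0 :=
    fun m => ⟨n, fun a ha => Subtype.ext (hker m a ha)⟩
  obtain ⟨y', hy'⟩ := (mk_bijective_of_pow_torsion I hI (LinearMap.ker φ) hK).2 z'
  refine ⟨(y' : N), hker y', ?_⟩
  rw [← hz', ← hy']
  simp

end Groth.Agent.H11.TorsionHom
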