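import Mathlib
import Groth.Agent.H11.MonoidAlgUnits

/-!
# Units in a pushout `A ⊗ ℤ[ℤ^n]` (ring-level part of the units-on-tori statement)
-/

set_option autoImplicit false

universe u

open CategoryTheory Limits

namespace Groth.Agent.H11.TorusUnitsAlg

/-- The (universe-lifted) Laurent polynomial ring `ℤ[ℤ^n]`. -/
abbrev L (n : ℕ) : Type u := ULift.{u} (AddMonoidAlgebra ℤ (Fin n → ℤ))

/-- The monomial `t^e`. -/
noncomputable def monL (n : ℕ) (e : Fin n → ℤ) : L.{u} n := ULift.up (AddMonoidAlgebra.single e 1)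

theorem monL_zero (n : ℕ) : monL.{u} n 0 = 1 := rfl

section

variable {Z₀ A B P : CommRingCat.{u}} {a : Z₀ ⟶ A} {b : Z₀ ⟶ B} {f : A ⟶ P} {s : B ⟶ P}
  (h : IsPushout a b f s) (hZ : ∀ (R : CommRingCat.{u}) (x y : Z₀ ⟶ R), x = y)
  (n : ℕ) (β : B ≅ CommRingCat.of (L.{u} n))

/-- the map `B → A[G]`. -/
noncomputable def toAG : B →+* AddMonoidAlgebra A (Fin n → ℤ) :=
  ((AddMonoidAlgebra.mapRingHom (Fin n → ℤ) (Int.castRingHom A)).comp
    (ULift.ringEquiv : L.{u} n ≃+* _).toRingHom).comp β.hom.hom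

theorem toAG_mon (e : Fin n → ℤ) :
    toAG (A := A) n β (β.inv.hom (monL n e)) = AddMonoidAlgebra.single e 1 := by
  have h1 : β.hom.hom (β.inv.hom (monL n e)) = monL n e := by
    rw [← CommRingCat.comp_apply, Iso.inv_hom_id]
    rfl
  change (AddMonoidAlgebra.mapRingHom (Fin n → ℤ) (Int.castRingHom A))
    ((ULift.ringEquiv : L.{u} n ≃+* _) (β.hom.hom (β.inv.hom (monL n e)))) = _
  rw [h1]
  change (AddMonoidAlgebra.mapRingHom (Fin n → ℤ) (Int.castRingHom A))
    (AddMonoidAlgebra.single e 1) = _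
  rw [AddMonoidAlgebra.mapRingHom_single, map_one]

include hZ in
/-- `ψ : P → A[G]`. -/
noncomputable def psi : P ⟶ CommRingCat.of (AddMonoidAlgebra A (Fin n → ℤ)) :=
  h.desc (CommRingCat.ofHom AddMonoidAlgebra.singleZeroRingHom) (CommRingCat.ofHom (toAG n β))
    (hZ _ _ _)

theorem f_psi (r : A) : (psi h hZ n β).hom (f.hom r) = AddMonoidAlgebra.single 0 r := by
  have := h.inl_desc (CommRingCat.ofHom AddMonoidAlgebra.singleZeroRingHom)
    (CommRingCat.ofHom (toAG (A := A) n β)) (hZ _ _ _)
  have h2 := congrArg (fun φ => φ.hom r) this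
  exact h2

theorem s_psi (x : B) : (psi h hZ n β).hom (s.hom x) = toAG n β x := by
  have := h.inr_desc (CommRingCat.ofHom AddMonoidAlgebra.singleZeroRingHom)
    (CommRingCat.ofHom (toAG (A := A) n β)) (hZ _ _ _)
  have h2 := congrArg (fun φ => φ.hom x) this
  exact h2

theorem psi_mon (r : A) (e : Fin n → ℤ) :
    (psi h hZ n β).hom (f.hom r * s.hom (β.inv.hom (monL n e))) = AddMonoidAlgebra.single e r := by
  rw [map_mul, f_psi, s_psi, toAG_mon, AddMonoidAlgebra.single_mul_single, zero_add, mul_one]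

/-- the monoid hom `e ↦ s(t^e)`. -/
noncomputable def gMon : Multiplicative (Fin n → ℤ) →* P :=
  ((s.hom.comp β.inv.hom).comp (ULift.ringEquiv : L.{u} n ≃+* _).symm.toRingHom :
    AddMonoidAlgebra ℤ (Fin n → ℤ) →* P).comp (AddMonoidAlgebra.of ℤ (Fin n → ℤ))

theorem gMon_apply (e : Fin n → ℤ) :
    gMon (s := s) n β (Multiplicative.ofAdd e) = s.hom (β.inv.hom (monL n e)) := rfl

/-- `φ : A[G] → P`. -/
noncomputable def phi : AddMonoidAlgebra A (Fin n → ℤ) →+* P :=
  AddMonoidAlgebra.liftNCRingHom f.hom (gMon (s := s) n β) (fun _ _ => Commute.all _ _)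

theorem phi_single (r : A) (e : Fin n → ℤ) :
    phi (f := f) (s := s) n β (AddMonoidAlgebra.single e r) =
      f.hom r * s.hom (β.inv.hom (monL n e)) := by
  rw [phi, AddMonoidAlgebra.liftNCRingHom_single, gMon_apply]

theorem psi_phi : psi h hZ n β ≫ CommRingCat.ofHom (phi (f := f) (s := s) n β) = 𝟙 P := by
  apply h.hom_ext
  · ext r
    change phi n β ((psi h hZ n β).hom (f.hom r)) = f.hom r
    rw [f_psi, phi_single]
    have : β.inv.hom (monL.{u} n 0) = 1 := by rw [monL_zero, map_one]
    rw [this, map_one, mul_one]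
  · -- compare as ring homs out of `ℤ[G]`
    have key : ((phi (f := f) (s := s) n β).comp (toAG (A := A) n β)) = s.hom := by
      have hβ : ∀ x : B, x = β.inv.hom (ULift.up ((ULift.ringEquiv : L.{u} n ≃+* _) (β.hom.hom x))) := by
        intro x
        have : β.inv.hom (β.hom.hom x) = x := by
          rw [← CommRingCat.comp_apply, Iso.hom_inv_id]
          rfl
        exact this.symm
      have e2 : ((phi (f := f) (s := s) n β).comp (AddMonoidAlgebra.mapRingHom (Fin n → ℤ) (Int.castRingHom A))) =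
          (s.hom.comp β.inv.hom).comp (ULift.ringEquiv : L.{u} n ≃+* _).symm.toRingHom := by
        apply AddMonoidAlgebra.ringHom_ext
        · intro r
          exact congrFun (congrArg DFunLike.coe (RingHom.ext_int
            (((phi (f := f) (s := s) n β).comp (AddMonoidAlgebra.mapRingHom (Fin n → ℤ) (Int.castRingHom A))).comp
              AddMonoidAlgebra.singleZeroRingHom)
            (((s.hom.comp β.inv.hom).comp (ULift.ringEquiv : L.{u} n ≃+* _).symm.toRingHom).comp
              AddMonoidAlgebra.singleZeroRingHom))) r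
        · intro m
          change phi n β (AddMonoidAlgebra.mapRingHom (Fin n → ℤ) (Int.castRingHom A)
            (AddMonoidAlgebra.single m 1)) = s.hom (β.inv.hom (monL n m))
          rw [AddMonoidAlgebra.mapRingHom_single, map_one, phi_single, map_one, one_mul]
      ext x
      change phi n β (AddMonoidAlgebra.mapRingHom (Fin n → ℤ) (Int.castRingHom A)
        ((ULift.ringEquiv : L.{u} n ≃+* _) (β.hom.hom x))) = s.hom x
      have := congrFun (congrArg DFunLike.coe e2) ((ULift.ringEquiv : L.{u} n ≃+* _) (β.hom.hom x))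
      change phi n β (AddMonoidAlgebra.mapRingHom (Fin n → ℤ) (Int.castRingHom A)
        ((ULift.ringEquiv : L.{u} n ≃+* _) (β.hom.hom x))) =
        s.hom (β.inv.hom (ULift.up ((ULift.ringEquiv : L.{u} n ≃+* _) (β.hom.hom x)))) at this
      rw [this, ← hβ x]
    ext x
    change phi n β ((psi h hZ n β).hom (s.hom x)) = s.hom x
    rw [s_psi]
    exact congrFun (congrArg DFunLike.coe key) x

theorem psi_injective : Function.Injective (psi h hZ n β).hom := by
  intro x y hxy
  have := congrArg (fun φ => φ.hom x) (psi_phi h hZ n β)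
  have hy := congrArg (fun φ => φ.hom y) (psi_phi h hZ n β)
  change phi n β ((psi h hZ n β).hom x) = x at this
  change phi n β ((psi h hZ n β).hom y) = y at hy
  rw [← this, ← hy, hxy]

variable [IsDomain A]

include h hZ in
/-- Units of the pushout are monomials. -/
theorem exists_of_isUnit (v : P) (hv : IsUnit v) :
    ∃ (u : Aˣ) (e : Fin n → ℤ), v = f.hom u * s.hom (β.inv.hom (monL n e)) := by
  have hv' : IsUnit ((psi h hZ n β).hom v) := hv.map _
  obtain ⟨e, u, hu⟩ := MonoidAlgUnits.exists_single_of_isUnit _ hv'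
  refine ⟨u, e, ?_⟩
  apply psi_injective h hZ n β
  rw [psi_mon]
  exact hu

include h hZ in
/-- Uniqueness of the monomial form. -/
theorem unique_of_eq (u u' : Aˣ) (e e' : Fin n → ℤ)
    (heq : f.hom u * s.hom (β.inv.hom (monL n e)) = f.hom u' * s.hom (β.inv.hom (monL n e'))) :
    u = u' ∧ e = e' := by
  have := congrArg (psi h hZ n β).hom heq
  rw [psi_mon, psi_mon] at this
  obtain ⟨h1, h2⟩ := MonoidAlgUnits.single_unit_inj this
  exact ⟨h2, h1⟩

end

end Groth.Agent.H11.TorusUnitsAlg
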