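import Mathlib
import Groth.Agent.H11.TorusUnitsAlg

/-!
# Units on `X × 𝔾_m^n` for an integral scheme `X`
-/

set_option autoImplicit false

universe u

open AlgebraicGeometry CategoryTheory Limits

namespace Groth.Agent.H11.TorusUnitsSch

open TorusUnitsAlg

/-- The split torus `Spec ℤ[ℤ^n]`. -/
noncomputable abbrev T (n : ℕ) : Scheme.{u} := Spec (CommRingCat.of (L.{u} n))

/-- The monomial function `t^e` on the torus. -/
noncomputable def mon (n : ℕ) (e : Fin n → ℤ) : Γ(T.{u} n, ⊤) :=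
  (Scheme.ΓSpecIso (CommRingCat.of (L.{u} n))).inv.hom (monL n e)

/-- `Γ` of the terminal scheme is an initial ring. -/
theorem hom_ext_Γ_terminal (R : CommRingCat.{u}) (x y : Γ(⊤_ Scheme.{u}, ⊤) ⟶ R) : x = y := by
  let i : (⊤_ Scheme.{u}) ≅ Spec (CommRingCat.of (ULift.{u} ℤ)) :=
    terminalIsTerminal.uniqueUpToIso specULiftZIsTerminal
  let j : Γ(⊤_ Scheme.{u}, ⊤) ≅ CommRingCat.of (ULift.{u} ℤ) :=
    (Scheme.Γ.mapIso i.op).symm ≪≫ Scheme.ΓSpecIso _
  exact (IsInitial.ofIso CommRingCat.isInitial j.symm).hom_ext x y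

section Affine

variable {Y : Scheme.{u}} [IsAffine Y] (n : ℕ)

theorem isPushout_prod : IsPushout (terminal.from Y).appTop (terminal.from (T.{u} n)).appTop
    (prod.fst : Y ⨯ T.{u} n ⟶ Y).appTop (prod.snd : Y ⨯ T.{u} n ⟶ T.{u} n).appTop :=
  isPushout_appTop_of_isPullback (IsPullback.of_hasBinaryProduct' Y (T.{u} n))

variable [IsIntegral Y]

theorem affine_exists (v : Γ(Y ⨯ T.{u} n, ⊤)) (hv : IsUnit v) :
    ∃ (w : (Γ(Y, ⊤))ˣ) (e : Fin n → ℤ),
      v = (prod.fst : Y ⨯ T.{u} n ⟶ Y).appTop.hom (w : Γ(Y, ⊤)) *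
        (prod.snd : Y ⨯ T.{u} n ⟶ T.{u} n).appTop.hom (mon n e) :=
  exists_of_isUnit (isPushout_prod n) hom_ext_Γ_terminal n (Scheme.ΓSpecIso _) v hv

theorem affine_unique (w w' : (Γ(Y, ⊤))ˣ) (e e' : Fin n → ℤ)
    (h : (prod.fst : Y ⨯ T.{u} n ⟶ Y).appTop.hom (w : Γ(Y, ⊤)) *
        (prod.snd : Y ⨯ T.{u} n ⟶ T.{u} n).appTop.hom (mon n e) =
      (prod.fst : Y ⨯ T.{u} n ⟶ Y).appTop.hom (w' : Γ(Y, ⊤)) *
        (prod.snd : Y ⨯ T.{u} n ⟶ T.{u} n).appTop.hom (mon n e')) : w = w' ∧ e = e' :=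
  unique_of_eq (isPushout_prod n) hom_ext_Γ_terminal n (Scheme.ΓSpecIso _) w w' e e' h

end Affine

/-- The augmentation `ℤ[ℤ^n] → ℤ`. -/
noncomputable def aug (n : ℕ) : L.{u} n →+* ULift.{u} ℤ :=
  ((ULift.ringEquiv.symm : ℤ ≃+* ULift.{u} ℤ).toRingHom.comp
    (AddMonoidAlgebra.liftNCRingHom (RingHom.id ℤ) (1 : Multiplicative (Fin n → ℤ) →* ℤ)
      (fun _ _ => Commute.all _ _))).comp (ULift.ringEquiv : L.{u} n ≃+* _).toRingHom

theorem aug_monL (n : ℕ) (e : Fin n → ℤ) : aug.{u} n (monL n e) = 1 := by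
  change (ULift.ringEquiv.symm : ℤ ≃+* ULift.{u} ℤ)
    (AddMonoidAlgebra.liftNCRingHom (RingHom.id ℤ) (1 : Multiplicative (Fin n → ℤ) →* ℤ)
      (fun _ _ => Commute.all _ _) (AddMonoidAlgebra.single e 1)) = 1
  rw [AddMonoidAlgebra.liftNCRingHom_single]
  simp

/-- The unit section of the torus, over any scheme. -/
noncomputable def eps (X : Scheme.{u}) (n : ℕ) : X ⟶ T.{u} n :=
  specULiftZIsTerminal.from X ≫ Spec.map (CommRingCat.ofHom (aug.{u} n))

theorem eps_mon (X : Scheme.{u}) (n : ℕ) (e : Fin n → ℤ) : (eps X n).appTop.hom (mon n e) = 1 := by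
  have h1 : (Spec.map (CommRingCat.ofHom (aug.{u} n))).appTop.hom (mon n e) = 1 := by
    have := Scheme.ΓSpecIso_inv_naturality (CommRingCat.ofHom (aug.{u} n))
    have h2 := congrArg (fun φ => φ.hom (monL n e)) this
    change (Scheme.ΓSpecIso _).inv.hom (aug.{u} n (monL n e)) =
      (Spec.map (CommRingCat.ofHom (aug.{u} n))).appTop.hom (mon n e) at h2
    rw [← h2, aug_monL, map_one]
  rw [eps, Scheme.Hom.comp_appTop]
  change (specULiftZIsTerminal.from X).appTop.hom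
    ((Spec.map (CommRingCat.ofHom (aug.{u} n))).appTop.hom (mon n e)) = 1
  rw [h1, map_one]

theorem comp_eps {Y X : Scheme.{u}} (j : Y ⟶ X) (n : ℕ) : j ≫ eps X n = eps Y n := by
  rw [eps, eps, ← Category.assoc]
  congr 1
  exact specULiftZIsTerminal.hom_ext _ _

/-- The unit section `X → X × T`. -/
noncomputable def sigma (X : Scheme.{u}) (n : ℕ) : X ⟶ X ⨯ T.{u} n := prod.lift (𝟙 X) (eps X n)

theorem comp_sigma {Y X : Scheme.{u}} (j : Y ⟶ X) (n : ℕ) :
    j ≫ sigma X n = sigma Y n ≫ prod.map j (𝟙 (T.{u} n)) := by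
  apply Limits.prod.hom_ext
  · rw [sigma, sigma, Category.assoc, Category.assoc, prod.map_fst, prod.lift_fst,
      prod.lift_fst_assoc, Category.comp_id, Category.id_comp]
  · rw [sigma, sigma, Category.assoc, Category.assoc, prod.map_snd, prod.lift_snd,
      prod.lift_snd_assoc, Category.comp_id, comp_eps]

theorem appTop_comp_apply {X Y Z : Scheme.{u}} (f : X ⟶ Y) (g : Y ⟶ Z) (x : Γ(Z, ⊤)) :
    (f ≫ g).appTop.hom x = f.appTop.hom (g.appTop.hom x) := by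
  rw [Scheme.Hom.comp_appTop]
  rfl

/-- Pulling back a monomial expression along `prod.map j 𝟙`. -/
theorem map_expr {Y X : Scheme.{u}} (j : Y ⟶ X) (n : ℕ) (w : Γ(X, ⊤)) (e : Fin n → ℤ) :
    (prod.map j (𝟙 (T.{u} n))).appTop.hom
      ((prod.fst : X ⨯ T.{u} n ⟶ X).appTop.hom w *
        (prod.snd : X ⨯ T.{u} n ⟶ T.{u} n).appTop.hom (mon n e)) =
    (prod.fst : Y ⨯ T.{u} n ⟶ Y).appTop.hom (j.appTop.hom w) *
        (prod.snd : Y ⨯ T.{u} n ⟶ T.{u} n).appTop.hom (mon n e) := by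
  rw [map_mul, ← appTop_comp_apply, ← appTop_comp_apply, ← appTop_comp_apply,
    prod.map_fst, prod.map_snd, Category.comp_id]

/-- On an affine integral chart, a unit is a monomial whose coefficient is the pullback along the
unit section. -/
theorem chart {X Y : Scheme.{u}} [IsAffine Y] [IsIntegral Y] (n : ℕ) (j : Y ⟶ X)
    (v : Γ(X ⨯ T.{u} n, ⊤)) (hv : IsUnit v) :
    ∃ e : Fin n → ℤ, (prod.map j (𝟙 (T.{u} n))).appTop.hom v =
      (prod.fst : Y ⨯ T.{u} n ⟶ Y).appTop.hom (j.appTop.hom ((sigma X n).appTop.hom v)) *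
        (prod.snd : Y ⨯ T.{u} n ⟶ T.{u} n).appTop.hom (mon n e) := by
  obtain ⟨w, e, hw⟩ := affine_exists n ((prod.map j (𝟙 (T.{u} n))).appTop.hom v) (hv.map _)
  refine ⟨e, ?_⟩
  have : j.appTop.hom ((sigma X n).appTop.hom v) = (w : Γ(Y, ⊤)) := by
    rw [← appTop_comp_apply, comp_sigma, appTop_comp_apply, hw, map_mul, ← appTop_comp_apply,
      ← appTop_comp_apply]
    have h1 : sigma Y n ≫ (prod.fst : Y ⨯ T.{u} n ⟶ Y) = 𝟙 Y := by rw [sigma, prod.lift_fst]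
    have h2 : sigma Y n ≫ (prod.snd : Y ⨯ T.{u} n ⟶ T.{u} n) = eps Y n := by
      rw [sigma, prod.lift_snd]
    rw [h1, h2, eps_mon, mul_one]
    simp
  rw [this]
  exact hw

/-- The exponent on a chart only depends on the chart through the source. -/
theorem chart_exp_eq {X Y W : Scheme.{u}} [IsAffine Y] [IsIntegral Y] [IsAffine W] [IsIntegral W]
    (n : ℕ) (j : Y ⟶ X) (g : W ⟶ Y) (v : Γ(X ⨯ T.{u} n, ⊤)) (hv : IsUnit v) (e e' : Fin n → ℤ)
    (he : (prod.map j (𝟙 (T.{u} n))).appTop.hom v =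
      (prod.fst : Y ⨯ T.{u} n ⟶ Y).appTop.hom (j.appTop.hom ((sigma X n).appTop.hom v)) *
        (prod.snd : Y ⨯ T.{u} n ⟶ T.{u} n).appTop.hom (mon n e))
    (he' : (prod.map (g ≫ j) (𝟙 (T.{u} n))).appTop.hom v =
      (prod.fst : W ⨯ T.{u} n ⟶ W).appTop.hom ((g ≫ j).appTop.hom ((sigma X n).appTop.hom v)) *
        (prod.snd : W ⨯ T.{u} n ⟶ T.{u} n).appTop.hom (mon n e')) : e' = e := by
  have hu : IsUnit ((sigma X n).appTop.hom v) := hv.map _
  have hmap : prod.map (g ≫ j) (𝟙 (T.{u} n)) = prod.map g (𝟙 _) ≫ prod.map j (𝟙 _) := by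
    rw [prod.map_map, Category.comp_id]
  have h1 : (prod.map (g ≫ j) (𝟙 (T.{u} n))).appTop.hom v =
      (prod.fst : W ⨯ T.{u} n ⟶ W).appTop.hom ((g ≫ j).appTop.hom ((sigma X n).appTop.hom v)) *
        (prod.snd : W ⨯ T.{u} n ⟶ T.{u} n).appTop.hom (mon n e) := by
    rw [hmap, appTop_comp_apply, he, map_expr, appTop_comp_apply g j]
  rw [h1] at he'
  have hu' : IsUnit ((g ≫ j).appTop.hom ((sigma X n).appTop.hom v)) := hu.map _
  exact ((affine_unique n hu'.unit hu'.unit e e' he').2).symm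

theorem chart_exp_eq' {X Y W : Scheme.{u}} [IsAffine Y] [IsIntegral Y] [IsAffine W] [IsIntegral W]
    (n : ℕ) (j : Y ⟶ X) (g : W ⟶ Y) (j' : W ⟶ X) (hj' : g ≫ j = j')
    (v : Γ(X ⨯ T.{u} n, ⊤)) (hv : IsUnit v) (e e' : Fin n → ℤ)
    (he : (prod.map j (𝟙 (T.{u} n))).appTop.hom v =
      (prod.fst : Y ⨯ T.{u} n ⟶ Y).appTop.hom (j.appTop.hom ((sigma X n).appTop.hom v)) *
        (prod.snd : Y ⨯ T.{u} n ⟶ T.{u} n).appTop.hom (mon n e))
    (he' : (prod.map j' (𝟙 (T.{u} n))).appTop.hom v =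
      (prod.fst : W ⨯ T.{u} n ⟶ W).appTop.hom (j'.appTop.hom ((sigma X n).appTop.hom v)) *
        (prod.snd : W ⨯ T.{u} n ⟶ T.{u} n).appTop.hom (mon n e')) : e' = e := by
  subst hj'
  exact chart_exp_eq n j g v hv e e' he he'

/-- **Units on tori.** For an integral scheme `X`, every unit on `X × 𝔾_m^n` is uniquely of the form
`pr₁^*(u) · pr₂^*(t^e)`. -/
theorem main (X : Scheme.{u}) [IsIntegral X] (n : ℕ) (v : Γ(X ⨯ T.{u} n, ⊤)) (hv : IsUnit v) :
    ∃! p : (Γ(X, ⊤))ˣ × (Fin n → ℤ),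
      v = (prod.fst : X ⨯ T.{u} n ⟶ X).appTop.hom (p.1 : Γ(X, ⊤)) *
        (prod.snd : X ⨯ T.{u} n ⟶ T.{u} n).appTop.hom (mon n p.2) := by
  let η := genericPoint X
  let j₀ : Spec (X.presheaf.stalk η) ⟶ X := X.fromSpecStalk η
  obtain ⟨e₀, he₀⟩ := chart n j₀ v hv
  have hu : IsUnit ((sigma X n).appTop.hom v) := hv.map _
  have key : ∀ (Y : Scheme.{u}) [IsAffine Y] (jY : Y ⟶ X) [IsOpenImmersion jY],
      (prod.map jY (𝟙 (T.{u} n))).appTop.hom v =
      (prod.map jY (𝟙 (T.{u} n))).appTop.hom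
        ((prod.fst : X ⨯ T.{u} n ⟶ X).appTop.hom ((sigma X n).appTop.hom v) *
        (prod.snd : X ⨯ T.{u} n ⟶ T.{u} n).appTop.hom (mon n e₀)) := by
    intro Y _ jY _
    rcases isEmpty_or_nonempty Y with hY | hY
    · haveI : IsEmpty ↥(Y ⨯ T.{u} n) := Function.isEmpty (prod.fst : Y ⨯ T.{u} n ⟶ Y)
      exact Subsingleton.elim _ _
    · haveI : IsIntegral Y := isIntegral_of_isOpenImmersion jY
      obtain ⟨e, he⟩ := chart n jY v hv
      have hopen : IsOpen (Set.range jY) := jY.isOpenEmbedding.isOpen_range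
      have hη : η ∈ Set.range jY :=
        ((genericPoint_spec X).mem_open_set_iff hopen).mpr
          ⟨jY hY.some, trivial, Set.mem_range_self _⟩
      have hrange : Set.range j₀ ⊆ Set.range jY := by
        rw [Scheme.range_fromSpecStalk]
        intro y hy
        exact hopen.stableUnderGeneralization hy hη
      have hg : IsOpenImmersion.lift jY j₀ hrange ≫ jY = j₀ := IsOpenImmersion.lift_fac _ _ _
      have : e₀ = e := chart_exp_eq' n jY (IsOpenImmersion.lift jY j₀ hrange) j₀ hg v hv e e₀ he he₀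
      rw [map_expr, he, this]
  refine ⟨(hu.unit, e₀), ?_, ?_⟩
  · apply Scheme.OpenCover.ext_elem _ _ (X.affineCover.pullback₁ (prod.fst : X ⨯ T.{u} n ⟶ X))
    intro i
    let θ : pullback (prod.fst : X ⨯ T.{u} n ⟶ X) (X.affineCover.f i) ⟶
        X.affineCover.X i ⨯ T.{u} n :=
      prod.lift (pullback.snd _ _) (pullback.fst _ _ ≫ prod.snd)
    have hθ : θ ≫ prod.map (X.affineCover.f i) (𝟙 _) = pullback.fst _ _ := by
      apply Limits.prod.hom_ext
      · rw [Category.assoc, prod.map_fst, prod.lift_fst_assoc, pullback.condition]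
      · rw [Category.assoc, prod.map_snd, prod.lift_snd_assoc, Category.comp_id]
    change (pullback.fst (prod.fst : X ⨯ T.{u} n ⟶ X) (X.affineCover.f i)).appTop.hom _ =
      (pullback.fst (prod.fst : X ⨯ T.{u} n ⟶ X) (X.affineCover.f i)).appTop.hom _
    rw [← hθ, appTop_comp_apply, appTop_comp_apply,
      key (X.affineCover.X i) (X.affineCover.f i)]
    rfl
  · rintro ⟨w, e⟩ hw
    change v = (prod.fst : X ⨯ T.{u} n ⟶ X).appTop.hom (w : Γ(X, ⊤)) *
        (prod.snd : X ⨯ T.{u} n ⟶ T.{u} n).appTop.hom (mon n e) at hw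
    have hw1 : (sigma X n).appTop.hom v = (w : Γ(X, ⊤)) := by
      have h1 : sigma X n ≫ (prod.fst : X ⨯ T.{u} n ⟶ X) = 𝟙 X := by rw [sigma, prod.lift_fst]
      have h2 : sigma X n ≫ (prod.snd : X ⨯ T.{u} n ⟶ T.{u} n) = eps X n := by
        rw [sigma, prod.lift_snd]
      conv_lhs => rw [hw]
      rw [map_mul, ← appTop_comp_apply, ← appTop_comp_apply, h1, h2, eps_mon, mul_one]
      simp
    have hwu : w = hu.unit := Units.ext (by rw [IsUnit.unit_spec]; exact hw1.symm)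
    have h3 : (prod.map j₀ (𝟙 (T.{u} n))).appTop.hom v =
        (prod.fst : Spec (X.presheaf.stalk η) ⨯ T.{u} n ⟶ _).appTop.hom
          (j₀.appTop.hom ((sigma X n).appTop.hom v)) *
        (prod.snd : Spec (X.presheaf.stalk η) ⨯ T.{u} n ⟶ T.{u} n).appTop.hom (mon n e) := by
      conv_lhs => rw [hw]
      rw [map_expr, hw1]
    rw [he₀] at h3
    have hu' : IsUnit (j₀.appTop.hom ((sigma X n).appTop.hom v)) := hu.map _
    have := (affine_unique n hu'.unit hu'.unit e₀ e h3).2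
    rw [hwu, this]

end Groth.Agent.H11.TorusUnitsSch
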