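import Mathlib

/-!
# Reduced rings with finitely many minimal primes: normality vs integral closedness in the
total ring of fractions
-/

set_option autoImplicit false
universe u

namespace Groth.Agent.H11.TotalFracNormal

variable {R : Type u} [CommRing R]

theorem eq_zero_of_forall_mem_minimalPrimes [IsReduced R] (z : R)
    (h : ∀ q ∈ minimalPrimes R, z ∈ q) : z = 0 := by
  have h1 : z ∈ sInf (minimalPrimes R) := by
    rw [Ideal.mem_sInf]
    intro q hq
    exact h q hq
  have h2 : sInf (minimalPrimes R) = (⊥ : Ideal R).radical := Ideal.sInf_minimalPrimes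
  rw [h2] at h1
  have h3 : (⊥ : Ideal R).radical = ⊥ := by
    have := nilradical_eq_zero R
    rwa [nilradical] at this
  rw [h3] at h1
  exact h1

theorem mem_nonZeroDivisors_of_forall_notMem [IsReduced R] (d : R)
    (h : ∀ q ∈ minimalPrimes R, d ∉ q) : d ∈ nonZeroDivisors R := by
  rw [mem_nonZeroDivisors_iff_right]
  intro z hz
  apply eq_zero_of_forall_mem_minimalPrimes
  intro q hq
  have hqp : q.IsPrime := hq.1.1
  have : z * d ∈ q := by rw [hz]; exact q.zero_mem
  exact (hqp.mem_or_mem this).resolve_right (h q hq)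

theorem minimalPrimes_eq_of_le {q q' : Ideal R} (hq : q ∈ minimalPrimes R)
    (hq' : q' ∈ minimalPrimes R) (hle : q' ≤ q) : q' = q :=
  le_antisymm hle (hq.2 ⟨hq'.1.1, bot_le⟩ hle)

/-- The idempotent of `R` cutting out a minimal prime. -/
theorem exists_idem [IsReduced R] (hfin : (minimalPrimes R).Finite)
    (hIC : IsIntegrallyClosedIn R (FractionRing R)) (q : Ideal R) (hq : q ∈ minimalPrimes R) :
    ∃ e : R, e * e = e ∧ 1 - e ∈ q ∧ ∀ q' ∈ minimalPrimes R, q' ≠ q → e ∈ q' := by
  classical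
  have hqp : q.IsPrime := hq.1.1
  let P' : Finset (Ideal R) := hfin.toFinset.erase q
  have hP' : ∀ q', q' ∈ P' ↔ q' ∈ minimalPrimes R ∧ q' ≠ q := by
    intro q'
    simp only [P', Finset.mem_erase, Set.Finite.mem_toFinset]
    tauto
  -- `a`
  have ha : ∃ a : R, (∀ q' ∈ P', a ∈ q') ∧ a ∉ q := by
    by_contra hcon
    push Not at hcon
    have hle : P'.inf id ≤ q := by
      intro a ha
      apply hcon a
      intro q' hq'
      exact (Finset.inf_le hq' : P'.inf id ≤ id q') ha
    obtain ⟨q', hq'P, hq'q⟩ := (hqp.inf_le').mp hle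
    have := (hP' q').mp hq'P
    exact this.2 (minimalPrimes_eq_of_le hq this.1 hq'q)
  obtain ⟨a, haP, haq⟩ := ha
  -- `b`
  have hb : ∃ b : R, b ∈ q ∧ ∀ q' ∈ P', b ∉ q' := by
    by_contra hcon
    push Not at hcon
    have hsub : ((q : Set R) ⊆ ⋃ i ∈ (↑P' : Set (Ideal R)), (id i : Ideal R)) := by
      intro b hb
      obtain ⟨q', hq'P, hbq'⟩ := hcon b hb
      exact Set.mem_biUnion hq'P hbq'
    obtain ⟨q', hq'P, hqq'⟩ := (Ideal.subset_union_prime (f := id) q q
      (fun i hi _ _ => ((hP' i).mp hi).1.1.1)).mp hsub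
    have := (hP' q').mp hq'P
    exact this.2 (minimalPrimes_eq_of_le this.1 hq hqq').symm
  obtain ⟨b, hbq, hbP⟩ := hb
  have hab : a * b = 0 := by
    apply eq_zero_of_forall_mem_minimalPrimes
    intro q' hq'
    by_cases h : q' = q
    · rw [h]; exact q.mul_mem_left _ hbq
    · exact q'.mul_mem_right _ (haP q' ((hP' q').mpr ⟨hq', h⟩))
  have hs : a + b ∈ nonZeroDivisors R := by
    apply mem_nonZeroDivisors_of_forall_notMem
    intro q' hq' hmem
    by_cases h : q' = q
    · rw [h] at hmem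
      exact haq ((Ideal.add_mem_iff_left q hbq).mp hmem)
    · have h1 := haP q' ((hP' q').mpr ⟨hq', h⟩)
      exact hbP q' ((hP' q').mpr ⟨hq', h⟩) ((Ideal.add_mem_iff_right q' h1).mp hmem)
  let Q := FractionRing R
  let ε : Q := IsLocalization.mk' Q a (⟨a + b, hs⟩ : nonZeroDivisors R)
  have hεσ : ε * algebraMap R Q (a + b) = algebraMap R Q a := IsLocalization.mk'_spec Q a _
  have hσ : IsUnit (algebraMap R Q (a + b)) :=
    IsLocalization.map_units Q (⟨a + b, hs⟩ : nonZeroDivisors R)
  have hαβ : algebraMap R Q a * algebraMap R Q b = 0 := by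
    rw [← map_mul, hab, map_zero]
  have hε2 : ε * ε = ε := by
    have h1 : (ε * ε - ε) * (algebraMap R Q (a + b) * algebraMap R Q (a + b)) = 0 := by
      have : (ε * ε - ε) * (algebraMap R Q (a + b) * algebraMap R Q (a + b)) =
          (ε * algebraMap R Q (a + b)) * (ε * algebraMap R Q (a + b)) -
            (ε * algebraMap R Q (a + b)) * algebraMap R Q (a + b) := by ring
      rw [this, hεσ, map_add]
      linear_combination (-1 : Q) * hαβ
    have h2 := (hσ.mul hσ).mul_left_eq_zero.mp h1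
    exact sub_eq_zero.mp h2
  have hεint : IsIntegral R ε := by
    refine ⟨Polynomial.X ^ 2 - Polynomial.X,
      Polynomial.monic_X_pow_sub (lt_of_le_of_lt Polynomial.degree_X_le (by norm_num)), ?_⟩
    simp [pow_two, hε2]
  obtain ⟨e, he⟩ := (isIntegrallyClosedIn_iff.mp hIC).2 hεint
  have hinj : Function.Injective (algebraMap R Q) := (isIntegrallyClosedIn_iff.mp hIC).1
  have hee : e * e = e := by
    apply hinj
    rw [map_mul, he, hε2]
  have heab : e * (a + b) = a := by
    apply hinj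
    rw [map_mul, he, hεσ]
  refine ⟨e, hee, ?_, ?_⟩
  · -- (1 - e) * a ^ 2 = 0
    have h1 : (1 - e) * (a * a) = 0 := by
      linear_combination (-a) * heab + e * hab
    have h2 : (1 - e) * (a * a) ∈ q := by rw [h1]; exact q.zero_mem
    rcases hqp.mem_or_mem h2 with h | h
    · exact h
    · exact absurd (hqp.mem_or_mem h |>.elim id id) haq
  · intro q' hq' hne
    have hq'p : q'.IsPrime := hq'.1.1
    have h1 : e * (b * b) = 0 := by
      linear_combination b * heab + (1 - e) * hab
    have h2 : e * (b * b) ∈ q' := by rw [h1]; exact q'.zero_mem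
    have hbq' := hbP q' ((hP' q').mpr ⟨hq', hne⟩)
    rcases hq'p.mem_or_mem h2 with h | h
    · exact h
    · exact absurd (hq'p.mem_or_mem h |>.elim id id) hbq'


section Forward

variable (Q : Type u) [CommRing Q] [Algebra R Q] [IsFractionRing R Q]

/-- The canonical map from the total fraction ring of `R` to the fraction field of a
localization. -/
noncomputable def phi (m : Ideal R) [m.IsPrime] (Rp : Type u) [CommRing Rp] [Algebra R Rp]
    [IsLocalization.AtPrime Rp m] : Q →+* FractionRing Rp :=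
  IsLocalization.map (FractionRing Rp) (algebraMap R Rp)
    (IsLocalization.nonZeroDivisors_le_comap m.primeCompl Rp)

theorem phi_mk' (m : Ideal R) [m.IsPrime] (Rp : Type u) [CommRing Rp] [Algebra R Rp]
    [IsLocalization.AtPrime Rp m] (b : R) (s : nonZeroDivisors R) :
    phi Q m Rp (IsLocalization.mk' Q b s) =
      IsLocalization.mk' (FractionRing Rp) (algebraMap R Rp b)
        ⟨algebraMap R Rp s, Submonoid.mem_comap.mp
          (IsLocalization.nonZeroDivisors_le_comap m.primeCompl Rp s.2)⟩ :=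
  IsLocalization.map_mk' _ _ _

theorem phi_algebraMap (m : Ideal R) [m.IsPrime] (Rp : Type u) [CommRing Rp] [Algebra R Rp]
    [IsLocalization.AtPrime Rp m] (r : R) :
    phi Q m Rp (algebraMap R Q r) = algebraMap Rp (FractionRing Rp) (algebraMap R Rp r) :=
  IsLocalization.map_eq _ _

theorem phi_eval₂ (m : Ideal R) [m.IsPrime] (Rp : Type u) [CommRing Rp] [Algebra R Rp]
    [IsLocalization.AtPrime Rp m] (P : Polynomial R) (x : Q) :
    phi Q m Rp (Polynomial.eval₂ (algebraMap R Q) x P) =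
      Polynomial.eval₂ ((algebraMap Rp (FractionRing Rp)).comp (algebraMap R Rp)) (phi Q m Rp x) P := by
  rw [Polynomial.hom_eval₂]
  congr 1
  exact IsLocalization.map_comp _

theorem forward_aux (x : Q) (hx : IsIntegral R x) (m : Ideal R) [m.IsPrime]
    (Rp : Type u) [CommRing Rp] [Algebra R Rp] [IsLocalization.AtPrime Rp m] [IsDomain Rp]
    [IsIntegrallyClosed Rp] :
    ∃ u : R, u ∉ m ∧ ∃ r : R, algebraMap R Q r = algebraMap R Q u * x := by
  obtain ⟨⟨b, s⟩, hbs⟩ := IsLocalization.mk'_surjective (nonZeroDivisors R) x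
  simp only at hbs
  obtain ⟨P, hP, hPx⟩ := hx
  have hint : IsIntegral Rp (phi Q m Rp x) := by
    refine ⟨P.map (algebraMap R Rp), hP.map _, ?_⟩
    rw [Polynomial.eval₂_map, ← phi_eval₂, hPx, map_zero]
  obtain ⟨y, hy⟩ := (isIntegrallyClosed_iff (FractionRing Rp)).mp inferInstance hint
  obtain ⟨⟨a, t⟩, hat⟩ := IsLocalization.mk'_surjective m.primeCompl y
  simp only at hat
  rw [← hbs, phi_mk'] at hy
  rw [IsLocalization.eq_mk'_iff_mul_eq] at hy
  simp only at hy
  rw [← map_mul] at hy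
  have hy2 : y * algebraMap R Rp s = algebraMap R Rp b :=
    IsFractionRing.injective Rp (FractionRing Rp) hy
  have hy3 : algebraMap R Rp (a * s) = algebraMap R Rp (b * t) := by
    rw [map_mul, map_mul, ← hy2, ← IsLocalization.mk'_spec Rp a t, hat]
    ring
  obtain ⟨c, hc⟩ := (IsLocalization.eq_iff_exists m.primeCompl Rp).mp hy3
  refine ⟨c * t, (c * t).2, c * a, ?_⟩
  have hxs : x * algebraMap R Q s = algebraMap R Q b := by
    rw [← hbs]; exact IsLocalization.mk'_spec Q b s
  have hu : IsUnit (algebraMap R Q s) := IsLocalization.map_units Q s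
  apply hu.mul_left_inj.mp
  rw [← map_mul, mul_assoc (algebraMap R Q _), hxs, ← map_mul]
  congr 1
  linear_combination hc

theorem forward
    (h : ∀ (p : Ideal R) [p.IsPrime],
      IsDomain (Localization.AtPrime p) ∧ IsIntegrallyClosed (Localization.AtPrime p)) :
    IsIntegrallyClosedIn R Q := by
  rw [isIntegrallyClosedIn_iff]
  refine ⟨IsFractionRing.injective R Q, ?_⟩
  intro x hx
  by_contra hne
  let J : Ideal R :=
    { carrier := {r | ∃ y, algebraMap R Q y = algebraMap R Q r * x}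
      add_mem' := by
        rintro r r' ⟨y, hy⟩ ⟨y', hy'⟩
        exact ⟨y + y', by rw [map_add, map_add, add_mul, hy, hy']⟩
      zero_mem' := ⟨0, by simp⟩
      smul_mem' := by
        rintro c r ⟨y, hy⟩
        exact ⟨c * y, by rw [smul_eq_mul, map_mul, map_mul, hy, mul_assoc]⟩ }
  have hJ : J ≠ ⊤ := by
    intro htop
    have h1 : (1 : R) ∈ J := htop ▸ Submodule.mem_top
    obtain ⟨y, hy⟩ := h1
    exact hne ⟨y, by rw [hy, map_one, one_mul]⟩
  obtain ⟨m, hm, hJm⟩ := Ideal.exists_le_maximal J hJ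
  haveI := hm.isPrime
  obtain ⟨hdom, hic⟩ := h m
  obtain ⟨u, hu, r, hr⟩ := forward_aux Q x hx m (Localization.AtPrime m)
  exact hu (hJm ⟨r, hr⟩)

end Forward

section Backward

/-- The data attached to a prime: a minimal prime `q ≤ p` and the idempotent `e`. -/
structure Data (p : Ideal R) where
  q : Ideal R
  e : R
  hq : q ∈ minimalPrimes R
  hqp : q ≤ p
  hee : e * e = e
  he1 : 1 - e ∈ q
  heq' : ∀ q' ∈ minimalPrimes R, q' ≠ q → e ∈ q'

theorem exists_data [IsReduced R] (hfin : (minimalPrimes R).Finite)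
    (hIC : IsIntegrallyClosedIn R (FractionRing R)) (p : Ideal R) [p.IsPrime] :
    Nonempty (Data p) := by
  obtain ⟨q, hq, hqp⟩ := Ideal.exists_minimalPrimes_le (bot_le : (⊥ : Ideal R) ≤ p)
  obtain ⟨e, hee, he1, heq'⟩ := exists_idem hfin hIC q hq
  exact ⟨⟨q, e, hq, hqp, hee, he1, heq'⟩⟩

variable [IsReduced R] {p : Ideal R} [p.IsPrime]
  (Rp : Type u) [CommRing Rp] [Algebra R Rp] [IsLocalization.AtPrime Rp p]

theorem Data.e_notMem (d : Data p) : d.e ∉ p := by
  intro he
  have h1 : (1 : R) ∈ p := by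
    have := p.add_mem (d.hqp d.he1) he
    simpa using this
  exact (Ideal.IsPrime.ne_top inferInstance) ((Ideal.eq_top_iff_one p).mpr h1)

theorem Data.e_mul_eq_zero (d : Data p) (c : R) (hc : c ∈ d.q) : d.e * c = 0 := by
  apply eq_zero_of_forall_mem_minimalPrimes
  intro q' hq'
  by_cases h : q' = d.q
  · rw [h]; exact d.q.mul_mem_left _ hc
  · exact q'.mul_mem_right _ (d.heq' q' hq' h)

theorem Data.map_eq_zero_iff (d : Data p) (c : R) : algebraMap R Rp c = 0 ↔ c ∈ d.q := by
  rw [IsLocalization.map_eq_zero_iff p.primeCompl Rp]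
  constructor
  · rintro ⟨u, hu⟩
    have hqp : d.q.IsPrime := d.hq.1.1
    have h1 : (u : R) * c ∈ d.q := by rw [hu]; exact d.q.zero_mem
    rcases hqp.mem_or_mem h1 with h | h
    · exact absurd (d.hqp h) u.2
    · exact h
  · intro hc
    exact ⟨⟨d.e, d.e_notMem⟩, d.e_mul_eq_zero c hc⟩

theorem Data.map_e (d : Data p) : algebraMap R Rp d.e = 1 := by
  have h := (d.map_eq_zero_iff Rp (1 - d.e)).mpr d.he1
  rw [map_sub, map_one, sub_eq_zero] at h
  exact h.symm

theorem Data.isDomain (d : Data p) : IsDomain Rp := by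
  haveI : IsLocalRing Rp := IsLocalization.AtPrime.isLocalRing Rp p
  have hqp : d.q.IsPrime := d.hq.1.1
  have hmk : ∀ (c : R) (t : p.primeCompl), IsLocalization.mk' Rp c t = 0 ↔ c ∈ d.q := by
    intro c t
    rw [IsLocalization.mk'_eq_zero_iff, ← IsLocalization.map_eq_zero_iff p.primeCompl Rp,
      d.map_eq_zero_iff Rp]
  haveI : NoZeroDivisors Rp := by
    refine ⟨?_⟩
    intro y y' hyy'
    obtain ⟨⟨c, t⟩, rfl⟩ := IsLocalization.mk'_surjective p.primeCompl y
    obtain ⟨⟨c', t'⟩, rfl⟩ := IsLocalization.mk'_surjective p.primeCompl y'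
    simp only at hyy' ⊢
    rw [← IsLocalization.mk'_mul, hmk] at hyy'
    rw [hmk, hmk]
    exact hqp.mem_or_mem hyy'
  exact NoZeroDivisors.to_isDomain Rp


theorem Data.notMem_q_of_map_ne_zero (d : Data p) (c : R) (hc : algebraMap R Rp c ≠ 0) : c ∉ d.q :=
  fun h => hc ((d.map_eq_zero_iff Rp c).mpr h)

/-- `d₁ e + (1 - e)` is a nonzerodivisor when `d₁ ∉ q`. -/
theorem Data.modify_mem_nonZeroDivisors (d : Data p) (d₁ : R) (hd₁ : d₁ ∉ d.q) :
    d₁ * d.e + (1 - d.e) ∈ nonZeroDivisors R := by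
  apply mem_nonZeroDivisors_of_forall_notMem
  intro q' hq' hmem
  have hq'p : q'.IsPrime := hq'.1.1
  by_cases h : q' = d.q
  · rw [h] at hmem
    have hqp : d.q.IsPrime := d.hq.1.1
    have h1 : d₁ * d.e ∈ d.q := (Ideal.add_mem_iff_left d.q d.he1).mp hmem
    rcases hqp.mem_or_mem h1 with h2 | h2
    · exact hd₁ h2
    · exact d.e_notMem (d.hqp h2)
  · have he : d.e ∈ q' := d.heq' q' hq' h
    have h1 : 1 - d.e ∈ q' := (Ideal.add_mem_iff_right q' (q'.mul_mem_left _ he)).mp hmem
    have h2 : (1 : R) ∈ q' := by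
      have := q'.add_mem h1 he
      simpa using this
    exact hq'p.ne_top ((Ideal.eq_top_iff_one q').mpr h2)

theorem Data.map_modify (d : Data p) (d₁ : R) :
    algebraMap R Rp (d₁ * d.e + (1 - d.e)) = algebraMap R Rp d₁ := by
  rw [map_add, map_mul, map_sub, map_one, d.map_e Rp]
  ring

theorem Data.isIntegrallyClosed (hIC : IsIntegrallyClosedIn R (FractionRing R)) (d : Data p)
    [IsDomain Rp] : IsIntegrallyClosed Rp := by
  let Q := FractionRing R
  let Kp := FractionRing Rp
  rw [isIntegrallyClosed_iff Kp]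
  intro y hy
  have hICi := isIntegrallyClosedIn_iff.mp hIC
  -- step 1: clear denominators of the integral equation
  obtain ⟨s₀, hs₀⟩ := IsIntegral.exists_multiple_integral_of_isLocalization p.primeCompl y hy
  have hs₀y : s₀ • y = algebraMap Rp Kp (algebraMap R Rp s₀) * y := by
    rw [Submonoid.smul_def, Algebra.smul_def, IsScalarTower.algebraMap_apply R Rp Kp]
  -- step 2: numerator / denominator
  obtain ⟨⟨γ, δ⟩, hγδ⟩ := IsLocalization.mk'_surjective (nonZeroDivisors Rp) (s₀ • y)
  simp only at hγδ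
  obtain ⟨⟨c, t⟩, hct⟩ := IsLocalization.mk'_surjective p.primeCompl γ
  obtain ⟨⟨dd, t'⟩, hdt⟩ := IsLocalization.mk'_surjective p.primeCompl (δ : Rp)
  simp only at hct hdt
  have hδ0 : (δ : Rp) ≠ 0 := nonZeroDivisors.ne_zero δ.2
  have hdd : algebraMap R Rp dd ≠ 0 := by
    intro h0
    apply hδ0
    rw [← hdt, IsLocalization.mk'_eq_zero_iff, ← IsLocalization.map_eq_zero_iff p.primeCompl Rp]
    exact h0
  have hqp : d.q.IsPrime := d.hq.1.1
  have hd₁ : dd * t ∉ d.q := by
    intro h
    rcases hqp.mem_or_mem h with h | h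
    · exact d.notMem_q_of_map_ne_zero Rp dd hdd h
    · exact t.2 (d.hqp h)
  have hyδ : (s₀ • y) * algebraMap Rp Kp δ = algebraMap Rp Kp γ := by
    rw [← hγδ]; exact IsLocalization.mk'_spec Kp γ δ
  have hγt : γ * algebraMap R Rp t = algebraMap R Rp c := by
    rw [← hct]; exact IsLocalization.mk'_spec Rp c t
  have hδt : (δ : Rp) * algebraMap R Rp t' = algebraMap R Rp dd := by
    rw [← hdt]; exact IsLocalization.mk'_spec Rp dd t'
  have key2 : (s₀ • y) * algebraMap Rp Kp (algebraMap R Rp (dd * t)) =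
      algebraMap Rp Kp (algebraMap R Rp (c * t')) := by
    have hγt' := congrArg (algebraMap Rp Kp) hγt
    have hδt' := congrArg (algebraMap Rp Kp) hδt
    simp only [map_mul] at hγt' hδt' ⊢
    linear_combination (-((s₀ • y) * algebraMap Rp Kp (algebraMap R Rp t))) * hδt' +
      (algebraMap Rp Kp (algebraMap R Rp t) * algebraMap Rp Kp (algebraMap R Rp t')) * hyδ +
      algebraMap Rp Kp (algebraMap R Rp t') * hγt'
  -- step 3/4: the element `x` of `Q`
  let d₂ : nonZeroDivisors R := ⟨dd * t * d.e + (1 - d.e), d.modify_mem_nonZeroDivisors _ hd₁⟩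
  let x : Q := IsLocalization.mk' Q (c * t') d₂
  have hφx : phi Q p Rp x = s₀ • y := by
    rw [phi_mk', IsLocalization.mk'_eq_iff_eq_mul]
    change _ = _ * algebraMap Rp Kp (algebraMap R Rp (dd * t * d.e + (1 - d.e)))
    rw [d.map_modify Rp, key2]
  -- step 5: `ε x` is integral
  obtain ⟨P, hPm, hPy⟩ := hs₀
  set ε : Q := algebraMap R Q d.e with hε
  have hεε : ε * ε = ε := by rw [hε, ← map_mul, d.hee]
  have hφz : phi Q p Rp (Polynomial.eval₂ (algebraMap R Q) x P) = 0 := by
    rw [phi_eval₂, hφx, ← IsScalarTower.algebraMap_eq R Rp Kp]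
    exact hPy
  have hker : ∀ z : Q, phi Q p Rp z = 0 → ε * z = 0 := by
    intro z hz
    obtain ⟨⟨c₂, s₂⟩, rfl⟩ := IsLocalization.mk'_surjective (nonZeroDivisors R) z
    simp only at hz ⊢
    rw [phi_mk', IsLocalization.mk'_eq_iff_eq_mul, zero_mul] at hz
    have h1 : algebraMap R Rp c₂ = 0 :=
      IsFractionRing.injective Rp Kp (hz.trans (map_zero _).symm)
    have h2 : d.e * c₂ = 0 := d.e_mul_eq_zero c₂ ((d.map_eq_zero_iff Rp c₂).mp h1)
    rw [hε, IsLocalization.mul_mk'_eq_mk'_of_mul, h2, IsLocalization.mk'_zero]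
  have hεz : ε * (P.map (algebraMap R Q)).eval x = 0 := by
    rw [Polynomial.eval_map]
    exact hker _ hφz
  have hεz2 : ε * (P.map (algebraMap R Q)).eval (ε * x) = 0 := by
    obtain ⟨w, hw⟩ := Polynomial.sub_dvd_eval_sub (ε * x) x (P.map (algebraMap R Q))
    have h1 : (P.map (algebraMap R Q)).eval (ε * x) =
        (P.map (algebraMap R Q)).eval x + (ε * x - x) * w := by
      rw [← hw]; ring
    rw [h1, mul_add, hεz, zero_add]
    have : ε * ((ε * x - x) * w) = (ε * ε - ε) * (x * w) := by ring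
    rw [this, hεε, sub_self, zero_mul]
  have hint : IsIntegral R (ε * x) := by
    refine ⟨Polynomial.X * P, Polynomial.monic_X.mul hPm, ?_⟩
    rw [Polynomial.eval₂_mul, Polynomial.eval₂_X, ← Polynomial.eval_map]
    linear_combination x * hεz2
  -- step 6
  obtain ⟨r₀, hr₀⟩ := hICi.2 hint
  have hr₀' : algebraMap Rp Kp (algebraMap R Rp r₀) = s₀ • y := by
    have := congrArg (phi Q p Rp) hr₀
    rw [phi_algebraMap, map_mul, hφx, hε, phi_algebraMap, d.map_e Rp, map_one, one_mul] at this
    exact this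
  -- step 7
  refine ⟨IsLocalization.mk' Rp r₀ s₀, ?_⟩
  have hu : IsUnit (algebraMap Rp Kp (algebraMap R Rp s₀)) :=
    (IsLocalization.map_units Rp s₀).map _
  apply hu.mul_left_inj.mp
  rw [← map_mul, IsLocalization.mk'_spec, hr₀', hs₀y, mul_comm]

end Backward

end Groth.Agent.H11.TotalFracNormal
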