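import Mathlib

/-!
# Differentials of a smooth local ring of relative dimension one

`A` a Noetherian local `k`-algebra, formally smooth over the field `k`, with residue field
separable over `k` and `Ω[A⁄k]` free of rank one.  Then the maximal ideal is principal, and for every
irreducible `s` the differential `d s` is a basis of `Ω[A⁄k]`.
-/

set_option autoImplicit false
universe u

open KaehlerDifferential IsLocalRing TensorProduct

namespace Groth.Agent.H11.UnifDiff

section basic

variable (k A : Type u) [Field k] [CommRing A] [Algebra k A] [IsLocalRing A]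
  [Algebra k (ResidueField A)] [IsScalarTower k A (ResidueField A)]

/-- If `Ω[κ⁄k] = 0`, every element of `κ ⊗ Ω[A⁄k]` is `1 ⊗ d m` with `m ∈ 𝔪`. -/
theorem exists_tmul_D_eq [Algebra.FormallyUnramified k (ResidueField A)]
    (x : ResidueField A ⊗[A] Ω[A⁄k]) :
    ∃ m ∈ maximalIdeal A, x = (1 : ResidueField A) ⊗ₜ[A] D k A m := by
  have hsurj : Function.Surjective (algebraMap A (ResidueField A)) := residue_surjective
  have hex := KaehlerDifferential.exact_kerCotangentToTensor_mapBaseChange k A (ResidueField A) hsurj
  obtain ⟨y, rfl⟩ := (hex x).1 (Subsingleton.elim _ _)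
  obtain ⟨⟨m, hm⟩, rfl⟩ := Ideal.toCotangent_surjective _ y
  refine ⟨m, ?_, ?_⟩
  · have : algebraMap A (ResidueField A) m = 0 := hm
    exact (residue_eq_zero_iff m).1 this
  · rw [kerCotangentToTensor_toCotangent]

/-- If `A` and `κ` are formally smooth over `k`, then `1 ⊗ d m = 0` forces `m ∈ 𝔪²`. -/
theorem mem_sq_of_tmul_D_eq_zero [Algebra.FormallySmooth k A]
    [Algebra.FormallySmooth k (ResidueField A)] (m : A) (hm : m ∈ maximalIdeal A)
    (h : (1 : ResidueField A) ⊗ₜ[A] D k A m = 0) : m ∈ maximalIdeal A ^ 2 := by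
  have hsurj : Function.Surjective (algebraMap A (ResidueField A)) := residue_surjective
  obtain ⟨l, hl⟩ := (Algebra.FormallySmooth.iff_split_injection (R := k) (P := A)
    (A := ResidueField A) hsurj).mp inferInstance
  have hinj : Function.Injective (kerCotangentToTensor k A (ResidueField A)) := by
    intro a b hab
    have := congrArg l hab
    rwa [← LinearMap.comp_apply, ← LinearMap.comp_apply, hl] at this
  have hm' : m ∈ RingHom.ker (algebraMap A (ResidueField A)) := by
    rw [RingHom.mem_ker]
    exact (residue_eq_zero_iff m).2 hm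
  have h1 : kerCotangentToTensor k A (ResidueField A) (Ideal.toCotangent _ ⟨m, hm'⟩) = 0 := by
    rw [kerCotangentToTensor_toCotangent]
    exact h
  have h2 := hinj (h1.trans (map_zero _).symm)
  rw [Ideal.toCotangent_eq_zero] at h2
  have h2' : m ∈ RingHom.ker (algebraMap A (ResidueField A)) ^ 2 := h2
  have hker : RingHom.ker (algebraMap A (ResidueField A)) = maximalIdeal A := ker_residue
  rwa [hker] at h2'

end basic

section main

variable (k A : Type u) [Field k] [CommRing A] [Algebra k A] [IsLocalRing A] [IsNoetherianRing A]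
  [Algebra k (ResidueField A)] [IsScalarTower k A (ResidueField A)]

theorem bijective_smul_D [Algebra.FormallySmooth k A] [Algebra.IsSeparable k (ResidueField A)]
    [Module.Free A Ω[A⁄k]] (hrk : Module.finrank A Ω[A⁄k] = 1) (s : A) (hs : Irreducible s) :
    Function.Bijective (fun a : A => a • D k A s) := by
  haveI : Algebra.FormallyEtale k (ResidueField A) := Algebra.FormallyEtale.of_isSeparable k _
  let b : Module.Basis Unit A Ω[A⁄k] := Module.basisUnique Unit hrk
  have hrepr : ∀ ω : Ω[A⁄k], ω = (b.repr ω ()) • b () := by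
    intro ω
    conv_lhs => rw [← b.sum_repr ω]
    simp
  have htm : ∀ (t : A) (ht : t ∈ maximalIdeal A) (y : Ω[A⁄k]),
      (1 : ResidueField A) ⊗ₜ[A] (t • y) = 0 := by
    intro t ht y
    rw [TensorProduct.tmul_smul, TensorProduct.smul_tmul', Algebra.smul_def, mul_one]
    have : algebraMap A (ResidueField A) t = 0 := (residue_eq_zero_iff t).2 ht
    rw [this, TensorProduct.zero_tmul]
  -- a uniformizer
  obtain ⟨t, ht, hteq⟩ := exists_tmul_D_eq k A ((1 : ResidueField A) ⊗ₜ[A] b ())
  have hle : maximalIdeal A ≤ Ideal.span {t} := by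
    refine Submodule.le_of_le_smul_of_le_jacobson_bot (I := maximalIdeal A)
      (IsNoetherian.noetherian _) (le_of_eq (jacobson_eq_maximalIdeal ⊥ bot_ne_top).symm) ?_
    intro m hm
    set a := b.repr (D k A m) () with ha
    have hmt : m - a * t ∈ maximalIdeal A := sub_mem hm (Ideal.mul_mem_left _ _ ht)
    have h1 : (1 : ResidueField A) ⊗ₜ[A] D k A (m - a * t) = 0 := by
      rw [map_sub, Derivation.leibniz, TensorProduct.tmul_sub, TensorProduct.tmul_add, htm t ht,
        add_zero, TensorProduct.tmul_smul, ← hteq, ← TensorProduct.tmul_smul, ← hrepr, sub_self]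
    have h2 := mem_sq_of_tmul_D_eq_zero k A (m - a * t) hmt h1
    have h3 : m = a * t + (m - a * t) := by ring
    rw [h3]
    refine Submodule.add_mem_sup (Ideal.mem_span_singleton'.2 ⟨a, rfl⟩) ?_
    rw [smul_eq_mul, ← pow_two]
    exact h2
  -- `s` generates the maximal ideal up to `t = u s`
  have hsm : s ∈ maximalIdeal A := (mem_maximalIdeal s).2 hs.not_isUnit
  obtain ⟨c, hc⟩ := Ideal.mem_span_singleton'.1 (hle hsm)
  have hcu : IsUnit c := by
    rcases hs.isUnit_or_isUnit hc.symm with h | h
    · exact h
    · exact absurd h ((mem_maximalIdeal t).1 ht)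
  obtain ⟨u, hu⟩ : ∃ u, t = u * s := ⟨↑hcu.unit⁻¹, by rw [← hc, ← mul_assoc]; simp⟩
  -- the coefficient of `d s`
  set c₀ := b.repr (D k A s) () with hc₀
  have hc₀u : IsUnit c₀ := by
    by_contra hnu
    have hc₀m : c₀ ∈ maximalIdeal A := (mem_maximalIdeal c₀).2 hnu
    have h0 : (1 : ResidueField A) ⊗ₜ[A] b () = 0 := by
      rw [hteq, hu, Derivation.leibniz, TensorProduct.tmul_add, htm s hsm, add_zero, hrepr (D k A s),
        ← hc₀, smul_smul]
      exact htm _ (Ideal.mul_mem_left _ _ hc₀m) _
    have hb := (b.baseChange (ResidueField A)).ne_zero ()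
    rw [Module.Basis.baseChange_apply] at hb
    exact hb h0
  have hfun : (fun a : A => a • D k A s) = fun a : A => (a * c₀) • b () := by
    funext a
    rw [hrepr (D k A s), ← hc₀, smul_smul]
  rw [hfun]
  constructor
  · intro a a' h
    have h1 : b.repr ((a * c₀) • b ()) () = b.repr ((a' * c₀) • b ()) () := by
      simp only at h
      rw [h]
    simp only [map_smul, Module.Basis.repr_self, Finsupp.smul_apply, Finsupp.single_eq_same,
      smul_eq_mul, mul_one] at h1
    exact hc₀u.mul_left_injective h1
  · intro ω
    refine ⟨b.repr ω () * ↑hc₀u.unit⁻¹, ?_⟩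
    simp only
    rw [mul_assoc, IsUnit.val_inv_mul, mul_one]
    exact (hrepr ω).symm

end main

section localization

theorem bijective_smul_D_of_localization (k B A : Type u) [Field k] [CommRing B] [CommRing A]
    [Algebra k B] [Algebra B A] [Algebra k A] [IsScalarTower k B A]
    [Algebra.IsStandardSmoothOfRelativeDimension 1 k B] (p : Ideal B) [p.IsPrime]
    [IsLocalization.AtPrime A p]
    [IsLocalRing A] [Algebra k (ResidueField A)] [IsScalarTower k A (ResidueField A)]
    [Algebra.IsSeparable k (ResidueField A)] (s : A) (hs : Irreducible s) :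
    Function.Bijective (fun a : A => a • D k A s) := by
  haveI : Algebra.IsStandardSmooth k B :=
    Algebra.IsStandardSmoothOfRelativeDimension.isStandardSmooth 1
  haveI : IsNoetherianRing B := Algebra.FiniteType.isNoetherianRing k B
  haveI : IsNoetherianRing A := IsLocalization.isNoetherianRing p.primeCompl A inferInstance
  haveI : Algebra.FormallyEtale B A := Algebra.FormallyEtale.of_isLocalization p.primeCompl
  haveI : Algebra.FormallySmooth k A := Algebra.FormallySmooth.comp k B A
  haveI : Nontrivial B := ⟨⟨0, 1, fun h => ‹p.IsPrime›.ne_top (p.eq_top_of_isUnit_mem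
    (h ▸ p.zero_mem) isUnit_one)⟩⟩
  let e := tensorKaehlerEquivOfFormallyEtale k B A
  haveI : Module.Free A Ω[A⁄k] := Module.Free.of_equiv e
  have hrk : Module.finrank A Ω[A⁄k] = 1 := by
    rw [← e.finrank_eq, Module.finrank_baseChange]
    have h1 := Algebra.IsStandardSmoothOfRelativeDimension.rank_kaehlerDifferential (R := k)
      (S := B) 1
    exact Module.finrank_eq_of_rank_eq (by exact_mod_cast h1)
  exact bijective_smul_D k A hrk s hs

end localization

end Groth.Agent.H11.UnifDiff
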