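import Groth.Agent.H11.UnivInj

set_option autoImplicit false
open TensorProduct

namespace Groth.Agent.H11

universe u

variable {R : Type u} [CommRing R]

/-- A short exact sequence with finitely presented cokernel whose first map stays injective
after tensoring with finitely presented modules splits. -/
theorem exists_section_of_rTensor_injective {M₁ M₂ M₃ : Type u} [AddCommGroup M₁] [Module R M₁]
    [AddCommGroup M₂] [Module R M₂] [AddCommGroup M₃] [Module R M₃]
    [Module.FinitePresentation R M₃] (f : M₁ →ₗ[R] M₂) (g : M₂ →ₗ[R] M₃)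
    (hexact : Function.Exact f g) (hg : Function.Surjective g)
    (hf : ∀ (n m : ℕ) (a : Fin n → Fin m → R),
      Function.Injective (f.rTensor ((Fin n → R) ⧸ colSpan a))) :
    ∃ s : M₃ →ₗ[R] M₂, g.comp s = LinearMap.id := by
  classical
  obtain ⟨n, m, π, ρ, hπ, hρ⟩ := Module.FinitePresentation.exists_fin' R M₃
  choose y hy using fun j : Fin n => hg (π (Pi.single j 1))
  let a : Fin m → Fin n → R := fun i j => ρ (Pi.single i 1) j
  have hvec : ∀ v : Fin n → R, v = ∑ j, v j • (Pi.single j (1 : R) : Fin n → R) := by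
    intro v
    ext k
    simp [Finset.sum_apply, Pi.single_apply]
  have h1 : ∀ i, g (∑ j, a i j • y j) = 0 := by
    intro i
    rw [map_sum]
    simp only [map_smul, hy]
    rw [← hρ.apply_apply_eq_zero (Pi.single i 1)]
    conv_rhs => rw [hvec (ρ (Pi.single i 1)), map_sum]
    simp only [map_smul]
    rfl
  choose x hx using fun i => (hexact _).1 (h1 i)
  obtain ⟨z, hz⟩ := exists_of_rTensor_injective f x y a hx (hf m n a)
  let σ' : (Fin n → R) →ₗ[R] M₂ := Fintype.linearCombination R (fun j => y j - f (z j))
  have hσρ : ∀ w, σ' (ρ w) = 0 := by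
    intro w
    have hw : w = ∑ i, w i • (Pi.single i (1 : R) : Fin m → R) := by
      ext k
      simp [Finset.sum_apply, Pi.single_apply]
    rw [hw, map_sum, map_sum]
    refine Finset.sum_eq_zero (fun i _ => ?_)
    rw [map_smul, map_smul]
    have : σ' (ρ (Pi.single i 1)) = 0 := by
      simp only [σ', Fintype.linearCombination_apply]
      have e1 : ∑ j, ρ (Pi.single i 1) j • (y j - f (z j)) =
          ∑ j, a i j • y j - f (∑ j, a i j • z j) := by
        rw [map_sum, ← Finset.sum_sub_distrib]
        refine Finset.sum_congr rfl (fun j _ => ?_)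
        rw [smul_sub, map_smul]
      rw [e1, ← hz i, hx i, sub_self]
    rw [this, smul_zero]
  have hker : LinearMap.ker π ≤ LinearMap.ker σ' := by
    intro v hv
    rw [LinearMap.mem_ker] at hv ⊢
    obtain ⟨w, rfl⟩ := (hρ v).1 hv
    exact hσρ w
  let e := LinearMap.quotKerEquivOfSurjective π hπ
  let s : M₃ →ₗ[R] M₂ := ((LinearMap.ker π).liftQ σ' hker).comp e.symm.toLinearMap
  have hs : ∀ v, s (π v) = σ' v := by
    intro v
    have : e.symm (π v) = (LinearMap.ker π).mkQ v := by
      rw [LinearEquiv.symm_apply_eq]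
      rfl
    simp only [s, LinearMap.comp_apply, LinearEquiv.coe_coe, this]
    rfl
  refine ⟨s, ?_⟩
  apply LinearMap.ext
  intro c
  obtain ⟨v, rfl⟩ := hπ c
  rw [LinearMap.comp_apply, hs, LinearMap.id_apply]
  conv_rhs => rw [hvec v, map_sum]
  simp only [σ', Fintype.linearCombination_apply, map_sum, map_smul, map_sub, hy]
  refine Finset.sum_congr rfl (fun j _ => ?_)
  rw [hexact.apply_apply_eq_zero, sub_zero]

/-- The statement for universally injective maps. -/
theorem exists_section_of_universallyInjective {M₁ M₂ M₃ : Type u} [AddCommGroup M₁] [Module R M₁]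
    [AddCommGroup M₂] [Module R M₂] [AddCommGroup M₃] [Module R M₃]
    [Module.FinitePresentation R M₃] (f : M₁ →ₗ[R] M₂) (g : M₂ →ₗ[R] M₃)
    (hexact : Function.Exact f g) (hg : Function.Surjective g)
    (hf : CAlgX.UniversallyInjective R f) :
    ∃ s : M₃ →ₗ[R] M₂, g.comp s = LinearMap.id :=
  exists_section_of_rTensor_injective f g hexact hg (fun _ _ _ => hf _)

/-- From a section of the cokernel to a retraction of an injective map. -/
theorem exists_retraction_of_section {M₁ M₂ M₃ : Type u} [AddCommGroup M₁] [Module R M₁]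
    [AddCommGroup M₂] [Module R M₂] [AddCommGroup M₃] [Module R M₃]
    (f : M₁ →ₗ[R] M₂) (g : M₂ →ₗ[R] M₃)
    (hexact : Function.Exact f g) (hinj : Function.Injective f)
    (s : M₃ →ₗ[R] M₂) (hs : g.comp s = LinearMap.id) :
    ∃ r : M₂ →ₗ[R] M₁, r.comp f = LinearMap.id := by
  classical
  -- p = id - s ∘ g lands in range f
  let p : M₂ →ₗ[R] M₂ := LinearMap.id - s.comp g
  have hp : ∀ y, p y ∈ LinearMap.range f := by
    intro y
    rw [← (hexact.linearMap_ker_eq), LinearMap.mem_ker]
    simp only [p, LinearMap.sub_apply, LinearMap.id_apply, LinearMap.comp_apply, map_sub]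
    have := congr_arg (fun h : M₃ →ₗ[R] M₃ => h (g y)) hs
    simp only [LinearMap.comp_apply, LinearMap.id_apply] at this
    rw [this, sub_self]
  let e := LinearEquiv.ofInjective f hinj
  let r : M₂ →ₗ[R] M₁ := e.symm.toLinearMap.comp (p.codRestrict (LinearMap.range f) hp)
  refine ⟨r, ?_⟩
  apply LinearMap.ext
  intro x
  simp only [r, LinearMap.comp_apply, LinearEquiv.coe_coe, LinearMap.id_apply]
  rw [LinearEquiv.symm_apply_eq]
  apply Subtype.ext
  simp only [LinearMap.codRestrict_apply, p, LinearMap.sub_apply, LinearMap.id_apply,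
    LinearMap.comp_apply, hexact.apply_apply_eq_zero, map_zero, sub_zero]
  rfl

end Groth.Agent.H11
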