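import Mathlib
import Groth.Agent.H11.CoreReg
import Groth.Agent.H11.RegChart

/-!
# Étale slices through an unramified closed subscheme of a smooth scheme (ring level)

`exists_etale_slice`: `A → B` smooth, `J ≤ q` with `B/J` formally unramified over `A`. Then there
are `h 0, …, h (n-1) ∈ J` and `g ∉ q` such that `B_g/(h)` is étale over `A`.
-/

set_option autoImplicit false

namespace Groth.Agent.H11.UnramSlice

open TensorProduct KaehlerDifferential IsLocalRing

universe u

variable {A B : Type u} [CommRing A] [CommRing B] [Algebra A B]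

/-- If `B/J` is formally unramified over `A`, every differential `d b` agrees modulo `J Ω` with
some `d j`, `j ∈ J`. -/
theorem exists_mem_D_sub_mem_smul (J : Ideal B) [Algebra.FormallyUnramified A (B ⧸ J)] (b : B) :
    ∃ j ∈ J, D A B (b - j) ∈ (J • ⊤ : Submodule B Ω[B⁄A]) := by
  have hsurj : Function.Surjective (algebraMap B (B ⧸ J)) := Ideal.Quotient.mk_surjective
  haveI : Subsingleton Ω[(B ⧸ J)⁄A] := inferInstance
  have hex := KaehlerDifferential.exact_kerCotangentToTensor_mapBaseChange A B (B ⧸ J) hsurj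
  obtain ⟨x, hx⟩ := (hex ((1 : B ⧸ J) ⊗ₜ[B] D A B b)).mp (Subsingleton.elim _ _)
  obtain ⟨y, rfl⟩ := Ideal.toCotangent_surjective _ x
  rw [KaehlerDifferential.kerCotangentToTensor_toCotangent] at hx
  have hyJ : (y : B) ∈ J := by
    have := y.2
    rw [RingHom.mem_ker] at this
    exact Ideal.Quotient.eq_zero_iff_mem.mp this
  refine ⟨y, hyJ, ?_⟩
  have h0 : (1 : B ⧸ J) ⊗ₜ[B] D A B (b - y) = 0 := by
    rw [map_sub, TensorProduct.tmul_sub, hx, sub_self]
  have h1 := congrArg (TensorProduct.quotTensorEquivQuotSMul Ω[B⁄A] J) h0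
  rw [TensorProduct.quotTensorEquivQuotSMul_mk_one_tmul, map_zero,
    Submodule.Quotient.mk_eq_zero] at h1
  exact h1

variable (q : Ideal B) [q.IsPrime] (T : Type u) [CommRing T]
    [Algebra B T] [IsLocalization.AtPrime T q] [Algebra A T] [IsScalarTower A B T] [IsLocalRing T]

include q in
theorem one_tmul_map_eq_zero_of_mem_smul (J : Ideal B) (hJq : J ≤ q) (ω : Ω[B⁄A])
    (hω : ω ∈ (J • ⊤ : Submodule B Ω[B⁄A])) :
    (1 : ResidueField T) ⊗ₜ[T] (KaehlerDifferential.map A A B T ω) = 0 := by
  refine Submodule.smul_induction_on hω ?_ ?_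
  · intro r hr n _
    rw [LinearMap.map_smul_of_tower, algebra_compatible_smul T r, TensorProduct.tmul_smul,
      TensorProduct.smul_tmul', Algebra.smul_def, mul_one]
    have : algebraMap B T r ∈ maximalIdeal T :=
      (IsLocalization.AtPrime.to_map_mem_maximal_iff T q r).mpr (hJq hr)
    have h0 : algebraMap T (ResidueField T) (algebraMap B T r) = 0 := by
      rwa [IsLocalRing.ResidueField.algebraMap_eq, IsLocalRing.residue_eq_zero_iff]
    rw [h0, TensorProduct.zero_tmul]
  · intro x y hx hy
    rw [map_add, TensorProduct.tmul_add, hx, hy, add_zero]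

include q in
theorem span_one_tmul_D_eq_top (J : Ideal B) (hJq : J ≤ q)
    [Algebra.FormallyUnramified A (B ⧸ J)] :
    Submodule.span (ResidueField T)
      (Set.range fun j : J => (1 : ResidueField T) ⊗ₜ[T] D A T (algebraMap B T (j : B))) = ⊤ := by
  have hspan := Groth.Agent.H11.EtaleDiff2.span_one_tmul_eq_top (ResidueField T)
    (fun b : B => D A T (algebraMap B T b))
    (Groth.Agent.H11.SmoothCartier.span_D_algebraMap (A := A) q.primeCompl T)
  rw [eq_top_iff, ← hspan, Submodule.span_le]
  rintro _ ⟨b, rfl⟩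
  obtain ⟨j, hj, hmem⟩ := exists_mem_D_sub_mem_smul (A := A) J b
  have h0 := one_tmul_map_eq_zero_of_mem_smul (A := A) q T J hJq _ hmem
  rw [KaehlerDifferential.map_D, map_sub, map_sub, TensorProduct.tmul_sub, sub_eq_zero] at h0
  simp only [SetLike.mem_coe]
  rw [h0]
  exact Submodule.subset_span ⟨⟨j, hj⟩, rfl⟩

include T in
set_option maxHeartbeats 1600000 in
/-- **Étale slice.** -/
theorem exists_etale_slice (J : Ideal B) (hJq : J ≤ q) [Algebra.Smooth A B]
    [Algebra.FormallyUnramified A (B ⧸ J)] :
    ∃ (n : ℕ) (h : Fin n → B), (∀ k, h k ∈ J) ∧ ∃ g ∉ q,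
      ∀ (B' : Type u) [CommRing B'] [Algebra B B'] [IsLocalization.Away g B']
        [Algebra A B'] [IsScalarTower A B B'],
        Algebra.Etale A (B' ⧸ Ideal.span (Set.range fun k => algebraMap B B' (h k))) := by
  classical
  haveI : Algebra.FormallySmooth B T := Algebra.FormallySmooth.of_isLocalization q.primeCompl
  haveI : Algebra.FormallySmooth A T := Algebra.FormallySmooth.comp A B T
  haveI : Algebra.EssFiniteType B T := Algebra.EssFiniteType.of_isLocalization T q.primeCompl
  haveI : Algebra.EssFiniteType A T := Algebra.EssFiniteType.comp A B T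
  haveI : Module.Finite T Ω[T⁄A] := inferInstance
  have hspan := span_one_tmul_D_eq_top (A := A) q T J hJq
  obtain ⟨I, _, c, -, bas, -, -, hbas⟩ :=
    Groth.Agent.H11.SmoothCartierMulti.exists_basis_of_spanning_family
      (K := ResidueField T)
      (fun j : J => (1 : ResidueField T) ⊗ₜ[T] D A T (algebraMap B T (j : B))) hspan
      (ι := PEmpty.{1}) (fun k => k.elim) (linearIndependent_empty_type)
  let e := Fintype.equivFin I
  let h : Fin (Fintype.card I) → B := fun k => (c (e.symm k) : B)
  have hli : LinearIndependent (ResidueField T)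
      (fun k => (1 : ResidueField T) ⊗ₜ[T] D A T (algebraMap B T (h k))) := by
    have hfun : (fun k => (1 : ResidueField T) ⊗ₜ[T] D A T (algebraMap B T (h k))) =
        ⇑(bas.reindex e) := by
      funext k
      rw [Module.Basis.reindex_apply, hbas]
    rw [hfun]
    exact (bas.reindex e).linearIndependent
  obtain ⟨g, hg, hcore⟩ := Groth.Agent.H11.CoreReg.core_multi_regular (A := A) q T h hli
  refine ⟨Fintype.card I, h, fun k => (c (e.symm k)).2, g, hg, ?_⟩
  intro B' _ _ _ _ _
  haveI : IsLocalization.Away (g * 1) B' := by rw [mul_one]; infer_instance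
  obtain ⟨-, I', hI', ψ, hψ, hcard⟩ := hcore 1 B'
  have hfr : Module.finrank (ResidueField T) (ResidueField T ⊗[T] Ω[T⁄A]) = Fintype.card I :=
    Module.finrank_eq_card_basis bas
  have h0 : Fintype.card I' = 0 := by omega
  haveI : IsEmpty I' := Fintype.card_eq_zero_iff.mp h0
  letI : Algebra (MvPolynomial I' A)
      (B' ⧸ Ideal.span (Set.range fun k => algebraMap B B' (h k))) := ψ.toRingHom.toAlgebra
  haveI : IsScalarTower A (MvPolynomial I' A)
      (B' ⧸ Ideal.span (Set.range fun k => algebraMap B B' (h k))) :=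
    IsScalarTower.of_algebraMap_eq fun a => (ψ.commutes a).symm
  haveI : Algebra.Etale (MvPolynomial I' A)
      (B' ⧸ Ideal.span (Set.range fun k => algebraMap B B' (h k))) := hψ
  haveI : Algebra.Etale A (MvPolynomial I' A) :=
    Algebra.Etale.of_equiv (MvPolynomial.isEmptyAlgEquiv A I').symm
  exact Algebra.Etale.comp A (MvPolynomial I' A) _

end Groth.Agent.H11.UnramSlice
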