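import Mathlib
import Groth.Agent.H11.UnramSlice
import Groth.Agent.H11.LciFittSch
import Groth.Agent.H7.LocalStd

/-!
# Étale closed slices through an unramified closed subscheme of a smooth scheme

`exists_etale_closed_through`: `f : X → Y` smooth, `i : Z → X` a closed immersion with `i ≫ f`
formally unramified (e.g. a closed immersion). Around every point of `Z` there are an open `U` of
`X` and a closed subscheme `W` of `U`, étale over `Y`, containing `Z ∩ U`.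
-/

set_option autoImplicit false

namespace Groth.Agent.H11.UnramSliceSch

open AlgebraicGeometry CategoryTheory Limits TensorProduct IsLocalRing KaehlerDifferential

universe u

set_option maxHeartbeats 3200000 in
/-- **Étale closed slices.** -/
theorem exists_etale_closed_through {X Y Z : Scheme.{u}} (f : X ⟶ Y) [Smooth f]
    (i : Z ⟶ X) [IsClosedImmersion i] [FormallyUnramified (i ≫ f)] (z : Z) :
    ∃ (U : X.Opens) (_ : i.base z ∈ U) (W : Scheme.{u}) (j : W ⟶ (U : Scheme.{u}))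
      (_ : IsClosedImmersion j) (_ : Etale (j ≫ U.ι ≫ f))
      (g : ((i ⁻¹ᵁ U : Z.Opens) : Scheme.{u}) ⟶ W), g ≫ j = i ∣_ U := by
  obtain ⟨_, ⟨V₀, hV₀, rfl⟩, hxV₀, -⟩ :=
    Y.isBasis_affineOpens.exists_subset_of_mem_open (Set.mem_univ (f.base (i.base z))) isOpen_univ
  obtain ⟨_, ⟨U₀, hU₀, rfl⟩, hxU₀, e₀⟩ := X.isBasis_affineOpens.exists_subset_of_mem_open
    (show i.base z ∈ (f ⁻¹ᵁ V₀ : Set X) from hxV₀) (f ⁻¹ᵁ V₀).2
  replace e₀ : U₀ ≤ f ⁻¹ᵁ V₀ := e₀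
  letI algAB : Algebra Γ(Y, V₀) Γ(X, U₀) := (f.appLE V₀ U₀ e₀).hom.toAlgebra
  haveI hsmA : Algebra.Smooth Γ(Y, V₀) Γ(X, U₀) :=
    HasRingHomProperty.appLE @Smooth f inferInstance ⟨V₀, hV₀⟩ ⟨U₀, hU₀⟩ e₀
  -- `A → C` formally unramified
  have hY₀ : IsAffineOpen (i ⁻¹ᵁ U₀) := hU₀.preimage i
  have eY : i ⁻¹ᵁ U₀ ≤ (i ≫ f) ⁻¹ᵁ V₀ := fun z hz => e₀ hz
  have hQ' := HasRingHomProperty.appLE @FormallyUnramified (i ≫ f) inferInstance ⟨V₀, hV₀⟩
    ⟨i ⁻¹ᵁ U₀, hY₀⟩ eY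
  letI algAC : Algebra Γ(Y, V₀) Γ(Z, i ⁻¹ᵁ U₀) :=
    ((i ≫ f).appLE V₀ (i ⁻¹ᵁ U₀) eY).hom.toAlgebra
  haveI hetC : Algebra.FormallyUnramified Γ(Y, V₀) Γ(Z, i ⁻¹ᵁ U₀) := hQ'
  -- the surjection `B → C`
  have hcomm : ∀ a : Γ(Y, V₀), (i.app U₀).hom (algebraMap Γ(Y, V₀) Γ(X, U₀) a) =
      algebraMap Γ(Y, V₀) Γ(Z, i ⁻¹ᵁ U₀) a := by
    intro a
    have h1 := Scheme.Hom.appLE_comp_appLE i f V₀ U₀ (i ⁻¹ᵁ U₀) e₀ le_rfl
    rw [Scheme.Hom.appLE_eq_app] at h1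
    have h2 := congrArg (fun φ => φ.hom a) h1
    exact h2
  let φ : Γ(X, U₀) →ₐ[Γ(Y, V₀)] Γ(Z, i ⁻¹ᵁ U₀) :=
    { (i.app U₀).hom with commutes' := hcomm }
  have hφsurj : Function.Surjective φ := i.app_surjective U₀ hU₀
  obtain ⟨J, hJdef⟩ : ∃ J : Ideal Γ(X, U₀), J = RingHom.ker φ := ⟨_, rfl⟩
  have hJmem : ∀ b, b ∈ J ↔ (i.app U₀).hom b = 0 := fun b => by
    rw [hJdef, RingHom.mem_ker]; rfl
  have hJq : J ≤ (hU₀.primeIdealOf ⟨i.base z, hxU₀⟩).asIdeal := by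
    intro b hb
    by_contra hnot
    have h1 : i.base z ∈ X.basicOpen b :=
      (Groth.Agent.H7.mem_basicOpen_iff_notMem_primeIdealOf hU₀ _ hxU₀ b).mpr hnot
    have h2 : z ∈ i ⁻¹ᵁ X.basicOpen b := h1
    have h3 : i.app U₀ b = 0 := (hJmem b).mp hb
    rw [Scheme.preimage_basicOpen, h3, Scheme.basicOpen_zero] at h2
    exact h2.elim
  haveI hunQ : Algebra.FormallyUnramified Γ(Y, V₀) (Γ(X, U₀) ⧸ J) := by
    let ε : (Γ(X, U₀) ⧸ J) ≃ₐ[Γ(Y, V₀)] Γ(Z, i ⁻¹ᵁ U₀) :=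
      (Ideal.quotientEquivAlgOfEq _ hJdef).trans (Ideal.quotientKerAlgEquivOfSurjective hφsurj)
    exact Algebra.FormallyUnramified.of_equiv ε.symm
  -- the stalk
  letI algBT := X.presheaf.algebra_section_stalk ⟨i.base z, hxU₀⟩
  haveI locT := hU₀.isLocalization_stalk ⟨i.base z, hxU₀⟩
  letI algAT : Algebra Γ(Y, V₀) (X.presheaf.stalk (i.base z)) :=
    ((algebraMap Γ(X, U₀) (X.presheaf.stalk (i.base z))).comp
      (algebraMap Γ(Y, V₀) Γ(X, U₀))).toAlgebra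
  haveI : IsScalarTower Γ(Y, V₀) Γ(X, U₀) (X.presheaf.stalk (i.base z)) :=
    IsScalarTower.of_algebraMap_eq' rfl
  obtain ⟨n, h, hJh, g, hg, H⟩ := Groth.Agent.H11.UnramSlice.exists_etale_slice
    (A := Γ(Y, V₀)) (hU₀.primeIdealOf ⟨i.base z, hxU₀⟩).asIdeal
    (X.presheaf.stalk (i.base z)) J hJq
  have hxU : i.base z ∈ X.basicOpen g :=
    (Groth.Agent.H7.mem_basicOpen_iff_notMem_primeIdealOf hU₀ (i.base z) hxU₀ g).mpr hg
  have hU : IsAffineOpen (X.basicOpen g) := hU₀.basicOpen g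
  have hUle : X.basicOpen g ≤ U₀ := X.basicOpen_le g
  haveI hloc : IsLocalization.Away g Γ(X, X.basicOpen g) := hU₀.isLocalization_basicOpen g
  letI algAB' : Algebra Γ(Y, V₀) Γ(X, X.basicOpen g) :=
    (f.appLE V₀ (X.basicOpen g) (hUle.trans e₀)).hom.toAlgebra
  haveI : IsScalarTower Γ(Y, V₀) Γ(X, U₀) Γ(X, X.basicOpen g) := by
    apply IsScalarTower.of_algebraMap_eq'
    show (f.appLE V₀ (X.basicOpen g) (hUle.trans e₀)).hom =
      (X.presheaf.map (homOfLE hUle).op).hom.comp (f.appLE V₀ U₀ e₀).hom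
    rw [← CommRingCat.hom_comp, Scheme.Hom.appLE_map]
  have het := H Γ(X, X.basicOpen g)
  -- the slice
  obtain ⟨I', hI'⟩ : ∃ I' : Ideal Γ(X, X.basicOpen g), I' = Ideal.span
    (Set.range fun k => algebraMap Γ(X, U₀) Γ(X, X.basicOpen g) (h k)) := ⟨_, rfl⟩
  rw [← hI'] at het
  have hZU : IsAffineOpen (i ⁻¹ᵁ X.basicOpen g) := hU.preimage i
  have hI'ker : ∀ a ∈ I', (i.app (X.basicOpen g)).hom a = 0 := by
    intro a ha
    rw [hI'] at ha
    have hle : Ideal.span (Set.range fun k => algebraMap Γ(X, U₀) Γ(X, X.basicOpen g) (h k)) ≤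
        RingHom.ker (i.app (X.basicOpen g)).hom := by
      rw [Ideal.span_le]
      rintro _ ⟨k, rfl⟩
      rw [SetLike.mem_coe, RingHom.mem_ker]
      have h1 : (i.app U₀).hom (h k) = 0 := (hJmem _).mp (hJh k)
      have h2 := i.naturality (homOfLE hUle).op
      have h3 := congrArg (fun φ => φ.hom (h k)) h2
      simp only [CommRingCat.hom_comp, RingHom.comp_apply] at h3
      rw [h1, map_zero] at h3
      exact h3
    exact hle ha
  refine ⟨X.basicOpen g, hxU, Spec (CommRingCat.of (Γ(X, X.basicOpen g) ⧸ I')),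
    Spec.map (CommRingCat.ofHom (Ideal.Quotient.mk I')) ≫ hU.isoSpec.inv, ?_, ?_,
    hZU.isoSpec.hom ≫ Spec.map (CommRingCat.ofHom
      (Ideal.Quotient.lift I' (i.app (X.basicOpen g)).hom hI'ker)), ?_⟩
  · haveI : IsClosedImmersion (Spec.map (CommRingCat.ofHom (Ideal.Quotient.mk I'))) :=
      IsClosedImmersion.spec_of_surjective _ Ideal.Quotient.mk_surjective
    infer_instance
  · have h1 : (Spec.map (CommRingCat.ofHom (Ideal.Quotient.mk I')) ≫ hU.isoSpec.inv) ≫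
        (X.basicOpen g).ι ≫ f =
        Spec.map (CommRingCat.ofHom ((Ideal.Quotient.mk I').comp
          (f.appLE V₀ (X.basicOpen g) (hUle.trans e₀)).hom)) ≫ hV₀.fromSpec := by
      rw [Category.assoc, hU.isoSpec_inv_ι_assoc,
        ← IsAffineOpen.SpecMap_appLE_fromSpec f hV₀ hU (hUle.trans e₀), ← Spec.map_comp_assoc]
      rfl
    rw [h1]
    haveI : Etale (Spec.map (CommRingCat.ofHom ((Ideal.Quotient.mk I').comp
        (f.appLE V₀ (X.basicOpen g) (hUle.trans e₀)).hom))) := by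
      rw [HasRingHomProperty.Spec_iff (P := @Etale)]
      exact RingHom.etale_algebraMap.mpr het
    infer_instance
  · rw [← cancel_mono (X.basicOpen g).ι]
    simp only [Category.assoc]
    rw [hU.isoSpec_inv_ι, ← Spec.map_comp_assoc, morphismRestrict_ι]
    have h2 : CommRingCat.ofHom (Ideal.Quotient.mk I') ≫ CommRingCat.ofHom
        (Ideal.Quotient.lift I' (i.app (X.basicOpen g)).hom hI'ker) =
        i.appLE (X.basicOpen g) (i ⁻¹ᵁ X.basicOpen g) le_rfl := by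
      rw [Scheme.Hom.appLE_eq_app]
      ext a
      simp
    rw [h2, IsAffineOpen.SpecMap_appLE_fromSpec i hU hZU le_rfl, ← Category.assoc]
    congr 1
    rw [← hZU.isoSpec_inv_ι, Iso.hom_inv_id_assoc]

end Groth.Agent.H11.UnramSliceSch
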