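import Mathlib.AlgebraicGeometry.Morphisms.QuasiCompact
import Mathlib.AlgebraicGeometry.ValuativeCriterion
import Mathlib.AlgebraicGeometry.PullbackCarrier
import Mathlib.RingTheory.Valuation.ValuationRing
import Mathlib.RingTheory.Localization.FractionRing
import Mathlib.AlgebraicGeometry.Stalk

set_option autoImplicit false
universe u
open CategoryTheory AlgebraicGeometry Limits

namespace Groth.Agent.H11

theorem exists_specializes_of_mem_closure {X Y : Scheme.{u}} (f : X ⟶ Y) [QuasiCompact f] (z : Y)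
    (hz : z ∈ closure (Set.range f)) : ∃ x : X, f x ⤳ z := by
  wlog hY : ∃ S, Y = Spec S generalizing X Y
  · let 𝒰 := Y.affineCover
    obtain ⟨i, z', rfl⟩ := 𝒰.exists_eq z
    have inst : QuasiCompact (𝒰.pullbackHom f i) :=
      show QuasiCompact (pullback.snd f (𝒰.f i)) from inferInstance
    have hz' : z' ∈ closure (Set.range (𝒰.pullbackHom f i)) := by
      have h1 : Set.range (𝒰.pullbackHom f i) = (𝒰.f i) ⁻¹' Set.range f :=
        Scheme.Pullback.range_snd f (𝒰.f i)
      rw [h1, ← (𝒰.f i).isOpenEmbedding.isOpenMap.preimage_closure_eq_closure_preimage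
        (𝒰.f i).continuous]
      exact hz
    obtain ⟨x', hx'⟩ := this (𝒰.pullbackHom f i) z' hz' ⟨_, rfl⟩
    refine ⟨(𝒰.pullback₁ f).f i x', ?_⟩
    have := hx'.map (𝒰.f i).continuous
    rw [← Scheme.Hom.comp_apply, 𝒰.pullbackHom_map] at this
    exact this
  obtain ⟨S, rfl⟩ := hY
  wlog hX : ∃ R, X = Spec R generalizing X
  · have hcpt : CompactSpace X := QuasiCompact.compactSpace_of_compactSpace f
    obtain ⟨R, g, hg⟩ := compactSpace_iff_exists.mp hcpt
    have inst : QuasiCompact (g ≫ f) := HasAffineProperty.iff_of_isAffine.mpr (by infer_instance)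
    have hz' : z ∈ closure (Set.range (g ≫ f)) := by
      rw [Scheme.Hom.comp_base, TopCat.coe_comp, Set.range_comp, hg.range_eq, Set.image_univ]
      exact hz
    obtain ⟨w, hw⟩ := this (g ≫ f) hz' ⟨_, rfl⟩
    exact ⟨g w, by simpa using hw⟩
  obtain ⟨R, rfl⟩ := hX
  obtain ⟨φ, rfl⟩ := Spec.homEquiv.symm.surjective f
  change z ∈ closure (Set.range (PrimeSpectrum.comap φ.hom)) at hz
  rw [PrimeSpectrum.closure_range_comap] at hz
  have hz2 : (RingHom.ker φ.hom : Set S) ⊆ (z : PrimeSpectrum S).asIdeal :=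
    (PrimeSpectrum.mem_zeroLocus (z : PrimeSpectrum S) _).1 hz
  obtain ⟨Q, -, hQ, hQz⟩ := Ideal.exists_ideal_comap_le_prime (f := φ.hom)
    (z : PrimeSpectrum S).asIdeal ⊥
    (by
      intro a ha
      exact hz2 ha)
  refine ⟨(⟨Q, hQ⟩ : PrimeSpectrum R), ?_⟩
  change PrimeSpectrum.comap φ.hom ⟨Q, hQ⟩ ⤳ (z : PrimeSpectrum S)
  rw [← PrimeSpectrum.le_iff_specializes]
  exact hQz

open IsLocalRing in
theorem exists_valuationRing_of_specializes {X Y : Scheme.{u}} (f : X ⟶ Y) (x' : X) (y : Y)
    (h : f x' ⤳ y) :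
    ∃ (A : Type u) (_ : CommRing A) (_ : IsDomain A) (_ : ValuationRing A)
      (x : Spec (CommRingCat.of (FractionRing A)) ⟶ X) (yy : Spec (CommRingCat.of A) ⟶ Y),
      x ≫ f = Spec.map (CommRingCat.ofHom (algebraMap A (FractionRing A))) ≫ yy ∧
      yy.base (IsLocalRing.closedPoint A) = y := by
  let stalk_y_to_residue_x' : Y.presheaf.stalk y ⟶ X.residueField x' :=
    Y.presheaf.stalkSpecializes h ≫ f.stalkMap x' ≫ X.residue x'
  obtain ⟨A, hA, hA_local⟩ := exists_factor_valuationRing stalk_y_to_residue_x'.hom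
  let stalk_y_to_A : Y.presheaf.stalk y ⟶ .of A :=
    CommRingCat.ofHom (stalk_y_to_residue_x'.hom.codRestrict _ hA)
  have w : X.fromSpecResidueField x' ≫ f =
      Spec.map (CommRingCat.ofHom (algebraMap A (X.residueField x'))) ≫
        Spec.map stalk_y_to_A ≫ Y.fromSpecStalk y := by
    rw [Scheme.fromSpecResidueField, Category.assoc, ← Scheme.SpecMap_stalkMap_fromSpecStalk,
      ← Scheme.SpecMap_stalkSpecializes_fromSpecStalk h]
    simp_rw [← Spec.map_comp_assoc]
    rfl
  let e : FractionRing A ≃ₐ[A] X.residueField x' := FractionRing.algEquiv A (X.residueField x')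
  refine ⟨A, inferInstance, inferInstance, inferInstance,
    Spec.map (CommRingCat.ofHom (e.symm : X.residueField x' →+* FractionRing A)) ≫
      X.fromSpecResidueField x',
    Spec.map stalk_y_to_A ≫ Y.fromSpecStalk y, ?_, ?_⟩
  · rw [Category.assoc, w, ← Spec.map_comp_assoc]
    congr 2
    ext a
    exact e.symm.commutes a
  · simp only [Scheme.Hom.comp_base, TopCat.coe_comp, Function.comp_apply]
    have : Spec.map stalk_y_to_A (closedPoint A) = closedPoint (Y.presheaf.stalk y) :=
      comap_closedPoint (S := A) (stalk_y_to_residue_x'.hom.codRestrict A.toSubring hA)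
    rw [this, Y.fromSpecStalk_closedPoint]

theorem exists_valuationRing_reaching {X Y : Scheme.{u}} (f : X ⟶ Y) [QuasiCompact f] (z : Y)
    (hz : z ∈ closure (Set.range f.base)) :
    ∃ (A : Type u) (_ : CommRing A) (_ : IsDomain A) (_ : ValuationRing A)
      (x : Spec (CommRingCat.of (FractionRing A)) ⟶ X) (y : Spec (CommRingCat.of A) ⟶ Y),
      x ≫ f = Spec.map (CommRingCat.ofHom (algebraMap A (FractionRing A))) ≫ y ∧
      y.base (IsLocalRing.closedPoint A) = z := by
  obtain ⟨x', hx'⟩ := exists_specializes_of_mem_closure f z hz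
  exact exists_valuationRing_of_specializes f x' z hx'

end Groth.Agent.H11
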